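import Groth.Agent.Lib.Helper64.FinTypeStalk

/-!
# Finite type sheaves of modules over a ringed space, via local spanning (lead seat library)

For a sheaf of rings `R` on a topological space `T` and a sheaf of `R`-modules `N`:
`LocSpan N V s` says that the sections `s i ∈ N(V)` locally span `N` over `V`.
`IsFiniteType N` iff around every point there are finitely many locally spanning sections.
-/

set_option autoImplicit false
universe u
open CategoryTheory Limits Opposite TopologicalSpace

namespace Groth.Agent.Lib.Lead.FinTypeTop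

open Groth.Agent.Lib.Helper64.FinTypeStalk

variable {T : TopCat.{u}} {R : Sheaf (Opens.grothendieckTopology T) RingCat.{u}}
  (N : SheafOfModules.{u} R)

/-- restriction of sections of `N` -/
noncomputable def rs {V W : Opens T} (h : W ≤ V) (m : N.val.obj (op V)) : N.val.obj (op W) :=
  N.val.map (homOfLE h).op m

lemma rs_rs {V W W' : Opens T} (h : W ≤ V) (h' : W' ≤ W) (m : N.val.obj (op V)) :
    rs N h' (rs N h m) = rs N (h'.trans h) m := by
  have := N.val.map_comp (homOfLE h).op (homOfLE h').op
  have h2 := congrArg (fun φ => φ.hom m) this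
  exact h2.symm

lemma rs_add {V W : Opens T} (h : W ≤ V) (m m' : N.val.obj (op V)) :
    rs N h (m + m') = rs N h m + rs N h m' := map_add _ _ _

lemma rs_zero {V W : Opens T} (h : W ≤ V) : rs N h (0 : N.val.obj (op V)) = 0 := map_zero _

lemma rs_smul {V W : Opens T} (h : W ≤ V) (r : R.obj.obj (op V)) (m : N.val.obj (op V)) :
    rs N h (r • m) = (R.obj.map (homOfLE h).op r : R.obj.obj (op W)) • rs N h m :=
  N.val.map_smul _ _ _

/-- the sections `s i` locally span `N` over `V` -/
def LocSpan (V : Opens T) {I : Type u} (s : I → N.val.obj (op V)) : Prop :=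
  ∀ (W : Opens T) (hW : W ≤ V) (m : N.val.obj (op W)) (y : T), y ∈ W →
    ∃ (W' : Opens T) (hW' : W' ≤ W), y ∈ W' ∧
      rs N hW' m ∈ Submodule.span (R.obj.obj (op W'))
        (Set.range fun i => rs N (hW'.trans hW) (s i))


variable (V : Opens T)

/-- a section over `V` gives a global section of `N.over V` -/
noncomputable def overSection (s : N.val.obj (op V)) : (N.over V).sections :=
  PresheafOfModules.sectionsMk (fun Y => N.val.presheaf.map (Y.unop.hom).op s) (by
    intro Y Z f
    have h : f.unop.left ≫ Y.unop.hom = Z.unop.hom := Over.w f.unop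
    change N.val.presheaf.map (f.unop.left).op (N.val.presheaf.map (Y.unop.hom).op s) = _
    rw [← h, op_comp, Functor.map_comp]
    rfl)

lemma eval_overSection (s : N.val.obj (op V)) (Y : Over V) :
    PresheafOfModules.sections.eval (overSection N V s) (op Y) =
      rs N (leOfHom Y.hom) s := rfl

variable {I : Type u} (s : I → N.val.obj (op V))

/-- the morphism `free I ⟶ N.over V` defined by sections over `V` -/
noncomputable def overπ : SheafOfModules.free (R := R.over V) I ⟶ N.over V :=
  (N.over V).freeHomEquiv.symm (fun i => overSection N V (s i))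

/-- elements of the span of the `s i` restricted to `W ≤ V` are in the image of `overπ` -/
lemma exists_lift_of_mem_span (W : Opens T) (hW : W ≤ V) (z : N.val.obj (op W))
    (hz : z ∈ Submodule.span (R.obj.obj (op W)) (Set.range fun i => rs N hW (s i))) :
    ∃ t : (SheafOfModules.free (R := R.over V) I).val.obj (op (Over.mk (homOfLE hW))),
      (overπ N V s).val.app (op (Over.mk (homOfLE hW))) t = z := by
  induction hz using Submodule.span_induction with
  | mem z hz =>
    obtain ⟨i, rfl⟩ := hz
    refine ⟨PresheafOfModules.sections.eval (SheafOfModules.freeSection i) _, ?_⟩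
    have h1 := SheafOfModules.sectionsMap_freeHomEquiv_symm_freeSection
      (M := N.over V) (fun i => overSection N V (s i)) i
    exact congrArg (fun σ => PresheafOfModules.sections.eval σ (op (Over.mk (homOfLE hW)))) h1
  | zero => exact ⟨0, map_zero _⟩
  | add a b _ _ ha hb =>
    obtain ⟨ta, rfl⟩ := ha
    obtain ⟨tb, rfl⟩ := hb
    exact ⟨ta + tb, map_add _ _ _⟩
  | smul r a _ ha =>
    obtain ⟨ta, rfl⟩ := ha
    exact ⟨(show (R.over V).obj.obj (op (Over.mk (homOfLE hW))) from r) • ta, map_smul _ _ _⟩

/-- locally spanning sections generate `N.over V` -/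
theorem epi_overπ (hs : LocSpan N V s) : Epi (overπ N V s) := by
  suffices h : Epi ((SheafOfModules.toSheaf.{u} (R.over V)).map (overπ N V s)) from
    (SheafOfModules.toSheaf.{u} (R.over V)).epi_of_epi_map h
  rw [← Sheaf.isLocallySurjective_iff_epi']
  constructor
  intro Y m
  rw [GrothendieckTopology.mem_over_iff]
  intro y hy
  have hYV : Y.left ≤ V := leOfHom Y.hom
  obtain ⟨W', hW', hyW', hmem⟩ := hs Y.left hYV m y hy
  refine ⟨W', homOfLE hW', ?_, hyW'⟩
  rw [Sieve.overEquiv_iff]
  obtain ⟨t, ht⟩ := exists_lift_of_mem_span N V s W' (hW'.trans hYV) _ hmem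
  exact ⟨t, ht⟩


/-- generating sections of `N.over V` from locally spanning sections over `V` -/
noncomputable def generatingSections (hs : LocSpan N V s) : (N.over V).GeneratingSections where
  I := I
  s := fun i => overSection N V (s i)
  epi := epi_overπ N V s hs

/-- A sheaf of modules locally spanned by finitely many sections is of finite type. -/
theorem isFiniteType_of_locSpan
    (h : ∀ x : T, ∃ (V : Opens T) (_ : x ∈ V) (n : ℕ) (s : Fin n → N.val.obj (op V)),
      LocSpan N V (fun i : ULift.{u} (Fin n) => s i.down)) :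
    SheafOfModules.IsFiniteType.{u} N := by
  choose V hxV n s hs using h
  let σ : SheafOfModules.LocalGeneratorsData.{u} N :=
    { I := (T : Type u)
      X := V
      coversTop := by
        intro W y hy
        exact ⟨W ⊓ V y, homOfLE inf_le_left, ⟨y, ⟨homOfLE inf_le_right⟩⟩, ⟨hy, hxV y⟩⟩
      generators := fun x =>
        generatingSections N (V x) (fun i : ULift.{u} (Fin (n x)) => s x i.down) (hs x) }
  have hσ : σ.IsFiniteType := by
    refine SheafOfModules.LocalGeneratorsData.IsFiniteType.mk (p := σ) (fun x => ?_)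
    refine SheafOfModules.GeneratingSections.IsFiniteType.mk (σ := σ.generators x) ?_
    change Finite (ULift.{u} (Fin (n x)))
    infer_instance
  constructor
  exact ⟨σ, hσ⟩

/-- the section over `V` underlying a global section of `N.over V` -/
noncomputable def secV (σ : (N.over V).sections) : N.val.obj (op V) :=
  PresheafOfModules.sections.eval σ (op (Over.mk (𝟙 V)))

/-- Generating sections (finitely many) of `N.over V` locally span. -/
theorem locSpan_of_generatingSections (G : (N.over V).GeneratingSections) [Finite G.I] :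
    LocSpan N V (fun i : G.I => secV N V (G.s i)) := by
  intro W hW m y hy
  let Y : Over V := Over.mk (homOfLE hW)
  obtain ⟨S, hS, hSspan⟩ := exists_covering_span (N.over V) G.s Y m
  rw [GrothendieckTopology.mem_over_iff] at hS
  obtain ⟨W', g, hg, hyW'⟩ := hS y hy
  rw [Sieve.overEquiv_iff] at hg
  have key := hSspan _ hg
  refine ⟨W', leOfHom g, hyW', ?_⟩
  have e : (Set.range fun i : G.I => rs N ((leOfHom g).trans hW) (secV N V (G.s i))) =
      (Set.range fun i => PresheafOfModules.sections.eval (G.s i) (op (Over.mk (g ≫ Y.hom)))) := by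
    congr 1
    funext i
    have hsec := PresheafOfModules.sections_property (G.s i)
      (Over.homMk (g ≫ Y.hom) : Over.mk (g ≫ Y.hom) ⟶ Over.mk (𝟙 V)).op
    exact hsec
  rw [e]
  exact key


theorem LocSpan.of_forall_exists {I J : Type u} {s : I → N.val.obj (op V)}
    {s' : J → N.val.obj (op V)} (hs : LocSpan N V s) (h : ∀ i, ∃ j, s i = s' j) :
    LocSpan N V s' := by
  intro W hW m y hy
  obtain ⟨W', hW', hyW', hmem⟩ := hs W hW m y hy
  refine ⟨W', hW', hyW', ?_⟩
  have hsub : (Set.range fun i => rs N (hW'.trans hW) (s i)) ⊆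
      (Set.range fun j => rs N (hW'.trans hW) (s' j)) := by
    rintro _ ⟨i, rfl⟩
    obtain ⟨j, hj⟩ := h i
    exact ⟨j, by simp only [hj]⟩
  exact Submodule.span_mono hsub hmem

/-- A finite type sheaf of modules is locally spanned by finitely many sections. -/
theorem exists_locSpan_of_isFiniteType (hN : SheafOfModules.IsFiniteType.{u} N) (x : T) :
    ∃ (V : Opens T) (_ : x ∈ V) (n : ℕ) (s : Fin n → N.val.obj (op V)),
      LocSpan N V (fun i : ULift.{u} (Fin n) => s i.down) := by
  obtain ⟨σ, hσ⟩ := hN.exists_localGeneratorsData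
  obtain ⟨V, f, ⟨i, ⟨hVi⟩⟩, hxV⟩ := σ.coversTop ⊤ x (show x ∈ (⊤ : Opens T) from trivial)
  have hxi : x ∈ σ.X i := leOfHom hVi hxV
  have hfin : Finite (σ.generators i).I := (hσ.isFiniteType i).finite
  obtain ⟨n, ⟨e⟩⟩ := Finite.exists_equiv_fin (σ.generators i).I
  have h0 := locSpan_of_generatingSections N (σ.X i) (σ.generators i)
  refine ⟨σ.X i, hxi, n, fun k => secV N (σ.X i) ((σ.generators i).s (e.symm k)), ?_⟩
  refine LocSpan.of_forall_exists N (σ.X i) h0 (fun k => ⟨⟨e k⟩, ?_⟩)
  change _ = secV N (σ.X i) ((σ.generators i).s (e.symm (e k)))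
  rw [Equiv.symm_apply_apply]


/-- restriction preserves membership in spans -/
theorem rs_mem_span {W W' : Opens T} (h : W' ≤ W) {I : Type*} (u : I → N.val.obj (op W))
    (z : N.val.obj (op W))
    (hz : z ∈ Submodule.span (R.obj.obj (op W)) (Set.range u)) :
    rs N h z ∈ Submodule.span (R.obj.obj (op W')) (Set.range fun i => rs N h (u i)) := by
  induction hz using Submodule.span_induction with
  | mem z hz =>
    obtain ⟨i, rfl⟩ := hz
    exact Submodule.subset_span ⟨i, rfl⟩
  | zero =>
    rw [rs_zero]
    exact Submodule.zero_mem _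
  | add a b _ _ ha hb =>
    rw [rs_add]
    exact Submodule.add_mem _ ha hb
  | smul r a _ ha =>
    rw [rs_smul]
    exact Submodule.smul_mem _ _ ha

end Groth.Agent.Lib.Lead.FinTypeTop
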