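import Mathlib.AlgebraicGeometry.Modules.Tilde

/-!
# Quasi-coherence is local on the scheme (lead seat library)
-/

set_option autoImplicit false
universe u

open AlgebraicGeometry CategoryTheory Opposite TopologicalSpace

namespace Groth.Agent.Lib.Lead.QCohLocal

open Scheme.Modules

variable {X : Scheme.{u}} (M : X.Modules)

/-- A presentation of `M|_U` (as a module on the scheme `U`) gives a presentation of `M.over U`. -/
noncomputable def presentationOver (U : X.Opens) (P : (M.restrict U.ι).Presentation) :
    (SheafOfModules.over (R := X.ringCatSheaf) M U).Presentation :=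
  let E := overEquiv U
  let P' : (E.inverse.obj (M.restrict U.ι)).Presentation :=
    P.map E.inverse (TopologicalSpace.Opens.sheafOfModulesEquivOverInverseUnit _ _).symm
  let i : E.inverse.obj (M.restrict U.ι) ≅ SheafOfModules.over (R := X.ringCatSheaf) M U :=
    E.inverse.mapIso ((overFunctorEquiv U).app M).symm ≪≫ (E.unitIso.app _).symm
  SheafOfModules.Presentation.ofIsIso i.hom P'

end Groth.Agent.Lib.Lead.QCohLocal

namespace Groth.Agent.Lib.Lead.QCohLocal

open Scheme.Modules

variable {X : Scheme.{u}} (M : X.Modules)

/-- If `M` restricted to each member of an open cover has a presentation, `M` is quasi-coherent. -/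
theorem isQuasicoherent_of_presentations {ι : Type u} (U : ι → X.Opens) (hU : IsOpenCover U)
    (P : ∀ i, (M.restrict (U i).ι).Presentation) : M.IsQuasicoherent :=
  SheafOfModules.QuasicoherentData.isQuasicoherent (R := X.ringCatSheaf) (M := M)
    { I := ι
      X := U
      coversTop := (Opens.coversTop_iff _ U).2 hU
      presentation := fun i => presentationOver M (U i) (P i) }

/-- A quasi-coherent module on `Spec R` has a (global) presentation. -/
noncomputable def presentationOfIsQuasicoherent {R : CommRingCat.{u}} (N : (Spec R).Modules)
    [N.IsQuasicoherent] : N.Presentation :=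
  haveI : IsIso N.fromTildeΓ := Scheme.Modules.isIso_fromTildeΓ_of_isQuasicoherent N
  SheafOfModules.Presentation.ofIsIso (asIso N.fromTildeΓ).hom
    (presentationTilde.{u} _ .univ (by simp) _ (Submodule.span_eq _))

/-- A presentation of `M|_{Spec Γ(X,U)}` gives a presentation of `M|_U`. -/
noncomputable def presentationOfFromSpec {U : X.Opens} (hU : IsAffineOpen U)
    (P : (M.restrict hU.fromSpec).Presentation) : (M.restrict U.ι).Presentation :=
  SheafOfModules.Presentation.ofIsIso
    ((restrictFunctorCongr (hU.isoSpec_hom_fromSpec)).app M).hom
    (SheafOfModules.Presentation.ofIsIso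
      ((restrictFunctorComp hU.isoSpec.hom hU.fromSpec).app M).inv
      (presentationRestrict hU.isoSpec.hom P))

/-- **Quasi-coherence is local**: `M` is quasi-coherent as soon as every point has an affine
open neighbourhood `U` such that `M|_{Spec Γ(X,U)}` is quasi-coherent. -/
theorem isQuasicoherent_of_forall_affine
    (h : ∀ x : X, ∃ (U : X.Opens) (hU : IsAffineOpen U), x ∈ U ∧
      (M.restrict hU.fromSpec).IsQuasicoherent) : M.IsQuasicoherent := by
  choose U hU hxU hq using h
  refine isQuasicoherent_of_presentations M U ?_ (fun x => ?_)
  · change ⨆ x, U x = ⊤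
    exact top_le_iff.1 fun x _ => Opens.mem_iSup.2 ⟨x, hxU x⟩
  · haveI := hq x
    exact presentationOfFromSpec M (hU x) (presentationOfIsQuasicoherent _)

end Groth.Agent.Lib.Lead.QCohLocal
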