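import Groth.Agent.Lib.Lead.PullbackAff3
import Groth.Agent.Lib.Lead.QCohLocal

/-!
# The pullback of a quasi-coherent module is quasi-coherent (lead seat library)
-/

set_option autoImplicit false
universe u

open AlgebraicGeometry CategoryTheory Opposite TopologicalSpace

namespace Groth.Agent.Lib.Lead.PullbackAff

open Scheme.Modules

theorem exists_affines {X Y : Scheme.{u}} (f : X ⟶ Y) (x : X) :
    ∃ (V : Y.Opens) (U : X.Opens), IsAffineOpen V ∧ IsAffineOpen U ∧ x ∈ U ∧ U ≤ f ⁻¹ᵁ V := by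
  obtain ⟨_, ⟨V, hV : IsAffineOpen V, rfl⟩, hyV, -⟩ :=
    (Y.isBasis_affineOpens).exists_subset_of_mem_open (Set.mem_univ (f x)) isOpen_univ
  obtain ⟨_, ⟨W, hW : IsAffineOpen W, rfl⟩, hyW, hWV⟩ :=
    (X.isBasis_affineOpens).exists_subset_of_mem_open (show x ∈ (f ⁻¹ᵁ V : Set X) from hyV)
      (f ⁻¹ᵁ V).isOpen
  exact ⟨V, W, hV, hW, hyW, hWV⟩

theorem isQuasicoherent_of_iso {X : Scheme.{u}} {M N : X.Modules} (e : M ≅ N)
    [M.IsQuasicoherent] : N.IsQuasicoherent :=
  (SheafOfModules.isQuasicoherent X.ringCatSheaf).prop_of_iso e inferInstance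

/-- The pullback of a quasi-coherent module is quasi-coherent. -/
instance isQuasicoherent_pullback {X Y : Scheme.{u}} (f : X ⟶ Y) (G : Y.Modules)
    [G.IsQuasicoherent] : ((pullback f).obj G).IsQuasicoherent := by
  apply QCohLocal.isQuasicoherent_of_forall_affine
  intro x
  obtain ⟨V, U, hV, hU, hxU, hUV⟩ := exists_affines f x
  haveI : ((tilde.functor Γ(X, U)).obj
      ((ModuleCat.extendScalars (f.appLE V U hUV).hom).obj
        (moduleSpecΓFunctor.obj (G.restrict hV.fromSpec)))).IsQuasicoherent :=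
    inferInstanceAs (tilde ((ModuleCat.extendScalars (f.appLE V U hUV).hom).obj
        (moduleSpecΓFunctor.obj (G.restrict hV.fromSpec)))).IsQuasicoherent
  exact ⟨U, hU, hxU, isQuasicoherent_of_iso (pullbackRestrictIsoTilde f G hU hV hUV).symm⟩

end Groth.Agent.Lib.Lead.PullbackAff
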