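import Mathlib.AlgebraicGeometry.Modules.Tilde
import Mathlib.AlgebraicGeometry.AffineScheme
import Mathlib.Tactic

/-!
# Quasi-coherent modules on affine opens (lead seat library)

For a quasi-coherent `F : X.Modules`, an affine open `U` and `f ∈ Γ(X, U)`:

* `QCohAff.exists_pow_smul_eq_zero`: a section over `U` vanishing on `D(f)` is killed by a power of
  `f`;
* `QCohAff.exists_res_eq_pow_smul`: a section over `D(f)`, multiplied by a power of `f`, extends
  to `U`.

(Together: `Γ(F, D(f)) = Γ(F, U)_f`.)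
-/

set_option autoImplicit false
universe u

open AlgebraicGeometry CategoryTheory Opposite TopologicalSpace

namespace Groth.Agent.Lib.Lead.QCohAff

set_option backward.isDefEq.respectTransparency.types false

theorem res_res {X : Scheme.{u}} (F : X.Modules) {U V W : X.Opens} (h1 : V ≤ U) (h2 : W ≤ V)
    (s : Γ(F, U)) :
    F.presheaf.map (homOfLE h2).op (F.presheaf.map (homOfLE h1).op s) =
      F.presheaf.map (homOfLE (h2.trans h1)).op s := by
  rw [← ConcreteCategory.comp_apply, ← Functor.map_comp]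
  rfl

theorem res_resX {X : Scheme.{u}} {U V W : X.Opens} (h1 : V ≤ U) (h2 : W ≤ V)
    (s : Γ(X, U)) :
    X.presheaf.map (homOfLE h2).op (X.presheaf.map (homOfLE h1).op s) =
      X.presheaf.map (homOfLE (h2.trans h1)).op s := by
  rw [← ConcreteCategory.comp_apply, ← Functor.map_comp]
  rfl

theorem res_self {X : Scheme.{u}} (F : X.Modules) {U : X.Opens} (h : U ≤ U) (s : Γ(F, U)) :
    F.presheaf.map (homOfLE h).op s = s := by
  have : (homOfLE h).op = 𝟙 (op U) := rfl
  rw [this, F.presheaf.map_id]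
  rfl

theorem res_smul {X : Scheme.{u}} (F : X.Modules) {U V : X.Opens} (h : V ≤ U)
    (r : Γ(X, U)) (s : Γ(F, U)) :
    F.presheaf.map (homOfLE h).op (r • s) =
      X.presheaf.map (homOfLE h).op r • F.presheaf.map (homOfLE h).op s :=
  Scheme.Modules.map_smul F (homOfLE h) r s

/-- Restriction between equal opens is injective. -/
theorem res_injective_of_eq {X : Scheme.{u}} (F : X.Modules) {U V : X.Opens} (h : V = U) :
    Function.Injective (F.presheaf.map (homOfLE h.le).op) := by
  subst h
  intro a b hab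
  rwa [res_self, res_self] at hab

/-- The chart form: `j : Spec R ⟶ X` an open immersion with image `V`. -/
theorem chart {X : Scheme.{u}} {R : CommRingCat.{u}} (j : Spec R ⟶ X) [IsOpenImmersion j]
    (F : X.Modules) [F.IsQuasicoherent] (V : X.Opens) (hV : j ''ᵁ ⊤ = V) (f : Γ(X, V)) :
    (∀ s : Γ(F, V), F.presheaf.map (homOfLE (X.basicOpen_le f)).op s = 0 →
        ∃ n : ℕ, f ^ n • s = 0) ∧
      (∀ t : Γ(F, X.basicOpen f), ∃ (n : ℕ) (s : Γ(F, V)),
        F.presheaf.map (homOfLE (X.basicOpen_le f)).op s =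
          (X.presheaf.map (homOfLE (X.basicOpen_le f)).op f) ^ n • t) := by
  subst hV
  let M := F.restrict j
  have hM : M.IsQuasicoherent := inferInstance
  have hloc := (isIso_fromTildeΓ_iff_isLocalizing M).mp inferInstance
  let g : R := (Scheme.ΓSpecIso R).hom ((j.appIso ⊤).hom f)
  let D : (Spec R).Opens := PrimeSpectrum.basicOpen g
  have hg : IsLocalizedModule (.powers g) ((modulesSpecToSheaf.obj M).obj.map (D.leTop).op).hom :=
    hloc g
  have key : f = (j.appIso ⊤).inv ((Scheme.ΓSpecIso R).inv g) := by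
    simp only [g, Iso.hom_inv_id_apply]
  have hD : j ''ᵁ D = X.basicOpen f := by
    have h1 : D = (Spec R).basicOpen ((Scheme.ΓSpecIso R).inv g) := basicOpen_eq_of_affine' _ |>.symm ▸ by
      simp only [g, Iso.hom_inv_id_apply]
      rfl
    rw [h1, Scheme.image_basicOpen, ← key]
  have hDle : j ''ᵁ D ≤ j ''ᵁ ⊤ := Scheme.Hom.image_mono j (le_top : D ≤ ⊤)
  have keyD : X.presheaf.map (homOfLE hDle).op f =
      (j.appIso D).inv ((Spec R).presheaf.map D.leTop.op ((Scheme.ΓSpecIso R).inv g)) := by
    have h6 := congr($(j.appIso_inv_naturality (D.leTop).op) ((Scheme.ΓSpecIso R).inv g))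
    rw [ConcreteCategory.comp_apply, ConcreteCategory.comp_apply] at h6
    rw [h6, ← key]
    rfl
  constructor
  · intro s hs
    let s' : Γ(M, ⊤) := s
    have hs' : ((modulesSpecToSheaf.obj M).obj.map (D.leTop).op).hom s' = 0 := by
      change F.presheaf.map (homOfLE hDle).op s = 0
      rw [← res_res F (X.basicOpen_le f) hD.le, hs, map_zero]
    obtain ⟨⟨_, n, rfl⟩, hn⟩ := (IsLocalizedModule.eq_zero_iff (.powers g) _).mp hs'
    refine ⟨n, ?_⟩
    have hn' : g ^ n • s' = 0 := hn
    rw [key]
    have h5 : (((j.appIso ⊤).inv ((Scheme.ΓSpecIso R).inv g)) ^ n • s : Γ(F, j ''ᵁ ⊤)) =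
        (g ^ n • s' : Γ(M, ⊤)) := by
      rw [← map_pow, ← map_pow]
      rfl
    exact h5.trans hn'
  · intro t
    let t' : Γ(M, D) := F.presheaf.map (homOfLE hD.le).op t
    obtain ⟨⟨x, ⟨_, n, rfl⟩⟩, hxy⟩ := IsLocalizedModule.surj (.powers g)
      ((modulesSpecToSheaf.obj M).obj.map (D.leTop).op).hom t'
    refine ⟨n, x, ?_⟩
    have hxy' : g ^ n • t' = ((modulesSpecToSheaf.obj M).obj.map (D.leTop).op).hom x := hxy
    apply res_injective_of_eq F hD
    rw [res_res, res_smul, map_pow, res_resX]
    have h7 : ((X.presheaf.map (homOfLE (hD.le.trans (X.basicOpen_le f))).op f) ^ n •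
        F.presheaf.map (homOfLE hD.le).op t : Γ(F, j ''ᵁ D)) = (g ^ n • t' : Γ(M, D)) := by
      have : X.presheaf.map (homOfLE (hD.le.trans (X.basicOpen_le f))).op f =
          X.presheaf.map (homOfLE hDle).op f := rfl
      rw [this, keyD, ← map_pow, ← map_pow, ← map_pow]
      rfl
    rw [h7, hxy']
    rfl

variable {X : Scheme.{u}} (F : X.Modules) [F.IsQuasicoherent] {U : X.Opens} (hU : IsAffineOpen U)

include hU in
/-- A section over an affine open vanishing on `D(f)` is killed by a power of `f`. -/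
theorem exists_pow_smul_eq_zero (f : Γ(X, U)) (s : Γ(F, U))
    (hs : F.presheaf.map (homOfLE (X.basicOpen_le f)).op s = 0) : ∃ n : ℕ, f ^ n • s = 0 :=
  (chart hU.fromSpec F U (hU.fromSpec.image_top_eq_opensRange.trans hU.opensRange_fromSpec) f).1 s hs

include hU in
/-- A section over `D(f)` times a power of `f` extends to the affine open. -/
theorem exists_res_eq_pow_smul (f : Γ(X, U)) (t : Γ(F, X.basicOpen f)) :
    ∃ (n : ℕ) (s : Γ(F, U)), F.presheaf.map (homOfLE (X.basicOpen_le f)).op s =
      (X.presheaf.map (homOfLE (X.basicOpen_le f)).op f) ^ n • t :=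
  (chart hU.fromSpec F U (hU.fromSpec.image_top_eq_opensRange.trans hU.opensRange_fromSpec) f).2 t

/-- `F` is "localizing on `U`": for every `f ∈ Γ(X, U)`, `Γ(F, D(f))` is the localization of
`Γ(F, U)` at `f` (in elementwise form).  Quasi-coherent modules are localizing on every affine
open (`LocOn.of_isQuasicoherent`); the stalk and flatness lemmas of this library only use this
property, so they also apply e.g. to pushforwards along affine morphisms. -/
def LocOn {X : Scheme.{u}} (F : X.Modules) (U : X.Opens) : Prop :=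
  (∀ (f : Γ(X, U)) (s : Γ(F, U)), F.presheaf.map (homOfLE (X.basicOpen_le f)).op s = 0 →
      ∃ n : ℕ, f ^ n • s = 0) ∧
    (∀ (f : Γ(X, U)) (t : Γ(F, X.basicOpen f)), ∃ (n : ℕ) (s : Γ(F, U)),
      F.presheaf.map (homOfLE (X.basicOpen_le f)).op s =
        (X.presheaf.map (homOfLE (X.basicOpen_le f)).op f) ^ n • t)

include hU in
theorem LocOn.of_isQuasicoherent : LocOn F U :=
  ⟨fun f s hs => exists_pow_smul_eq_zero F hU f s hs, fun f t => exists_res_eq_pow_smul F hU f t⟩

end Groth.Agent.Lib.Lead.QCohAff
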