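import Groth.Agent.Lib.Lead.QCohAff5

/-!
# Pushforward along a morphism preserves the localizing property on affine opens with affine
preimage (lead seat library)
-/

set_option autoImplicit false
universe u

open AlgebraicGeometry CategoryTheory Opposite TopologicalSpace

namespace Groth.Agent.Lib.Lead.QCohAff

variable {X Y : Scheme.{u}} (f : X ⟶ Y) (F : X.Modules)

/-- A section of `f_* F` over `W`, seen as a section of `F` over `f⁻¹ W` (the identity). -/
def pfSec {W : Y.Opens} (s : Γ((Scheme.Modules.pushforward f).obj F, W)) : Γ(F, f ⁻¹ᵁ W) := s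

/-- A section of `F` over `f⁻¹ W`, seen as a section of `f_* F` over `W` (the identity). -/
def pfSec' {W : Y.Opens} (s : Γ(F, f ⁻¹ᵁ W)) : Γ((Scheme.Modules.pushforward f).obj F, W) := s

theorem pushforward_smul (W : Y.Opens) (r : Γ(Y, W))
    (s : Γ((Scheme.Modules.pushforward f).obj F, W)) :
    pfSec f F (r • s) = f.app W r • pfSec f F s := rfl

theorem pushforward_res {W W' : Y.Opens} (h : W' ≤ W)
    (s : Γ((Scheme.Modules.pushforward f).obj F, W)) :
    pfSec f F (((Scheme.Modules.pushforward f).obj F).presheaf.map (homOfLE h).op s) =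
      F.presheaf.map (homOfLE (show f ⁻¹ᵁ W' ≤ f ⁻¹ᵁ W from fun _ hx => h hx)).op
        (pfSec f F s) := rfl

theorem LocOn.pushforward {W : Y.Opens} (hF : LocOn F (f ⁻¹ᵁ W)) :
    LocOn ((Scheme.Modules.pushforward f).obj F) W := by
  have hpre : ∀ g : Γ(Y, W), f ⁻¹ᵁ (Y.basicOpen g) = X.basicOpen (f.app W g) :=
    fun g => Scheme.preimage_basicOpen f g
  constructor
  · intro g s hs
    have hs1 : F.presheaf.map (homOfLE (show f ⁻¹ᵁ (Y.basicOpen g) ≤ f ⁻¹ᵁ W from
        fun _ hx => Y.basicOpen_le g hx)).op (pfSec f F s) = 0 := by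
      have h0 := pushforward_res f F (Y.basicOpen_le g) s
      rw [← h0, hs]; rfl
    have hs' : F.presheaf.map (homOfLE (X.basicOpen_le (f.app W g))).op (pfSec f F s) = 0 := by
      apply res_injective_of_eq F (hpre g)
      rw [res_res, map_zero]
      exact hs1
    obtain ⟨n, hn⟩ := hF.1 (f.app W g) (pfSec f F s) hs'
    refine ⟨n, ?_⟩
    change pfSec f F (g ^ n • s) = 0
    rw [pushforward_smul, map_pow]
    exact hn
  · intro g t
    let t' : Γ(F, X.basicOpen (f.app W g)) :=
      F.presheaf.map (homOfLE (hpre g).ge).op (pfSec f F t)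
    obtain ⟨n, s, hs⟩ := hF.2 (f.app W g) t'
    refine ⟨n, pfSec' f F s, ?_⟩
    change pfSec f F _ = pfSec f F _
    rw [pushforward_res, pushforward_smul]
    apply res_injective_of_eq F (hpre g).symm
    rw [res_res]
    refine hs.trans ?_
    rw [res_smul]
    congr 1
    simp only [map_pow]
    congr 1
    have h1 := congr($(f.naturality (homOfLE (Y.basicOpen_le g)).op) g)
    rw [CommRingCat.comp_apply, CommRingCat.comp_apply] at h1
    rw [h1]
    exact (res_resX _ _ _).symm

end Groth.Agent.Lib.Lead.QCohAff
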