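import Groth.Agent.Lib.Lead.QCohCrit
import Groth.Agent.Lib.Lead.QCohAff6

/-!
# Pushforward of a quasi-coherent module along an affine morphism is quasi-coherent
(lead seat library)
-/

set_option autoImplicit false
universe u

open AlgebraicGeometry CategoryTheory Opposite TopologicalSpace

namespace Groth.Agent.Lib.Lead.QCohPush

open Scheme.Modules Groth.Agent.Lib.Lead.QCohAff

variable {X Y : Scheme.{u}} (f : X ⟶ Y) (F : X.Modules)

/-- If `F` is localizing on the preimages of the members of an affine open cover of `Y`, then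
`f_* F` is quasi-coherent. -/
theorem isQuasicoherent_pushforward_of_locOn
    (h : ∀ y : Y, ∃ (W : Y.Opens) (_ : IsAffineOpen W), y ∈ W ∧ LocOn F (f ⁻¹ᵁ W)) :
    ((pushforward f).obj F).IsQuasicoherent := by
  apply QCohCrit.isQuasicoherent_of_locOn
  intro y
  obtain ⟨W, hW, hyW, hF⟩ := h y
  exact ⟨W, hW, hyW, LocOn.pushforward f F hF⟩

/-- The pushforward of a quasi-coherent module along an affine morphism is quasi-coherent. -/
instance isQuasicoherent_pushforward_of_isAffineHom [IsAffineHom f] [F.IsQuasicoherent] :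
    ((pushforward f).obj F).IsQuasicoherent := by
  apply isQuasicoherent_pushforward_of_locOn
  intro y
  obtain ⟨_, ⟨W, hW : IsAffineOpen W, rfl⟩, hyW, -⟩ :=
    (Y.isBasis_affineOpens).exists_subset_of_mem_open (Set.mem_univ y) isOpen_univ
  exact ⟨W, hW, hyW, LocOn.of_isQuasicoherent F (hW.preimage f)⟩

end Groth.Agent.Lib.Lead.QCohPush
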