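import Groth.Agent.Lib.Lead.PullbackAff1
import Groth.Agent.Lib.Lead.QCohAff

/-!
# Sections over an affine open as global sections of the restriction to `Spec` (lead seat library)
-/

set_option autoImplicit false
universe u

open AlgebraicGeometry CategoryTheory Opposite TopologicalSpace

namespace Groth.Agent.Lib.Lead.PullbackAff

variable {X : Scheme.{u}} {U : X.Opens} (hU : IsAffineOpen U)

theorem fromSpec_image_top : hU.fromSpec ''ᵁ ⊤ = U :=
  hU.fromSpec.image_top_eq_opensRange.trans hU.opensRange_fromSpec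

theorem fromSpec_appLE_top :
    hU.fromSpec.appLE U ⊤ (by rw [hU.fromSpec_preimage_self]) = (Scheme.ΓSpecIso Γ(X, U)).inv := by
  rw [Scheme.Hom.appLE, hU.fromSpec_app_self, Category.assoc, ← Functor.map_comp]
  convert Category.comp_id _
  exact (Spec Γ(X, U)).presheaf.map_id _

theorem appIso_inv_ΓSpecIso_inv :
    (Scheme.ΓSpecIso Γ(X, U)).inv ≫ (hU.fromSpec.appIso ⊤).inv =
      X.presheaf.map (eqToHom (fromSpec_image_top hU)).op := by
  rw [Iso.comp_inv_eq, Scheme.Hom.appIso_hom', Scheme.Hom.map_appLE, fromSpec_appLE_top]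

theorem appIso_inv_ΓSpecIso_inv_apply (b : Γ(X, U)) :
    (hU.fromSpec.appIso ⊤).inv ((Scheme.ΓSpecIso Γ(X, U)).inv b) =
      X.presheaf.map (eqToHom (fromSpec_image_top hU)).op b :=
  congr($(appIso_inv_ΓSpecIso_inv hU) b)

end Groth.Agent.Lib.Lead.PullbackAff

namespace Groth.Agent.Lib.Lead.PullbackAff

open Groth.Agent.Lib.Lead.QCohAff

variable {X : Scheme.{u}} {U : X.Opens} (hU : IsAffineOpen U) (F : X.Modules)

/-- Global sections of `F|_{Spec Γ(X,U)}` (an honest `Γ(X,U)`-module) are `Γ(F, U)`. -/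
noncomputable def secEquiv :
    (moduleSpecΓFunctor.obj (F.restrict hU.fromSpec) : Type u) ≃ₗ[Γ(X, U)] Γ(F, U) where
  toFun n := F.presheaf.map (homOfLE (fromSpec_image_top hU).ge).op
    (show Γ(F, hU.fromSpec ''ᵁ ⊤) from n)
  invFun s := show Γ(F, hU.fromSpec ''ᵁ ⊤) from
    F.presheaf.map (homOfLE (fromSpec_image_top hU).le).op s
  left_inv n := by
    change F.presheaf.map (homOfLE (fromSpec_image_top hU).le).op
      (F.presheaf.map (homOfLE (fromSpec_image_top hU).ge).op _) = _
    rw [res_res, res_self]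
  right_inv s := by
    change F.presheaf.map (homOfLE (fromSpec_image_top hU).ge).op
      (F.presheaf.map (homOfLE (fromSpec_image_top hU).le).op _) = _
    rw [res_res, res_self]
  map_add' a b := map_add _ _ _
  map_smul' b n := by
    change F.presheaf.map (homOfLE (fromSpec_image_top hU).ge).op
      (((hU.fromSpec.appIso ⊤).inv (((Spec Γ(X, U)).presheaf.map (⊤ : (Spec Γ(X, U)).Opens).leTop.op)
        ((Scheme.ΓSpecIso Γ(X, U)).inv b))) • (show Γ(F, hU.fromSpec ''ᵁ ⊤) from n)) = _
    have h1 : ((Spec Γ(X, U)).presheaf.map (⊤ : (Spec Γ(X, U)).Opens).leTop.op)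
        ((Scheme.ΓSpecIso Γ(X, U)).inv b) = (Scheme.ΓSpecIso Γ(X, U)).inv b := by
      have : (⊤ : (Spec Γ(X, U)).Opens).leTop.op = 𝟙 _ := rfl
      rw [this, (Spec Γ(X, U)).presheaf.map_id]; rfl
    rw [h1, appIso_inv_ΓSpecIso_inv_apply, res_smul]
    congr 1
    exact (res_resX _ _ _).trans (by
      have : (homOfLE (le_refl U)).op = 𝟙 (op U) := rfl
      rw [this, X.presheaf.map_id]; rfl)

end Groth.Agent.Lib.Lead.PullbackAff
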