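import Groth.Agent.Lib.Lead.QCohAff8
import Groth.Agent.Lib.Lead.PullbackAff2
import Groth.Agent.Lib.Lead.QCohLocal

/-!
# A module which is localizing on an affine cover is quasi-coherent (lead seat library)
-/

set_option autoImplicit false
universe u

open AlgebraicGeometry CategoryTheory Opposite TopologicalSpace

namespace Groth.Agent.Lib.Lead.QCohCrit

open Scheme.Modules Groth.Agent.Lib.Lead.QCohAff Groth.Agent.Lib.Lead.PullbackAff

variable {X : Scheme.{u}} (F : X.Modules) {U : X.Opens} (hU : IsAffineOpen U)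

theorem fromSpec_image_basicOpen_le (f : Γ(X, U)) :
    hU.fromSpec ''ᵁ PrimeSpectrum.basicOpen f ≤ U :=
  (hU.fromSpec_image_basicOpen f).le.trans (X.basicOpen_le f)

theorem appIso_inv_res_ΓSpecIso_inv (f : Γ(X, U)) :
    (Scheme.ΓSpecIso Γ(X, U)).inv ≫
      (Spec Γ(X, U)).presheaf.map (PrimeSpectrum.basicOpen f).leTop.op ≫
      (hU.fromSpec.appIso (PrimeSpectrum.basicOpen f)).inv =
    X.presheaf.map (homOfLE (fromSpec_image_basicOpen_le hU f)).op := by
  rw [Scheme.Hom.appIso_inv_naturality, ← Category.assoc, appIso_inv_ΓSpecIso_inv,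
    ← Functor.map_comp]
  rfl

theorem appIso_inv_res_ΓSpecIso_inv_apply (f : Γ(X, U)) (b : Γ(X, U)) :
    (hU.fromSpec.appIso (PrimeSpectrum.basicOpen f)).inv
      ((Spec Γ(X, U)).presheaf.map (PrimeSpectrum.basicOpen f).leTop.op
        ((Scheme.ΓSpecIso Γ(X, U)).inv b)) =
    X.presheaf.map (homOfLE (fromSpec_image_basicOpen_le hU f)).op b :=
  congr($(appIso_inv_res_ΓSpecIso_inv hU f) b)

/-- Sections of `F|_{Spec Γ(X,U)}` over `D(f)` are `Γ(F, X.basicOpen f)`, `Γ(X, U)`-linearly. -/
noncomputable def secEquivBasicOpen (f : Γ(X, U)) :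
    ((modulesSpecToSheaf.obj (F.restrict hU.fromSpec)).obj.obj
      (op (PrimeSpectrum.basicOpen f)) : Type u) ≃ₗ[Γ(X, U)] SecOver F U f where
  toFun n := SecOver.ofSec f (F.presheaf.map (homOfLE (hU.fromSpec_image_basicOpen f).ge).op
    (show Γ(F, hU.fromSpec ''ᵁ PrimeSpectrum.basicOpen f) from n))
  invFun s := show Γ(F, hU.fromSpec ''ᵁ PrimeSpectrum.basicOpen f) from
    F.presheaf.map (homOfLE (hU.fromSpec_image_basicOpen f).le).op s.toSec
  left_inv n := by
    change F.presheaf.map (homOfLE (hU.fromSpec_image_basicOpen f).le).op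
      (F.presheaf.map (homOfLE (hU.fromSpec_image_basicOpen f).ge).op _) = _
    rw [res_res, res_self]
  right_inv s := by
    change F.presheaf.map (homOfLE (hU.fromSpec_image_basicOpen f).ge).op
      (F.presheaf.map (homOfLE (hU.fromSpec_image_basicOpen f).le).op _) = _
    rw [res_res, res_self]
    rfl
  map_add' a b := map_add _ _ _
  map_smul' b n := by
    change F.presheaf.map (homOfLE (hU.fromSpec_image_basicOpen f).ge).op
      (((hU.fromSpec.appIso (PrimeSpectrum.basicOpen f)).inv
        ((Spec Γ(X, U)).presheaf.map (PrimeSpectrum.basicOpen f).leTop.op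
          ((Scheme.ΓSpecIso Γ(X, U)).inv b))) •
        (show Γ(F, hU.fromSpec ''ᵁ PrimeSpectrum.basicOpen f) from n)) = _
    rw [appIso_inv_res_ΓSpecIso_inv_apply, res_smul, res_resX]
    rfl

end Groth.Agent.Lib.Lead.QCohCrit

namespace Groth.Agent.Lib.Lead.QCohCrit

open Scheme.Modules Groth.Agent.Lib.Lead.QCohAff Groth.Agent.Lib.Lead.PullbackAff

variable {X : Scheme.{u}} (F : X.Modules) {U : X.Opens} (hU : IsAffineOpen U)

theorem modulesSpecToSheaf_map_apply {R : CommRingCat.{u}} (N : (Spec R).Modules)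
    {V W : (Spec R).Opens} (i : op V ⟶ op W) (n : Γ(N, V)) :
    ((modulesSpecToSheaf.obj N).obj.map i).hom n = N.presheaf.map i n := rfl

theorem res_compat (f : Γ(X, U)) (n : Γ(F, hU.fromSpec ''ᵁ ⊤)) :
    F.presheaf.map (homOfLE (X.basicOpen_le f)).op
        (F.presheaf.map (homOfLE (fromSpec_image_top hU).ge).op n) =
      F.presheaf.map (homOfLE (hU.fromSpec_image_basicOpen f).ge).op
        (F.presheaf.map (homOfLE (hU.fromSpec.image_mono
          (PrimeSpectrum.basicOpen f).leTop.le)).op n) := by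
  rw [res_res, res_res]

theorem secEquivBasicOpen_res (f : Γ(X, U))
    (n : (moduleSpecΓFunctor.obj (F.restrict hU.fromSpec) : Type u)) :
    secEquivBasicOpen F hU f
        (((modulesSpecToSheaf.obj (F.restrict hU.fromSpec)).obj.map
          (PrimeSpectrum.basicOpen f).leTop.op).hom n) =
      resL F U f (secEquiv hU F n) :=
  (res_compat F hU f n).symm


noncomputable def secEquivTop :
    ((modulesSpecToSheaf.obj (F.restrict hU.fromSpec)).obj.obj (op ⊤) : Type u) ≃ₗ[Γ(X, U)]
      Γ(F, U) where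
  toFun n := F.presheaf.map (homOfLE (fromSpec_image_top hU).ge).op
    (show Γ(F, hU.fromSpec ''ᵁ ⊤) from n)
  invFun s := show Γ(F, hU.fromSpec ''ᵁ ⊤) from
    F.presheaf.map (homOfLE (fromSpec_image_top hU).le).op s
  left_inv n := by
    change F.presheaf.map (homOfLE (fromSpec_image_top hU).le).op
      (F.presheaf.map (homOfLE (fromSpec_image_top hU).ge).op _) = _
    rw [res_res, res_self]
  right_inv s := by
    change F.presheaf.map (homOfLE (fromSpec_image_top hU).ge).op
      (F.presheaf.map (homOfLE (fromSpec_image_top hU).le).op _) = _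
    rw [res_res, res_self]
  map_add' a b := map_add _ _ _
  map_smul' b n := (secEquiv hU F).map_smul b n


theorem isLocalizedModule_of_comm {R : Type*} [CommSemiring R] (S : Submonoid R)
    {M M' N N' : Type*} [AddCommMonoid M] [AddCommMonoid M'] [AddCommMonoid N] [AddCommMonoid N']
    [Module R M] [Module R M'] [Module R N] [Module R N']
    (g : M →ₗ[R] N) (g' : M' →ₗ[R] N') (eM : M ≃ₗ[R] M') (eN : N ≃ₗ[R] N')
    (h : ∀ m, eN (g m) = g' (eM m)) (hg' : IsLocalizedModule S g') : IsLocalizedModule S g := by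
  have h1 : IsLocalizedModule S (g' ∘ₗ eM.toLinearMap) := IsLocalizedModule.of_linearEquiv_right _ _ _
  have h2 : eN.toLinearMap ∘ₗ g = g' ∘ₗ eM.toLinearMap := LinearMap.ext h
  rw [← h2] at h1
  exact (IsLocalizedModule.comp_iff_of_bijective_left S eN.toLinearMap eN.bijective).1 h1


theorem isLocalizing_restrict_of_locOn (hF : LocOn F U) :
    IsLocalizing (modulesSpecToSheaf.obj (F.restrict hU.fromSpec)) := fun f =>
  isLocalizedModule_of_comm (Submonoid.powers f) _ (resL F U f) (secEquivTop F hU)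
    (secEquivBasicOpen F hU f) (fun n => (res_compat F hU f n).symm)
    (isLocalizedModule_resL_of_locOn F hF f)

/-- If `F` is localizing on `U` affine, `F|_{Spec Γ(X,U)}` is quasi-coherent. -/
theorem isQuasicoherent_restrict_of_locOn (hF : LocOn F U) :
    (F.restrict hU.fromSpec).IsQuasicoherent :=
  (isQuasicoherent_iff_isIso_fromTildeΓ _).2
    ((isIso_fromTildeΓ_iff_isLocalizing _).2 (isLocalizing_restrict_of_locOn F hU hF))

/-- **Criterion**: a module that is localizing on the members of an affine open cover is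
quasi-coherent. -/
theorem isQuasicoherent_of_locOn
    (h : ∀ x : X, ∃ (U : X.Opens) (_ : IsAffineOpen U), x ∈ U ∧ LocOn F U) :
    F.IsQuasicoherent := by
  apply QCohLocal.isQuasicoherent_of_forall_affine
  intro x
  obtain ⟨U, hU, hxU, hF⟩ := h x
  exact ⟨U, hU, hxU, isQuasicoherent_restrict_of_locOn F hU hF⟩

theorem isQuasicoherent_iff_locOn :
    F.IsQuasicoherent ↔ ∀ (U : X.Opens), IsAffineOpen U → LocOn F U := by
  constructor
  · intro _ U hU
    exact LocOn.of_isQuasicoherent F hU
  · intro h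
    apply isQuasicoherent_of_locOn
    intro x
    obtain ⟨_, ⟨V, hV : IsAffineOpen V, rfl⟩, hxV, -⟩ :=
      (X.isBasis_affineOpens).exists_subset_of_mem_open (Set.mem_univ x) isOpen_univ
    exact ⟨V, hV, hxV, h V hV⟩

end Groth.Agent.Lib.Lead.QCohCrit
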