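import Mathlib.AlgebraicGeometry.Modules.Tilde
import Mathlib.Algebra.Category.ModuleCat.ChangeOfRings

/-!
# Pullback of `tilde M` along `Spec φ` is `tilde (S ⊗[R] M)` (lead seat library)
-/

set_option autoImplicit false
universe u

open AlgebraicGeometry CategoryTheory Opposite TopologicalSpace

namespace Groth.Agent.Lib.Lead.PullbackAff

variable {R S : CommRingCat.{u}} (φ : R ⟶ S)

/-- Global sections of a pushforward along `Spec φ` are the restriction of scalars of the global
sections. -/
noncomputable def pushforwardΓIso :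
    Scheme.Modules.pushforward (Spec.map φ) ⋙ moduleSpecΓFunctor (R := R) ≅
      moduleSpecΓFunctor (R := S) ⋙ ModuleCat.restrictScalars φ.hom :=
  (Functor.associator _ _ _).symm ≪≫
    Functor.isoWhiskerRight (pushforwardCompModulesSpecToSheafIso φ)
      (TopCat.Sheaf.forget _ _ ⋙ (evaluation _ _).obj (.op ⊤)) ≪≫
    NatIso.ofComponents (fun _ => Iso.refl _) (fun _ => by
      simp only [Iso.refl_hom, Category.comp_id, Category.id_comp]
      rfl)

/-- `(Spec φ)^* ∘ tilde ≅ tilde ∘ (S ⊗[R] -)`. -/
noncomputable def tildePullbackIso :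
    tilde.functor R ⋙ Scheme.Modules.pullback (Spec.map φ) ≅
      ModuleCat.extendScalars φ.hom ⋙ tilde.functor S :=
  let adj1 := (tilde.adjunction (R := R)).comp
    (Scheme.Modules.pullbackPushforwardAdjunction (Spec.map φ))
  let adj2 := ((ModuleCat.extendRestrictScalarsAdj φ.hom).comp
    (tilde.adjunction (R := S))).ofNatIsoRight (pushforwardΓIso φ).symm
  adj1.leftAdjointUniq adj2

end Groth.Agent.Lib.Lead.PullbackAff
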