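import Mathlib.RingTheory.Localization.BaseChange
import Mathlib.RingTheory.IsTensorProduct
import Mathlib.LinearAlgebra.TensorProduct.Tower

/-!
# Base change of a base change, in `IsBaseChange` form (lead seat library, pure algebra)
-/

set_option autoImplicit false

open TensorProduct

namespace Groth.Agent.Lib.Lead.PullbackAff

section

variable {A B A' B' : Type*} [CommRing A] [CommRing B] [CommRing A'] [CommRing B']
  [Algebra A B] [Algebra A A'] [Algebra B B'] [Algebra A' B'] [Algebra A B']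
  [IsScalarTower A A' B'] [IsScalarTower A B B']
  {M M' N N' : Type*} [AddCommGroup M] [AddCommGroup M'] [AddCommGroup N] [AddCommGroup N']
  [Module A M] [Module A M'] [Module A' M'] [IsScalarTower A A' M']
  [Module B N] [Module B N'] [Module B' N'] [IsScalarTower B B' N']

/-- If `N ≃ B ⊗[A] M`, `M' = A' ⊗[A] M` and `N' = B' ⊗[B] N`, then `N' ≃ B' ⊗[A'] M'`. -/
noncomputable def baseChangeEquivOfEquiv (g : M →ₗ[A] M') (hg : IsBaseChange A' g)
    (h : N →ₗ[B] N') (hh : IsBaseChange B' h) (ψ : N ≃ₗ[B] B ⊗[A] M) :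
    N' ≃ₗ[B'] B' ⊗[A'] M' :=
  hh.equiv.symm ≪≫ₗ
    TensorProduct.AlgebraTensorModule.congr (LinearEquiv.refl B' B') ψ ≪≫ₗ
    TensorProduct.AlgebraTensorModule.cancelBaseChange A B B' B' M ≪≫ₗ
    (TensorProduct.AlgebraTensorModule.cancelBaseChange A A' B' B' M).symm ≪≫ₗ
    TensorProduct.AlgebraTensorModule.congr (LinearEquiv.refl B' B') hg.equiv

end

end Groth.Agent.Lib.Lead.PullbackAff
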