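import Groth.Agent.Lib.Lead.QCohAff4

/-!
# Flatness of a quasi-coherent module over a base, on affine opens (lead seat library)

`flat_sections_iff`: for `f : X ⟶ S`, `F` quasi-coherent on `X`, `U ⊆ X` and `V ⊆ S` affine opens
with `U ≤ f⁻¹ V`: `Γ(F, U)` is flat over `Γ(S, V)` iff `F` is flat over `S` at all points of `U`.
-/

set_option autoImplicit false
universe u

open AlgebraicGeometry CategoryTheory Opposite TopologicalSpace
open IsLocalizedModule LocalizedModule LinearMap TensorProduct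

namespace Groth.Agent.Lib.Lead.QCohAff

theorem flat_of_isLocalizedModule_of_flat {R : Type*} (S : Type*) [CommRing R] [CommRing S]
    [Algebra R S] (M : Type*) [AddCommGroup M] [Module R M] [Module S M] [IsScalarTower R S M]
    (p : Submonoid S) {M' : Type*} [AddCommGroup M'] [Module R M'] [Module S M']
    [IsScalarTower R S M'] (f : M →ₗ[S] M') [IsLocalizedModule p f] [Module.Flat R M] :
    Module.Flat R M' := by
  have H := (Module.Flat.iff_lTensor_injectiveₛ (R := R) (M := M)).1 inferInstance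
  rw [Module.Flat.iff_lTensor_injectiveₛ]
  intro P _ _ N
  rw [← AlgebraTensorModule.coe_lTensor (A := S)]
  have h1 := IsLocalizedModule.map_injective p (AlgebraTensorModule.rTensor R N f)
    (AlgebraTensorModule.rTensor R P f) (AlgebraTensorModule.lTensor S M N.subtype) (by
      rw [AlgebraTensorModule.coe_lTensor]; exact H N)
  simpa [IsLocalizedModule.map_lTensor] using h1

variable {X S : Scheme.{u}} (f : X ⟶ S) (F : X.Modules)

theorem stalkMap_germ_appLE {U : X.Opens} {V : S.Opens} (hUV : U ≤ f ⁻¹ᵁ V) (x : X) (hx : x ∈ U)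
    (b : Γ(S, V)) :
    f.stalkMap x (S.presheaf.germ V (f x) (hUV hx) b) =
      X.presheaf.germ U x hx (f.appLE V U hUV b) := by
  rw [Scheme.Hom.germ_stalkMap_apply, Scheme.Hom.appLE, CommRingCat.comp_apply, germX_res]

/-- Flatness of `F` over `S` at `x ∈ U` in terms of the stalk as a `Γ(S, V)`-module. -/
theorem isFlatOverAt_iff_flat_stalkOver {U : X.Opens} {V : S.Opens} (hV : IsAffineOpen V)
    (hUV : U ≤ f ⁻¹ᵁ V) (x : X) (hx : x ∈ U) :
    FlatMod.IsFlatOverAt f F x ↔
      @Module.Flat Γ(S, V) (StalkOver F U x hx) _ _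
        (Module.compHom (StalkOver F U x hx) (f.appLE V U hUV).hom) := by
  have hs : f x ∈ V := hUV hx
  letI := S.presheaf.algebra_section_stalk ⟨f x, hs⟩
  haveI := hV.isLocalization_stalk ⟨f x, hs⟩
  letI modOS : Module (S.presheaf.stalk (f x)) (F.presheaf.stalk x) :=
    FlatMod.moduleStalkOver f F x
  letI modB : Module Γ(S, V) (F.presheaf.stalk x) :=
    Module.compHom (F.presheaf.stalk x) (algebraMap Γ(S, V) (S.presheaf.stalk (f x)))
  haveI : IsScalarTower Γ(S, V) (S.presheaf.stalk (f x)) (F.presheaf.stalk x) :=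
    IsScalarTower.of_algebraMap_smul fun r m => rfl
  have h1 : FlatMod.IsFlatOverAt f F x ↔ Module.Flat Γ(S, V) (F.presheaf.stalk x) :=
    Module.flat_iff_of_isLocalization (S.presheaf.stalk (f x))
      (hV.primeIdealOf ⟨f x, hs⟩).asIdeal.primeCompl (F.presheaf.stalk x)
  rw [h1]
  letI modB' : Module Γ(S, V) (StalkOver F U x hx) :=
    Module.compHom (StalkOver F U x hx) (f.appLE V U hUV).hom
  let e : StalkOver F U x hx ≃ₗ[Γ(S, V)] F.presheaf.stalk x :=
    { toFun := StalkOver.toStalk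
      invFun := StalkOver.ofStalk hx
      left_inv := fun _ => rfl
      right_inv := fun _ => rfl
      map_add' := fun _ _ => rfl
      map_smul' := fun b t => by
        change X.presheaf.germ U x hx (f.appLE V U hUV b) • t.toStalk =
          f.stalkMap x (S.presheaf.germ V (f x) hs b) • t.toStalk
        exact congrArg (· • t.toStalk) (stalkMap_germ_appLE f hUV x hx b).symm }
  exact (Module.Flat.equiv_iff e).symm

end Groth.Agent.Lib.Lead.QCohAff

namespace Groth.Agent.Lib.Lead.QCohAff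

variable {X S : Scheme.{u}} (f : X ⟶ S) (F : X.Modules)

theorem primeIdealOf_fromSpec {U : X.Opens} (hU : IsAffineOpen U) (y : PrimeSpectrum Γ(X, U))
    (hy : hU.fromSpec y ∈ U) : hU.primeIdealOf ⟨hU.fromSpec y, hy⟩ = y := by
  apply hU.fromSpec.isOpenEmbedding.injective
  exact hU.fromSpec_primeIdealOf ⟨hU.fromSpec y, hy⟩

theorem fromSpec_mem {U : X.Opens} (hU : IsAffineOpen U) (y : PrimeSpectrum Γ(X, U)) :
    hU.fromSpec y ∈ U := by
  have : hU.fromSpec y ∈ hU.fromSpec.opensRange := ⟨y, rfl⟩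
  rwa [hU.opensRange_fromSpec] at this

/-- `Γ(F, U)` is flat over `Γ(S, V)` iff `F` is flat over `S` at all points of `U`
(`U`, `V` affine, `U ≤ f⁻¹ V`, `F` quasi-coherent). -/
theorem flat_sections_iff_of_locOn {U : X.Opens} (hU : IsAffineOpen U) (hF : LocOn F U)
    {V : S.Opens} (hV : IsAffineOpen V) (hUV : U ≤ f ⁻¹ᵁ V) :
    @Module.Flat Γ(S, V) Γ(F, U) _ _ (Module.compHom Γ(F, U) (f.appLE V U hUV).hom) ↔
      ∀ (x : X) (_ : x ∈ U), FlatMod.IsFlatOverAt f F x := by
  letI algBA : Algebra Γ(S, V) Γ(X, U) := (f.appLE V U hUV).hom.toAlgebra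
  letI modBM : Module Γ(S, V) Γ(F, U) := Module.compHom Γ(F, U) (f.appLE V U hUV).hom
  haveI : IsScalarTower Γ(S, V) Γ(X, U) Γ(F, U) := IsScalarTower.of_algebraMap_smul fun r m => rfl
  letI modBT : ∀ (x : X) (hx : x ∈ U), Module Γ(S, V) (StalkOver F U x hx) := fun x hx =>
    Module.compHom (StalkOver F U x hx) (f.appLE V U hUV).hom
  haveI : ∀ (x : X) (hx : x ∈ U), IsScalarTower Γ(S, V) Γ(X, U) (StalkOver F U x hx) :=
    fun x hx => IsScalarTower.of_algebraMap_smul fun r m => rfl
  constructor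
  · intro hflat x hx
    rw [isFlatOverAt_iff_flat_stalkOver f F hV hUV x hx]
    haveI := isLocalizedModule_germL_of_locOn F hU hF x hx
    exact flat_of_isLocalizedModule_of_flat Γ(X, U) Γ(F, U)
      (hU.primeIdealOf ⟨x, hx⟩).asIdeal.primeCompl (germL F U x hx)
  · intro h
    let xP : ∀ (P : Ideal Γ(X, U)) [P.IsMaximal], X := fun P _ =>
      hU.fromSpec ⟨P, inferInstance⟩
    have hxP : ∀ (P : Ideal Γ(X, U)) [P.IsMaximal], xP P ∈ U := fun P _ => fromSpec_mem hU _
    have hloc : ∀ (P : Ideal Γ(X, U)) [P.IsMaximal],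
        IsLocalizedModule.AtPrime P (germL F U (xP P) (hxP P)) := fun P _ => by
      have := isLocalizedModule_germL_of_locOn F hU hF (xP P) (hxP P)
      rwa [primeIdealOf_fromSpec hU ⟨P, inferInstance⟩ (hxP P)] at this
    refine @Module.flat_of_isLocalized_maximal Γ(S, V) Γ(X, U) _ _ _ Γ(F, U) _ _ _ _
      (fun P _ => StalkOver F U (xP P) (hxP P)) (fun P _ => inferInstance)
      (fun P _ => modBT (xP P) (hxP P)) (fun P _ => inferInstance)
      (fun P _ => inferInstance) (fun P _ => germL F U (xP P) (hxP P)) hloc ?_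
    intro P _
    exact (isFlatOverAt_iff_flat_stalkOver f F hV hUV (xP P) (hxP P)).1 (h _ (hxP P))

theorem flat_sections_iff [F.IsQuasicoherent] {U : X.Opens} (hU : IsAffineOpen U) {V : S.Opens}
    (hV : IsAffineOpen V) (hUV : U ≤ f ⁻¹ᵁ V) :
    @Module.Flat Γ(S, V) Γ(F, U) _ _ (Module.compHom Γ(F, U) (f.appLE V U hUV).hom) ↔
      ∀ (x : X) (_ : x ∈ U), FlatMod.IsFlatOverAt f F x :=
  flat_sections_iff_of_locOn f F hU (LocOn.of_isQuasicoherent F hU) hV hUV

end Groth.Agent.Lib.Lead.QCohAff
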