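import Groth.Agent.Lib.Lead.PullbackAff4
import Groth.Agent.Lib.Lead.PullbackAff5
import Groth.Agent.Lib.Lead.QCohAff5

/-!
# The stalk of the pullback of a quasi-coherent module (lead seat library)
-/

set_option autoImplicit false
universe u

open AlgebraicGeometry CategoryTheory Opposite TopologicalSpace TensorProduct

namespace Groth.Agent.Lib.Lead.PullbackAff

open Scheme.Modules Groth.Agent.Lib.Lead.QCohAff

/-- The stalk with its `Γ(X, U)`-module structure is also a module over the local ring. -/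
noncomputable instance stalkOverModuleStalk {X : Scheme.{u}} (F : X.Modules) (U : X.Opens) (x : X)
    (hx : x ∈ U) : Module (X.presheaf.stalk x) (StalkOver F U x hx) :=
  inferInstanceAs (Module (X.presheaf.stalk x) (F.presheaf.stalk x))

variable {X Y : Scheme.{u}} (f : X ⟶ Y) (G : Y.Modules) [G.IsQuasicoherent] (x : X)

/-- **Stalk of a pullback**: for `G` quasi-coherent on `Y`,
`(f^* G)_x ≃ O_{X,x} ⊗[O_{Y,f x}] G_{f x}` as `O_{X,x}`-modules. -/
theorem nonempty_stalk_pullback_equiv :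
    letI := (f.stalkMap x).hom.toAlgebra
    Nonempty (((pullback f).obj G).presheaf.stalk x ≃ₗ[X.presheaf.stalk x]
      (X.presheaf.stalk x) ⊗[Y.presheaf.stalk (f x)] (G.presheaf.stalk (f x))) := by
  obtain ⟨V, U, hV, hU, hxU, hUV⟩ := exists_affines f x
  have hfx : f x ∈ V := hUV hxU
  letI algAB : Algebra Γ(Y, V) Γ(X, U) := (f.appLE V U hUV).hom.toAlgebra
  letI algAA' : Algebra Γ(Y, V) (Y.presheaf.stalk (f x)) :=
    Y.presheaf.algebra_section_stalk ⟨f x, hfx⟩
  letI algBB' : Algebra Γ(X, U) (X.presheaf.stalk x) := X.presheaf.algebra_section_stalk ⟨x, hxU⟩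
  letI algA'B' : Algebra (Y.presheaf.stalk (f x)) (X.presheaf.stalk x) :=
    (f.stalkMap x).hom.toAlgebra
  letI algAB' : Algebra Γ(Y, V) (X.presheaf.stalk x) :=
    ((algebraMap Γ(X, U) (X.presheaf.stalk x)).comp (algebraMap Γ(Y, V) Γ(X, U))).toAlgebra
  haveI : IsScalarTower Γ(Y, V) Γ(X, U) (X.presheaf.stalk x) := IsScalarTower.of_algebraMap_eq' rfl
  haveI : IsScalarTower Γ(Y, V) (Y.presheaf.stalk (f x)) (X.presheaf.stalk x) :=
    IsScalarTower.of_algebraMap_eq' (by
      ext b
      exact (stalkMap_germ_appLE f hUV x hxU b).symm)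
  haveI : IsScalarTower Γ(Y, V) (Y.presheaf.stalk (f x)) (StalkOver G V (f x) hfx) :=
    IsScalarTower.of_algebraMap_smul fun r m => rfl
  haveI : IsScalarTower Γ(X, U) (X.presheaf.stalk x) (StalkOver ((pullback f).obj G) U x hxU) :=
    IsScalarTower.of_algebraMap_smul fun r m => rfl
  haveI := hV.isLocalization_stalk ⟨f x, hfx⟩
  haveI := hU.isLocalization_stalk ⟨x, hxU⟩
  have hg : IsBaseChange (Y.presheaf.stalk (f x)) (germL G V (f x) hfx) :=
    IsLocalizedModule.isBaseChange (hV.primeIdealOf ⟨f x, hfx⟩).asIdeal.primeCompl _ _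
  have hh : IsBaseChange (X.presheaf.stalk x) (germL ((pullback f).obj G) U x hxU) :=
    IsLocalizedModule.isBaseChange (hU.primeIdealOf ⟨x, hxU⟩).asIdeal.primeCompl _ _
  have e : StalkOver ((pullback f).obj G) U x hxU ≃ₗ[X.presheaf.stalk x]
      (X.presheaf.stalk x) ⊗[Y.presheaf.stalk (f x)] (StalkOver G V (f x) hfx) :=
    baseChangeEquivOfEquiv (germL G V (f x) hfx) hg (germL ((pullback f).obj G) U x hxU) hh
      (sectionsPullbackEquiv f G hU hV hUV)
  exact ⟨e⟩

end Groth.Agent.Lib.Lead.PullbackAff
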