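import Groth.Agent.Lib.Lead.CohAff3
import Groth.Agent.Lib.Lead.PullbackAff6

/-!
# Stalks of finite type quasi-coherent modules; support of a pullback (lead seat library)
-/

set_option autoImplicit false
universe u

open AlgebraicGeometry CategoryTheory Opposite TopologicalSpace Limits TensorProduct

namespace Groth.Agent.Lib.Lead.CohAff

open Scheme.Modules Groth.Agent.Lib.Lead.QCohAff Groth.Agent.Lib.Lead.PullbackAff

variable {X : Scheme.{u}} (F : X.Modules) [F.IsQuasicoherent]

/-- The stalks of a finite type quasi-coherent module are finite over the local rings. -/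
theorem finite_stalk_of_isFiniteType (hF : SheafOfModules.IsFiniteType (R := X.ringCatSheaf) F)
    (x : X) : Module.Finite (X.presheaf.stalk x) (F.presheaf.stalk x) := by
  obtain ⟨_, ⟨U, hU : IsAffineOpen U, rfl⟩, hxU, -⟩ :=
    (X.isBasis_affineOpens).exists_subset_of_mem_open (Set.mem_univ x) isOpen_univ
  haveI := finite_sections_of_isFiniteType F hF hU
  letI := X.presheaf.algebra_section_stalk ⟨x, hxU⟩
  haveI := hU.isLocalization_stalk ⟨x, hxU⟩
  haveI : IsScalarTower Γ(X, U) (X.presheaf.stalk x) (StalkOver F U x hxU) :=
    IsScalarTower.of_algebraMap_smul fun r m => rfl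
  haveI := isLocalizedModule_germL F hU x hxU
  have h : Module.Finite (X.presheaf.stalk x) (StalkOver F U x hxU) :=
    Module.Finite.of_isLocalizedModule (hU.primeIdealOf ⟨x, hxU⟩).asIdeal.primeCompl
      (Rₚ := X.presheaf.stalk x) (germL F U x hxU)
  exact h

end Groth.Agent.Lib.Lead.CohAff
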