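import Groth.Agent.Lib.Lead.QCohAff5

/-!
# Sections over a basic open as a localized module (lead seat library)
-/

set_option autoImplicit false
universe u

open AlgebraicGeometry CategoryTheory Opposite TopologicalSpace

namespace Groth.Agent.Lib.Lead.QCohAff

variable {X : Scheme.{u}}

/-- `Γ(F, D(g))`, viewed as a module over `Γ(X, U)` through restriction. -/
def SecOver (F : X.Modules) (U : X.Opens) (g : Γ(X, U)) : Type u := Γ(F, X.basicOpen g)

noncomputable instance (F : X.Modules) (U : X.Opens) (g : Γ(X, U)) :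
    AddCommGroup (SecOver F U g) := inferInstanceAs (AddCommGroup Γ(F, X.basicOpen g))

noncomputable instance (F : X.Modules) (U : X.Opens) (g : Γ(X, U)) :
    Module Γ(X, X.basicOpen g) (SecOver F U g) :=
  inferInstanceAs (Module Γ(X, X.basicOpen g) Γ(F, X.basicOpen g))

noncomputable instance (F : X.Modules) (U : X.Opens) (g : Γ(X, U)) :
    Module Γ(X, U) (SecOver F U g) :=
  Module.compHom Γ(F, X.basicOpen g) (algebraMap Γ(X, U) Γ(X, X.basicOpen g))

instance (F : X.Modules) (U : X.Opens) (g : Γ(X, U)) :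
    IsScalarTower Γ(X, U) Γ(X, X.basicOpen g) (SecOver F U g) :=
  IsScalarTower.of_algebraMap_smul fun _ _ => rfl

/-- The identity, to plain sections. -/
def SecOver.toSec {F : X.Modules} {U : X.Opens} {g : Γ(X, U)} (t : SecOver F U g) :
    Γ(F, X.basicOpen g) := t

/-- The identity, from plain sections. -/
def SecOver.ofSec {F : X.Modules} {U : X.Opens} (g : Γ(X, U)) (t : Γ(F, X.basicOpen g)) :
    SecOver F U g := t

theorem secOver_smul_def (F : X.Modules) (U : X.Opens) (g : Γ(X, U)) (r : Γ(X, U))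
    (t : SecOver F U g) :
    (r • t).toSec = X.presheaf.map (homOfLE (X.basicOpen_le g)).op r • t.toSec := rfl

/-- Restriction to `D(g)` as a `Γ(X, U)`-linear map. -/
noncomputable def resL (F : X.Modules) (U : X.Opens) (g : Γ(X, U)) :
    Γ(F, U) →ₗ[Γ(X, U)] SecOver F U g where
  toFun s := F.presheaf.map (homOfLE (X.basicOpen_le g)).op s
  map_add' a b := map_add _ a b
  map_smul' r s := res_smul F (X.basicOpen_le g) r s

@[simp] theorem resL_apply (F : X.Modules) (U : X.Opens) (g : Γ(X, U)) (s : Γ(F, U)) :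
    (resL F U g s).toSec = F.presheaf.map (homOfLE (X.basicOpen_le g)).op s := rfl

theorem isUnit_res_basicOpen {U : X.Opens} (g : Γ(X, U)) :
    IsUnit (X.presheaf.map (homOfLE (X.basicOpen_le g)).op g) :=
  X.toRingedSpace.isUnit_res_basicOpen g

/-- `Γ(F, D(g))` is the localization of `Γ(F, U)` away from `g`, for `F` localizing on `U`. -/
theorem isLocalizedModule_resL_of_locOn (F : X.Modules) {U : X.Opens} (hF : LocOn F U)
    (g : Γ(X, U)) : IsLocalizedModule (Submonoid.powers g) (resL F U g) where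
  map_units r := by
    obtain ⟨_, n, rfl⟩ := r
    have hu : IsUnit ((X.presheaf.map (homOfLE (X.basicOpen_le g)).op g) ^ n) :=
      (isUnit_res_basicOpen g).pow n
    rw [Module.End.isUnit_iff]
    constructor
    · intro a b hab
      have hab' : (X.presheaf.map (homOfLE (X.basicOpen_le g)).op (g ^ n)) • a.toSec =
          (X.presheaf.map (homOfLE (X.basicOpen_le g)).op (g ^ n)) • b.toSec := hab
      rw [map_pow] at hab'
      exact (hu.smul_left_cancel (x := a.toSec) (y := b.toSec)).1 hab'
    · intro b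
      obtain ⟨v, hv⟩ := hu
      refine ⟨SecOver.ofSec g ((↑v⁻¹ : Γ(X, X.basicOpen g)) • b.toSec), ?_⟩
      change (X.presheaf.map (homOfLE (X.basicOpen_le g)).op (g ^ n)) •
        ((↑v⁻¹ : Γ(X, X.basicOpen g)) • b.toSec) = b.toSec
      rw [map_pow, ← hv, smul_smul, Units.mul_inv, one_smul]
  surj t := by
    obtain ⟨n, s, hs⟩ := hF.2 g t.toSec
    refine ⟨⟨s, ⟨g ^ n, n, rfl⟩⟩, ?_⟩
    change (X.presheaf.map (homOfLE (X.basicOpen_le g)).op (g ^ n)) • t.toSec =
      F.presheaf.map (homOfLE (X.basicOpen_le g)).op s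
    rw [hs, map_pow]
  exists_of_eq {s₁ s₂} h := by
    have h0 : F.presheaf.map (homOfLE (X.basicOpen_le g)).op (s₁ - s₂) = 0 := by
      rw [map_sub, sub_eq_zero]
      exact h
    obtain ⟨n, hn⟩ := hF.1 g (s₁ - s₂) h0
    refine ⟨⟨g ^ n, n, rfl⟩, ?_⟩
    rw [smul_sub, sub_eq_zero] at hn
    exact hn

theorem isLocalizedModule_resL (F : X.Modules) [F.IsQuasicoherent] {U : X.Opens}
    (hU : IsAffineOpen U) (g : Γ(X, U)) : IsLocalizedModule (Submonoid.powers g) (resL F U g) :=
  isLocalizedModule_resL_of_locOn F (LocOn.of_isQuasicoherent F hU) g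

end Groth.Agent.Lib.Lead.QCohAff
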