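import Groth.Agent.Lib.Lead.CohAff2
import Groth.Agent.Lib.Lead.PullbackAff2
import Groth.Agent.Lib.Lead.QCohAff8
import Mathlib.RingTheory.Localization.Finiteness

/-!
# Finite type quasi-coherent modules: the dictionary with finite modules on affine opens
(lead seat library)
-/

set_option autoImplicit false
universe u

open AlgebraicGeometry CategoryTheory Opposite TopologicalSpace Limits

namespace Groth.Agent.Lib.Lead.CohAff

open Scheme.Modules Groth.Agent.Lib.Lead.QCohAff Groth.Agent.Lib.Lead.PullbackAff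

variable {X : Scheme.{u}} (F : X.Modules) [F.IsQuasicoherent]

/-- On an affine chart: finitely many generating sections iff finite sections. -/
theorem hasFinGen_fromSpec_iff {U : X.Opens} (hU : IsAffineOpen U) :
    HasFinGen (R := (Spec Γ(X, U)).ringCatSheaf) (F.restrict hU.fromSpec) ↔
      Module.Finite Γ(X, U) Γ(F, U) := by
  constructor
  · intro h
    haveI := finite_Γ_of_hasFinGen (F.restrict hU.fromSpec) h
    exact Module.Finite.equiv (secEquiv hU F)
  · intro h
    haveI : Module.Finite Γ(X, U) (moduleSpecΓFunctor.obj (F.restrict hU.fromSpec)) :=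
      Module.Finite.equiv (secEquiv hU F).symm
    exact hasFinGen_of_finite_Γ (F.restrict hU.fromSpec)

/-- If `M.over W` has finitely many generating sections, then `Γ(F, D)` is finite over `Γ(X, D)`
for every affine `D ≤ W`. -/
theorem finite_sections_of_hasFinGen_over {W D : X.Opens} (hD : IsAffineOpen D) (hDW : D ≤ W)
    (h : HasFinGen (SheafOfModules.over (R := X.ringCatSheaf) F W)) :
    Module.Finite Γ(X, D) Γ(F, D) :=
  (hasFinGen_fromSpec_iff F hD).1 (hasFinGen_fromSpec_of_over F hD hDW h)

/-- `Γ(F, D(g))` finite over `Γ(X, D(g))` for a family of `g` spanning the unit ideal implies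
`Γ(F, U)` finite over `Γ(X, U)`. -/
theorem finite_sections_of_span {U : X.Opens} (hU : IsAffineOpen U) (t : Set Γ(X, U))
    (ht : Ideal.span t = ⊤)
    (H : ∀ g ∈ t, Module.Finite Γ(X, X.basicOpen g) Γ(F, X.basicOpen g)) :
    Module.Finite Γ(X, U) Γ(F, U) := by
  haveI : ∀ g : t, IsLocalization.Away g.1 Γ(X, X.basicOpen g.1) :=
    fun g => hU.isLocalization_basicOpen g.1
  haveI : ∀ g : t, IsLocalizedModule.Away g.1 (resL F U g.1) :=
    fun g => isLocalizedModule_resL F hU g.1
  exact Module.Finite.of_localizationSpan' t ht (Mₚ := fun g => SecOver F U g.1)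
    (Rₚ := fun g => Γ(X, X.basicOpen g.1)) (fun g => resL F U g.1) (fun g => H g.1 g.2)

/-- **Finite type ⇒ finite sections on affines.** -/
theorem finite_sections_of_isFiniteType (hF : SheafOfModules.IsFiniteType (R := X.ringCatSheaf) F)
    {U : X.Opens} (hU : IsAffineOpen U) : Module.Finite Γ(X, U) Γ(F, U) := by
  obtain ⟨σ, hσ⟩ := hF.exists_localGeneratorsData
  have hcov : IsOpenCover σ.X := (Opens.coversTop_iff _ σ.X).1 σ.coversTop
  -- for every point of `U` a basic open neighbourhood with finite sections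
  have key : ∀ x : U, ∃ g : Γ(X, U), x.1 ∈ X.basicOpen g ∧
      Module.Finite Γ(X, X.basicOpen g) Γ(F, X.basicOpen g) := by
    intro x
    obtain ⟨i, hi⟩ := hcov.exists_mem x.1
    obtain ⟨g, hg, hxg⟩ := hU.exists_basicOpen_le (V := U ⊓ σ.X i) ⟨x.1, ⟨x.2, hi⟩⟩ x.2
    refine ⟨g, hxg, ?_⟩
    have hfin : HasFinGen (SheafOfModules.over (R := X.ringCatSheaf) F (σ.X i)) :=
      ⟨σ.generators i, (hσ.isFiniteType i).finite⟩
    exact finite_sections_of_hasFinGen_over F (hU.basicOpen g) (hg.trans inf_le_right) hfin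
  choose g hxg hfin using key
  refine finite_sections_of_span F hU (Set.range g) ?_ ?_
  · rw [← hU.self_le_iSup_basicOpen_iff]
    intro x hx
    exact Opens.mem_iSup.2 ⟨⟨g ⟨x, hx⟩, ⟨⟨x, hx⟩, rfl⟩⟩, hxg ⟨x, hx⟩⟩
  · rintro _ ⟨x, rfl⟩
    exact hfin x

end Groth.Agent.Lib.Lead.CohAff

namespace Groth.Agent.Lib.Lead.CohAff

open Scheme.Modules Groth.Agent.Lib.Lead.QCohAff Groth.Agent.Lib.Lead.PullbackAff

variable {X : Scheme.{u}} (F : X.Modules) [F.IsQuasicoherent]

/-- **Finite sections on an affine cover ⇒ finite type.** -/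
theorem isFiniteType_of_finite_sections
    (h : ∀ x : X, ∃ (U : X.Opens) (_ : IsAffineOpen U), x ∈ U ∧ Module.Finite Γ(X, U) Γ(F, U)) :
    SheafOfModules.IsFiniteType (R := X.ringCatSheaf) F := by
  choose U hU hxU hfin using h
  have hgen : ∀ x : X, HasFinGen (SheafOfModules.over (R := X.ringCatSheaf) F (U x)) := fun x =>
    hasFinGen_over_of_fromSpec F (hU x) ((hasFinGen_fromSpec_iff F (hU x)).2 (hfin x))
  choose σ hσ using hgen
  have hcov : IsOpenCover U := by
    change ⨆ x, U x = ⊤
    exact top_le_iff.1 fun x _ => Opens.mem_iSup.2 ⟨x, hxU x⟩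
  let D : SheafOfModules.LocalGeneratorsData.{u} (R := X.ringCatSheaf) F :=
    { I := ↥X
      X := U
      coversTop := (Opens.coversTop_iff _ U).2 hcov
      generators := σ }
  have hD : D.IsFiniteType := { isFiniteType := fun x => { finite := hσ x } }
  exact { exists_localGeneratorsData := ⟨D, hD⟩ }

/-- The dictionary: a quasi-coherent module is of finite type iff its sections over every affine
open are a finite module. -/
theorem isFiniteType_iff_finite_sections :
    SheafOfModules.IsFiniteType (R := X.ringCatSheaf) F ↔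
      ∀ (U : X.Opens), IsAffineOpen U → Module.Finite Γ(X, U) Γ(F, U) := by
  constructor
  · intro hF U hU
    exact finite_sections_of_isFiniteType F hF hU
  · intro h
    apply isFiniteType_of_finite_sections
    intro x
    obtain ⟨_, ⟨V, hV : IsAffineOpen V, rfl⟩, hxV, -⟩ :=
      (X.isBasis_affineOpens).exists_subset_of_mem_open (Set.mem_univ x) isOpen_univ
    exact ⟨V, hV, hxV, h V hV⟩

end Groth.Agent.Lib.Lead.CohAff
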