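import Groth.Agent.Lib.Lead.QCohAff2
import Mathlib.RingTheory.Support

/-!
# Quasi-coherent modules on affine opens: support (lead seat library)
-/

set_option autoImplicit false
universe u

open AlgebraicGeometry CategoryTheory Opposite TopologicalSpace

namespace Groth.Agent.Lib.Lead.QCohAff

variable {X : Scheme.{u}}

theorem mem_basicOpen_iff_notMem_primeIdealOf {U : X.Opens} (hU : IsAffineOpen U) (x : X)
    (hx : x ∈ U) (r : Γ(X, U)) :
    x ∈ X.basicOpen r ↔ r ∉ (hU.primeIdealOf ⟨x, hx⟩).asIdeal := by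
  have h1 : hU.fromSpec (hU.primeIdealOf ⟨x, hx⟩) = x := hU.fromSpec_primeIdealOf ⟨x, hx⟩
  have h2 := hU.fromSpec_preimage_basicOpen r
  constructor
  · intro h
    have : hU.primeIdealOf ⟨x, hx⟩ ∈ hU.fromSpec ⁻¹ᵁ X.basicOpen r := by
      change hU.fromSpec (hU.primeIdealOf ⟨x, hx⟩) ∈ X.basicOpen r
      rw [h1]; exact h
    rw [h2] at this
    exact this
  · intro h
    have : hU.primeIdealOf ⟨x, hx⟩ ∈ hU.fromSpec ⁻¹ᵁ X.basicOpen r := by
      rw [h2]; exact h
    have h3 : hU.fromSpec (hU.primeIdealOf ⟨x, hx⟩) ∈ X.basicOpen r := this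
    rwa [h1] at h3

variable (F : X.Modules)

theorem subsingleton_stalk_iff_of_locOn {U : X.Opens} (hU : IsAffineOpen U) (hF : LocOn F U)
    (x : X) (hx : x ∈ U) :
    Subsingleton (F.presheaf.stalk x) ↔ ∀ s : Γ(F, U), F.presheaf.germ U x hx s = 0 := by
  constructor
  · intro h s
    exact Subsingleton.elim _ _
  · intro h
    refine ⟨fun a b => ?_⟩
    have key : ∀ t : F.presheaf.stalk x, t = 0 := by
      intro t
      obtain ⟨r, s, hxr, hrs⟩ := exists_germ_smul_eq_germ_of_locOn F hU hF x hx t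
      rw [h s] at hrs
      exact (isUnit_germ_of_mem_basicOpen r x hx hxr).smul_eq_zero.1 hrs
    rw [key a, key b]

theorem primeIdealOf_mem_support_iff_of_locOn {U : X.Opens} (hU : IsAffineOpen U)
    (hF : LocOn F U) (x : X) (hx : x ∈ U) :
    hU.primeIdealOf ⟨x, hx⟩ ∈ Module.support Γ(X, U) Γ(F, U) ↔
      ¬ Subsingleton (F.presheaf.stalk x) := by
  rw [Module.mem_support_iff_exists_annihilator, subsingleton_stalk_iff_of_locOn F hU hF x hx]
  constructor
  · rintro ⟨m, hm⟩ hall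
    obtain ⟨r, hxr, hrm⟩ := (germ_eq_zero_iff_of_locOn F hU hF x hx m).1 (hall m)
    have : r ∈ (Submodule.span Γ(X, U) {m}).annihilator :=
      (Submodule.mem_annihilator_span_singleton m r).2 hrm
    exact (mem_basicOpen_iff_notMem_primeIdealOf hU x hx r).1 hxr (hm this)
  · intro hall
    push_neg at hall
    obtain ⟨s, hs⟩ := hall
    refine ⟨s, fun a ha => ?_⟩
    by_contra hap
    apply hs
    rw [germ_eq_zero_iff_of_locOn F hU hF x hx]
    exact ⟨a, (mem_basicOpen_iff_notMem_primeIdealOf hU x hx a).2 hap,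
      (Submodule.mem_annihilator_span_singleton s a).1 ha⟩

variable [F.IsQuasicoherent]

theorem subsingleton_stalk_iff {U : X.Opens} (hU : IsAffineOpen U) (x : X) (hx : x ∈ U) :
    Subsingleton (F.presheaf.stalk x) ↔ ∀ s : Γ(F, U), F.presheaf.germ U x hx s = 0 :=
  subsingleton_stalk_iff_of_locOn F hU (LocOn.of_isQuasicoherent F hU) x hx

theorem primeIdealOf_mem_support_iff {U : X.Opens} (hU : IsAffineOpen U) (x : X) (hx : x ∈ U) :
    hU.primeIdealOf ⟨x, hx⟩ ∈ Module.support Γ(X, U) Γ(F, U) ↔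
      ¬ Subsingleton (F.presheaf.stalk x) :=
  primeIdealOf_mem_support_iff_of_locOn F hU (LocOn.of_isQuasicoherent F hU) x hx

end Groth.Agent.Lib.Lead.QCohAff
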