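import Mathlib
import Groth.Agent.Lib.Helper86.FFDescentMod2

/-!
# Vanishing of the first Amitsur cohomology of a faithfully flat algebra (lead)
-/

set_option autoImplicit false
universe u
open TensorProduct

namespace Groth.Agent.Lib.Lead.AmitsurH1

open Groth.Agent.Lib.Helper86.FFDescentMod Groth.Agent.Lib.Helper86.FFDescentMod2

variable (R : Type u) [CommRing R] (S : Type u) [CommRing S] [Algebra R S]

theorem rid_dG (z : S ⊗[R] R) :
    TensorProduct.rid R (S ⊗[R] S) (dG R S R z) =
      Algebra.TensorProduct.includeLeftSubRight R S (TensorProduct.rid R S z) := by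
  induction z using TensorProduct.induction_on with
  | zero => simp
  | add x y hx hy => simp only [map_add, hx, hy]
  | tmul s r =>
    rw [dG, LinearMap.rTensor_tmul, TensorProduct.rid_tmul, TensorProduct.rid_tmul, map_smul]

/-- A 1-cocycle of the Amitsur complex of a faithfully flat algebra is a coboundary. -/
theorem exists_coboundary [Module.FaithfullyFlat R S] (c : S ⊗[R] S)
    (hc : j12 R S c - j13 R S c + j23 R S c = 0) :
    ∃ b : S, c = b ⊗ₜ[R] (1 : S) - (1 : S) ⊗ₜ[R] b := by
  have h1 : d2 R S R (c ⊗ₜ[R] (1 : R)) = 0 := by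
    rw [d2, LinearMap.rTensor_tmul, LinearMap.add_apply, LinearMap.sub_apply, hc, zero_tmul]
  obtain ⟨z, hz⟩ := (exact_dG_d2 R S R (c ⊗ₜ[R] (1 : R))).mp h1
  refine ⟨TensorProduct.rid R S z, ?_⟩
  have h2 := congrArg (TensorProduct.rid R (S ⊗[R] S)) hz
  rw [rid_dG, TensorProduct.rid_tmul, one_smul] at h2
  rw [← h2, Algebra.TensorProduct.includeLeftSubRight_apply]

end Groth.Agent.Lib.Lead.AmitsurH1
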