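import Mathlib
import Groth.Agent.Lib.Helper51.SmoothSection

/-!
# A smooth surjective morphism to an affine scheme has a section over an étale faithfully flat
algebra (lead)
-/

set_option autoImplicit false
universe u
open CategoryTheory CategoryTheory.Limits AlgebraicGeometry

namespace Groth.Agent.Lib.Lead.EtaleCoverSection

/-- A smooth surjective morphism `π : P ⟶ Spec R₀` acquires a section over `Spec R'` for some
étale faithfully flat `R₀`-algebra `R'`. -/
theorem exists_etale_faithfullyFlat_section {P : Scheme.{u}} (R₀ : CommRingCat.{u})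
    (π : P ⟶ Spec R₀) [Smooth π] [Surjective π] :
    ∃ (R' : Type u) (_ : CommRing R') (_ : Algebra R₀ R'),
      Algebra.Etale R₀ R' ∧ Module.FaithfullyFlat R₀ R' ∧
      ∃ t : Spec (CommRingCat.of R') ⟶ P,
        t ≫ π = Spec.map (CommRingCat.ofHom (algebraMap R₀ R')) := by
  classical
  have hsurj : ∀ x : Spec R₀, ∃ p : P, π p = x := fun x => π.surjective x
  choose p hp using hsurj
  have hE := fun x : Spec R₀ =>
    Groth.Agent.Lib.Helper51.SmoothSection.exists_etale_section π (p x)
  choose S' g s' hg hgs l hl using hE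
  -- affine neighbourhoods
  let 𝒲 := fun x => (S' x).affineOpenCover
  let j := fun x => (𝒲 x).idx (s' x)
  let A : Spec R₀ → CommRingCat.{u} := fun x => (𝒲 x).X (j x)
  let q : ∀ x, Spec (A x) ⟶ Spec R₀ := fun x => (𝒲 x).f (j x) ≫ g x
  have hq : ∀ x, Etale (q x) := fun x => by
    haveI := hg x
    haveI : IsOpenImmersion ((𝒲 x).f (j x)) := (𝒲 x).map_prop (j x)
    infer_instance
  have hxq : ∀ x, x ∈ Set.range (q x) := by
    intro x
    obtain ⟨y, hy⟩ := (𝒲 x).covers (s' x)
    refine ⟨y, ?_⟩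
    change ((𝒲 x).f (j x) ≫ g x) y = x
    rw [Scheme.Hom.comp_apply, hy, hgs, hp]
  have hopen : ∀ x, IsOpen (Set.range (q x)) := fun x => by
    haveI := hq x
    exact (q x).isOpenMap.isOpen_range
  obtain ⟨t, ht⟩ := isCompact_univ.elim_finite_subcover (fun x => Set.range (q x)) hopen
    (fun y _ => Set.mem_iUnion.mpr ⟨y, hxq y⟩)
  -- ring maps
  let ψ : ∀ x, R₀ ⟶ A x := fun x => Spec.preimage (q x)
  have hψ : ∀ x, Spec.map (ψ x) = q x := fun x => Spec.map_preimage _
  letI alg : ∀ x : t, Algebra R₀ (A x.1) := fun x => (ψ x.1).hom.toAlgebra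
  have het : ∀ x : t, Algebra.Etale R₀ (A x.1) := fun x => by
    have h1 : Etale (Spec.map (ψ x.1)) := by rw [hψ]; exact hq x.1
    have h2 : (ψ x.1).hom.Etale := HasRingHomProperty.Spec_iff.mp h1
    exact RingHom.etale_algebraMap.mp h2
  have hflat : Module.Flat R₀ (∀ x : t, A x.1) := inferInstance
  refine ⟨∀ x : t, A x.1, inferInstance, inferInstance, inferInstance, ?_, ?_⟩
  · -- faithfully flat
    apply Module.FaithfullyFlat.of_comap_surjective
    intro y
    obtain ⟨x, hx, z, hz⟩ := Set.mem_iUnion₂.mp (ht (Set.mem_univ y))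
    refine ⟨PrimeSpectrum.comap (Pi.evalRingHom (fun x : t => A x.1) ⟨x, hx⟩) z, ?_⟩
    rw [← hψ] at hz
    rw [← hz]
    rfl
  · -- the section
    let F : t → CommRingCat.{u} := fun x => A x.1
    refine ⟨inv (sigmaSpec F) ≫ Sigma.desc (fun x : t => (𝒲 x.1).f (j x.1) ≫ l x.1), ?_⟩
    rw [Category.assoc, IsIso.inv_comp_eq]
    apply Sigma.hom_ext
    intro x
    rw [Sigma.ι_desc_assoc, ι_sigmaSpec_assoc, Category.assoc, hl, ← Spec.map_comp]
    change q x.1 = _
    rw [← hψ]
    rfl

end Groth.Agent.Lib.Lead.EtaleCoverSection
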