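import Mathlib
import Groth.Prelude.Def_NonAbH2

/-!
# Equivariant maps of pseudo-torsors along a homomorphism which is an isomorphism over `E → X`
-/

set_option autoImplicit false
universe u
open CategoryTheory CategoryTheory.Limits AlgebraicGeometry MonoidalCategory CartesianMonoidalCategory
open MonObj

namespace Groth.Agent.Lib.Lead.TorsorPush

section General

variable {C : Type*} [Category C] [CartesianMonoidalCategory C] {G P : C}

theorem exists_act_eq (act : G ⊗ P ⟶ P) (h : IsIso (lift act (snd G P))) {T : C} (x y : T ⟶ P) :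
    ∃ k : T ⟶ G, lift k x ≫ act = y := by
  let w := lift y x ≫ inv (lift act (snd G P))
  have hw : w ≫ lift act (snd G P) = lift y x := by
    simp only [w, Category.assoc, IsIso.inv_hom_id, Category.comp_id]
  have h1 : w ≫ act = y := by
    have := congrArg (· ≫ fst P P) hw
    simpa using this
  have h2 : w ≫ snd G P = x := by
    have := congrArg (· ≫ snd P P) hw
    simpa using this
  refine ⟨w ≫ fst G P, ?_⟩
  have : lift (w ≫ fst G P) x = w := by
    apply CartesianMonoidalCategory.hom_ext <;> simp [h2]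
  rw [this, h1]

theorem act_injective (act : G ⊗ P ⟶ P) (h : IsIso (lift act (snd G P))) {T : C} (x : T ⟶ P)
    (k₁ k₂ : T ⟶ G) (e : lift k₁ x ≫ act = lift k₂ x ≫ act) : k₁ = k₂ := by
  have h3 : lift k₁ x ≫ lift act (snd G P) = lift k₂ x ≫ lift act (snd G P) := by
    apply CartesianMonoidalCategory.hom_ext <;> simp [e]
  have h4 := (cancel_mono _).mp h3
  simpa using congrArg (· ≫ fst G P) h4

end General

variable {X : Scheme.{u}}

theorem one_act' {G P : Over X} [GrpObj G] (a : AlgGrp.Action G P) {T : Over X} (x : T ⟶ P) :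
    lift (toUnit T ≫ η[G]) x ≫ a.act = x := by
  have : lift (toUnit T ≫ η[G]) x = lift (toUnit T) x ≫ (η[G] ▷ P) := by
    apply CartesianMonoidalCategory.hom_ext <;> simp
  rw [this, Category.assoc, a.one_act]
  simp

variable {G G' P P' : Over X} [GrpObj G] [GrpObj G'] (g : G ⟶ G') [IsMonHom g]
  {E : Scheme.{u}} (j : E ⟶ X)

theorem comp_bijective (hg : IsIso ((Over.pullback j).map g)) (T : Over E) :
    Function.Bijective (fun k : (Over.map j).obj T ⟶ G => k ≫ g) := by
  let adj := Over.mapPullbackAdj j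
  constructor
  · intro k₁ k₂ (e : k₁ ≫ g = k₂ ≫ g)
    have h1 : adj.homEquiv T G k₁ ≫ (Over.pullback j).map g
        = adj.homEquiv T G k₂ ≫ (Over.pullback j).map g := by
      rw [← adj.homEquiv_naturality_right, ← adj.homEquiv_naturality_right, e]
    exact (adj.homEquiv T G).injective ((cancel_mono _).mp h1)
  · intro k'
    refine ⟨(adj.homEquiv T G).symm (adj.homEquiv T G' k' ≫ inv ((Over.pullback j).map g)), ?_⟩
    apply (adj.homEquiv T G').injective
    change adj.homEquiv T G' (_ ≫ g) = _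
    rw [adj.homEquiv_naturality_right]
    simp

theorem unique_lift (hg : IsIso ((Over.pullback j).map g))
    (a : AlgGrp.Action G P) (a' : AlgGrp.Action G' P')
    (ha : NonAbH1.IsPseudoTorsorSch a) (ha' : NonAbH1.IsPseudoTorsorSch a') (f : P ⟶ P')
    (hf : a.act ≫ f = lift (fst G P ≫ g) (snd G P ≫ f) ≫ a'.act) (T : Over E)
    (x y : (Over.map j).obj T ⟶ P) (e : x ≫ f = y ≫ f) : x = y := by
  obtain ⟨k, hk⟩ := exists_act_eq a.act ha x y
  have h1 : y ≫ f = lift (k ≫ g) (x ≫ f) ≫ a'.act := by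
    rw [← hk, Category.assoc, hf, ← Category.assoc]
    congr 1
    apply CartesianMonoidalCategory.hom_ext <;> simp
  have h2 : x ≫ f = lift (toUnit _ ≫ η[G']) (x ≫ f) ≫ a'.act := (one_act' a' _).symm
  have h3 : k ≫ g = toUnit _ ≫ η[G'] := by
    apply act_injective a'.act ha' (x ≫ f)
    rw [← h1, ← h2, e]
  have h4 : k = toUnit _ ≫ η[G] := by
    apply (comp_bijective g j hg T).1
    change k ≫ g = (toUnit _ ≫ η[G]) ≫ g
    rw [h3, Category.assoc, IsMonHom.one_hom]
  rw [← hk, h4, one_act']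

theorem exists_lift (hg : IsIso ((Over.pullback j).map g))
    (a : AlgGrp.Action G P) (a' : AlgGrp.Action G' P')
    (ha' : NonAbH1.IsPseudoTorsorSch a') (f : P ⟶ P')
    (hf : a.act ≫ f = lift (fst G P ≫ g) (snd G P ≫ f) ≫ a'.act) (T : Over E)
    (x₀ : (Over.map j).obj T ⟶ P) (p' : (Over.map j).obj T ⟶ P') :
    ∃ z : (Over.map j).obj T ⟶ P, z ≫ f = p' := by
  obtain ⟨k', hk'⟩ := exists_act_eq a'.act ha' (x₀ ≫ f) p'
  obtain ⟨k, hk⟩ := (comp_bijective g j hg T).2 k'
  refine ⟨lift k x₀ ≫ a.act, ?_⟩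
  rw [Category.assoc, hf, ← hk', ← Category.assoc]
  congr 1
  apply CartesianMonoidalCategory.hom_ext <;> simp [← hk]


omit [GrpObj G] [GrpObj G'] [IsMonHom g] in
/-- `Spec` of the function field has exactly one point; a flat lfp map to it from a nonempty scheme
is an effective epi, so maps descend. -/
theorem surjective_of_nonempty_of_field {V : Scheme.{u}} {K : CommRingCat.{u}} (hK : IsField K)
    (v : V ⟶ Spec K) [Nonempty V] : Surjective v := by
  refine ⟨fun e => ?_⟩
  obtain ⟨x⟩ := ‹Nonempty V›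
  have h1 : Subsingleton (PrimeSpectrum K) :=
    @Unique.instSubsingleton _ (@PrimeSpectrum.instUnique K hK.toField)
  haveI : Subsingleton ↥(Spec K) := h1
  exact ⟨x, Subsingleton.elim _ _⟩

theorem hasSectionOver_generic [IsIntegral X]
    (hg : IsIso ((Over.pullback (X.fromSpecStalk (genericPoint X))).map g))
    (a : AlgGrp.Action G P) (hP : NonAbH1.IsTorsorFor Scheme.fppfPrecoverage a)
    (a' : AlgGrp.Action G' P') (hpt' : NonAbH1.IsPseudoTorsorSch a')
    (hpush : NonAbH1.IsPushforwardAlongSch g a a') (htriv : NonAbH1.HasSectionOver P' (𝟙 X)) :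
    NonAbH1.HasSectionOver P (X.fromSpecStalk (genericPoint X)) := by
  obtain ⟨f, hf⟩ := hpush
  obtain ⟨σ', hσ'⟩ := htriv
  obtain ⟨hpt, R, hR, hsec⟩ := hP
  obtain ⟨U, u, hu, ξ, hξ⟩ :=
    Scheme.JointlySurjective.exists_eq
      (K := Scheme.precoverage (@Flat ⊓ @LocallyOfFinitePresentation)) R hR (genericPoint X)
  have hu' : (@Flat ⊓ @LocallyOfFinitePresentation : MorphismProperty Scheme.{u}) u := hR.2 hu
  haveI : Flat u := hu'.1
  haveI : LocallyOfFinitePresentation u := hu'.2
  obtain ⟨t, ht⟩ := hsec u hu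
  set j := X.fromSpecStalk (genericPoint X) with hj
  let v : pullback u j ⟶ Spec (X.presheaf.stalk (genericPoint X)) := pullback.snd u j
  haveI : Nonempty ↥(pullback u j) := by
    obtain ⟨z, -⟩ := Scheme.Pullback.exists_preimage_pullback (f := u) (g := j) ξ
      (IsLocalRing.closedPoint (X.presheaf.stalk (genericPoint X)))
      (by rw [hξ, hj, Scheme.fromSpecStalk_closedPoint])
    exact ⟨z⟩
  have hK : IsField (X.presheaf.stalk (genericPoint X)) := Field.toIsField X.functionField
  haveI : Surjective v := surjective_of_nonempty_of_field hK v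
  let T : Over (Spec (X.presheaf.stalk (genericPoint X))) := Over.mk v
  let x₀ : (Over.map j).obj T ⟶ P := Over.homMk (pullback.fst u j ≫ t)
    (by simp [T, v, ht, pullback.condition])
  let p' : (Over.map j).obj T ⟶ P' := Over.homMk (v ≫ j ≫ σ') (by simp [T, hσ'])
  obtain ⟨z, hz⟩ := exists_lift g j hg a a' hpt' f hf T x₀ p'
  have hdesc : ∀ {Z : Scheme.{u}} (g₁ g₂ : Z ⟶ pullback u j), g₁ ≫ v = g₂ ≫ v →
      g₁ ≫ z.left = g₂ ≫ z.left := by
    intro Z g₁ g₂ h12
    let T2 : Over (Spec (X.presheaf.stalk (genericPoint X))) := Over.mk (g₁ ≫ v)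
    have hzw : z.left ≫ P.hom = v ≫ j := Over.w z
    let x1 : (Over.map j).obj T2 ⟶ P := Over.homMk (g₁ ≫ z.left) (by simp [T2, hzw])
    let x2 : (Over.map j).obj T2 ⟶ P := Over.homMk (g₂ ≫ z.left)
      (by simp [T2, hzw, reassoc_of% h12])
    have hzl : z.left ≫ f.left = v ≫ j ≫ σ' := congrArg CommaMorphism.left hz
    have h := unique_lift g j hg a a' hpt hpt' f hf T2 x1 x2
      (by ext; simp [x1, x2, hzl, reassoc_of% h12])
    exact congrArg CommaMorphism.left h
  refine ⟨EffectiveEpi.desc v z.left hdesc, ?_⟩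
  rw [← cancel_epi v, ← Category.assoc, EffectiveEpi.fac]
  exact Over.w z

end Groth.Agent.Lib.Lead.TorsorPush
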