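import Mathlib
import Groth.Prelude.Def_NonAbH2
import Groth.Agent.Lib.Helper15.GaPts
import Groth.Agent.Lib.Lead.AmitsurH1
import Groth.Agent.Lib.Lead.EtaleCoverSection
import Groth.Agent.Lib.Lead.TorsorPush

/-!
# Torsors under the additive group over an affine scheme are trivial (lead)
-/

set_option autoImplicit false
universe u
open CategoryTheory CategoryTheory.Limits MonoidalCategory CartesianMonoidalCategory MonObj
  AlgebraicGeometry
open scoped TensorProduct

namespace Groth.Agent.Lib.Lead.GaTorsor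

section Calc

variable {S : Scheme.{u}} {G P : Over S} [GrpObj G] (a : AlgGrp.Action G P)

/-- The action on `T`-points. -/
noncomputable def smul {T : Over S} (g : T ⟶ G) (x : T ⟶ P) : T ⟶ P := lift g x ≫ a.act

theorem mul_smul {T : Over S} (g h : T ⟶ G) (x : T ⟶ P) :
    smul a (g * h) x = smul a g (smul a h x) := by
  unfold smul
  rw [Hom.mul_def]
  have h1 : lift (lift g h ≫ μ[G]) x = lift (lift g h) x ≫ (μ[G] ▷ P) := by
    apply CartesianMonoidalCategory.hom_ext <;> simp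
  rw [h1, Category.assoc, a.mul_act]
  have h2 : lift (lift g h) x ≫ (α_ G G P).hom ≫ (G ◁ a.act) = lift g (lift h x ≫ a.act) := by
    apply CartesianMonoidalCategory.hom_ext <;> simp
  rw [← Category.assoc, ← Category.assoc, Category.assoc _ (α_ G G P).hom, h2]

theorem comp_smul {T T' : Over S} (q : T' ⟶ T) (g : T ⟶ G) (x : T ⟶ P) :
    q ≫ smul a g x = smul a (q ≫ g) (q ≫ x) := by
  unfold smul
  rw [← Category.assoc, comp_lift]

end Calc

section Ov

variable {S : Scheme.{u}} (R : CommRingCat.{u}) (j : Spec R ⟶ S)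

/-- `Spec B` as an `S`-scheme, for an `R`-algebra `B`. -/
noncomputable def ov (B : Type u) [CommRing B] [Algebra R B] : Over S :=
  Over.mk (Spec.map (CommRingCat.ofHom (algebraMap R B)) ≫ j)

variable {B C D : Type u} [CommRing B] [CommRing C] [CommRing D] [Algebra R B] [Algebra R C]
  [Algebra R D]

/-- The morphism of `S`-schemes induced by a map of `R`-algebras. -/
noncomputable def ovMap (φ : B →ₐ[R] C) : ov R j C ⟶ ov R j B :=
  Over.homMk (Spec.map (CommRingCat.ofHom φ.toRingHom)) (by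
    change Spec.map _ ≫ Spec.map _ ≫ j = Spec.map _ ≫ j
    rw [← Category.assoc, ← Spec.map_comp]
    congr 2
    ext r
    exact φ.commutes r)

theorem ovMap_comp (φ : B →ₐ[R] C) (ψ : C →ₐ[R] D) :
    ovMap R j (ψ.comp φ) = ovMap R j ψ ≫ ovMap R j φ := by
  apply Over.OverMorphism.ext
  change Spec.map _ = Spec.map _ ≫ Spec.map _
  rw [← Spec.map_comp]
  rfl

/-- The function attached to a point of the additive group. -/
noncomputable def fn (c : ov R j B ⟶ Red.Ga S) : B :=
  (Scheme.ΓSpecIso (CommRingCat.of B)).hom (Red.gaFn c)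

/-- The point of the additive group attached to a function. -/
noncomputable def pt (b : B) : ov R j B ⟶ Red.Ga S :=
  Groth.Agent.Lib.Helper15.GaPts.ptOfFn ((Scheme.ΓSpecIso (CommRingCat.of B)).inv b)

theorem fn_pt (b : B) : fn R j (pt R j b) = b := by
  unfold fn pt
  rw [Groth.Agent.Lib.Helper15.GaPts.gaFn_ptOfFn]
  exact congr($((Scheme.ΓSpecIso (CommRingCat.of B)).inv_hom_id) b)

theorem fn_injective {c c' : ov R j B ⟶ Red.Ga S} (h : fn R j c = fn R j c') : c = c' := by
  apply Groth.Agent.Lib.Helper15.GaPts.eq_of_gaFn_eq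
  have := congrArg (Scheme.ΓSpecIso (CommRingCat.of B)).inv h
  unfold fn at this
  have e : ∀ y, (Scheme.ΓSpecIso (CommRingCat.of B)).inv
      ((Scheme.ΓSpecIso (CommRingCat.of B)).hom y) = y :=
    fun y => congr($((Scheme.ΓSpecIso (CommRingCat.of B)).hom_inv_id) y)
  rwa [e, e] at this

theorem fn_mul (c c' : ov R j B ⟶ Red.Ga S) : fn R j (c * c') = fn R j c + fn R j c' := by
  unfold fn
  rw [Groth.Agent.Lib.Helper15.GaPts.gaFn_mul]
  exact map_add (Scheme.ΓSpecIso (CommRingCat.of B)).hom.hom _ _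

theorem fn_comp (φ : B →ₐ[R] C) (c : ov R j B ⟶ Red.Ga S) :
    fn R j (ovMap R j φ ≫ c) = φ (fn R j c) := by
  unfold fn
  rw [Groth.Agent.Lib.Helper15.GaPts.gaFn_comp]
  exact congr($(Scheme.ΓSpecIso_naturality (CommRingCat.ofHom φ.toRingHom)) (Red.gaFn c))

end Ov

section Main

variable {S : Scheme.{u}}

open Groth.Agent.Lib.Lead

/-- A pseudo-torsor under the additive group which is smooth and surjective over `S` has a section
over every affine scheme mapping to `S`. -/
theorem exists_section (P : Over S) (a : AlgGrp.Action (Red.Ga S) P)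
    (hps : NonAbH1.IsPseudoTorsorSch a) [Smooth P.hom] [Surjective P.hom]
    (R : CommRingCat.{u}) (j : Spec R ⟶ S) : ∃ s : Spec R ⟶ P.left, s ≫ P.hom = j := by
  obtain ⟨R', iR', iA', hEt, hFF, t₀, ht₀⟩ :=
    Groth.Agent.Lib.Lead.EtaleCoverSection.exists_etale_faithfullyFlat_section R
      (pullback.snd P.hom j)
  let f : Spec (CommRingCat.of R') ⟶ Spec R := Spec.map (CommRingCat.ofHom (algebraMap R R'))
  let x : Spec (CommRingCat.of R') ⟶ P.left := t₀ ≫ pullback.fst P.hom j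
  have hx : x ≫ P.hom = f ≫ j := by
    rw [Category.assoc, pullback.condition, ← Category.assoc, ht₀]
  let xO : ov R j R' ⟶ P := Over.homMk x hx
  -- algebra maps
  let e₁ : R' →ₐ[R] R' ⊗[R] R' := Algebra.TensorProduct.includeLeft
  let e₂ : R' →ₐ[R] R' ⊗[R] R' := Algebra.TensorProduct.includeRight
  let J12 : R' ⊗[R] R' →ₐ[R] (R' ⊗[R] R') ⊗[R] R' := Algebra.TensorProduct.includeLeft
  let J13 : R' ⊗[R] R' →ₐ[R] (R' ⊗[R] R') ⊗[R] R' :=
    Algebra.TensorProduct.map (Algebra.TensorProduct.includeLeft) (AlgHom.id R R')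
  let J23 : R' ⊗[R] R' →ₐ[R] (R' ⊗[R] R') ⊗[R] R' :=
    Algebra.TensorProduct.map (Algebra.TensorProduct.includeRight) (AlgHom.id R R')
  have h121 : J12.comp e₁ = J13.comp e₁ := by
    ext r
    simp [J12, J13, e₁]
  have h122 : J12.comp e₂ = J23.comp e₁ := by
    ext r
    simp [J12, J23, e₁, e₂]
  have h132 : J13.comp e₂ = J23.comp e₂ := by
    ext r
    simp [J13, J23, e₂]
  obtain ⟨c, hc⟩ := TorsorPush.exists_act_eq a.act hps (ovMap R j e₁ ≫ xO) (ovMap R j e₂ ≫ xO)
  have hc' : smul a c (ovMap R j e₁ ≫ xO) = ovMap R j e₂ ≫ xO := hc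
  -- the cocycle condition
  have s1 : smul a (ovMap R j J12 ≫ c) (ovMap R j (J12.comp e₁) ≫ xO) =
      ovMap R j (J12.comp e₂) ≫ xO := by
    rw [ovMap_comp, Category.assoc, ← comp_smul, hc', ← Category.assoc, ← ovMap_comp]
  have s2 : smul a (ovMap R j J23 ≫ c) (ovMap R j (J12.comp e₂) ≫ xO) =
      ovMap R j (J23.comp e₂) ≫ xO := by
    rw [h122, ovMap_comp, Category.assoc, ← comp_smul, hc', ← Category.assoc, ← ovMap_comp]
  have s3 : smul a (ovMap R j J13 ≫ c) (ovMap R j (J12.comp e₁) ≫ xO) =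
      ovMap R j (J23.comp e₂) ≫ xO := by
    rw [h121, ovMap_comp, Category.assoc, ← comp_smul, hc', ← Category.assoc, ← ovMap_comp, h132]
  have hcoc : (ovMap R j J23 ≫ c) * (ovMap R j J12 ≫ c) = ovMap R j J13 ≫ c := by
    apply TorsorPush.act_injective a.act hps (ovMap R j (J12.comp e₁) ≫ xO)
    change smul a _ _ = smul a _ _
    rw [mul_smul, s1, s2, s3]
  have hcoc' : J23 (fn R j c) + J12 (fn R j c) = J13 (fn R j c) := by
    have := congrArg (fn R j) hcoc
    rwa [fn_mul, fn_comp, fn_comp, fn_comp] at this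
  obtain ⟨b, hb⟩ := AmitsurH1.exists_coboundary R R' (fn R j c) (by
    change J12 (fn R j c) - J13 (fn R j c) + J23 (fn R j c) = 0
    rw [← hcoc']
    abel)
  -- modify the point
  have hx' : ovMap R j e₁ ≫ smul a (pt R j b) xO = ovMap R j e₂ ≫ smul a (pt R j b) xO := by
    rw [comp_smul, comp_smul, ← hc', ← mul_smul]
    congr 1
    apply fn_injective
    rw [fn_mul, fn_comp, fn_comp, fn_pt, hb]
    change b ⊗ₜ[R] (1 : R') = (1 : R') ⊗ₜ[R] b + (b ⊗ₜ[R] (1 : R') - (1 : R') ⊗ₜ[R] b)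
    abel
  -- descent along `f`
  haveI : Module.Flat R R' := inferInstance
  have hff : (CommRingCat.ofHom (algebraMap R R')).hom.FaithfullyFlat :=
    RingHom.faithfullyFlat_algebraMap_iff.mpr hFF
  obtain ⟨hfl, hsu⟩ := (flat_and_surjective_SpecMap_iff (CommRingCat.ofHom (algebraMap R R'))).mpr hff
  haveI : Flat f := hfl
  haveI : Surjective f := hsu
  haveI : EffectiveEpi f := inferInstance
  have hpb : IsPullback (Spec.map (CommRingCat.ofHom e₁.toRingHom))
      (Spec.map (CommRingCat.ofHom e₂.toRingHom)) f f :=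
    isPullback_SpecMap_of_isPushout _ _ _ _ (CommRingCat.isPushout_tensorProduct R R' R')
  let xl : Spec (CommRingCat.of R') ⟶ P.left := (smul a (pt R j b) xO).left
  have hxl : Spec.map (CommRingCat.ofHom e₁.toRingHom) ≫ xl =
      Spec.map (CommRingCat.ofHom e₂.toRingHom) ≫ xl := congrArg CommaMorphism.left hx'
  have hdesc : ∀ {Z : Scheme.{u}} (g₁ g₂ : Z ⟶ Spec (CommRingCat.of R')), g₁ ≫ f = g₂ ≫ f →
      g₁ ≫ xl = g₂ ≫ xl := by
    intro Z g₁ g₂ h
    obtain ⟨l, hl1, hl2⟩ : ∃ l : Z ⟶ Spec (CommRingCat.of (R' ⊗[R] R')),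
        l ≫ Spec.map (CommRingCat.ofHom e₁.toRingHom) = g₁ ∧
        l ≫ Spec.map (CommRingCat.ofHom e₂.toRingHom) = g₂ :=
      ⟨hpb.lift g₁ g₂ h, hpb.lift_fst g₁ g₂ h, hpb.lift_snd g₁ g₂ h⟩
    rw [← hl1, ← hl2, Category.assoc, Category.assoc, hxl]
  refine ⟨EffectiveEpi.desc f xl hdesc, ?_⟩
  rw [← cancel_epi f, ← Category.assoc, EffectiveEpi.fac]
  exact Over.w (smul a (pt R j b) xO)

end Main

end Groth.Agent.Lib.Lead.GaTorsor
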