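import Groth.Agent.Lib.Lead.Inv5

/-!
# Sheafification commutes with tensoring by an invertible module; associativity, commutativity
and the laws of tensor powers for invertible modules (lead seat library)
-/

set_option autoImplicit false
universe u

open AlgebraicGeometry CategoryTheory Opposite TopologicalSpace MonoidalCategory Limits

namespace Groth.Agent.Lib.Lead.Inv

open Groth.Agent.Lib.Lead.QCohAff

variable {X : Scheme.{u}}

open TensorProduct in
theorem tmul_right_bijective {R A C : Type*} [CommRing R] [AddCommGroup A] [Module R A]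
    [AddCommGroup C] [Module R C] (e : C) (he : Function.Bijective (fun r : R => r • e)) :
    Function.Bijective (fun a : A => a ⊗ₜ[R] e) := by
  let φ : R ≃ₗ[R] C := LinearEquiv.ofBijective (LinearMap.toSpanSingleton R C e) he
  let Ψ : A ≃ₗ[R] A ⊗[R] C :=
    (TensorProduct.rid R A).symm ≪≫ₗ TensorProduct.congr (LinearEquiv.refl R A) φ
  have hΨ : ∀ a : A, Ψ a = a ⊗ₜ[R] e := by
    intro a
    have h1 : Ψ a = a ⊗ₜ[R] φ 1 := by simp [Ψ]
    have h2 : φ 1 = e := by
      change (LinearMap.toSpanSingleton R C e) 1 = e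
      rw [LinearMap.toSpanSingleton_apply, one_smul]
    rw [h1, h2]
  have : (fun a : A => a ⊗ₜ[R] e) = Ψ := by funext a; exact (hΨ a).symm
  rw [this]
  exact Ψ.bijective

theorem abmap_comp (F : (Opens X)ᵒᵖ ⥤ AddCommGrpCat.{u}) {U V W : X.Opens} (i : W ⟶ V) (j : V ⟶ U)
    (z : F.obj (op U)) : F.map (i ≫ j).op z = F.map i.op (F.map j.op z) := by
  rw [op_comp, F.map_comp]
  rfl

variable (P Q : CohB1.PMod X) (φ : P ⟶ Q) (C : X.Modules)

/-- elements `p ⊗ c` of the presheaf tensor product -/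
noncomputable def pt {W : X.Opens} (p : P.obj (op W)) (c : Γ(C, W)) :
    (P ⊗ CohB1.toPMod C).obj (op W) :=
  p ⊗ₜ[X.sheaf.obj.obj (op W)] (show (CohB1.toPMod C).obj (op W) from c)

theorem whiskerRight_pt {W : X.Opens} (p : P.obj (op W)) (c : Γ(C, W)) :
    ((φ ▷ CohB1.toPMod C).app (op W)).hom (pt P C p c) = pt Q C ((φ.app (op W)).hom p) c := rfl

theorem pt_res {W W' : X.Opens} (h : W' ≤ W) (p : P.obj (op W)) (c : Γ(C, W)) :
    (P ⊗ CohB1.toPMod C).presheaf.map (homOfLE h).op (pt P C p c) =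
      pt P C (show P.obj (op W') from P.presheaf.map (homOfLE h).op p)
        (C.presheaf.map (homOfLE h).op c) := rfl

variable {P Q C}

theorem pt_bijective {U W : X.Opens} {e : Γ(C, U)} (he : IsGen C U e) (hW : W ≤ U) :
    Function.Bijective (fun p : P.obj (op W) => pt P C p (C.presheaf.map (homOfLE hW).op e)) :=
  tmul_right_bijective (R := X.sheaf.obj.obj (op W)) (A := P.obj (op W))
    (C := (CohB1.toPMod C).obj (op W)) _ (he W hW)

variable (J : GrothendieckTopology X.Opens)

theorem isLocallyInjective_whiskerRight (hC : PicF.IsInvertible C)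
    [Presheaf.IsLocallyInjective (Opens.grothendieckTopology X)
      ((PresheafOfModules.toPresheaf _).map φ)] :
    Presheaf.IsLocallyInjective (Opens.grothendieckTopology X)
      ((PresheafOfModules.toPresheaf _).map (φ ▷ CohB1.toPMod C)) := by
  rw [isInvertible_iff_exists_isGen] at hC
  constructor
  intro V z z' hzz' x hx
  obtain ⟨U, hxU, e, he⟩ := hC x
  -- restrict to `W = V ⊓ U`
  have hWV : V.unop ⊓ U ≤ V.unop := inf_le_left
  have hWU : V.unop ⊓ U ≤ U := inf_le_right
  obtain ⟨p, hp⟩ := (pt_bijective (P := P) he hWU).2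
    ((P ⊗ CohB1.toPMod C).presheaf.map (homOfLE hWV).op z)
  obtain ⟨p', hp'⟩ := (pt_bijective (P := P) he hWU).2
    ((P ⊗ CohB1.toPMod C).presheaf.map (homOfLE hWV).op z')
  -- naturality
  have hnat : ∀ y : (P ⊗ CohB1.toPMod C).presheaf.obj V,
      ((PresheafOfModules.toPresheaf _).map (φ ▷ CohB1.toPMod C)).app (op (V.unop ⊓ U))
        ((P ⊗ CohB1.toPMod C).presheaf.map (homOfLE hWV).op y) =
      (Q ⊗ CohB1.toPMod C).presheaf.map (homOfLE hWV).op
        (((PresheafOfModules.toPresheaf _).map (φ ▷ CohB1.toPMod C)).app V y) := by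
    intro y
    exact PresheafOfModules.naturality_apply (φ ▷ CohB1.toPMod C) (homOfLE hWV).op y
  have h1 := (hnat z).trans ((congrArg _ hzz').trans (hnat z').symm)
  rw [← hp, ← hp'] at h1
  have h2 : pt Q C ((φ.app (op (V.unop ⊓ U))).hom p) (C.presheaf.map (homOfLE hWU).op e) =
      pt Q C ((φ.app (op (V.unop ⊓ U))).hom p') (C.presheaf.map (homOfLE hWU).op e) := h1
  have h3 := (pt_bijective (P := Q) he hWU).1 h2
  have h4 := Presheaf.equalizerSieve_mem (Opens.grothendieckTopology X)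
    ((PresheafOfModules.toPresheaf _).map φ) (X := op (V.unop ⊓ U)) p p' h3
  obtain ⟨W', i, hi, hxW'⟩ := h4 x ⟨hx, hxU⟩
  refine ⟨W', i ≫ homOfLE hWV, ?_, hxW'⟩
  change (P ⊗ CohB1.toPMod C).presheaf.map (i ≫ homOfLE hWV).op z =
    (P ⊗ CohB1.toPMod C).presheaf.map (i ≫ homOfLE hWV).op z'
  have ez := abmap_comp (P ⊗ CohB1.toPMod C).presheaf i (homOfLE hWV) z
  have ez' := abmap_comp (P ⊗ CohB1.toPMod C).presheaf i (homOfLE hWV) z'
  refine ez.trans (Eq.trans ?_ ez'.symm)
  have hi' : P.presheaf.map i.op p = P.presheaf.map i.op p' := hi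
  have e1 : i = homOfLE (leOfHom i) := rfl
  have hp1 : pt P C p (C.presheaf.map (homOfLE hWU).op e) =
    (P ⊗ CohB1.toPMod C).presheaf.map (homOfLE hWV).op z := hp
  have hp1' : pt P C p' (C.presheaf.map (homOfLE hWU).op e) =
    (P ⊗ CohB1.toPMod C).presheaf.map (homOfLE hWV).op z' := hp'
  rw [← hp1, ← hp1', e1, pt_res, pt_res]
  rw [e1] at hi'
  rw [hi']

theorem isLocallySurjective_whiskerRight (hC : PicF.IsInvertible C)
    [hφ : Presheaf.IsLocallySurjective (Opens.grothendieckTopology X)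
      ((PresheafOfModules.toPresheaf _).map φ)] :
    Presheaf.IsLocallySurjective (Opens.grothendieckTopology X)
      ((PresheafOfModules.toPresheaf _).map (φ ▷ CohB1.toPMod C)) := by
  rw [isInvertible_iff_exists_isGen] at hC
  refine (TopCat.Presheaf.isLocallySurjective_iff (X := X.toTopCat) _).mpr ?_
  intro V y x hx
  obtain ⟨U, hxU, e, he⟩ := hC x
  have hWV : V ⊓ U ≤ V := inf_le_left
  have hWU : V ⊓ U ≤ U := inf_le_right
  obtain ⟨q, hq⟩ := (pt_bijective (P := Q) he hWU).2
    ((Q ⊗ CohB1.toPMod C).presheaf.map (homOfLE hWV).op y)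
  have hq1 : pt Q C q (C.presheaf.map (homOfLE hWU).op e) =
    (Q ⊗ CohB1.toPMod C).presheaf.map (homOfLE hWV).op y := hq
  have h := (TopCat.Presheaf.isLocallySurjective_iff (X := X.toTopCat)
    ((PresheafOfModules.toPresheaf _).map φ)).mp hφ (V ⊓ U) q x ⟨hx, hxU⟩
  obtain ⟨W', hW', ⟨p, hp⟩, hxW'⟩ := h
  refine ⟨W', hW'.trans hWV, ⟨pt P C p (C.presheaf.map (homOfLE (hW'.trans hWU)).op e), ?_⟩, hxW'⟩
  have hp1 : (φ.app (op W')).hom p = (show Q.obj (op W') from Q.presheaf.map (homOfLE hW').op q) :=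
    hp
  have e1 : ((PresheafOfModules.toPresheaf _).map (φ ▷ CohB1.toPMod C)).app (op W')
      (pt P C p (C.presheaf.map (homOfLE (hW'.trans hWU)).op e)) =
      pt Q C ((φ.app (op W')).hom p) (C.presheaf.map (homOfLE (hW'.trans hWU)).op e) :=
    whiskerRight_pt P Q φ C p _
  refine e1.trans ?_
  rw [hp1]
  have e2 := abmap_comp (Q ⊗ CohB1.toPMod C).presheaf (homOfLE hW') (homOfLE hWV) y
  refine Eq.trans ?_ e2.symm
  rw [← hq1, pt_res, res_res]

/-- Sheafification on `CohB1.PMod X`. -/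
noncomputable def shP (X : Scheme.{u}) : CohB1.PMod X ⥤ X.Modules := CohB1.sheafifyMod X

theorem tensorMod_eq_shP (M N : X.Modules) :
    CohB1.tensorMod M N = (shP X).obj (CohB1.toPMod M ⊗ CohB1.toPMod N) := rfl

/-- The unit of sheafification on `CohB1.PMod X`. -/
noncomputable def ηP (P : CohB1.PMod X) : P ⟶ CohB1.toPMod ((shP X).obj P) := ηT P

instance (P : CohB1.PMod X) :
    Presheaf.IsLocallyInjective (Opens.grothendieckTopology X)
      ((PresheafOfModules.toPresheaf _).map (ηP P)) :=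
  Presheaf.isLocallyInjective_toSheafify' (Opens.grothendieckTopology X) P.presheaf

instance (P : CohB1.PMod X) :
    Presheaf.IsLocallySurjective (Opens.grothendieckTopology X)
      ((PresheafOfModules.toPresheaf _).map (ηP P)) :=
  Presheaf.isLocallySurjective_toSheafify' (Opens.grothendieckTopology X) P.presheaf

theorem isIso_shP_map_of_locBij {P Q : CohB1.PMod X} (ψ : P ⟶ Q)
    [Presheaf.IsLocallyInjective (Opens.grothendieckTopology X)
      ((PresheafOfModules.toPresheaf _).map ψ)]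
    [Presheaf.IsLocallySurjective (Opens.grothendieckTopology X)
      ((PresheafOfModules.toPresheaf _).map ψ)] :
    IsIso ((shP X).map ψ) := by
  have hW : (Opens.grothendieckTopology X).W ((PresheafOfModules.toPresheaf _).map ψ) :=
    (Opens.grothendieckTopology X).W_of_isLocallyBijective _
  have h1 : IsIso ((presheafToSheaf (Opens.grothendieckTopology X) AddCommGrpCat.{u}).map
      ((PresheafOfModules.toPresheaf _).map ψ)) :=
    ((Opens.grothendieckTopology X).W_iff _).mp hW
  have h2 : IsIso ((SheafOfModules.toSheaf.{u} X.ringCatSheaf).map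
      ((shP X).map ψ)) := h1
  have h3 : IsIso ((Scheme.Modules.toPresheaf X).map ((shP X).map ψ)) :=
    (sheafToPresheaf _ _).map_isIso
      ((SheafOfModules.toSheaf.{u} X.ringCatSheaf).map ((shP X).map ψ))
  exact isIso_of_reflects_iso _ (Scheme.Modules.toPresheaf X)

/-- Sheafification commutes with tensoring with an invertible module (on the right). -/
theorem isIso_shP_whiskerRight_η (P : CohB1.PMod X) (hC : PicF.IsInvertible C) :
    IsIso ((shP X).map (ηP P ▷ CohB1.toPMod C)) := by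
  have := isLocallyInjective_whiskerRight (φ := ηP P) (C := C) hC
  have := isLocallySurjective_whiskerRight (φ := ηP P) (C := C) hC
  exact isIso_shP_map_of_locBij _

/-- Sheafification commutes with tensoring with an invertible module (on the left). -/
theorem isIso_shP_whiskerLeft_η (P : CohB1.PMod X) (hC : PicF.IsInvertible C) :
    IsIso ((shP X).map (CohB1.toPMod C ◁ ηP P)) := by
  have h := isIso_shP_whiskerRight_η P hC
  have e : CohB1.toPMod C ◁ ηP P = (β_ (CohB1.toPMod C) P).hom ≫ (ηP P ▷ CohB1.toPMod C) ≫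
      (β_ (CohB1.toPMod C) (CohB1.toPMod ((shP X).obj P))).inv := by
    rw [← Category.assoc, ← BraidedCategory.braiding_naturality_right, Category.assoc,
      Iso.hom_inv_id, Category.comp_id]
  rw [e, Functor.map_comp, Functor.map_comp]
  infer_instance

theorem nonempty_assoc (A B C : X.Modules) (hA : PicF.IsInvertible A)
    (hC : PicF.IsInvertible C) :
    Nonempty (CohB1.tensorMod (CohB1.tensorMod A B) C ≅
      CohB1.tensorMod A (CohB1.tensorMod B C)) := by
  have h1 := isIso_shP_whiskerRight_η (C := C) (CohB1.toPMod A ⊗ CohB1.toPMod B) hC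
  have h2 := isIso_shP_whiskerLeft_η (C := A) (CohB1.toPMod B ⊗ CohB1.toPMod C) hA
  let i1 : (shP X).obj ((CohB1.toPMod A ⊗ CohB1.toPMod B) ⊗ CohB1.toPMod C) ≅
      CohB1.tensorMod (CohB1.tensorMod A B) C :=
    @asIso _ _ _ _ ((shP X).map (ηP (CohB1.toPMod A ⊗ CohB1.toPMod B) ▷ CohB1.toPMod C)) h1
  let i3 : (shP X).obj (CohB1.toPMod A ⊗ (CohB1.toPMod B ⊗ CohB1.toPMod C)) ≅
      CohB1.tensorMod A (CohB1.tensorMod B C) :=
    @asIso _ _ _ _ ((shP X).map (CohB1.toPMod A ◁ ηP (CohB1.toPMod B ⊗ CohB1.toPMod C))) h2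
  exact ⟨i1.symm ≪≫ (shP X).mapIso (α_ _ _ _) ≪≫ i3⟩

theorem nonempty_comm (A B : X.Modules) :
    Nonempty (CohB1.tensorMod A B ≅ CohB1.tensorMod B A) :=
  ⟨(shP X).mapIso (β_ (CohB1.toPMod A) (CohB1.toPMod B))⟩

theorem nonempty_unit_right (A : X.Modules) :
    Nonempty (CohB1.tensorMod A (Coh.structureModule X) ≅ A) := by
  obtain ⟨e⟩ := nonempty_comm A (Coh.structureModule X)
  obtain ⟨e'⟩ := Groth.Agent.Lib.Helper60.TensorLib.nonempty_tensorMod_unit_left A
  exact ⟨e ≪≫ e'⟩

open Groth.Agent.Lib.Helper60.TensorLib in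
theorem nonempty_tensorPow_add {L : X.Modules} (hL : PicF.IsInvertible L) (a b : ℕ) :
    Nonempty (CohB1.tensorPow L (a + b) ≅
      CohB1.tensorMod (CohB1.tensorPow L a) (CohB1.tensorPow L b)) := by
  induction b with
  | zero =>
    obtain ⟨e⟩ := nonempty_unit_right (CohB1.tensorPow L a)
    exact ⟨e.symm⟩
  | succ b ih =>
    obtain ⟨e⟩ := ih
    obtain ⟨α⟩ := nonempty_assoc (CohB1.tensorPow L a) (CohB1.tensorPow L b) L
      (isInvertible_tensorPow hL a) hL
    exact ⟨tensorModCongrLeft e L ≪≫ α⟩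

open Groth.Agent.Lib.Helper60.TensorLib in
theorem nonempty_tensorPow_mul {L : X.Modules} (hL : PicF.IsInvertible L) (a b : ℕ) :
    Nonempty (CohB1.tensorPow (CohB1.tensorPow L a) b ≅ CohB1.tensorPow L (a * b)) := by
  induction b with
  | zero => exact ⟨Iso.refl _⟩
  | succ b ih =>
    obtain ⟨e⟩ := ih
    obtain ⟨e'⟩ := nonempty_tensorPow_add hL (a * b) a
    exact ⟨tensorModCongrLeft e (CohB1.tensorPow L a) ≪≫ e'.symm⟩

open Groth.Agent.Lib.Helper60.TensorLib in
/-- Interchange `(A ⊗ B) ⊗ (C ⊗ D) ≅ (A ⊗ C) ⊗ (B ⊗ D)` for invertible modules. -/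
theorem nonempty_interchange {A B C D : X.Modules} (hA : PicF.IsInvertible A)
    (hB : PicF.IsInvertible B) (hC : PicF.IsInvertible C) (hD : PicF.IsInvertible D) :
    Nonempty (CohB1.tensorMod (CohB1.tensorMod A B) (CohB1.tensorMod C D) ≅
      CohB1.tensorMod (CohB1.tensorMod A C) (CohB1.tensorMod B D)) := by
  obtain ⟨a1⟩ := nonempty_assoc A B (CohB1.tensorMod C D) hA (isInvertible_tensorMod hC hD)
  obtain ⟨a2⟩ := nonempty_assoc B C D hB hD
  obtain ⟨c⟩ := nonempty_comm B C
  obtain ⟨a3⟩ := nonempty_assoc C B D hC hD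
  obtain ⟨a4⟩ := nonempty_assoc A C (CohB1.tensorMod B D) hA (isInvertible_tensorMod hB hD)
  exact ⟨a1 ≪≫ tensorModCongrRight A (a2.symm ≪≫ tensorModCongrLeft c D ≪≫ a3) ≪≫ a4.symm⟩

open Groth.Agent.Lib.Helper60.TensorLib in
theorem nonempty_tensorPow_tensorMod {L L' : X.Modules} (hL : PicF.IsInvertible L)
    (hL' : PicF.IsInvertible L') (n : ℕ) :
    Nonempty (CohB1.tensorPow (CohB1.tensorMod L L') n ≅
      CohB1.tensorMod (CohB1.tensorPow L n) (CohB1.tensorPow L' n)) := by
  induction n with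
  | zero =>
    obtain ⟨e⟩ := nonempty_tensorMod_unit_left (Coh.structureModule X)
    exact ⟨e.symm⟩
  | succ n ih =>
    obtain ⟨e⟩ := ih
    obtain ⟨i⟩ := nonempty_interchange (isInvertible_tensorPow hL n) (isInvertible_tensorPow hL' n)
      hL hL'
    exact ⟨tensorModCongrLeft e (CohB1.tensorMod L L') ≪≫ i⟩

/-- Transport a section along an isomorphism class, keeping the generating locus. -/
theorem exists_section_of_iso {M M' : X.Modules} (h : Nonempty (M ≅ M'))
    (s : Coh.structureModule X ⟶ M) :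
    ∃ s' : Coh.structureModule X ⟶ M', CohB1.genLocus M' s' = CohB1.genLocus M s := by
  obtain ⟨e⟩ := h
  exact ⟨s ≫ e.hom, genLocus_comp_iso s e⟩

end Groth.Agent.Lib.Lead.Inv
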