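import Groth.Agent.Lib.Lead.SheafGlue

/-!
# Pointwise locality and gluing for sections of modules and of the structure sheaf
(lead seat library)
-/

set_option autoImplicit false
universe u

open AlgebraicGeometry CategoryTheory Opposite TopologicalSpace

namespace Groth.Agent.Lib.Lead.SheafGlue

open Groth.Agent.Lib.Lead.QCohAff

variable {X : Scheme.{u}}

/-- Two sections of a module agreeing near every point are equal. -/
theorem eq_of_locally_eq_pts (F : X.Modules) {W : X.Opens} (s t : Γ(F, W))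
    (h : ∀ x ∈ W, ∃ (V : X.Opens) (hV : V ≤ W), x ∈ V ∧
      F.presheaf.map (homOfLE hV).op s = F.presheaf.map (homOfLE hV).op t) : s = t := by
  choose V hV hxV hst using h
  refine (shf F).eq_of_locally_eq' (fun x : W => V x.1 x.2) W (fun x => homOfLE (hV x.1 x.2))
    ?_ s t (fun x => hst x.1 x.2)
  intro x hx
  exact Opens.mem_iSup.mpr ⟨⟨x, hx⟩, hxV x hx⟩

/-- Two functions agreeing near every point are equal. -/
theorem eq_of_locally_eq_ptsX {W : X.Opens} (s t : Γ(X, W))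
    (h : ∀ x ∈ W, ∃ (V : X.Opens) (hV : V ≤ W), x ∈ V ∧
      X.presheaf.map (homOfLE hV).op s = X.presheaf.map (homOfLE hV).op t) : s = t := by
  choose V hV hxV hst using h
  refine X.sheaf.eq_of_locally_eq' (fun x : W => V x.1 x.2) W (fun x => homOfLE (hV x.1 x.2))
    ?_ s t (fun x => hst x.1 x.2)
  intro x hx
  exact Opens.mem_iSup.mpr ⟨⟨x, hx⟩, hxV x hx⟩

theorem mapX_eq_of_le {U V : X.Opens} (i j : op V ⟶ op U) (s : Γ(X, V)) :
    X.presheaf.map i s = X.presheaf.map j s := by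
  rw [Subsingleton.elim i j]

/-- Gluing functions given near every point of `W`. -/
theorem exists_glue_ptsX {W : X.Opens} (V : W → X.Opens) (hV : ∀ x, V x ≤ W)
    (hxV : ∀ x : W, x.1 ∈ V x) (c : ∀ x, Γ(X, V x))
    (hc : ∀ x y, X.presheaf.map (homOfLE (inf_le_left : V x ⊓ V y ≤ V x)).op (c x) =
      X.presheaf.map (homOfLE (inf_le_right : V x ⊓ V y ≤ V y)).op (c y)) :
    ∃ r : Γ(X, W), ∀ x, X.presheaf.map (homOfLE (hV x)).op r = c x := by
  obtain ⟨r, hr, -⟩ := X.sheaf.existsUnique_gluing' V W (fun x => homOfLE (hV x)) (by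
    intro x hx
    exact Opens.mem_iSup.mpr ⟨⟨x, hx⟩, hxV ⟨x, hx⟩⟩) c (by
    intro x y
    exact hc x y)
  exact ⟨r, hr⟩

/-- Gluing sections of a module given near every point of `W`. -/
theorem exists_glue_pts (F : X.Modules) {W : X.Opens} (V : W → X.Opens) (hV : ∀ x, V x ≤ W)
    (hxV : ∀ x : W, x.1 ∈ V x) (c : ∀ x, Γ(F, V x))
    (hc : ∀ x y, F.presheaf.map (homOfLE (inf_le_left : V x ⊓ V y ≤ V x)).op (c x) =
      F.presheaf.map (homOfLE (inf_le_right : V x ⊓ V y ≤ V y)).op (c y)) :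
    ∃ r : Γ(F, W), ∀ x, F.presheaf.map (homOfLE (hV x)).op r = c x := by
  obtain ⟨r, hr, -⟩ := (shf F).existsUnique_gluing' V W (fun x => homOfLE (hV x)) (by
    intro x hx
    exact Opens.mem_iSup.mpr ⟨⟨x, hx⟩, hxV ⟨x, hx⟩⟩) c (by
    intro x y
    exact hc x y)
  exact ⟨r, hr⟩

end Groth.Agent.Lib.Lead.SheafGlue
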