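import Groth.Agent.Lib.Lead.Inv2
import Groth.Agent.Lib.Lead.SheafPts

/-!
# The canonical bilinear map into the tensor product sheaf; generators of tensor products
(lead seat library)
-/

set_option autoImplicit false
universe u

open AlgebraicGeometry CategoryTheory Opposite TopologicalSpace MonoidalCategory

namespace Groth.Agent.Lib.Lead.Inv

open Groth.Agent.Lib.Lead.QCohAff Groth.Agent.Lib.Helper35.GenLocus
  Groth.Agent.Lib.Helper35.GlobGen Groth.Agent.Lib.Lead.SheafGlue

variable {X : Scheme.{u}} (M N : X.Modules)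

/-- The unit of sheafification. -/
noncomputable def ηT (P : X.PresheafOfModules) : P ⟶ ((CohB1.sheafifyMod X).obj P).val :=
  (PresheafOfModules.sheafificationAdjunction (𝟙 X.ringCatSheaf.obj)).unit.app P

theorem ηT_toPresheaf (P : X.PresheafOfModules) :
    (PresheafOfModules.toPresheaf _).map (ηT P) =
      CategoryTheory.toSheafify (Opens.grothendieckTopology X) P.presheaf := rfl

open TensorProduct in
/-- The canonical bilinear map to the tensor product sheaf. -/
noncomputable def tmul {U : X.Opens} (m : Γ(M, U)) (n : Γ(N, U)) : Γ(CohB1.tensorMod M N, U) :=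
  ((ηT (CohB1.tensorPre M N)).app (op U)).hom
    (show (CohB1.tensorPre M N).obj (op U) from
      (show Γ(M, U) ⊗[Γ(X, U)] Γ(N, U) from m ⊗ₜ[Γ(X, U)] n))


open TensorProduct in
/-- `η` over `U` as a linear map. -/
noncomputable def ηlin (U : X.Opens) :
    (Γ(M, U) ⊗[Γ(X, U)] Γ(N, U)) →ₗ[Γ(X, U)] Γ(CohB1.tensorMod M N, U) :=
  ((ηT (CohB1.tensorPre M N)).app (op U)).hom

open TensorProduct in
theorem tmul_eq {U : X.Opens} (m : Γ(M, U)) (n : Γ(N, U)) :
    tmul M N m n = ηlin M N U (m ⊗ₜ[Γ(X, U)] n) := rfl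

open TensorProduct in
theorem ηlin_res {U V : X.Opens} (h : V ≤ U) (m : Γ(M, U)) (n : Γ(N, U)) :
    (CohB1.tensorMod M N).presheaf.map (homOfLE h).op (ηlin M N U (m ⊗ₜ[Γ(X, U)] n)) =
      ηlin M N V (M.presheaf.map (homOfLE h).op m ⊗ₜ[Γ(X, V)] N.presheaf.map (homOfLE h).op n) :=
  (PresheafOfModules.naturality_apply (ηT (CohB1.tensorPre M N)) (homOfLE h).op
    (show (CohB1.tensorPre M N).obj (op U) from
      (show Γ(M, U) ⊗[Γ(X, U)] Γ(N, U) from m ⊗ₜ[Γ(X, U)] n))).symm

theorem tmul_res {U V : X.Opens} (h : V ≤ U) (m : Γ(M, U)) (n : Γ(N, U)) :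
    (CohB1.tensorMod M N).presheaf.map (homOfLE h).op (tmul M N m n) =
      tmul M N (M.presheaf.map (homOfLE h).op m) (N.presheaf.map (homOfLE h).op n) :=
  ηlin_res M N h m n

theorem tmul_smul_left {U : X.Opens} (r : Γ(X, U)) (m : Γ(M, U)) (n : Γ(N, U)) :
    tmul M N (r • m) n = r • tmul M N m n := by
  rw [tmul_eq, tmul_eq, ← TensorProduct.smul_tmul', map_smul]

theorem tmul_smul_right {U : X.Opens} (r : Γ(X, U)) (m : Γ(M, U)) (n : Γ(N, U)) :
    tmul M N m (r • n) = r • tmul M N m n := by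
  rw [tmul_eq, tmul_eq, TensorProduct.tmul_smul, map_smul]

theorem tmul_add_left {U : X.Opens} (m m' : Γ(M, U)) (n : Γ(N, U)) :
    tmul M N (m + m') n = tmul M N m n + tmul M N m' n := by
  rw [tmul_eq, tmul_eq, tmul_eq, TensorProduct.add_tmul, map_add]

theorem tmul_add_right {U : X.Opens} (m : Γ(M, U)) (n n' : Γ(N, U)) :
    tmul M N m (n + n') = tmul M N m n + tmul M N m n' := by
  rw [tmul_eq, tmul_eq, tmul_eq, TensorProduct.tmul_add, map_add]

section local_bij
variable {M N}

theorem η_inj_local (P : X.PresheafOfModules) {U : X.Opens} (z z' : P.presheaf.obj (op U))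
    (h : (CategoryTheory.toSheafify (Opens.grothendieckTopology X) P.presheaf).app (op U) z =
      (CategoryTheory.toSheafify (Opens.grothendieckTopology X) P.presheaf).app (op U) z')
    (x : X) (hx : x ∈ U) :
    ∃ (V : X.Opens) (hV : V ≤ U), x ∈ V ∧
      P.presheaf.map (homOfLE hV).op z = P.presheaf.map (homOfLE hV).op z' := by
  have := Presheaf.equalizerSieve_mem (Opens.grothendieckTopology X)
    (CategoryTheory.toSheafify (Opens.grothendieckTopology X) P.presheaf) z z' h
  obtain ⟨V, i, hi, hxV⟩ := this x hx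
  exact ⟨V, leOfHom i, hxV, hi⟩

theorem η_surj_local (P : X.PresheafOfModules) {U : X.Opens}
    (σ : ((CohB1.sheafifyMod X).obj P).val.presheaf.obj (op U)) (x : X) (hx : x ∈ U) :
    ∃ (V : X.Opens) (hV : V ≤ U), x ∈ V ∧ ∃ z : P.presheaf.obj (op V),
      (CategoryTheory.toSheafify (Opens.grothendieckTopology X) P.presheaf).app (op V) z =
        ((CohB1.sheafifyMod X).obj P).val.presheaf.map (homOfLE hV).op σ := by
  have h := (TopCat.Presheaf.isLocallySurjective_iff (X := X.toTopCat)
    (CategoryTheory.toSheafify (Opens.grothendieckTopology X) P.presheaf)).mp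
    (Presheaf.isLocallySurjective_toSheafify' (Opens.grothendieckTopology X) P.presheaf)
  obtain ⟨V, hV, ⟨z, hz⟩, hxV⟩ := h U σ x hx
  exact ⟨V, hV, hxV, z, hz⟩

end local_bij

/-- A section is a generator as soon as it is "injective" on every small open and generates
locally. -/
theorem isGen_of_local (F : X.Modules) {U : X.Opens} (g : Γ(F, U))
    (hinj : ∀ (W : X.Opens) (hW : W ≤ U) (r : Γ(X, W)),
      r • F.presheaf.map (homOfLE hW).op g = 0 → r = 0)
    (hsurj : ∀ (W : X.Opens) (hW : W ≤ U) (σ : Γ(F, W)) (x : X), x ∈ W →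
      ∃ (V : X.Opens) (hV : V ≤ W), x ∈ V ∧ ∃ c : Γ(X, V),
        c • F.presheaf.map (homOfLE (hV.trans hW)).op g = F.presheaf.map (homOfLE hV).op σ) :
    IsGen F U g := by
  intro W hW
  constructor
  · intro r r' hrr'
    have h0 : (r - r') • F.presheaf.map (homOfLE hW).op g = 0 := by
      rw [sub_smul]; exact sub_eq_zero.mpr hrr'
    exact sub_eq_zero.mp (hinj W hW _ h0)
  · intro σ
    choose V hV hxV c hc using fun x : W => hsurj W hW σ x.1 x.2
    have hcompat : ∀ x y, X.presheaf.map (homOfLE (inf_le_left : V x ⊓ V y ≤ V x)).op (c x) =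
        X.presheaf.map (homOfLE (inf_le_right : V x ⊓ V y ≤ V y)).op (c y) := by
      intro x y
      have hle : V x ⊓ V y ≤ U := (inf_le_left.trans (hV x)).trans hW
      apply sub_eq_zero.mp
      apply hinj _ hle
      rw [sub_smul, sub_eq_zero]
      have h1 := congrArg (F.presheaf.map (homOfLE (inf_le_left : V x ⊓ V y ≤ V x)).op) (hc x)
      have h2 := congrArg (F.presheaf.map (homOfLE (inf_le_right : V x ⊓ V y ≤ V y)).op) (hc y)
      rw [res_smul, res_res, res_res] at h1 h2
      exact h1.trans h2.symm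
    obtain ⟨r, hr⟩ := exists_glue_ptsX V hV hxV c hcompat
    refine ⟨r, ?_⟩
    apply eq_of_locally_eq_pts F
    intro x hx
    refine ⟨V ⟨x, hx⟩, hV ⟨x, hx⟩, hxV ⟨x, hx⟩, ?_⟩
    rw [res_smul, res_res, hr, hc]

open TensorProduct in
theorem bijective_smul_tmul {R M N : Type*} [CommRing R] [AddCommGroup M] [Module R M]
    [AddCommGroup N] [Module R N] (e₁ : M) (e₂ : N)
    (h₁ : Function.Bijective (fun r : R => r • e₁))
    (h₂ : Function.Bijective (fun r : R => r • e₂)) :
    Function.Bijective (fun r : R => r • (e₁ ⊗ₜ[R] e₂)) := by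
  let φ₁ : R ≃ₗ[R] M := LinearEquiv.ofBijective (LinearMap.toSpanSingleton R M e₁) h₁
  let φ₂ : R ≃ₗ[R] N := LinearEquiv.ofBijective (LinearMap.toSpanSingleton R N e₂) h₂
  let Ψ : R ≃ₗ[R] M ⊗[R] N := (TensorProduct.lid R R).symm ≪≫ₗ TensorProduct.congr φ₁ φ₂
  have hΨ : ∀ r : R, Ψ r = r • (e₁ ⊗ₜ[R] e₂) := by
    intro r
    have h1 : Ψ r = φ₁ 1 ⊗ₜ[R] φ₂ r := by simp [Ψ]
    have h2 : φ₁ 1 = e₁ := by
      change (LinearMap.toSpanSingleton R M e₁) 1 = e₁
      rw [LinearMap.toSpanSingleton_apply, one_smul]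
    have h3 : φ₂ r = r • e₂ := by
      change (LinearMap.toSpanSingleton R N e₂) r = r • e₂
      rw [LinearMap.toSpanSingleton_apply]
    rw [h1, h2, h3, TensorProduct.tmul_smul]
  have : (fun r : R => r • (e₁ ⊗ₜ[R] e₂)) = Ψ := by funext r; exact (hΨ r).symm
  rw [this]
  exact Ψ.bijective

open TensorProduct in
theorem tensorPre_map_smul_tmul {U V : X.Opens} (h : V ≤ U) (c : Γ(X, U)) (m : Γ(M, U))
    (n : Γ(N, U)) :
    (CohB1.tensorPre M N).presheaf.map (homOfLE h).op
      (show (CohB1.tensorPre M N).obj (op U) from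
        (show Γ(M, U) ⊗[Γ(X, U)] Γ(N, U) from c • (m ⊗ₜ[Γ(X, U)] n))) =
      (show (CohB1.tensorPre M N).obj (op V) from
        (show Γ(M, V) ⊗[Γ(X, V)] Γ(N, V) from
          X.presheaf.map (homOfLE h).op c •
            (M.presheaf.map (homOfLE h).op m ⊗ₜ[Γ(X, V)] N.presheaf.map (homOfLE h).op n))) := by
  have := PresheafOfModules.map_smul (CohB1.tensorPre M N) (homOfLE h).op c
    (show (CohB1.tensorPre M N).obj (op U) from
        (show Γ(M, U) ⊗[Γ(X, U)] Γ(N, U) from (m ⊗ₜ[Γ(X, U)] n)))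
  exact this

variable {M N}

open TensorProduct in
theorem isGen_tmul {U : X.Opens} {e : Γ(M, U)} {e' : Γ(N, U)} (he : IsGen M U e)
    (he' : IsGen N U e') : IsGen (CohB1.tensorMod M N) U (tmul M N e e') := by
  -- generators of the presheaf tensor product over small opens
  have hA : ∀ (W : X.Opens) (hW : W ≤ U), Function.Bijective (fun c : Γ(X, W) =>
      c • (M.presheaf.map (homOfLE hW).op e ⊗ₜ[Γ(X, W)] N.presheaf.map (homOfLE hW).op e')) :=
    fun W hW => bijective_smul_tmul _ _ (he W hW) (he' W hW)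
  apply isGen_of_local
  · intro W hW r hr
    rw [tmul_res, tmul_eq, ← map_smul] at hr
    apply eq_of_locally_eq_ptsX
    intro x hx
    have h0 : (CategoryTheory.toSheafify (Opens.grothendieckTopology X)
        (CohB1.tensorPre M N).presheaf).app (op W)
        (show (CohB1.tensorPre M N).obj (op W) from
          (show Γ(M, W) ⊗[Γ(X, W)] Γ(N, W) from
            r • (M.presheaf.map (homOfLE hW).op e ⊗ₜ[Γ(X, W)]
              N.presheaf.map (homOfLE hW).op e'))) =
        (CategoryTheory.toSheafify (Opens.grothendieckTopology X)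
          (CohB1.tensorPre M N).presheaf).app (op W) 0 := by
      rw [map_zero]
      exact hr
    obtain ⟨V, hV, hxV, hz⟩ := η_inj_local (CohB1.tensorPre M N) _ _ h0 x hx
    refine ⟨V, hV, hxV, ?_⟩
    have hz1 := tensorPre_map_smul_tmul M N hV r (M.presheaf.map (homOfLE hW).op e)
      (N.presheaf.map (homOfLE hW).op e')
    have hz2 := (hz1.symm.trans hz).trans
      (map_zero (ConcreteCategory.hom ((CohB1.tensorPre M N).presheaf.map (homOfLE hV).op)))
    rw [res_res, res_res] at hz2
    rw [map_zero]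
    apply (hA V (hV.trans hW)).1
    simp only [zero_smul]
    exact hz2
  · intro W hW σ x hx
    obtain ⟨V, hV, hxV, z, hz⟩ := η_surj_local (CohB1.tensorPre M N) σ x hx
    obtain ⟨c, hc⟩ := (hA V (hV.trans hW)).2 z
    refine ⟨V, hV, hxV, c, ?_⟩
    rw [tmul_res, tmul_eq, ← map_smul]
    rw [← hc] at hz
    exact hz

theorem isInvertible_tensorMod (hM : PicF.IsInvertible M) (hN : PicF.IsInvertible N) :
    PicF.IsInvertible (CohB1.tensorMod M N) := by
  rw [isInvertible_iff_exists_isGen] at hM hN ⊢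
  intro x
  obtain ⟨U₁, hx₁, e₁, he₁⟩ := hM x
  obtain ⟨U₂, hx₂, e₂, he₂⟩ := hN x
  exact ⟨U₁ ⊓ U₂, ⟨hx₁, hx₂⟩, _, isGen_tmul (he₁.res inf_le_left) (he₂.res inf_le_right)⟩

theorem isGen_one (U : X.Opens) :
    IsGen (Coh.structureModule X) U (show Γ(Coh.structureModule X, U) from (1 : Γ(X, U))) := by
  intro W hW
  have h1 : (Coh.structureModule X).presheaf.map (homOfLE hW).op
      (show Γ(Coh.structureModule X, U) from (1 : Γ(X, U))) =
        (show Γ(Coh.structureModule X, W) from (1 : Γ(X, W))) :=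
    map_one (X.presheaf.map (homOfLE hW).op).hom
  rw [h1]
  have : (fun r : Γ(X, W) => r • (show Γ(Coh.structureModule X, W) from (1 : Γ(X, W)))) =
      (fun r : Γ(X, W) => (show Γ(Coh.structureModule X, W) from r)) := by
    funext r
    exact mul_one r
  rw [this]
  exact Function.bijective_id

/-- The generator of `L^{⊗ n}` induced by a generator of `L`. -/
noncomputable def genPow {L : X.Modules} {U : X.Opens} (e : Γ(L, U)) :
    (n : ℕ) → Γ(CohB1.tensorPow L n, U)
  | 0 => (show Γ(Coh.structureModule X, U) from (1 : Γ(X, U)))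
  | n + 1 => tmul (CohB1.tensorPow L n) L (genPow e n) e

theorem isGen_genPow {L : X.Modules} {U : X.Opens} {e : Γ(L, U)} (he : IsGen L U e) (n : ℕ) :
    IsGen (CohB1.tensorPow L n) U (genPow e n) := by
  induction n with
  | zero => exact isGen_one U
  | succ n ih => exact isGen_tmul ih he

theorem genPow_res {L : X.Modules} {U V : X.Opens} (h : V ≤ U) (e : Γ(L, U)) (n : ℕ) :
    (CohB1.tensorPow L n).presheaf.map (homOfLE h).op (genPow e n) =
      genPow (L.presheaf.map (homOfLE h).op e) n := by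
  induction n with
  | zero => exact map_one (X.presheaf.map (homOfLE h).op).hom
  | succ n ih =>
    change (CohB1.tensorMod (CohB1.tensorPow L n) L).presheaf.map (homOfLE h).op
      (tmul (CohB1.tensorPow L n) L (genPow e n) e) = _
    rw [tmul_res, ih]
    rfl

theorem isInvertible_tensorPow {L : X.Modules} (hL : PicF.IsInvertible L) (n : ℕ) :
    PicF.IsInvertible (CohB1.tensorPow L n) := by
  rw [isInvertible_iff_exists_isGen] at hL ⊢
  intro x
  obtain ⟨U, hx, e, he⟩ := hL x
  exact ⟨U, hx, _, isGen_genPow he n⟩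

end Groth.Agent.Lib.Lead.Inv
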