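import Groth.Agent.Lib.Lead.Ample2

/-!
# Associativity of the tensor product with section formula; sheafification comparison maps
that are locally isomorphisms (lead seat library)
-/

set_option autoImplicit false
universe u

open AlgebraicGeometry CategoryTheory Opposite TopologicalSpace MonoidalCategory Limits

namespace Groth.Agent.Lib.Lead.Inv

open Groth.Agent.Lib.Lead.QCohAff

variable {X : Scheme.{u}}

/-- naturality of the sheafification unit, sectionwise -/
theorem shP_map_ηP {P Q : CohB1.PMod X} (φ : P ⟶ Q) (W : X.Opens) (z : P.obj (op W)) :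
    (((shP X).map φ).app W).hom (((ηP P).app (op W)).hom z) =
      ((ηP Q).app (op W)).hom ((φ.app (op W)).hom z) := by
  have h := (PresheafOfModules.sheafificationAdjunction (𝟙 X.ringCatSheaf.obj)).unit.naturality φ
  have h2 := congrArg (fun ψ => (PresheafOfModules.Hom.app ψ (op W)).hom z) h
  exact h2.symm

section small

variable {P Q : CohB1.PMod X} (φ : P ⟶ Q)

theorem isLocallyInjective_of_small
    (h : ∀ x : X, ∃ U : X.Opens, x ∈ U ∧ ∀ W : X.Opens, W ≤ U →
      Function.Injective (φ.app (op W)).hom) :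
    Presheaf.IsLocallyInjective (Opens.grothendieckTopology X)
      ((PresheafOfModules.toPresheaf _).map φ) := by
  constructor
  intro V z z' hzz' x hx
  obtain ⟨U, hxU, hU⟩ := h x
  have hWV : V.unop ⊓ U ≤ V.unop := inf_le_left
  have hnat : ∀ y : P.presheaf.obj V,
      ((PresheafOfModules.toPresheaf _).map φ).app (op (V.unop ⊓ U))
        (P.presheaf.map (homOfLE hWV).op y) =
      Q.presheaf.map (homOfLE hWV).op (((PresheafOfModules.toPresheaf _).map φ).app V y) := by
    intro y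
    exact PresheafOfModules.naturality_apply φ (homOfLE hWV).op y
  have h1 := (hnat z).trans ((congrArg _ hzz').trans (hnat z').symm)
  have h2 := hU (V.unop ⊓ U) inf_le_right h1
  exact ⟨V.unop ⊓ U, homOfLE hWV, h2, ⟨hx, hxU⟩⟩

theorem isLocallySurjective_of_small
    (h : ∀ x : X, ∃ U : X.Opens, x ∈ U ∧ ∀ W : X.Opens, W ≤ U →
      Function.Surjective (φ.app (op W)).hom) :
    Presheaf.IsLocallySurjective (Opens.grothendieckTopology X)
      ((PresheafOfModules.toPresheaf _).map φ) := by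
  refine (TopCat.Presheaf.isLocallySurjective_iff (X := X.toTopCat) _).mpr ?_
  intro V y x hx
  obtain ⟨U, hxU, hU⟩ := h x
  have hWV : V ⊓ U ≤ V := inf_le_left
  obtain ⟨p, hp⟩ := hU (V ⊓ U) inf_le_right (Q.presheaf.map (homOfLE hWV).op y)
  exact ⟨V ⊓ U, hWV, ⟨p, hp⟩, ⟨hx, hxU⟩⟩

theorem isIso_shP_map_of_small
    (h : ∀ x : X, ∃ U : X.Opens, x ∈ U ∧ ∀ W : X.Opens, W ≤ U →
      Function.Bijective (φ.app (op W)).hom) :
    IsIso ((shP X).map φ) := by
  have := isLocallyInjective_of_small φ (fun x => by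
    obtain ⟨U, hxU, hU⟩ := h x
    exact ⟨U, hxU, fun W hW => (hU W hW).1⟩)
  have := isLocallySurjective_of_small φ (fun x => by
    obtain ⟨U, hxU, hU⟩ := h x
    exact ⟨U, hxU, fun W hW => (hU W hW).2⟩)
  exact isIso_shP_map_of_locBij φ

theorem whiskerLeft_app_bijective (A : CohB1.PMod X) (W : X.Opens)
    (h : Function.Bijective (φ.app (op W)).hom) :
    Function.Bijective ((A ◁ φ).app (op W)).hom := by
  have h1 : IsIso (φ.app (op W)) := (ConcreteCategory.isIso_iff_bijective _).mpr h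
  have h2 : IsIso ((A ◁ φ).app (op W)) := by
    have : (A ◁ φ).app (op W) =
      MonoidalCategory.whiskerLeft (C := ModuleCat (X.sheaf.obj.obj (op W))) (A.obj (op W))
        (φ.app (op W)) := rfl
    rw [this]
    exact @MonoidalCategory.whiskerLeft_isIso (ModuleCat (X.sheaf.obj.obj (op W))) _ _
      (A.obj (op W)) _ _ (φ.app (op W)) h1
  exact (ConcreteCategory.isIso_iff_bijective _).mp h2

theorem isIso_shP_whiskerLeft_of_small (A : CohB1.PMod X)
    (h : ∀ x : X, ∃ U : X.Opens, x ∈ U ∧ ∀ W : X.Opens, W ≤ U →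
      Function.Bijective (φ.app (op W)).hom) :
    IsIso ((shP X).map (A ◁ φ)) := by
  refine isIso_shP_map_of_small (A ◁ φ) (fun x => ?_)
  obtain ⟨U, hxU, hU⟩ := h x
  exact ⟨U, hxU, fun W hW => whiskerLeft_app_bijective φ A W (hU W hW)⟩

end small


open TensorProduct in
/-- On opens where `B` and `C` both have generators, the sectionwise tensor product already
agrees with its sheafification. -/
theorem ηP_bijective_of_isGen {B C : X.Modules} {U : X.Opens} {e : Γ(B, U)} {e' : Γ(C, U)}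
    (he : IsGen B U e) (he' : IsGen C U e') (W : X.Opens) (hW : W ≤ U) :
    Function.Bijective ((ηP (CohB1.toPMod B ⊗ CohB1.toPMod C)).app (op W)).hom := by
  have heW := he.res hW
  have heW' := he'.res hW
  set g : Γ(B, W) ⊗[Γ(X, W)] Γ(C, W) :=
    B.presheaf.map (homOfLE hW).op e ⊗ₜ[Γ(X, W)] C.presheaf.map (homOfLE hW).op e' with hg
  have h1 : Function.Bijective (fun r : Γ(X, W) => r • g) := by
    have := bijective_smul_tmul (R := Γ(X, W)) (B.presheaf.map (homOfLE hW).op e)
      (C.presheaf.map (homOfLE hW).op e') ?_ ?_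
    · exact this
    · have := heW W le_rfl
      simp only [res_self] at this
      exact this
    · have := heW' W le_rfl
      simp only [res_self] at this
      exact this
  have h2 := (isGen_tmul heW heW') W le_rfl
  have h3 : (fun r : Γ(X, W) => r • (CohB1.tensorMod B C).presheaf.map (homOfLE (le_refl W)).op
      (tmul B C (B.presheaf.map (homOfLE hW).op e) (C.presheaf.map (homOfLE hW).op e'))) =
      (ηlin B C W) ∘ (fun r : Γ(X, W) => r • g) := by
    funext r
    simp only [Function.comp_apply, map_smul]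
    rw [res_self]
    rfl
  rw [h3] at h2
  exact (Function.Bijective.of_comp_iff _ h1).mp h2


section assoc

variable (A B C : X.Modules)

/-- The two sheafification comparison maps needed for associativity are isomorphisms. -/
structure AssocOK : Prop where
  h1 : IsIso ((shP X).map (ηP (CohB1.toPMod A ⊗ CohB1.toPMod B) ▷ CohB1.toPMod C))
  h3 : IsIso ((shP X).map (CohB1.toPMod A ◁ ηP (CohB1.toPMod B ⊗ CohB1.toPMod C)))

variable {A B C}

theorem assocOK_of_left_right (hA : PicF.IsInvertible A) (hC : PicF.IsInvertible C) :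
    AssocOK A B C :=
  ⟨isIso_shP_whiskerRight_η (C := C) _ hC, isIso_shP_whiskerLeft_η (C := A) _ hA⟩

theorem assocOK_of_mid_right (hB : PicF.IsInvertible B) (hC : PicF.IsInvertible C) :
    AssocOK A B C := by
  refine ⟨isIso_shP_whiskerRight_η (C := C) _ hC, ?_⟩
  refine isIso_shP_whiskerLeft_of_small _ (CohB1.toPMod A) (fun x => ?_)
  obtain ⟨U₁, hx₁, e₁, he₁⟩ := (isInvertible_iff_exists_isGen.mp hB) x
  obtain ⟨U₂, hx₂, e₂, he₂⟩ := (isInvertible_iff_exists_isGen.mp hC) x
  refine ⟨U₁ ⊓ U₂, ⟨hx₁, hx₂⟩, fun W hW => ?_⟩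
  exact ηP_bijective_of_isGen (he₁.res inf_le_left) (he₂.res inf_le_right) W hW

/-- The associativity isomorphism `(A ⊗ B) ⊗ C ≅ A ⊗ (B ⊗ C)`, whenever the two comparison
maps are isomorphisms. -/
noncomputable def assocIso (h : AssocOK A B C) :
    CohB1.tensorMod (CohB1.tensorMod A B) C ≅ CohB1.tensorMod A (CohB1.tensorMod B C) :=
  (@asIso _ _ _ _ ((shP X).map (ηP (CohB1.toPMod A ⊗ CohB1.toPMod B) ▷ CohB1.toPMod C)) h.h1).symm
    ≪≫ (shP X).mapIso (α_ _ _ _) ≪≫
  (@asIso _ _ _ _ ((shP X).map (CohB1.toPMod A ◁ ηP (CohB1.toPMod B ⊗ CohB1.toPMod C))) h.h3)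

open TensorProduct in
theorem assocIso_hom_tmul (h : AssocOK A B C) {W : X.Opens} (a : Γ(A, W)) (b : Γ(B, W))
    (c : Γ(C, W)) :
    ((assocIso h).hom.app W).hom (tmul (CohB1.tensorMod A B) C (tmul A B a b) c) =
      tmul A (CohB1.tensorMod B C) a (tmul B C b c) := by
  have := h.h1
  have := h.h3
  -- the three elements of the presheaf tensor products
  let z1 : ((CohB1.toPMod A ⊗ CohB1.toPMod B) ⊗ CohB1.toPMod C).obj (op W) :=
    pt (CohB1.toPMod A ⊗ CohB1.toPMod B) C
      (show (CohB1.toPMod A ⊗ CohB1.toPMod B).obj (op W) from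
        (show Γ(A, W) ⊗[Γ(X, W)] Γ(B, W) from a ⊗ₜ[Γ(X, W)] b)) c
  have e1 : (((shP X).map (ηP (CohB1.toPMod A ⊗ CohB1.toPMod B) ▷ CohB1.toPMod C)).app W).hom
      (((ηP _).app (op W)).hom z1) = tmul (CohB1.tensorMod A B) C (tmul A B a b) c := by
    rw [shP_map_ηP]
    rfl
  let z2 : (CohB1.toPMod A ⊗ (CohB1.toPMod B ⊗ CohB1.toPMod C)).obj (op W) :=
    (show Γ(A, W) ⊗[Γ(X, W)] (Γ(B, W) ⊗[Γ(X, W)] Γ(C, W)) from
      a ⊗ₜ[Γ(X, W)] (b ⊗ₜ[Γ(X, W)] c))
  have e2 : (((shP X).map (α_ (CohB1.toPMod A) (CohB1.toPMod B) (CohB1.toPMod C)).hom).app W).hom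
      (((ηP _).app (op W)).hom z1) = ((ηP _).app (op W)).hom z2 := by
    rw [shP_map_ηP]
    rfl
  have e3 : (((shP X).map (CohB1.toPMod A ◁ ηP (CohB1.toPMod B ⊗ CohB1.toPMod C))).app W).hom
      (((ηP _).app (op W)).hom z2) = tmul A (CohB1.tensorMod B C) a (tmul B C b c) := by
    rw [shP_map_ηP]
    rfl
  rw [← e1, ← e3, ← e2]
  change ((((shP X).map (ηP (CohB1.toPMod A ⊗ CohB1.toPMod B) ▷ CohB1.toPMod C)) ≫
    (assocIso h).hom).app W).hom _ = _
  have e4 : ((shP X).map (ηP (CohB1.toPMod A ⊗ CohB1.toPMod B) ▷ CohB1.toPMod C)) ≫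
      (assocIso h).hom = (shP X).map (α_ _ _ _).hom ≫
        (shP X).map (CohB1.toPMod A ◁ ηP (CohB1.toPMod B ⊗ CohB1.toPMod C)) := by
    exact @IsIso.hom_inv_id_assoc _ _ _ _ _ h.h1 _ _
  rw [e4]
  rfl

end assoc

end Groth.Agent.Lib.Lead.Inv
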