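import Groth.Agent.Lib.Lead.QCohAff3
import Mathlib.RingTheory.Flat.Localization

/-!
# Quasi-coherent modules on affine opens: the stalk as a localized module (lead seat library)
-/

set_option autoImplicit false
universe u

open AlgebraicGeometry CategoryTheory Opposite TopologicalSpace

namespace Groth.Agent.Lib.Lead.QCohAff

variable {X : Scheme.{u}}

/-- The stalk of `F` at `x ∈ U`, viewed as a module over `Γ(X, U)` through the germ map. -/
def StalkOver (F : X.Modules) (U : X.Opens) (x : X) (_hx : x ∈ U) : Type u := F.presheaf.stalk x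

noncomputable instance (F : X.Modules) (U : X.Opens) (x : X) (hx : x ∈ U) :
    AddCommGroup (StalkOver F U x hx) := inferInstanceAs (AddCommGroup (F.presheaf.stalk x))

noncomputable instance (F : X.Modules) (U : X.Opens) (x : X) (hx : x ∈ U) :
    Module Γ(X, U) (StalkOver F U x hx) :=
  Module.compHom (F.presheaf.stalk x) (X.presheaf.germ U x hx).hom

/-- The identity, from the stalk with its `Γ(X, U)`-module structure to the plain stalk. -/
def StalkOver.toStalk {F : X.Modules} {U : X.Opens} {x : X} {hx : x ∈ U}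
    (t : StalkOver F U x hx) : F.presheaf.stalk x := t

/-- The identity, from the plain stalk to the stalk with its `Γ(X, U)`-module structure. -/
def StalkOver.ofStalk {F : X.Modules} {U : X.Opens} {x : X} (hx : x ∈ U)
    (t : F.presheaf.stalk x) : StalkOver F U x hx := t

theorem stalkOver_smul_def (F : X.Modules) (U : X.Opens) (x : X) (hx : x ∈ U) (r : Γ(X, U))
    (t : StalkOver F U x hx) :
    (r • t).toStalk = X.presheaf.germ U x hx r • t.toStalk := rfl

/-- The germ map as a `Γ(X, U)`-linear map. -/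
noncomputable def germL (F : X.Modules) (U : X.Opens) (x : X) (hx : x ∈ U) :
    Γ(F, U) →ₗ[Γ(X, U)] StalkOver F U x hx where
  toFun s := F.presheaf.germ U x hx s
  map_add' a b := map_add _ a b
  map_smul' r s := germ_smul F U x hx r s

@[simp] theorem germL_apply (F : X.Modules) (U : X.Opens) (x : X) (hx : x ∈ U) (s : Γ(F, U)) :
    germL F U x hx s = F.presheaf.germ U x hx s := rfl

theorem isLocalizedModule_germL_of_locOn (F : X.Modules) {U : X.Opens}
    (hU : IsAffineOpen U) (hF : LocOn F U) (x : X) (hx : x ∈ U) :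
    IsLocalizedModule (hU.primeIdealOf ⟨x, hx⟩).asIdeal.primeCompl (germL F U x hx) where
  map_units r := by
    have hxr : x ∈ X.basicOpen r.1 := (mem_basicOpen_iff_notMem_primeIdealOf hU x hx r.1).2 r.2
    have hu : IsUnit (X.presheaf.germ U x hx r.1) := isUnit_germ_of_mem_basicOpen r.1 x hx hxr
    rw [Module.End.isUnit_iff]
    constructor
    · intro a b hab
      have hab' : X.presheaf.germ U x hx r.1 • a.toStalk =
          X.presheaf.germ U x hx r.1 • b.toStalk := hab
      exact (hu.smul_left_cancel (x := a.toStalk) (y := b.toStalk)).1 hab'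
    · intro b
      obtain ⟨u, hu'⟩ := hu
      refine ⟨StalkOver.ofStalk hx ((↑u⁻¹ : X.presheaf.stalk x) • b.toStalk), ?_⟩
      change X.presheaf.germ U x hx r.1 • ((↑u⁻¹ : X.presheaf.stalk x) • b.toStalk) = b.toStalk
      rw [← hu', smul_smul, Units.mul_inv, one_smul]
  surj t := by
    obtain ⟨r, s, hxr, hrs⟩ := exists_germ_smul_eq_germ_of_locOn F hU hF x hx t
    exact ⟨⟨s, ⟨r, (mem_basicOpen_iff_notMem_primeIdealOf hU x hx r).1 hxr⟩⟩, hrs⟩
  exists_of_eq {s₁ s₂} h := by
    have h0 : F.presheaf.germ U x hx (s₁ - s₂) = 0 := by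
      rw [map_sub, sub_eq_zero]
      exact h
    obtain ⟨r, hxr, hrs⟩ := (germ_eq_zero_iff_of_locOn F hU hF x hx (s₁ - s₂)).1 h0
    refine ⟨⟨r, (mem_basicOpen_iff_notMem_primeIdealOf hU x hx r).1 hxr⟩, ?_⟩
    rw [smul_sub, sub_eq_zero] at hrs
    exact hrs

instance isLocalizedModule_germL (F : X.Modules) [F.IsQuasicoherent] {U : X.Opens}
    (hU : IsAffineOpen U) (x : X) (hx : x ∈ U) :
    IsLocalizedModule (hU.primeIdealOf ⟨x, hx⟩).asIdeal.primeCompl (germL F U x hx) :=
  isLocalizedModule_germL_of_locOn F hU (LocOn.of_isQuasicoherent F hU) x hx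

end Groth.Agent.Lib.Lead.QCohAff
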