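import Groth.Agent.Lib.Lead.PullbackAff2

/-!
# Sections of a pullback of a quasi-coherent module over an affine open (lead seat library)
-/

set_option autoImplicit false
universe u

open AlgebraicGeometry CategoryTheory Opposite TopologicalSpace

namespace Groth.Agent.Lib.Lead.PullbackAff

open Scheme.Modules

variable {X Y : Scheme.{u}} (f : X ⟶ Y) (G : Y.Modules)
  {U : X.Opens} {V : Y.Opens} (hU : IsAffineOpen U) (hV : IsAffineOpen V) (e : U ≤ f ⁻¹ᵁ V)

/-- `(f^* G)|_{Spec Γ(X,U)} ≅ (Spec φ)^* (G|_{Spec Γ(Y,V)})` where `φ = f.appLE V U`. -/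
noncomputable def pullbackRestrictIso :
    ((pullback f).obj G).restrict hU.fromSpec ≅
      (pullback (Spec.map (f.appLE V U e))).obj (G.restrict hV.fromSpec) :=
  (restrictFunctorIsoPullback hU.fromSpec).app _ ≪≫ (pullbackComp hU.fromSpec f).app G ≪≫
    (pullbackCongr (hV.SpecMap_appLE_fromSpec f hU e).symm).app G ≪≫
    ((pullbackComp (Spec.map (f.appLE V U e)) hV.fromSpec).app G).symm ≪≫
    (pullback (Spec.map (f.appLE V U e))).mapIso
      ((restrictFunctorIsoPullback hV.fromSpec).app G).symm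

variable [G.IsQuasicoherent]

/-- `(f^* G)|_{Spec Γ(X,U)} ≅ tilde (Γ(X,U) ⊗ Γ(G|_{Spec Γ(Y,V)}))`. -/
noncomputable def pullbackRestrictIsoTilde :
    ((pullback f).obj G).restrict hU.fromSpec ≅
      (tilde.functor Γ(X, U)).obj ((ModuleCat.extendScalars (f.appLE V U e).hom).obj
        (moduleSpecΓFunctor.obj (G.restrict hV.fromSpec))) :=
  pullbackRestrictIso f G hU hV e ≪≫
    (pullback (Spec.map (f.appLE V U e))).mapIso (asIso (G.restrict hV.fromSpec).fromTildeΓ).symm ≪≫
    (tildePullbackIso (f.appLE V U e)).app _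

/-- In `ModuleCat Γ(X,U)`. -/
noncomputable def ΓpullbackIso :
    moduleSpecΓFunctor.obj (((pullback f).obj G).restrict hU.fromSpec) ≅
      (ModuleCat.extendScalars (f.appLE V U e).hom).obj
        (moduleSpecΓFunctor.obj (G.restrict hV.fromSpec)) :=
  moduleSpecΓFunctor.mapIso (pullbackRestrictIsoTilde f G hU hV e) ≪≫
    (tilde.toTildeΓNatIso.app _).symm

end Groth.Agent.Lib.Lead.PullbackAff

namespace Groth.Agent.Lib.Lead.PullbackAff

open Scheme.Modules TensorProduct

/-- The carrier of `extendScalars` is the usual tensor product. -/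
noncomputable def extendScalarsEquiv {R S : Type u} [CommRing R] [CommRing S] (f : R →+* S)
    (M : ModuleCat.{u} R) :
    letI := f.toAlgebra
    ((ModuleCat.extendScalars f).obj M) ≃ₗ[S] S ⊗[R] M :=
  letI := f.toAlgebra
  { toFun := fun x => x
    invFun := fun x => x
    left_inv := fun _ => rfl
    right_inv := fun _ => rfl
    map_add' := fun _ _ => rfl
    map_smul' := fun _ _ => rfl }

variable {X Y : Scheme.{u}} (f : X ⟶ Y) (G : Y.Modules) [G.IsQuasicoherent]
  {U : X.Opens} {V : Y.Opens} (hU : IsAffineOpen U) (hV : IsAffineOpen V) (e : U ≤ f ⁻¹ᵁ V)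

/-- **Sections of a pullback over an affine open**: for `G` quasi-coherent on `Y`, `V ⊆ Y` and
`U ⊆ f⁻¹ V` affine opens, `Γ(f^* G, U) ≃ Γ(X, U) ⊗[Γ(Y, V)] Γ(G, V)`, `Γ(X, U)`-linearly. -/
noncomputable def sectionsPullbackEquiv :
    letI := (f.appLE V U e).hom.toAlgebra
    Γ((pullback f).obj G, U) ≃ₗ[Γ(X, U)] Γ(X, U) ⊗[Γ(Y, V)] Γ(G, V) :=
  letI := (f.appLE V U e).hom.toAlgebra
  (secEquiv hU ((pullback f).obj G)).symm ≪≫ₗ
    (ΓpullbackIso f G hU hV e).toLinearEquiv ≪≫ₗ
    extendScalarsEquiv (f.appLE V U e).hom _ ≪≫ₗ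
    TensorProduct.AlgebraTensorModule.congr (LinearEquiv.refl Γ(X, U) Γ(X, U)) (secEquiv hV G)

end Groth.Agent.Lib.Lead.PullbackAff
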