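import Mathlib.RingTheory.Flat.FaithfullyFlat.Algebra
import Mathlib.LinearAlgebra.TensorProduct.Tower

/-!
# Flatness over `A` of `C ⊗[B] M` for `A → B → C` with `C` (faithfully) flat over `B`
(lead seat library, pure algebra)
-/

set_option autoImplicit false

open TensorProduct

namespace Groth.Agent.Lib.Lead.FlatTensor

universe u

variable {A B C M : Type u} [CommRing A] [CommRing B] [CommRing C] [Algebra A B] [Algebra B C]
  [Algebra A C] [IsScalarTower A B C] [AddCommGroup M] [Module A M] [Module B M]
  [IsScalarTower A B M]

section

variable {N P : Type u} [AddCommGroup N] [AddCommGroup P] [Module A N] [Module A P]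
  (f : N →ₗ[A] P)

/-- The `B`-linear version of `f.lTensor M`. -/
noncomputable def lTensorB : M ⊗[A] N →ₗ[B] M ⊗[A] P :=
  TensorProduct.AlgebraTensorModule.map (LinearMap.id : M →ₗ[B] M) f

variable (B M) in
theorem lTensorB_apply (z : M ⊗[A] N) : lTensorB (B := B) (M := M) f z = f.lTensor M z := rfl

variable (B C M) in
theorem assoc_lTensor (z : (C ⊗[B] M) ⊗[A] N) :
    (lTensorB (B := B) (M := M) f).lTensor C
        (TensorProduct.AlgebraTensorModule.assoc A B C C M N z) =
      TensorProduct.AlgebraTensorModule.assoc A B C C M P (f.lTensor (C ⊗[B] M) z) := by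
  induction z using TensorProduct.induction_on with
  | zero => simp
  | add x y hx hy => simp only [map_add, hx, hy]
  | tmul cm n =>
    induction cm using TensorProduct.induction_on with
    | zero => simp
    | add x y hx hy => simp only [add_tmul, map_add, hx, hy]
    | tmul c m => rfl

end

/-- If `C` is flat over `B` and `M` is flat over `A`, then `C ⊗[B] M` is flat over `A`. -/
theorem flat_tensor_of_flat [Module.Flat B C] [Module.Flat A M] : Module.Flat A (C ⊗[B] M) := by
  rw [Module.Flat.iff_lTensor_preserves_injective_linearMap]
  intro N P _ _ _ _ f hf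
  have h1 : Function.Injective (lTensorB (B := B) (M := M) f) :=
    Module.Flat.lTensor_preserves_injective_linearMap f hf
  have h2 : Function.Injective ((lTensorB (B := B) (M := M) f).lTensor C) :=
    Module.Flat.lTensor_preserves_injective_linearMap _ h1
  intro a b hab
  apply (TensorProduct.AlgebraTensorModule.assoc A B C C M N).injective
  apply h2
  rw [assoc_lTensor, assoc_lTensor, hab]

/-- If `C` is faithfully flat over `B` and `C ⊗[B] M` is flat over `A`, then `M` is flat over
`A`. -/
theorem flat_of_flat_tensor [Module.FaithfullyFlat B C] [Module.Flat A (C ⊗[B] M)] :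
    Module.Flat A M := by
  rw [Module.Flat.iff_lTensor_preserves_injective_linearMap]
  intro N P _ _ _ _ f hf
  have h0 : Function.Injective (f.lTensor (C ⊗[B] M)) :=
    Module.Flat.lTensor_preserves_injective_linearMap f hf
  change Function.Injective (lTensorB (B := B) (M := M) f)
  rw [← Module.FaithfullyFlat.lTensor_injective_iff_injective B C]
  intro a b hab
  obtain ⟨a', rfl⟩ := (TensorProduct.AlgebraTensorModule.assoc A B C C M N).surjective a
  obtain ⟨b', rfl⟩ := (TensorProduct.AlgebraTensorModule.assoc A B C C M N).surjective b
  rw [assoc_lTensor, assoc_lTensor] at hab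
  rw [h0 ((TensorProduct.AlgebraTensorModule.assoc A B C C M P).injective hab)]

theorem flat_tensor_iff [Module.FaithfullyFlat B C] :
    Module.Flat A (C ⊗[B] M) ↔ Module.Flat A M :=
  ⟨fun _ => flat_of_flat_tensor (B := B) (C := C), fun _ => flat_tensor_of_flat⟩

end Groth.Agent.Lib.Lead.FlatTensor
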