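import Mathlib

/-!
# Hilbert 90 for the Amitsur complex of a flat local algebra (lead)

Let `A` be a flat `R`-algebra which is a local ring, and `u` a unit of `A ⊗ A` satisfying the
cocycle condition.  Then `u` is the coboundary of a unit of `A`.
-/

set_option autoImplicit false
universe u
open TensorProduct

namespace Groth.Agent.Lib.Lead.Hilbert90

variable (R : Type u) [CommRing R] (A : Type u) [CommRing A] [Algebra R A]

/-- `a ⊗ b ↦ (a ⊗ b) ⊗ 1`. -/
noncomputable def J12 : A ⊗[R] A →ₐ[R] (A ⊗[R] A) ⊗[R] A := Algebra.TensorProduct.includeLeft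

/-- `a ⊗ b ↦ (a ⊗ 1) ⊗ b`. -/
noncomputable def J13 : A ⊗[R] A →ₐ[R] (A ⊗[R] A) ⊗[R] A :=
  Algebra.TensorProduct.map (Algebra.TensorProduct.includeLeft) (AlgHom.id R A)

/-- `a ⊗ b ↦ (1 ⊗ a) ⊗ b`. -/
noncomputable def J23 : A ⊗[R] A →ₐ[R] (A ⊗[R] A) ⊗[R] A :=
  Algebra.TensorProduct.map (Algebra.TensorProduct.includeRight) (AlgHom.id R A)

/-- `(a ⊗ b) ⊗ c ↦ ab ⊗ c`. -/
noncomputable def m12 : (A ⊗[R] A) ⊗[R] A →ₐ[R] A ⊗[R] A :=
  Algebra.TensorProduct.map (Algebra.TensorProduct.lmul' R) (AlgHom.id R A)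

variable {R A}

/-- The twisted differential `m ↦ 1 ⊗ m - u (m ⊗ 1)`. -/
noncomputable def dd (u : A ⊗[R] A) : A →ₗ[R] A ⊗[R] A :=
  (Algebra.TensorProduct.includeRight : A →ₐ[R] A ⊗[R] A).toLinearMap -
    (LinearMap.mulLeft R u) ∘ₗ (Algebra.TensorProduct.includeLeft : A →ₐ[R] A ⊗[R] A).toLinearMap

theorem dd_apply (u : A ⊗[R] A) (m : A) :
    dd u m = (1 : A) ⊗ₜ[R] m - u * (m ⊗ₜ[R] (1 : A)) := rfl

theorem rTensor_dd (u : A ⊗[R] A) (x : A ⊗[R] A) :
    (dd u).rTensor A x = J23 R A x - J12 R A u * J13 R A x := by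
  induction x using TensorProduct.induction_on with
  | zero => simp
  | add x y hx hy => simp only [map_add, hx, hy, mul_add]; abel
  | tmul m a =>
    rw [LinearMap.rTensor_tmul, dd_apply, TensorProduct.sub_tmul]
    simp only [J23, J12, J13, Algebra.TensorProduct.map_tmul, AlgHom.id_apply,
      Algebra.TensorProduct.includeRight_apply, Algebra.TensorProduct.includeLeft_apply,
      Algebra.TensorProduct.tmul_mul_tmul, one_mul]

theorem mul'_eq_one_of_cocycle (u v : A ⊗[R] A) (huv : u * v = 1)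
    (hcoc : J23 R A u * J12 R A u = J13 R A u) : Algebra.TensorProduct.lmul' R u = (1 : A) := by
  have h1 : m12 R A (J23 R A u) = u := by
    have : (m12 R A).comp (J23 R A) = AlgHom.id R (A ⊗[R] A) := by
      ext a
      · simp [m12, J23]
      · simp [m12, J23]
    exact congr($this u)
  have h2 : m12 R A (J13 R A u) = u := by
    have : (m12 R A).comp (J13 R A) = AlgHom.id R (A ⊗[R] A) := by
      ext a
      · simp [m12, J13]
      · simp [m12, J13]
    exact congr($this u)
  have h3 : m12 R A (J12 R A u) = (Algebra.TensorProduct.lmul' R u) ⊗ₜ[R] (1 : A) := by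
    simp [m12, J12]
  have h4 := congrArg (m12 R A) hcoc
  rw [map_mul, h1, h2, h3] at h4
  have h5 : (Algebra.TensorProduct.lmul' R u) ⊗ₜ[R] (1 : A) = (1 : A ⊗[R] A) := by
    calc (Algebra.TensorProduct.lmul' R u) ⊗ₜ[R] (1 : A)
        = (v * u) * ((Algebra.TensorProduct.lmul' R u) ⊗ₜ[R] (1 : A)) := by
          rw [mul_comm v u, huv, one_mul]
      _ = v * (u * ((Algebra.TensorProduct.lmul' R u) ⊗ₜ[R] (1 : A))) := by rw [mul_assoc]
      _ = v * u := by rw [h4]
      _ = 1 := by rw [mul_comm, huv]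
  have h6 := congrArg (Algebra.TensorProduct.lmul' R (S := A)) h5
  simpa using h6

/-- Hilbert 90: a cocycle of a flat local algebra is the coboundary of a unit. -/
theorem exists_unit [Module.Flat R A] [IsLocalRing A] (u v : A ⊗[R] A) (huv : u * v = 1)
    (hcoc : J23 R A u * J12 R A u = J13 R A u) :
    ∃ b : Aˣ, (1 : A) ⊗ₜ[R] (b : A) = u * ((b : A) ⊗ₜ[R] (1 : A)) := by
  -- `v` lies in the kernel of the twisted differential tensored with `A`
  have hv : (dd u).rTensor A v = 0 := by
    rw [rTensor_dd]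
    have e1 : J23 R A u * J23 R A v = 1 := by rw [← map_mul, huv, map_one]
    have e2 : J13 R A u * J13 R A v = 1 := by rw [← map_mul, huv, map_one]
    have e3 : J12 R A u = J13 R A u * J23 R A v := by
      rw [← hcoc, mul_comm (J23 R A u), mul_assoc, e1, mul_one]
    rw [e3, mul_comm (J13 R A u), mul_assoc, e2, mul_one, sub_self]
  -- by flatness, `v` comes from `ker ⊗ A`
  have hex : Function.Exact ((LinearMap.ker (dd u)).subtype.rTensor A) ((dd u).rTensor A) :=
    Module.Flat.rTensor_exact A (LinearMap.exact_subtype_ker_map (dd u))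
  obtain ⟨z, hz⟩ := (hex v).mp hv
  -- the ideal generated by the kernel
  let I : Ideal A := Ideal.span ((LinearMap.ker (dd u) : Submodule R A) : Set A)
  have hI : ∀ z : (LinearMap.ker (dd u)) ⊗[R] A,
      Algebra.TensorProduct.lmul' R ((LinearMap.ker (dd u)).subtype.rTensor A z) ∈ I := by
    intro z
    induction z using TensorProduct.induction_on with
    | zero => simp
    | add x y hx hy => simp only [map_add]; exact I.add_mem hx hy
    | tmul m a =>
      rw [LinearMap.rTensor_tmul, Algebra.TensorProduct.lmul'_apply_tmul]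
      exact I.mul_mem_right a (Ideal.subset_span m.2)
  have h1 : (1 : A) ∈ I := by
    have hu := mul'_eq_one_of_cocycle u v huv hcoc
    have hμ : Algebra.TensorProduct.lmul' R v = (1 : A) := by
      have := congrArg (Algebra.TensorProduct.lmul' R (S := A)) huv
      rw [map_mul, hu, one_mul, map_one] at this
      exact this
    rw [← hμ, ← hz]
    exact hI z
  -- some element of the kernel is a unit
  obtain ⟨m, hm, hmu⟩ : ∃ m ∈ LinearMap.ker (dd u), IsUnit m := by
    by_contra hcon
    push Not at hcon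
    have hle : I ≤ IsLocalRing.maximalIdeal A := by
      apply Ideal.span_le.mpr
      intro m hm
      exact (IsLocalRing.mem_maximalIdeal m).mpr (hcon m hm)
    exact (IsLocalRing.maximalIdeal.isMaximal A).ne_top
      ((Ideal.eq_top_iff_one _).mpr (hle h1))
  refine ⟨hmu.unit, ?_⟩
  have : dd u m = 0 := hm
  rw [dd_apply, sub_eq_zero] at this
  exact this

end Groth.Agent.Lib.Lead.Hilbert90
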