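import Groth.Agent.Lib.Lead.RelAmp2

/-!
# Relative ampleness is local on the base (lead seat library)
-/

set_option autoImplicit false
universe u

open AlgebraicGeometry CategoryTheory Opposite TopologicalSpace MonoidalCategory Limits

namespace Groth.Agent.Lib.Lead.Inv

open Groth.Agent.Lib.Lead.QCohAff Groth.Agent.Lib.Helper60.TensorLib
open Groth.Agent.Lib.Helper60.TensorRestrict Groth.Agent.Lib.Helper35.GlobGen

variable {X : Scheme.{u}}

/-- Ampleness of an iterated restriction only depends on the resulting open of `X`. -/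
theorem isAmple_restrict_restrict_iff (L : X.Modules) (U : X.Opens) (V' : (↑U : Scheme.{u}).Opens)
    (W : X.Opens) (hW : U.ι ''ᵁ V' = W) :
    CohB1.IsAmple ((L.restrict U.ι).restrict V'.ι) ↔ CohB1.IsAmple (L.restrict W.ι) := by
  have e : L.restrict (V'.ι ≫ U.ι) ≅ (L.restrict U.ι).restrict V'.ι :=
    (Scheme.Modules.restrictFunctorComp _ _).app L
  have h1 : CohB1.IsAmple ((L.restrict U.ι).restrict V'.ι) ↔
      CohB1.IsAmple (L.restrict (V'.ι ≫ U.ι)) :=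
    ⟨Groth.Agent.Lib.Helper35.Ample.isAmple_of_iso e.symm,
      Groth.Agent.Lib.Helper35.Ample.isAmple_of_iso e⟩
  rw [h1]
  refine isAmple_restrict_iff_of_opensRange_eq (V'.ι ≫ U.ι) W.ι ?_ L
  rw [Scheme.Hom.opensRange_comp, Scheme.Opens.opensRange_ι, Scheme.Opens.opensRange_ι, hW]

/-- The basic open of (the restriction of) a function on an open subscheme. -/
theorem ι_image_basicOpen_res (W : X.Opens) (b : Γ(X, W)) :
    W.ι ''ᵁ (↑W : Scheme.{u}).basicOpen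
      (show Γ(↑W, ⊤) from X.presheaf.map (homOfLE (W.ι_image_top.le)).op b) = X.basicOpen b := by
  rw [Scheme.image_basicOpen, Scheme.Opens.ι_appIso]
  change X.basicOpen (X.presheaf.map (homOfLE (W.ι_image_top.le)).op b) = _
  rw [Scheme.basicOpen_res, W.ι_image_top]
  exact inf_eq_right.mpr (X.basicOpen_le b)


/-- **Relative ampleness is local on an affine base.** -/
theorem isAmple_restrict_preimage_of_cover {Y : Scheme.{u}} (f : X ⟶ Y) (V : Y.Opens)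
    (hV : IsAffineOpen V) (L : X.Modules)
    (h : ∀ y ∈ V, ∃ a : Γ(Y, V), y ∈ Y.basicOpen a ∧
      CohB1.IsAmple (L.restrict (f ⁻¹ᵁ (Y.basicOpen a)).ι)) :
    CohB1.IsAmple (L.restrict (f ⁻¹ᵁ V).ι) := by
  have h' : ∀ y : V, ∃ a : Γ(Y, V), y.1 ∈ Y.basicOpen a ∧
      CohB1.IsAmple (L.restrict (f ⁻¹ᵁ (Y.basicOpen a)).ι) := fun y => h y.1 y.2
  choose a ha hA using h'
  obtain ⟨t, ht⟩ := hV.isCompact.elim_finite_subcover
    (fun y : V => (Y.basicOpen (a y) : Set Y)) (fun y => (Y.basicOpen _).2)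
    (fun y hy => Set.mem_iUnion.mpr ⟨⟨y, hy⟩, ha ⟨y, hy⟩⟩)
  let g : {y // y ∈ t} → Γ(↑(f ⁻¹ᵁ V), ⊤) := fun y =>
    (show Γ(↑(f ⁻¹ᵁ V), ⊤) from
      X.presheaf.map (homOfLE ((f ⁻¹ᵁ V).ι_image_top.le)).op (f.app V (a y.1)))
  have himg : ∀ y : {y // y ∈ t}, (f ⁻¹ᵁ V).ι ''ᵁ (↑(f ⁻¹ᵁ V) : Scheme.{u}).basicOpen (g y) =
      f ⁻¹ᵁ (Y.basicOpen (a y.1)) := by
    intro y
    rw [Scheme.preimage_basicOpen]
    exact ι_image_basicOpen_res (f ⁻¹ᵁ V) (f.app V (a y.1))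
  refine isAmple_of_basicOpen_cover g (fun x' => ?_) (fun y => ?_)
  · have hx : f.base x'.1 ∈ (V : Set Y) := x'.2
    obtain ⟨y, hy⟩ := Set.mem_iUnion.mp (ht hx)
    obtain ⟨hyt, hxy⟩ := Set.mem_iUnion.mp hy
    refine ⟨⟨y, hyt⟩, ?_⟩
    have h1 : x'.1 ∈ (f ⁻¹ᵁ V).ι ''ᵁ (↑(f ⁻¹ᵁ V) : Scheme.{u}).basicOpen (g ⟨y, hyt⟩) := by
      rw [himg]
      exact hxy
    obtain ⟨z, hz, hzx⟩ := h1
    have : z = x' := Subtype.ext hzx
    rw [← this]
    exact hz
  · exact (isAmple_restrict_restrict_iff L (f ⁻¹ᵁ V) _ _ (himg y)).mpr (hA y.1)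


/-- Ampleness passes from an open to a smaller quasi-compact open. -/
theorem isAmple_restrict_of_le (L : X.Modules) (U W : X.Opens) (hWU : W ≤ U)
    (hW : IsCompact (W : Set X)) (h : CohB1.IsAmple (L.restrict U.ι)) :
    CohB1.IsAmple (L.restrict W.ι) := by
  have himg : U.ι ''ᵁ (U.ι ⁻¹ᵁ W) = W := by
    rw [Scheme.Hom.image_preimage_eq_opensRange_inf, Scheme.Opens.opensRange_ι]
    exact inf_eq_right.mpr hWU
  have hc : CompactSpace (↑(U.ι ⁻¹ᵁ W) : Scheme.{u}) := by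
    refine isCompact_iff_compactSpace.mp ?_
    refine (U.ι.isOpenEmbedding.isInducing.isCompact_preimage_iff ?_).mpr hW
    intro x hx
    exact ⟨⟨x, hWU hx⟩, rfl⟩
  exact (isAmple_restrict_restrict_iff L U (U.ι ⁻¹ᵁ W) W himg).mp
    (isAmple_restrict_of_compactSpace (U.ι ⁻¹ᵁ W).ι h)

end Groth.Agent.Lib.Lead.Inv
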