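import Groth.Agent.Lib.Lead.Inv3

/-!
# Products and powers of sections of invertible modules, and their generating loci
(lead seat library)
-/

set_option autoImplicit false
universe u

open AlgebraicGeometry CategoryTheory Opposite TopologicalSpace MonoidalCategory

namespace Groth.Agent.Lib.Lead.Inv

open Groth.Agent.Lib.Lead.QCohAff Groth.Agent.Lib.Helper35.GenLocus
  Groth.Agent.Lib.Helper35.GlobGen Groth.Agent.Lib.Lead.SheafGlue

variable {X : Scheme.{u}} {M N : X.Modules}

theorem val_secHom (σ : Γ(M, ⊤)) (W : X.Opens) :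
    val (secHom M σ) W = M.presheaf.map (homOfLE (le_top : W ≤ ⊤)).op σ :=
  secHom_app_one M σ W

theorem secHom_val (s : Coh.structureModule X ⟶ M) : secHom M (val s ⊤) = s := by
  apply Scheme.Modules.hom_ext
  intro U
  ext r
  have h1 := secHom_app M (val s ⊤) U r
  have h2 := app_eq_smul s U r
  rw [val_res s (le_top : U ≤ ⊤)] at h1
  exact h1.trans h2.symm

/-- The product of two sections. -/
noncomputable def secMul (s : Coh.structureModule X ⟶ M) (t : Coh.structureModule X ⟶ N) :
    Coh.structureModule X ⟶ CohB1.tensorMod M N :=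
  secHom _ (tmul M N (val s ⊤) (val t ⊤))

theorem val_secMul (s : Coh.structureModule X ⟶ M) (t : Coh.structureModule X ⟶ N)
    (W : X.Opens) : val (secMul s t) W = tmul M N (val s W) (val t W) := by
  rw [secMul, val_secHom, tmul_res, val_res, val_res]

/-- Multiplying a section by a global function. -/
noncomputable def secSmul (a : Γ(X, ⊤)) (s : Coh.structureModule X ⟶ M) :
    Coh.structureModule X ⟶ M :=
  secHom _ (a • val s ⊤)

theorem val_secSmul (a : Γ(X, ⊤)) (s : Coh.structureModule X ⟶ M) (W : X.Opens) :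
    val (secSmul a s) W = X.presheaf.map (homOfLE (le_top : W ≤ ⊤)).op a • val s W := by
  rw [secSmul, val_secHom, res_smul, val_res]

theorem genLocus_secMul (hM : PicF.IsInvertible M) (hN : PicF.IsInvertible N)
    (s : Coh.structureModule X ⟶ M) (t : Coh.structureModule X ⟶ N) :
    CohB1.genLocus _ (secMul s t) = CohB1.genLocus M s ⊓ CohB1.genLocus N t := by
  rw [isInvertible_iff_exists_isGen] at hM hN
  ext x
  obtain ⟨U₁, hx₁, e₁, he₁⟩ := hM x
  obtain ⟨U₂, hx₂, e₂, he₂⟩ := hN x
  have hx : x ∈ U₁ ⊓ U₂ := ⟨hx₁, hx₂⟩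
  have he := he₁.res (inf_le_left : U₁ ⊓ U₂ ≤ U₁)
  have he' := he₂.res (inf_le_right : U₁ ⊓ U₂ ≤ U₂)
  set U := U₁ ⊓ U₂
  set a := he.coeff le_rfl (val s U) with ha
  set b := he'.coeff le_rfl (val t U) with hb
  have ha' : a • M.presheaf.map (homOfLE inf_le_left).op e₁ = val s U := by
    have := he.coeff_smul le_rfl (val s U)
    rw [res_self] at this
    exact this
  have hb' : b • N.presheaf.map (homOfLE inf_le_right).op e₂ = val t U := by
    have := he'.coeff_smul le_rfl (val t U)
    rw [res_self] at this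
    exact this
  have hab : (a * b) • tmul M N (M.presheaf.map (homOfLE inf_le_left).op e₁)
      (N.presheaf.map (homOfLE inf_le_right).op e₂) = val (secMul s t) U := by
    rw [val_secMul, ← ha', ← hb', tmul_smul_left, tmul_smul_right, mul_smul]
  change x ∈ (CohB1.genLocus _ (secMul s t) : Set X) ↔
    x ∈ (CohB1.genLocus M s : Set X) ∧ x ∈ (CohB1.genLocus N t : Set X)
  have h1 := mem_genLocus_iff_of_isGen (isGen_tmul he he') (secMul s t) (a * b) hab x hx
  have h2 := mem_genLocus_iff_of_isGen he s a ha' x hx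
  have h3 := mem_genLocus_iff_of_isGen he' t b hb' x hx
  rw [X.basicOpen_mul] at h1
  exact h1.trans (Iff.and h2.symm h3.symm)

theorem genLocus_secSmul (hM : PicF.IsInvertible M) (a : Γ(X, ⊤))
    (s : Coh.structureModule X ⟶ M) :
    CohB1.genLocus M (secSmul a s) = X.basicOpen a ⊓ CohB1.genLocus M s := by
  rw [isInvertible_iff_exists_isGen] at hM
  ext x
  obtain ⟨U, hx, e, he⟩ := hM x
  set c := he.coeff le_rfl (val s U) with hc
  have hc' : c • e = val s U := by
    have := he.coeff_smul le_rfl (val s U)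
    rw [res_self] at this
    exact this
  have hac : (X.presheaf.map (homOfLE (le_top : U ≤ ⊤)).op a * c) • e = val (secSmul a s) U := by
    rw [val_secSmul, ← hc', mul_smul]
  change x ∈ (CohB1.genLocus M (secSmul a s) : Set X) ↔
    x ∈ (X.basicOpen a : Set X) ∧ x ∈ (CohB1.genLocus M s : Set X)
  have h1 := mem_genLocus_iff_of_isGen he (secSmul a s) _ hac x hx
  have h2 := mem_genLocus_iff_of_isGen he s c hc' x hx
  rw [X.basicOpen_mul, Scheme.basicOpen_res] at h1
  refine h1.trans ?_
  constructor
  · rintro ⟨⟨_, h3⟩, h4⟩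
    exact ⟨h3, h2.mpr h4⟩
  · rintro ⟨h3, h4⟩
    exact ⟨⟨hx, h3⟩, h2.mp h4⟩

/-- The generating locus is invariant under isomorphisms of the target. -/
theorem genLocus_comp_iso {M' : X.Modules} (s : Coh.structureModule X ⟶ M) (e : M ≅ M') :
    CohB1.genLocus M' (s ≫ e.hom) = CohB1.genLocus M s := by
  unfold CohB1.genLocus
  congr 1
  ext U
  simp only [Set.mem_setOf_eq, Functor.map_comp]
  constructor
  · intro h
    exact IsIso.of_isIso_comp_right _ ((Scheme.Modules.restrictFunctor U.ι).map e.hom)
  · intro h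
    infer_instance

end Groth.Agent.Lib.Lead.Inv
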