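import Groth.Agent.Lib.Lead.Inv6

/-!
# Sections of tensor powers of an invertible module: products, powers, casts
(lead seat library)
-/

set_option autoImplicit false
universe u

open AlgebraicGeometry CategoryTheory Opposite TopologicalSpace MonoidalCategory Limits

namespace Groth.Agent.Lib.Lead.Inv

open Groth.Agent.Lib.Lead.QCohAff Groth.Agent.Lib.Helper60.TensorLib

variable {X : Scheme.{u}}

theorem nonempty_tensorPow_congr {M M' : X.Modules} (e : M ≅ M') (n : ℕ) :
    Nonempty (CohB1.tensorPow M n ≅ CohB1.tensorPow M' n) := by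
  induction n with
  | zero => exact ⟨Iso.refl _⟩
  | succ n ih =>
    obtain ⟨i⟩ := ih
    exact ⟨tensorModCongrLeft i M ≪≫ tensorModCongrRight _ e⟩

theorem nonempty_tensorPow_cast (L : X.Modules) {a b : ℕ} (h : a = b) :
    Nonempty (CohB1.tensorPow L a ≅ CohB1.tensorPow L b) := by
  subst h
  exact ⟨Iso.refl _⟩

theorem nonempty_tensorPow_unit (n : ℕ) :
    Nonempty (CohB1.tensorPow (Coh.structureModule X) n ≅ Coh.structureModule X) := by
  induction n with
  | zero => exact ⟨Iso.refl _⟩
  | succ n ih =>
    obtain ⟨i⟩ := ih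
    obtain ⟨e⟩ := nonempty_unit_right (CohB1.tensorPow (Coh.structureModule X) n)
    exact ⟨e ≪≫ i⟩

/-- Powers of a section of `L^{⊗ a}`, as a section of `L^{⊗ (a * (k+1))}`. -/
theorem exists_pow_section {L : X.Modules} (hL : PicF.IsInvertible L) {a : ℕ}
    (s : Coh.structureModule X ⟶ CohB1.tensorPow L a) (k : ℕ) :
    ∃ s' : Coh.structureModule X ⟶ CohB1.tensorPow L (a * (k + 1)),
      CohB1.genLocus _ s' = CohB1.genLocus _ s := by
  obtain ⟨s', hs'⟩ := exists_section_of_iso (nonempty_tensorPow_mul hL a (k + 1)) (secPow s (k + 1))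
  exact ⟨s', hs'.trans (genLocus_secPow (isInvertible_tensorPow hL a) s k)⟩

/-- Products of sections of tensor powers. -/
theorem exists_mul_section {L : X.Modules} (hL : PicF.IsInvertible L) {a b : ℕ}
    (s : Coh.structureModule X ⟶ CohB1.tensorPow L a)
    (t : Coh.structureModule X ⟶ CohB1.tensorPow L b) :
    ∃ u : Coh.structureModule X ⟶ CohB1.tensorPow L (a + b),
      CohB1.genLocus _ u = CohB1.genLocus _ s ⊓ CohB1.genLocus _ t := by
  obtain ⟨e⟩ := nonempty_tensorPow_add hL a b
  obtain ⟨u, hu⟩ := exists_section_of_iso ⟨e.symm⟩ (secMul s t)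
  exact ⟨u, hu.trans (genLocus_secMul (isInvertible_tensorPow hL a) (isInvertible_tensorPow hL b)
    s t)⟩

/-- Casting the exponent. -/
theorem exists_cast_section (L : X.Modules) {a b : ℕ} (h : a = b)
    (s : Coh.structureModule X ⟶ CohB1.tensorPow L a) :
    ∃ s' : Coh.structureModule X ⟶ CohB1.tensorPow L b,
      CohB1.genLocus _ s' = CohB1.genLocus _ s :=
  exists_section_of_iso (nonempty_tensorPow_cast L h) s

/-- The intersection of an affine open with the generating locus of a section of an invertible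
module is affine. -/
theorem isAffineOpen_inf_genLocus {M : X.Modules} (hM : PicF.IsInvertible M)
    (s : Coh.structureModule X ⟶ M) {U : X.Opens} (hU : IsAffineOpen U) :
    IsAffineOpen (U ⊓ CohB1.genLocus M s) := by
  haveI := Groth.Agent.Lib.Helper35.GenLocus.isAffineHom_genLocus_ι M hM s
  have h1 : IsAffineOpen ((CohB1.genLocus M s).ι ⁻¹ᵁ U) := hU.preimage _
  have h2 := h1.image_of_isOpenImmersion (CohB1.genLocus M s).ι
  rw [Scheme.Hom.image_preimage_eq_opensRange_inf, Scheme.Opens.opensRange_ι, inf_comm] at h2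
  exact h2

/-- The generating locus of an endomorphism of `O_X` is a basic open. -/
theorem genLocus_end (f : Coh.structureModule X ⟶ Coh.structureModule X) :
    CohB1.genLocus _ f = X.basicOpen (show Γ(X, ⊤) from val f ⊤) := by
  have h := genLocus_inf_eq_basicOpen (isGen_one (⊤ : X.Opens)) f (show Γ(X, ⊤) from val f ⊤)
    (mul_one (show Γ(X, ⊤) from val f ⊤))
  rw [inf_top_eq] at h
  exact h

end Groth.Agent.Lib.Lead.Inv
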