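import Groth.Agent.Lib.Lead.Ample1

/-!
# Sections of powers of a tensor product of two invertible modules (lead seat library)
-/

set_option autoImplicit false
universe u

open AlgebraicGeometry CategoryTheory Opposite TopologicalSpace MonoidalCategory Limits

namespace Groth.Agent.Lib.Lead.Inv

open Groth.Agent.Lib.Lead.QCohAff Groth.Agent.Lib.Helper60.TensorLib

variable {X : Scheme.{u}}

/-- From sections `s` of `L^{m+1}` and `s'` of `L'^{n+1}`, a section of a positive power of
`L ⊗ L'` with generating locus `X_s ∩ X_{s'}`. -/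
theorem exists_section_tensor {L L' : X.Modules} (hL : PicF.IsInvertible L)
    (hL' : PicF.IsInvertible L') {m n : ℕ}
    (s : Coh.structureModule X ⟶ CohB1.tensorPow L (m + 1))
    (s' : Coh.structureModule X ⟶ CohB1.tensorPow L' (n + 1)) :
    ∃ (k : ℕ) (u : Coh.structureModule X ⟶ CohB1.tensorPow (CohB1.tensorMod L L') (k + 1)),
      CohB1.genLocus _ u = CohB1.genLocus _ s ⊓ CohB1.genLocus _ s' := by
  obtain ⟨s₁, hs₁⟩ := exists_pow_section hL s n
  obtain ⟨s₂, hs₂⟩ := exists_pow_section hL' s' m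
  obtain ⟨s₃, hs₃⟩ := exists_cast_section L' (Nat.mul_comm (n + 1) (m + 1)) s₂
  obtain ⟨u₁, hu₁⟩ := exists_section_of_iso
    ⟨(nonempty_tensorPow_tensorMod hL hL' ((m + 1) * (n + 1))).some.symm⟩ (secMul s₁ s₃)
  have hnat : (m + 1) * (n + 1) = (m * n + m + n) + 1 := by ring
  obtain ⟨u₂, hu₂⟩ := exists_cast_section (CohB1.tensorMod L L') hnat u₁
  refine ⟨m * n + m + n, u₂, ?_⟩
  rw [hu₂, hu₁, genLocus_secMul (isInvertible_tensorPow hL _) (isInvertible_tensorPow hL' _),
    hs₁, hs₃, hs₂]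

end Groth.Agent.Lib.Lead.Inv
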