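import Groth.Agent.Lib.Lead.Tw6
import Groth.Agent.Lib.Helper60.TensorRestrictPow
import Groth.Agent.Lib.Helper35.ModRestrict
import Groth.Agent.S2328
import Groth.Agent.S2327
import Groth.Prelude.Def_LCI2

/-!
# Relative ampleness: restriction to quasi-compact opens, tensor products, powers
(lead seat library)
-/

set_option autoImplicit false
universe u

open AlgebraicGeometry CategoryTheory Opposite TopologicalSpace MonoidalCategory Limits

namespace Groth.Agent.Lib.Lead.Inv

open Groth.Agent.Lib.Lead.QCohAff Groth.Agent.Lib.Helper60.TensorLib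
open Groth.Agent.Lib.Helper60.TensorRestrict

variable {X : Scheme.{u}}

/-- An ample module restricts to an ample module on every quasi-compact open subscheme. -/
theorem isAmple_restrict_of_compactSpace {Y : Scheme.{u}} (j : Y ⟶ X) [IsOpenImmersion j]
    [CompactSpace Y] {L : X.Modules} (hL : CohB1.IsAmple L) : CohB1.IsAmple (L.restrict j) := by
  refine ⟨Groth.Agent.Lib.Helper35.ModRestrict.isInvertible_restrict j L hL.1, inferInstance,
    fun y => ?_⟩
  obtain ⟨n₀, s₀, hx₀, haff₀⟩ := hL.2.2 (j.base y)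
  have hB := Groth.Agent.Lib.Helper35.Ample.isBasis_of_isAmple hL
  have hmem : j.base y ∈ (j.opensRange ⊓ CohB1.genLocus _ s₀ : X.Opens) :=
    ⟨⟨y, rfl⟩, hx₀⟩
  obtain ⟨_, ⟨n, s, rfl⟩, hxs, hsub⟩ := Opens.isBasis_iff_nbhd.mp hB hmem
  have haff : IsAffineOpen (CohB1.genLocus _ s) := by
    have := isAffineOpen_inf_genLocus (isInvertible_tensorPow hL.1 (n + 1)) s haff₀
    rwa [inf_eq_right.mpr (hsub.trans inf_le_right)] at this
  refine ⟨n, restrictPowSec j L (n + 1) s, ?_, ?_⟩
  · rw [genLocus_restrictPowSec]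
    exact hxs
  · rw [genLocus_restrictPowSec]
    exact haff.preimage_of_isOpenImmersion j (hsub.trans inf_le_left)

/-- The tensor product of two ample modules is ample. -/
theorem isAmple_tensorMod {L L' : X.Modules} (hL : CohB1.IsAmple L) (hL' : CohB1.IsAmple L') :
    CohB1.IsAmple (CohB1.tensorMod L L') :=
  Groth.Agent.S2328.aux X L L' hL hL'.1 (fun x => by
    obtain ⟨n, s, hx, -⟩ := hL'.2.2 x
    exact ⟨n, s, hx⟩)

end Groth.Agent.Lib.Lead.Inv
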