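import Groth.Agent.Lib.Lead.SheafGlue
import Groth.Agent.Lib.Lead.QCohPush
import Mathlib.AlgebraicGeometry.Morphisms.QuasiSeparated

/-!
# Sections of a quasi-coherent module over a qcqs open localize (lead seat library)

For `F` quasi-coherent, `U` a compact and quasi-separated open, `f ∈ Γ(X, U)`:
`Γ(F, D(f)) = Γ(F, U)_f` (in the elementwise form `LocOn F U`).
-/

set_option autoImplicit false
universe u

open AlgebraicGeometry CategoryTheory Opposite TopologicalSpace

namespace Groth.Agent.Lib.Lead.QcqsLoc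

open Groth.Agent.Lib.Lead.QCohAff Groth.Agent.Lib.Lead.SheafGlue

variable {X : Scheme.{u}} (F : X.Modules) [F.IsQuasicoherent]

/-- A section over a compact open vanishing on `D(f)` is killed by a power of `f`. -/
theorem exists_pow_smul_eq_zero_of_isCompact {U : X.Opens} (hU : IsCompact U.1) (f : Γ(X, U))
    (s : Γ(F, U)) (hs : F.presheaf.map (homOfLE (X.basicOpen_le f)).op s = 0) :
    ∃ n : ℕ, f ^ n • s = 0 := by
  obtain ⟨S, hS, e⟩ := isCompact_and_isOpen_iff_finite_and_eq_biUnion_affineOpens.mp ⟨hU, U.2⟩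
  replace e : U = iSup fun i : S => (i : X.Opens) := by ext1; simpa using e
  have h₁ (i : S) : i.1.1 ≤ U := by
    rw [e]; exact le_iSup (fun (i : S) => (i : X.Opens)) _
  have H' : ∀ i : S, ∃ n : ℕ, (X.presheaf.map (homOfLE (h₁ i)).op f) ^ n •
      F.presheaf.map (homOfLE (h₁ i)).op s = 0 := by
    intro i
    apply exists_pow_smul_eq_zero F i.1.2
    have hle : X.basicOpen (X.presheaf.map (homOfLE (h₁ i)).op f) ≤ X.basicOpen f := by
      rw [Scheme.basicOpen_res]; exact inf_le_right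
    rw [res_res]
    have := congrArg (F.presheaf.map (homOfLE hle).op) hs
    rw [res_res, map_zero] at this
    exact this
  choose n hn using H'
  have := hS.to_subtype
  cases nonempty_fintype S
  refine ⟨Finset.univ.sup n, ?_⟩
  refine (shf F).eq_of_locally_eq' (fun i : S => i.1.1) U (fun i => homOfLE (h₁ i)) (le_of_eq e)
    _ 0 ?_
  intro i
  change F.presheaf.map (homOfLE (h₁ i)).op _ = F.presheaf.map (homOfLE (h₁ i)).op 0
  rw [map_zero, res_smul, map_pow, ← tsub_add_cancel_of_le (Finset.le_sup (Finset.mem_univ i)),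
    pow_add, mul_smul, hn i, smul_zero]

omit [F.IsQuasicoherent] in
/-- Transfer of an extension identity to any smaller open. -/
theorem res_eq_of_res_basicOpen_eq {V A D₀ : X.Opens} (f : Γ(X, V)) (t : Γ(F, X.basicOpen f))
    (hA : A ≤ V) (sA : Γ(F, A)) (n : ℕ)
    (hDA : X.basicOpen (X.presheaf.map (homOfLE hA).op f) ≤ X.basicOpen f)
    (hsA : F.presheaf.map (homOfLE (X.basicOpen_le (X.presheaf.map (homOfLE hA).op f))).op sA =
      (X.presheaf.map (homOfLE (X.basicOpen_le (X.presheaf.map (homOfLE hA).op f))).op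
        (X.presheaf.map (homOfLE hA).op f)) ^ n • F.presheaf.map (homOfLE hDA).op t)
    (h₀A : D₀ ≤ A) (h₀f : D₀ ≤ X.basicOpen f) :
    F.presheaf.map (homOfLE h₀A).op sA =
      (X.presheaf.map (homOfLE (h₀A.trans hA)).op f) ^ n • F.presheaf.map (homOfLE h₀f).op t := by
  have h₀ : D₀ ≤ X.basicOpen (X.presheaf.map (homOfLE hA).op f) := by
    rw [Scheme.basicOpen_res]; exact le_inf h₀A h₀f
  have := congrArg (F.presheaf.map (homOfLE h₀).op) hsA
  rw [res_res, res_smul, map_pow, res_resX, res_resX, res_res] at this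
  exact this

/-- A section over `D(f)`, multiplied by a power of `f`, extends to the compact quasi-separated
open `U`. -/
theorem exists_res_eq_pow_smul_of_qcqs {U : X.Opens} (hU : IsCompact U.1)
    (hU' : IsQuasiSeparated U.1) (f : Γ(X, U)) (t : Γ(F, X.basicOpen f)) :
    ∃ (n : ℕ) (s : Γ(F, U)), F.presheaf.map (homOfLE (X.basicOpen_le f)).op s =
      (X.presheaf.map (homOfLE (X.basicOpen_le f)).op f) ^ n • t := by
  revert hU' f t
  refine compact_open_induction_on U hU ?_ ?_
  · intro _ f t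
    refine ⟨0, 0, ?_⟩
    have hbot : X.basicOpen f = ⊥ := eq_bot_iff.mpr (X.basicOpen_le f)
    rw [eq_zero_of_bot F hbot (_ • t), map_zero]
  · intro S hS U hIH hSU f t
    -- restrictions of `f`
    set f₁ : Γ(X, S) := X.presheaf.map (homOfLE (le_sup_left : S ≤ S ⊔ U.1)).op f with hf₁
    set f₂ : Γ(X, U.1) := X.presheaf.map (homOfLE (le_sup_right : U.1 ≤ S ⊔ U.1)).op f with hf₂
    have hD₁ : X.basicOpen f₁ ≤ X.basicOpen f := by
      rw [hf₁, Scheme.basicOpen_res]; exact inf_le_right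
    have hD₂ : X.basicOpen f₂ ≤ X.basicOpen f := by
      rw [hf₂, Scheme.basicOpen_res]; exact inf_le_right
    obtain ⟨n₁, s₁, hs₁⟩ := hIH (hSU.of_subset Set.subset_union_left) f₁
      (F.presheaf.map (homOfLE hD₁).op t)
    obtain ⟨n₂, s₂, hs₂⟩ := exists_res_eq_pow_smul F U.2 f₂ (F.presheaf.map (homOfLE hD₂).op t)
    -- the intersection is compact
    have hW : IsCompact (S ⊓ U.1).1 :=
      hSU _ _ Set.subset_union_left S.2 hS Set.subset_union_right U.1.2 U.2.isCompact
    have hWS : S ⊓ U.1 ≤ S := inf_le_left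
    have hWU : S ⊓ U.1 ≤ U.1 := inf_le_right
    have hWV : S ⊓ U.1 ≤ S ⊔ U.1 := hWS.trans le_sup_left
    set f₀ : Γ(X, S ⊓ U.1) := X.presheaf.map (homOfLE hWV).op f with hf₀
    have hD₀ : X.basicOpen f₀ ≤ X.basicOpen f := by
      rw [hf₀, Scheme.basicOpen_res]; exact inf_le_right
    -- transfer identities
    have key₁ : ∀ (D₀ : X.Opens) (h₀S : D₀ ≤ S) (h₀f : D₀ ≤ X.basicOpen f),
        F.presheaf.map (homOfLE h₀S).op s₁ =
          (X.presheaf.map (homOfLE (h₀S.trans le_sup_left)).op f) ^ n₁ •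
            F.presheaf.map (homOfLE h₀f).op t := fun D₀ h₀S h₀f =>
      res_eq_of_res_basicOpen_eq F f t le_sup_left s₁ n₁ hD₁ hs₁ h₀S h₀f
    have key₂ : ∀ (D₀ : X.Opens) (h₀U : D₀ ≤ U.1) (h₀f : D₀ ≤ X.basicOpen f),
        F.presheaf.map (homOfLE h₀U).op s₂ =
          (X.presheaf.map (homOfLE (h₀U.trans le_sup_right)).op f) ^ n₂ •
            F.presheaf.map (homOfLE h₀f).op t := fun D₀ h₀U h₀f =>
      res_eq_of_res_basicOpen_eq F f t le_sup_right s₂ n₂ hD₂ hs₂ h₀U h₀f
    -- the difference on the intersection dies on `D(f₀)`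
    have hd : F.presheaf.map (homOfLE (X.basicOpen_le f₀)).op
        (F.presheaf.map (homOfLE hWS).op (f₁ ^ n₂ • s₁) -
          F.presheaf.map (homOfLE hWU).op (f₂ ^ n₁ • s₂)) = 0 := by
      rw [map_sub, res_res, res_res, res_smul, res_smul, map_pow, map_pow,
        key₁ _ ((X.basicOpen_le f₀).trans hWS) hD₀, key₂ _ ((X.basicOpen_le f₀).trans hWU) hD₀,
        hf₁, hf₂, res_resX, res_resX, smul_comm, sub_self]
    obtain ⟨m, hm⟩ := exists_pow_smul_eq_zero_of_isCompact F hW f₀ _ hd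
    have hglue : F.presheaf.map (homOfLE (inf_le_left : S ⊓ U.1 ≤ S)).op (f₁ ^ (m + n₂) • s₁) =
        F.presheaf.map (homOfLE (inf_le_right : S ⊓ U.1 ≤ U.1)).op (f₂ ^ (m + n₁) • s₂) := by
      rw [res_smul, res_smul, map_pow, map_pow, hf₁, hf₂, res_resX, res_resX, smul_sub,
        sub_eq_zero, ← mul_smul, ← mul_smul, ← pow_add, ← pow_add] at hm
      rw [res_smul, res_smul, map_pow, map_pow, hf₁, hf₂, res_resX, res_resX]
      exact hm
    obtain ⟨s, hsS, hsU⟩ := exists_glue₂ F _ _ hglue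
    refine ⟨m + n₁ + n₂, s, ?_⟩
    have hcover : X.basicOpen f ≤ X.basicOpen f₁ ⊔ X.basicOpen f₂ := by
      rw [hf₁, hf₂, Scheme.basicOpen_res, Scheme.basicOpen_res, ← inf_sup_right]
      exact le_inf (X.basicOpen_le f) le_rfl
    have e₁ : X.presheaf.map (homOfLE (X.basicOpen_le f₁)).op f₁ =
        X.presheaf.map (homOfLE ((X.basicOpen_le f₁).trans le_sup_left)).op f := res_resX _ _ f
    have e₂ : X.presheaf.map (homOfLE (X.basicOpen_le f₂)).op f₂ =
        X.presheaf.map (homOfLE ((X.basicOpen_le f₂).trans le_sup_right)).op f := res_resX _ _ f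
    apply eq_of_res₂ F hD₁ hD₂ hcover
    · rw [res_res, ← res_res F (le_sup_left : S ≤ S ⊔ U.1) (X.basicOpen_le f₁), hsS, res_smul,
        map_pow, key₁ _ (X.basicOpen_le f₁) hD₁, res_smul, map_pow, e₁, res_resX,
        ← mul_smul, ← pow_add]
      congr 2
      omega
    · rw [res_res, ← res_res F (le_sup_right : U.1 ≤ S ⊔ U.1) (X.basicOpen_le f₂), hsU, res_smul,
        map_pow, key₂ _ (X.basicOpen_le f₂) hD₂, res_smul, map_pow, e₂, res_resX,
        ← mul_smul, ← pow_add]

end Groth.Agent.Lib.Lead.QcqsLoc
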