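import Groth.Agent.Lib.Lead.RelAmp1
import Groth.Agent.Lib.Lead.QcqsLoc
import Groth.Agent.Lib.Helper35.InvLocal

/-!
# Ampleness is local on an affine base (lead seat library)
-/

set_option autoImplicit false
universe u

open AlgebraicGeometry CategoryTheory Opposite TopologicalSpace MonoidalCategory Limits

namespace Groth.Agent.Lib.Lead.Inv

open Groth.Agent.Lib.Lead.QCohAff Groth.Agent.Lib.Helper60.TensorLib
open Groth.Agent.Lib.Helper60.TensorRestrict Groth.Agent.Lib.Helper35.GlobGen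

variable {X : Scheme.{u}}

/-- A morphism out of the structure sheaf is determined by its value over `⊤`. -/
theorem hom_ext_val {M : X.Modules} (s s' : Coh.structureModule X ⟶ M)
    (h : val s ⊤ = val s' ⊤) : s = s' := by
  rw [← secHom_val s, ← secHom_val s', h]

theorem val_restrictSec {Y : Scheme.{u}} (j : Y ⟶ X) [IsOpenImmersion j] (M : X.Modules)
    (t : Coh.structureModule X ⟶ M) (W : Y.Opens) :
    (val (restrictSec j M t) W : Γ(M, j ''ᵁ W)) = val t (j ''ᵁ W) := by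
  change (t.app (j ''ᵁ W)).hom (((Scheme.Modules.restrictUnitIso j).inv.app W).hom
    (show Γ(Coh.structureModule Y, W) from (1 : Γ(Y, W)))) = _
  congr 1
  change (j.appIso W).inv.hom (1 : Γ(Y, W)) = 1
  exact map_one _

/-- **Key lemma.**  On a qcqs scheme, a section of an invertible module `M` over a basic open
`U = D(g)` gives a global section of `M` with the same generating locus. -/
theorem exists_section_of_basicOpen [CompactSpace X] [QuasiSeparatedSpace X] {M : X.Modules}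
    (hM : PicF.IsInvertible M) (g : Γ(X, ⊤)) (U : X.Opens) (hUg : U = X.basicOpen g)
    (s₁ : Coh.structureModule (↑U : Scheme.{u}) ⟶ M.restrict U.ι) :
    ∃ t : Coh.structureModule X ⟶ M,
      CohB1.genLocus M t = U.ι ''ᵁ CohB1.genLocus _ s₁ := by
  have hq := isQuasicoherent_of_isInvertible hM
  have hUg' : U ≤ X.basicOpen g := hUg.le
  have hjt : U.ι ''ᵁ ⊤ = U := U.ι_image_top
  -- the section over `U`
  let σ₀ : Γ(M, U.ι ''ᵁ ⊤) := val s₁ ⊤
  let σ : Γ(M, U) := M.presheaf.map (homOfLE hjt.ge).op σ₀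
  obtain ⟨n, τ, hτ⟩ : ∃ (n : ℕ) (τ : Γ(M, ⊤)),
      M.presheaf.map (homOfLE (le_top : U ≤ ⊤)).op τ =
        (X.presheaf.map (homOfLE (le_top : U ≤ ⊤)).op g) ^ n • σ := by
    subst hUg
    exact Groth.Agent.Lib.Lead.QcqsLoc.exists_res_eq_pow_smul_of_qcqs M
      (U := ⊤) isCompact_univ (isQuasiSeparated_univ_iff.mpr inferInstance) g σ
  -- the global section
  let t : Coh.structureModule X ⟶ M := secSmul g (secHom M τ)
  have ht : CohB1.genLocus M t = U ⊓ CohB1.genLocus M (secHom M τ) := by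
    rw [hUg]
    exact genLocus_secSmul hM g _
  -- the unit
  let a : Γ(X, U.ι ''ᵁ ⊤) := X.presheaf.map (homOfLE (le_top : U.ι ''ᵁ ⊤ ≤ ⊤)).op g
  have key : restrictSec U.ι M t = secSmul (show Γ(↑U, ⊤) from a ^ (n + 1)) s₁ := by
    apply hom_ext_val
    rw [val_secSmul, restrict_smul]
    apply (res_bijective_of_eq M hjt.symm).1
    change M.presheaf.map (homOfLE hjt.ge).op (val (restrictSec U.ι M t) ⊤ : Γ(M, U.ι ''ᵁ ⊤)) =
      M.presheaf.map (homOfLE hjt.ge).op _
    rw [val_restrictSec, val_res, res_smul, val_secSmul, val_secHom]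
    change _ = X.presheaf.map (homOfLE hjt.ge).op
      ((↑U : Scheme.{u}).presheaf.map (homOfLE (le_top : (⊤ : (↑U : Scheme.{u}).Opens) ≤ ⊤)).op
        (show Γ(↑U, ⊤) from a ^ (n + 1))) • σ
    have h1 : (↑U : Scheme.{u}).presheaf.map
        (homOfLE (le_top : (⊤ : (↑U : Scheme.{u}).Opens) ≤ ⊤)).op
        (show Γ(↑U, ⊤) from a ^ (n + 1)) = a ^ (n + 1) := by
      have : (homOfLE (le_top : (⊤ : (↑U : Scheme.{u}).Opens) ≤ ⊤)).op = 𝟙 _ := rfl
      rw [this, (↑U : Scheme.{u}).presheaf.map_id]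
      rfl
    rw [h1, map_pow, res_resX, hτ, pow_succ', mul_smul]
  have ha : IsUnit a := by
    have h1 : a = X.presheaf.map (homOfLE (hjt.le.trans hUg')).op
        (X.presheaf.map (homOfLE (X.basicOpen_le g)).op g) := by
      rw [res_resX]
    rw [h1]
    exact (isUnit_res_basicOpen g).map _
  have ha' : IsUnit (show Γ(↑U, ⊤) from a ^ (n + 1)) := ha.pow (n + 1)
  have hM' : PicF.IsInvertible (M.restrict U.ι) :=
    Groth.Agent.Lib.Helper35.ModRestrict.isInvertible_restrict U.ι M hM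
  have h2 := genLocus_restrictSec U.ι M t
  rw [key, genLocus_secSmul hM', Scheme.basicOpen_of_isUnit _ ha', top_inf_eq] at h2
  refine ⟨t, ?_⟩
  rw [h2, Scheme.Hom.image_preimage_eq_opensRange_inf, Scheme.Opens.opensRange_ι]
  exact (inf_eq_right.mpr (ht.le.trans inf_le_left)).symm


/-- Invertibility is local for the Zariski topology. -/
theorem isInvertible_of_restrict {L : X.Modules}
    (h : ∀ x : X, ∃ U : X.Opens, x ∈ U ∧ PicF.IsInvertible (L.restrict U.ι)) :
    PicF.IsInvertible L := by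
  intro x
  obtain ⟨U, hxU, hU⟩ := h x
  obtain ⟨V', hxV', ⟨e⟩⟩ := hU ⟨x, hxU⟩
  refine ⟨U.ι ''ᵁ V', ⟨⟨x, hxU⟩, hxV', rfl⟩, ?_⟩
  have hr : Set.range (V'.ι ≫ U.ι) = Set.range (U.ι ''ᵁ V').ι := by
    simp [Scheme.Hom.comp_base, Set.range_comp]
  let φ := IsOpenImmersion.isoOfRangeEq (V'.ι ≫ U.ι) (U.ι ''ᵁ V').ι hr
  have e1 : (L.restrict (U.ι ''ᵁ V').ι).restrict φ.hom ≅ L.restrict (φ.hom ≫ (U.ι ''ᵁ V').ι) :=
    ((Scheme.Modules.restrictFunctorComp _ _).app L).symm
  have e2 : L.restrict (φ.hom ≫ (U.ι ''ᵁ V').ι) ≅ L.restrict (V'.ι ≫ U.ι) :=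
    (Scheme.Modules.restrictFunctorCongr
      (IsOpenImmersion.isoOfRangeEq_hom_fac (V'.ι ≫ U.ι) (U.ι ''ᵁ V').ι hr)).app L
  have e3 : L.restrict (V'.ι ≫ U.ι) ≅ (L.restrict U.ι).restrict V'.ι :=
    (Scheme.Modules.restrictFunctorComp _ _).app L
  exact Groth.Agent.Lib.Helper35.InvLocal.nonempty_iso_structureModule_of_isIso φ.hom _
    (e1 ≪≫ e2 ≪≫ e3 ≪≫ e)

/-- A scheme covered by finitely many basic opens `D(g_i)`, `g_i` global functions, each
quasi-separated, is quasi-separated. -/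
theorem quasiSeparatedSpace_of_basicOpen_cover {ι : Type*} [Finite ι] (g : ι → Γ(X, ⊤))
    (hcov : ∀ x : X, ∃ i, x ∈ X.basicOpen (g i))
    (hqs : ∀ i, IsQuasiSeparated (X.basicOpen (g i) : Set X)) : QuasiSeparatedSpace X := by
  rw [quasiSeparatedSpace_iff_forall_affineOpens]
  intro U V
  have hUV : (U.1 ∩ V.1 : Set X) = ⋃ i, ((U.1 ⊓ X.basicOpen (g i) : X.Opens) : Set X) ∩
      ((V.1 ⊓ X.basicOpen (g i) : X.Opens) : Set X) := by
    ext x
    simp only [Set.mem_inter_iff, Set.mem_iUnion, Opens.coe_inf, SetLike.mem_coe]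
    constructor
    · rintro ⟨hxU, hxV⟩
      obtain ⟨i, hi⟩ := hcov x
      exact ⟨i, ⟨hxU, hi⟩, ⟨hxV, hi⟩⟩
    · rintro ⟨i, ⟨hxU, -⟩, ⟨hxV, -⟩⟩
      exact ⟨hxU, hxV⟩
  rw [hUV]
  refine isCompact_iUnion (fun i => ?_)
  have key : ∀ W : X.affineOpens, IsCompact ((W.1 ⊓ X.basicOpen (g i) : X.Opens) : Set X) := by
    intro W
    have h1 : W.1 ⊓ X.basicOpen (g i) =
        X.basicOpen (X.presheaf.map (homOfLE (le_top : W.1 ≤ ⊤)).op (g i)) := by
      rw [Scheme.basicOpen_res]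
    rw [h1]
    exact (W.2.basicOpen _).isCompact
  exact hqs i _ _ (by intro x hx; exact hx.2) (Opens.isOpen _) (key U)
    (by intro x hx; exact hx.2) (Opens.isOpen _) (key V)


/-- **Ampleness is local on an affine base** (EGA II 4.6.4, absolute form): if `X` is covered by
finitely many basic opens `D(g_i)` of global functions and `L` is ample on each, then `L` is
ample. -/
theorem isAmple_of_basicOpen_cover {ι : Type*} [Finite ι] (g : ι → Γ(X, ⊤))
    (hcov : ∀ x : X, ∃ i, x ∈ X.basicOpen (g i)) {L : X.Modules}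
    (hA : ∀ i, CohB1.IsAmple (L.restrict (X.basicOpen (g i)).ι)) : CohB1.IsAmple L := by
  have hInv : PicF.IsInvertible L := isInvertible_of_restrict (fun x => by
    obtain ⟨i, hi⟩ := hcov x
    exact ⟨_, hi, (hA i).1⟩)
  have hc : CompactSpace X := by
    rw [← isCompact_univ_iff]
    have : (Set.univ : Set X) = ⋃ i, (X.basicOpen (g i) : Set X) := by
      ext x
      simp only [Set.mem_univ, Set.mem_iUnion, SetLike.mem_coe, true_iff]
      exact hcov x
    rw [this]
    exact isCompact_iUnion (fun i => isCompact_iff_compactSpace.mpr (hA i).2.1)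
  have hqs : QuasiSeparatedSpace X := by
    refine quasiSeparatedSpace_of_basicOpen_cover g hcov (fun i => ?_)
    refine (isQuasiSeparated_iff_quasiSeparatedSpace
      ((X.basicOpen (g i) : X.Opens) : Set X) (X.basicOpen (g i)).2).mpr ?_
    exact Groth.Agent.Lib.Helper35.Ample.quasiSeparatedSpace_of_cover_genLocus (hA i).1 (hA i).2.2
  refine ⟨hInv, hc, fun x => ?_⟩
  obtain ⟨i, hi⟩ := hcov x
  obtain ⟨n, s, hxs, haff⟩ := (hA i).2.2 ⟨x, hi⟩
  let e := restrictTensorPowIso (X.basicOpen (g i)).ι L (n + 1)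
  have h1 : CohB1.genLocus _ (s ≫ e.symm.hom) = CohB1.genLocus _ s := genLocus_comp_iso s e.symm
  obtain ⟨t, ht⟩ := exists_section_of_basicOpen (isInvertible_tensorPow hInv (n + 1)) (g i)
    (X.basicOpen (g i)) rfl (s ≫ e.symm.hom)
  refine ⟨n, t, ?_, ?_⟩
  · rw [ht, h1]
    exact ⟨⟨x, hi⟩, hxs, rfl⟩
  · rw [ht, h1]
    exact haff.image_of_isOpenImmersion _

end Groth.Agent.Lib.Lead.Inv
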