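import Mathlib.AlgebraicGeometry.Morphisms.FlatDescent
import Mathlib.AlgebraicGeometry.QuasiAffine

/-!
# Faithfully flat descent of quasi-affineness over an affine base (lead seat library)
-/

set_option autoImplicit false
universe u
open CategoryTheory CategoryTheory.Limits AlgebraicGeometry

namespace Groth.Agent.Lib.Lead.QAffDescent

open TopologicalSpace MorphismProperty

/-- qcqs descends along a surjective affine morphism. -/
theorem qcqs_of_surjective_affine {X Y : Scheme.{u}} (q : Y ⟶ X) [Surjective q] [IsAffineHom q]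
    [CompactSpace Y] [QuasiSeparatedSpace Y] : CompactSpace X ∧ QuasiSeparatedSpace X := by
  constructor
  · constructor
    have : (Set.univ : Set X) = q.base '' Set.univ := by
      rw [Set.image_univ]; exact (Set.range_eq_univ.mpr q.surjective).symm
    rw [this]
    exact isCompact_univ.image q.continuous
  · rw [quasiSeparatedSpace_iff_forall_affineOpens]
    intro U V
    have hU : IsAffineOpen (q ⁻¹ᵁ U.1) := U.2.preimage q
    have hV : IsAffineOpen (q ⁻¹ᵁ V.1) := V.2.preimage q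
    have hc : IsCompact ((q ⁻¹ᵁ U.1 : Set Y) ∩ (q ⁻¹ᵁ V.1 : Set Y)) :=
      QuasiSeparatedSpace.inter_isCompact _ _ (q ⁻¹ᵁ U.1).2 hU.isCompact (q ⁻¹ᵁ V.1).2 hV.isCompact
    have : ((U : Set X) ∩ (V : Set X)) = q.base '' ((q ⁻¹ᵁ U.1 : Set Y) ∩ (q ⁻¹ᵁ V.1 : Set Y)) := by
      ext x
      constructor
      · rintro ⟨hxU, hxV⟩
        obtain ⟨y, rfl⟩ := q.surjective x
        exact ⟨y, ⟨hxU, hxV⟩, rfl⟩
      · rintro ⟨y, ⟨hyU, hyV⟩, rfl⟩
        exact ⟨hyU, hyV⟩
    rw [this]
    exact hc.image q.continuous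

theorem appLE_top {X Y : Scheme.{u}} (f : X ⟶ Y) (e : (⊤ : X.Opens) ≤ f ⁻¹ᵁ ⊤) :
    f.appLE ⊤ ⊤ e = f.appTop :=
  Scheme.Hom.appLE_eq_app f (U := ⊤)

/-- **Faithfully flat descent of quasi-affineness**: if `W = Y ×_{Spec R} Spec S` with `R → S`
faithfully flat and `W` is quasi-affine, then `Y` is quasi-affine. -/
theorem isQuasiAffine_of_isPullback {W Y : Scheme.{u}} {R S : CommRingCat.{u}} (φ : R ⟶ S)
    (s : Y ⟶ Spec R) (q : W ⟶ Y) (r : W ⟶ Spec S) (hsq : IsPullback q r s (Spec.map φ))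
    [Surjective (Spec.map φ)] [Flat (Spec.map φ)] [W.IsQuasiAffine] : Y.IsQuasiAffine := by
  let g : Spec S ⟶ Spec R := Spec.map φ
  haveI : Surjective q := MorphismProperty.of_isPullback (P := @Surjective) hsq.flip inferInstance
  haveI : IsAffineHom g := inferInstanceAs (IsAffineHom (Spec.map _))
  haveI : IsAffineHom q :=
    MorphismProperty.of_isPullback (P := @IsAffineHom) hsq.flip ‹IsAffineHom g›
  obtain ⟨hc, hqs⟩ := qcqs_of_surjective_affine q
  let a : R ⟶ Γ(Y, ⊤) := (Scheme.ΓSpecIso R).inv ≫ s.appTop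
  have ha : Y.toSpecΓ ≫ Spec.map a = s := by
    rw [Spec.map_comp, ← Category.assoc, ← Scheme.toSpecΓ_naturality, Category.assoc,
      toSpecΓ_SpecMap_ΓSpecIso_inv, Category.comp_id]
  let T := pullback (Spec.map a) g
  let h : T ⟶ Spec Γ(Y, ⊤) := pullback.fst _ _
  let τ : W ⟶ T := pullback.lift (q ≫ Y.toSpecΓ) r
    (by rw [Category.assoc, ha]; exact hsq.w)
  have hpb : IsPullback τ q h Y.toSpecΓ := by
    have right : IsPullback (pullback.snd (Spec.map a) g) h g (Spec.map a) :=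
      (IsPullback.of_hasPullback _ _).flip
    have outer : IsPullback (τ ≫ pullback.snd (Spec.map a) g) q g (Y.toSpecΓ ≫ Spec.map a) := by
      have e1 : τ ≫ pullback.snd (Spec.map a) g = r := pullback.lift_snd _ _ _
      rw [e1, ha]
      exact hsq.flip
    exact IsPullback.of_right outer (pullback.lift_fst _ _ _) right
  haveI : Surjective h := inferInstanceAs (Surjective (pullback.fst (Spec.map a) g))
  haveI : Flat h := inferInstanceAs (Flat (pullback.fst (Spec.map a) g))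
  haveI : QuasiCompact h := inferInstanceAs (QuasiCompact (pullback.fst (Spec.map a) g))
  -- flat base change of global sections
  have hiso : IsIso τ.appTop := by
    have hUST : (⊤ : T.Opens) ≤ h ⁻¹ᵁ ⊤ := fun _ _ => trivial
    have hUSX : (⊤ : Y.Opens) ≤ Y.toSpecΓ ⁻¹ᵁ ⊤ := fun _ _ => trivial
    have hUY : (⊤ : W.Opens) = q ⁻¹ᵁ ⊤ ⊓ τ ⁻¹ᵁ ⊤ := by simp
    have H := isIso_pushoutSection_of_isQuasiSeparated_of_flat_right hpb.flip hUST hUSX hUY
      (isAffineOpen_top _) (isAffineOpen_top _) isCompact_univ isQuasiSeparated_univ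
    have e1 : Y.toSpecΓ.appLE ⊤ ⊤ hUSX = Y.toSpecΓ.appTop := appLE_top _ _
    haveI : IsIso (Y.toSpecΓ.appLE ⊤ ⊤ hUSX) := by
      rw [e1, Scheme.toSpecΓ_appTop]; infer_instance
    have e2 : τ.appLE ⊤ ⊤ (by simp) =
        pushout.inr (Y.toSpecΓ.appLE ⊤ ⊤ hUSX) (h.appLE ⊤ ⊤ hUST) ≫
          pushoutSection hpb.flip hUST hUSX hUY := (pushout.inr_desc _ _ _).symm
    have e3 : τ.appLE ⊤ ⊤ (by simp) = τ.appTop := appLE_top _ _
    rw [← e3, e2]
    infer_instance
  have hτ : IsOpenImmersion τ := by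
    have hn : τ ≫ T.toSpecΓ = W.toSpecΓ ≫ Spec.map τ.appTop :=
      Scheme.toSpecΓ_naturality τ
    haveI : IsOpenImmersion (τ ≫ T.toSpecΓ) := by rw [hn]; infer_instance
    have : τ = (τ ≫ T.toSpecΓ) ≫ inv T.toSpecΓ := by simp
    rw [this]; infer_instance
  haveI : IsOpenImmersion Y.toSpecΓ :=
    MorphismProperty.of_isPullback_of_descendsAlong (P := @IsOpenImmersion)
      (Q := @Surjective ⊓ @Flat ⊓ @QuasiCompact) hpb ⟨⟨inferInstance, inferInstance⟩, inferInstance⟩ hτ
  exact { toCompactSpace := hc, toIsImmersion := inferInstance }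

end Groth.Agent.Lib.Lead.QAffDescent
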