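import Groth.Agent.Lib.Lead.RelAmp1
import Groth.Agent.Lib.Lead.QAffDescent
import Groth.Agent.Lib.Helper35.Ample1
import Groth.Agent.Lib.Helper35.AmpleFamily
import Groth.Agent.Lib.Helper35.GenLocus

/-!
# Descent of ampleness, part 1: `X_σ` is quasi-affine for `L` ample; descent of quasi-affine opens
(lead seat library)
-/

set_option autoImplicit false
universe u

open AlgebraicGeometry CategoryTheory CategoryTheory.Limits Opposite TopologicalSpace

namespace Groth.Agent.Lib.Lead.AmpleDescent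

open Groth.Agent.Lib.Lead.Inv Groth.Agent.Lib.Helper60.TensorRestrict

section QA

variable {X : Scheme.{u}}

theorem isIso_of_genLocus_eq_top {M : X.Modules} (s : Coh.structureModule X ⟶ M)
    (h : CohB1.genLocus M s = ⊤) : IsIso s := by
  rw [Scheme.Modules.Hom.isIso_iff_isIso_app]
  intro W
  rw [ConcreteCategory.isIso_iff_bijective]
  exact Groth.Agent.Lib.Helper35.GenLocus.bijective_app_of_le_genLocus M s W (h ▸ le_top)

theorem isAmple_tensorPow_succ {N : X.Modules} (hN : CohB1.IsAmple N) (m : ℕ) :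
    CohB1.IsAmple (CohB1.tensorPow N (m + 1)) := by
  induction m with
  | zero =>
    obtain ⟨e⟩ := Groth.Agent.Lib.Helper35.AmpleFamily.nonempty_tensorPow_one N
    exact Groth.Agent.Lib.Helper35.Ample.isAmple_of_iso e hN
  | succ m ih => exact isAmple_tensorMod ih hN

/-- For `L` ample, the open `X_σ` of a section of a positive power of `L` is a quasi-affine
scheme. -/
theorem isQuasiAffine_genLocus {L : X.Modules} (hL : CohB1.IsAmple L) (m : ℕ)
    (σ : Coh.structureModule X ⟶ CohB1.tensorPow L (m + 1)) :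
    ((CohB1.genLocus _ σ : X.Opens) : Scheme.{u}).IsQuasiAffine := by
  haveI := hL.2.1
  haveI : IsAffineHom (CohB1.genLocus _ σ).ι :=
    Groth.Agent.Lib.Helper35.GenLocus.isAffineHom_genLocus_ι _ (isInvertible_tensorPow hL.1 _) σ
  haveI : CompactSpace ((CohB1.genLocus _ σ : X.Opens) : Scheme.{u}) :=
    QuasiCompact.compactSpace_of_compactSpace (CohB1.genLocus _ σ).ι
  have hN := isAmple_restrict_of_compactSpace (CohB1.genLocus _ σ).ι hL
  have hNm := isAmple_tensorPow_succ hN m
  have hg : CohB1.genLocus _ (restrictPowSec (CohB1.genLocus _ σ).ι L (m + 1) σ) = ⊤ := by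
    rw [genLocus_restrictPowSec]
    exact Scheme.Opens.ι_preimage_self _
  haveI := isIso_of_genLocus_eq_top _ hg
  exact Groth.Agent.Lib.Helper35.Ample.isQuasiAffine_of_isAmple_structureModule
    (Groth.Agent.Lib.Helper35.Ample.isAmple_of_iso
      (asIso (restrictPowSec (CohB1.genLocus _ σ).ι L (m + 1) σ)).symm hNm)

end QA

section Descent

variable {X Y X' Y' : Scheme.{u}} {f : X ⟶ Y} {g : Y' ⟶ Y} {p : X' ⟶ X} {f' : X' ⟶ Y'}

/-- Quasi-affineness of an open descends along a flat surjective base change of affine bases. -/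
theorem isQuasiAffine_of_preimage (h : IsPullback p f' f g) [IsAffine Y] [IsAffine Y'] [Flat g]
    [Surjective g] (Q : X.Opens) (hQ : ((p ⁻¹ᵁ Q : X'.Opens) : Scheme.{u}).IsQuasiAffine) :
    (Q : Scheme.{u}).IsQuasiAffine := by
  have hnat : Spec.map g.appTop = Y'.isoSpec.inv ≫ g ≫ Y.isoSpec.hom := by
    rw [← Category.assoc, ← Scheme.isoSpec_inv_naturality, Category.assoc, Iso.inv_hom_id,
      Category.comp_id]
  haveI : Flat (Spec.map g.appTop) := by rw [hnat]; infer_instance
  haveI : Surjective (Spec.map g.appTop) := by rw [hnat]; infer_instance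
  have A : IsPullback (p ∣_ Q) (p ⁻¹ᵁ Q).ι Q.ι p := isPullback_morphismRestrict p Q
  have B : IsPullback (p ∣_ Q) ((p ⁻¹ᵁ Q).ι ≫ f') (Q.ι ≫ f) g := A.paste_vert h
  have C : IsPullback g Y'.isoSpec.hom Y.isoSpec.hom (Spec.map g.appTop) :=
    IsPullback.of_vert_isIso ⟨by
      rw [hnat, Iso.hom_inv_id_assoc]⟩
  have D : IsPullback (p ∣_ Q) (((p ⁻¹ᵁ Q).ι ≫ f') ≫ Y'.isoSpec.hom)
      ((Q.ι ≫ f) ≫ Y.isoSpec.hom) (Spec.map g.appTop) := B.paste_vert C
  haveI := hQ
  exact Groth.Agent.Lib.Lead.QAffDescent.isQuasiAffine_of_isPullback g.appTop _ _ _ D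

end Descent

end Groth.Agent.Lib.Lead.AmpleDescent
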