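import Groth.Agent.Lib.Lead.Inv4
import Groth.Agent.Lib.Lead.QCohLocal

/-!
# Invertible modules are quasi-coherent; powers of sections (lead seat library)
-/

set_option autoImplicit false
universe u

open AlgebraicGeometry CategoryTheory Opposite TopologicalSpace MonoidalCategory Limits

namespace Groth.Agent.Lib.Lead.Inv

open Groth.Agent.Lib.Lead.QCohAff Groth.Agent.Lib.Helper35.GenLocus
  Groth.Agent.Lib.Helper35.GlobGen Groth.Agent.Lib.Lead.SheafGlue

variable {X : Scheme.{u}}

set_option backward.isDefEq.respectTransparency false in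
/-- The free module has a presentation without relations. -/
noncomputable def presentationFree (Y : Scheme.{u}) (I : Type u) :
    (SheafOfModules.free I : Y.Modules).Presentation where
  generators := SheafOfModules.free.generatingSections I
  relations :=
    { I := ULift Empty
      s := fun j => j.down.elim
      epi := IsZero.epi (IsZero.of_iso (isZero_zero _) (Limits.kernel.ofMono _)) _ }

noncomputable def presentationUnit (Y : Scheme.{u}) : (Coh.structureModule Y).Presentation :=
  SheafOfModules.Presentation.ofIsIso
    (Limits.coproductUniqueIso (C := SheafOfModules.{u} Y.ringCatSheaf)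
      (fun _ : PUnit.{u+1} => SheafOfModules.unit Y.ringCatSheaf)).hom
    (presentationFree Y PUnit)

theorem isQuasicoherent_of_isInvertible {L : X.Modules} (hL : PicF.IsInvertible L) :
    L.IsQuasicoherent := by
  choose U hxU hε using hL
  refine Groth.Agent.Lib.Lead.QCohLocal.isQuasicoherent_of_presentations L U ?_ (fun x => ?_)
  · change ⨆ x, U x = ⊤
    exact top_le_iff.1 fun x _ => Opens.mem_iSup.2 ⟨x, hxU x⟩
  · have e : L.restrict (U x).ι ≅ Coh.structureModule (↑(U x) : Scheme.{u}) := (hε x).some
    let f : (Coh.structureModule (↑(U x) : Scheme.{u}) : SheafOfModules.{u} _) ⟶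
        L.restrict (U x).ι := e.inv
    have hf : IsIso f := ⟨e.hom, e.inv_hom_id, e.hom_inv_id⟩
    exact @SheafOfModules.Presentation.ofIsIso _ _ _ _ _ _ _ _ f hf (presentationUnit _)

theorem genLocus_id : CohB1.genLocus _ (𝟙 (Coh.structureModule X)) = ⊤ := by
  apply top_le_iff.mp
  apply le_sSup
  change IsIso ((Scheme.Modules.restrictFunctor (⊤ : X.Opens).ι).map (𝟙 (Coh.structureModule X)))
  rw [CategoryTheory.Functor.map_id]
  infer_instance

/-- Powers of a section. -/
noncomputable def secPow {M : X.Modules} (s : Coh.structureModule X ⟶ M) :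
    (k : ℕ) → (Coh.structureModule X ⟶ CohB1.tensorPow M k)
  | 0 => 𝟙 _
  | k + 1 => secMul (secPow s k) s

theorem genLocus_secPow {M : X.Modules} (hM : PicF.IsInvertible M)
    (s : Coh.structureModule X ⟶ M) (k : ℕ) :
    CohB1.genLocus _ (secPow s (k + 1)) = CohB1.genLocus M s := by
  induction k with
  | zero =>
    change CohB1.genLocus _ (secMul (𝟙 _) s) = _
    have := genLocus_secMul (Groth.Agent.Lib.Helper35.InvPush.isInvertible_structureModule X) hM
      (𝟙 (Coh.structureModule X)) s
    rw [this, genLocus_id, top_inf_eq]
  | succ k ih =>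
    change CohB1.genLocus _ (secMul (secPow s (k + 1)) s) = _
    have := genLocus_secMul (isInvertible_tensorPow hM (k + 1)) hM (secPow s (k + 1)) s
    rw [this, ih, inf_idem]

end Groth.Agent.Lib.Lead.Inv
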