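import Groth.Agent.Lib.Lead.TensorMap
import Groth.Agent.Lib.Lead.SheafPts

set_option autoImplicit false
universe u

open AlgebraicGeometry CategoryTheory Opposite TopologicalSpace MonoidalCategory Limits

namespace Groth.Agent.Lib.Lead.Inv

open Groth.Agent.Lib.Lead.QCohAff Groth.Agent.Lib.Lead.SheafGlue

variable {X : Scheme.{u}}

theorem app_injective_of_mono {M N : X.Modules} (φ : M ⟶ N) [Mono φ] (U : X.Opens) :
    Function.Injective (φ.app U).hom := by
  have h1 : Mono ((Scheme.Modules.toPresheaf X).map φ) := inferInstance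
  have h2 : Mono (((Scheme.Modules.toPresheaf X).map φ).app (op U)) := inferInstance
  exact (AddCommGrpCat.mono_iff_injective _).mp h2

theorem mono_of_app_injective {M N : X.Modules} (φ : M ⟶ N)
    (h : ∀ U : X.Opens, Function.Injective (φ.app U).hom) : Mono φ := by
  have h1 : Mono ((Scheme.Modules.toPresheaf X).map φ) := by
    have : ∀ U, Mono (((Scheme.Modules.toPresheaf X).map φ).app U) := by
      intro U
      exact (AddCommGrpCat.mono_iff_injective _).mpr (h U.unop)
    exact NatTrans.mono_of_mono_app _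
  exact (Scheme.Modules.toPresheaf X).mono_of_mono_map h1

theorem app_res {M N : X.Modules} (φ : M ⟶ N) {U V : X.Opens} (h : V ≤ U) (s : Γ(M, U)) :
    (φ.app V).hom (M.presheaf.map (homOfLE h).op s) =
      N.presheaf.map (homOfLE h).op ((φ.app U).hom s) :=
  congrArg (fun f => f.hom s) (φ.mapPresheaf.naturality (homOfLE h).op)

theorem mono_of_locally_injective {M N : X.Modules} (φ : M ⟶ N)
    (h : ∀ x : X, ∃ U : X.Opens, x ∈ U ∧ ∀ W : X.Opens, W ≤ U →
      Function.Injective (φ.app W).hom) : Mono φ := by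
  apply mono_of_app_injective
  intro V
  rw [injective_iff_map_eq_zero]
  intro t ht
  apply eq_of_locally_eq_pts M t 0
  intro x hx
  obtain ⟨U, hxU, hU⟩ := h x
  refine ⟨V ⊓ U, inf_le_left, ⟨hx, hxU⟩, ?_⟩
  rw [map_zero]
  apply hU _ inf_le_right
  rw [app_res, ht, map_zero, map_zero]

theorem tensorMapLeft_tmulREquiv {A B : X.Modules} (φ : A ⟶ B) {C : X.Modules} {U : X.Opens}
    {e : Γ(C, U)} (he : IsGen C U e) {W : X.Opens} (hW : W ≤ U) (a : Γ(A, W)) :
    ((tensorMapLeft φ C).app W).hom (tmulREquiv A he hW a) =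
      tmulREquiv B he hW ((φ.app W).hom a) := by
  rw [tmulREquiv_apply, tmulREquiv_apply]
  exact tensorMapLeft_tmul φ C a _

theorem mono_tensorMapLeft {A B : X.Modules} (φ : A ⟶ B) [Mono φ] {C : X.Modules}
    (hC : PicF.IsInvertible C) : Mono (tensorMapLeft φ C) := by
  apply mono_of_locally_injective
  intro x
  obtain ⟨U, hxU, e, he⟩ := (isInvertible_iff_exists_isGen.mp hC) x
  refine ⟨U, hxU, fun W hW => ?_⟩
  intro z z' hzz'
  obtain ⟨a, rfl⟩ := (tmulREquiv A he hW).surjective z
  obtain ⟨a', rfl⟩ := (tmulREquiv A he hW).surjective z'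
  rw [tensorMapLeft_tmulREquiv, tensorMapLeft_tmulREquiv] at hzz'
  have := app_injective_of_mono φ W ((tmulREquiv B he hW).injective hzz')
  rw [this]

theorem mulHom_tmulREquiv {J : X.Modules} (i : J ⟶ Coh.structureModule X) {M : X.Modules}
    {U : X.Opens} {e : Γ(M, U)} (he : IsGen M U e) {W : X.Opens} (hW : W ≤ U) (a : Γ(J, W)) :
    ((mulHom i M).app W).hom (tmulREquiv J he hW a) =
      (show Γ(X, W) from (i.app W).hom a) • M.presheaf.map (homOfLE hW).op e := by
  rw [tmulREquiv_apply]
  exact mulHom_tmul i M a _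

end Groth.Agent.Lib.Lead.Inv
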