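import Groth.Agent.Lib.Lead.Inv1

/-!
# Generating locus of a section via generators (lead seat library)
-/

set_option autoImplicit false
universe u

open AlgebraicGeometry CategoryTheory Opposite TopologicalSpace

namespace Groth.Agent.Lib.Lead.Inv

open Groth.Agent.Lib.Lead.QCohAff Groth.Agent.Lib.Helper35.GenLocus
  Groth.Agent.Lib.Helper35.GlobGen

variable {X : Scheme.{u}} {M : X.Modules}

/-- The value at `1` of a morphism `O ⟶ M` over `W`. -/
noncomputable def val (s : Coh.structureModule X ⟶ M) (W : X.Opens) : Γ(M, W) :=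
  (s.app W).hom (1 : Γ(X, W))

theorem app_eq_smul (s : Coh.structureModule X ⟶ M) (W : X.Opens) (r : Γ(X, W)) :
    (s.app W).hom r = r • val s W := by
  have h2 := Scheme.Modules.Hom.app_smul s r
    (show Γ(Coh.structureModule X, W) from (1 : Γ(X, W)))
  refine Eq.trans ?_ h2
  congr 1
  exact (mul_one r).symm

theorem val_res (s : Coh.structureModule X ⟶ M) {W W' : X.Opens} (h : W' ≤ W) :
    M.presheaf.map (homOfLE h).op (val s W) = val s W' := by
  have := congrArg (fun f => f.hom (1 : Γ(X, W))) (s.mapPresheaf.naturality (homOfLE h).op)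
  simp only [Scheme.Modules.mapPresheaf_app] at this
  refine this.symm.trans ?_
  change (s.app W').hom ((X.presheaf.map (homOfLE h).op).hom 1) = _
  rw [map_one]
  rfl

theorem le_genLocus_iff_isGen (s : Coh.structureModule X ⟶ M) (W : X.Opens) :
    W ≤ CohB1.genLocus M s ↔ IsGen M W (val s W) := by
  rw [le_genLocus_iff]
  have hfun : ∀ (W' : X.Opens) (hW' : W' ≤ W),
      (fun r : Γ(X, W') => r • M.presheaf.map (homOfLE hW').op (val s W)) =
        (fun r : Γ(X, W') => (s.app W').hom r) := by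
    intro W' hW'
    funext r
    rw [val_res, app_eq_smul]
  constructor
  · intro h W' hW'
    change Function.Bijective (fun r : Γ(X, W') => r • M.presheaf.map (homOfLE hW').op (val s W))
    rw [hfun W' hW']
    exact h W' hW'
  · intro h W' hW'
    have := h W' hW'
    rw [hfun W' hW'] at this
    exact this

/-- On an open with a generator, the generating locus is the basic open of the coefficient. -/
theorem genLocus_inf_eq_basicOpen {U : X.Opens} {e : Γ(M, U)} (he : IsGen M U e)
    (s : Coh.structureModule X ⟶ M) (a : Γ(X, U)) (ha : a • e = val s U) :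
    CohB1.genLocus M s ⊓ U = X.basicOpen a := by
  apply le_antisymm
  · have h1 : CohB1.genLocus M s ⊓ U ≤ CohB1.genLocus M s := inf_le_left
    have h2 : CohB1.genLocus M s ⊓ U ≤ U := inf_le_right
    rw [le_genLocus_iff_isGen] at h1
    rw [← val_res s h2, ← ha] at h1
    exact (he.isGen_smul_iff a h2).mp h1
  · refine le_inf ?_ (X.basicOpen_le a)
    rw [le_genLocus_iff_isGen, ← val_res s (X.basicOpen_le a), ← ha]
    exact (he.isGen_smul_iff a (X.basicOpen_le a)).mpr le_rfl

theorem mem_genLocus_iff_of_isGen {U : X.Opens} {e : Γ(M, U)} (he : IsGen M U e)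
    (s : Coh.structureModule X ⟶ M) (a : Γ(X, U)) (ha : a • e = val s U) (x : X) (hx : x ∈ U) :
    x ∈ CohB1.genLocus M s ↔ x ∈ X.basicOpen a := by
  rw [← genLocus_inf_eq_basicOpen he s a ha]
  exact ⟨fun h => ⟨h, hx⟩, fun h => h.1⟩

theorem res_bijective_of_eq (F : X.Modules) {U V : X.Opens} (h : V = U) :
    Function.Bijective (F.presheaf.map (homOfLE h.le).op) := by
  subst h
  have : (F.presheaf.map (homOfLE (le_refl V)).op : Γ(F, V) → Γ(F, V)) = id := by
    funext a; exact res_self F _ a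
  rw [this]; exact Function.bijective_id

theorem resX_bijective_of_eq {U V : X.Opens} (h : V = U) :
    Function.Bijective (X.presheaf.map (homOfLE h.le).op) := by
  subst h
  have : (X.presheaf.map (homOfLE (le_refl V)).op : Γ(X, V) → Γ(X, V)) = id := by
    funext a
    have : (homOfLE (le_refl V)).op = 𝟙 (op V) := rfl
    rw [this, X.presheaf.map_id]; rfl
  rw [this]; exact Function.bijective_id

theorem map_map'' (F : X.Modules) {U V W : X.Opens} (i : op V ⟶ op U) (j : op W ⟶ op V)
    (k : op W ⟶ op U) (s : Γ(F, W)) :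
    F.presheaf.map i (F.presheaf.map j s) = F.presheaf.map k s := by
  rw [← ConcreteCategory.comp_apply, ← Functor.map_comp]
  rw [Subsingleton.elim (j ≫ i) k]

theorem restrict_smul (U : X.Opens) (V : (↑U : Scheme.{u}).Opens) (r : Γ(↑U, V))
    (m : Γ(M.restrict U.ι, V)) :
    (r • m : Γ(M.restrict U.ι, V)) =
      ((show Γ(X, U.ι ''ᵁ V) from r) • (show Γ(M, U.ι ''ᵁ V) from m)) := by
  have := Scheme.Modules.smul_restrictAppIso_hom_apply U.ι M V r m
  simp only [Scheme.Opens.ι_appIso] at this
  exact this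

theorem exists_isGen_of_iso {U : X.Opens}
    (ε : M.restrict U.ι ≅ Coh.structureModule (↑U : Scheme.{u})) :
    ∃ e : Γ(M, U), IsGen M U e := by
  let e₀ : Γ(M, U.ι ''ᵁ ⊤) := val ε.inv ⊤
  have hU : U.ι ''ᵁ ⊤ = U := U.ι_image_top
  refine ⟨M.presheaf.map (homOfLE hU.ge).op e₀, ?_⟩
  intro W hW
  set V : (↑U : Scheme.{u}).Opens := U.ι ⁻¹ᵁ W with hVdef
  have hV : U.ι ''ᵁ V = W := by
    rw [Scheme.Hom.image_preimage_eq_opensRange_inf, Scheme.Opens.opensRange_ι]
    exact inf_eq_right.mpr hW
  have hbij : Function.Bijective (ε.inv.app V).hom :=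
    Groth.Agent.Lib.Helper60.TensorLib.app_bijective_of_isIso ε.inv V
  -- the value over `V`
  have hval : (val ε.inv V : Γ(M, U.ι ''ᵁ V)) =
      M.presheaf.map (homOfLE (show U.ι ''ᵁ V ≤ U.ι ''ᵁ ⊤ from U.ι.image_mono le_top)).op e₀ :=
    (val_res ε.inv (le_top : V ≤ ⊤)).symm
  have happ : ∀ r : Γ(X, U.ι ''ᵁ V), (ε.inv.app V).hom r =
      r • M.presheaf.map (homOfLE (show U.ι ''ᵁ V ≤ U.ι ''ᵁ ⊤ from U.ι.image_mono le_top)).op e₀ := by
    intro r
    rw [← hval]
    exact (app_eq_smul ε.inv V r).trans (restrict_smul U V r _)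
  have hρM : Function.Bijective (M.presheaf.map (homOfLE hV.le).op) := res_bijective_of_eq M hV
  have hρ : Function.Bijective (X.presheaf.map (homOfLE hV.le).op) := resX_bijective_of_eq hV
  have hcomp : (M.presheaf.map (homOfLE hV.le).op) ∘
      (fun r : Γ(X, W) => r • M.presheaf.map (homOfLE hW).op
        (M.presheaf.map (homOfLE hU.ge).op e₀)) =
      (fun r : Γ(X, U.ι ''ᵁ V) => (ε.inv.app V).hom r) ∘ (X.presheaf.map (homOfLE hV.le).op) := by
    funext r
    simp only [Function.comp_apply]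
    rw [happ, res_smul, res_res, res_res]
  have h1 : Function.Bijective ((M.presheaf.map (homOfLE hV.le).op) ∘
      (fun r : Γ(X, W) => r • M.presheaf.map (homOfLE hW).op
        (M.presheaf.map (homOfLE hU.ge).op e₀))) := by
    rw [hcomp]
    exact hbij.comp hρ
  exact (Function.Bijective.of_comp_iff' hρM _).mp h1

theorem nonempty_iso_of_isGen {U : X.Opens} {e : Γ(M, U)} (he : IsGen M U e) :
    Nonempty (M.restrict U.ι ≅ Coh.structureModule (↑U : Scheme.{u})) := by
  have hU : U.ι ''ᵁ ⊤ = U := U.ι_image_top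
  let e' : Γ(M.restrict U.ι, ⊤) := M.presheaf.map (homOfLE hU.le).op e
  let φ : Coh.structureModule (↑U : Scheme.{u}) ⟶ M.restrict U.ι := secHom _ e'
  have hφ : IsIso φ := by
    apply Groth.Agent.Lib.Helper60.TensorLib.isIso_of_app_bijective
    intro V
    have hVU : U.ι ''ᵁ V ≤ U := U.ι_image_le V
    have := he (U.ι ''ᵁ V) hVU
    have hres : ((M.restrict U.ι).presheaf.map (homOfLE (le_top : V ≤ ⊤)).op).hom e' =
        M.presheaf.map (homOfLE hVU).op e := by
      rw [Scheme.Modules.restrict_map]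
      exact map_map'' M _ _ _ e
    have hfun : ∀ r : Γ(X, U.ι ''ᵁ V), (φ.app V).hom r =
        r • M.presheaf.map (homOfLE hVU).op e := by
      intro r
      have h1 := secHom_app (M.restrict U.ι) e' V r
      rw [hres] at h1
      exact h1.trans (restrict_smul U V r _)
    refine ⟨fun a b hab => this.1 ?_, fun y => ?_⟩
    · exact ((hfun a).symm.trans hab).trans (hfun b)
    · obtain ⟨r, hr⟩ := this.2 y
      exact ⟨r, (hfun r).trans hr⟩
  exact ⟨(asIso φ).symm⟩

theorem isInvertible_iff_exists_isGen :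
    PicF.IsInvertible M ↔ ∀ x : X, ∃ U : X.Opens, x ∈ U ∧ ∃ e : Γ(M, U), IsGen M U e := by
  constructor
  · intro h x
    obtain ⟨U, hxU, ⟨ε⟩⟩ := h x
    exact ⟨U, hxU, exists_isGen_of_iso ε⟩
  · intro h x
    obtain ⟨U, hxU, e, he⟩ := h x
    exact ⟨U, hxU, nonempty_iso_of_isGen he⟩

end Groth.Agent.Lib.Lead.Inv
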