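import Groth.Agent.Lib.Lead.QCohAff
import Groth.Prelude.Def_FlatMod2

/-!
# Quasi-coherent modules on affine opens: stalks (lead seat library)

For quasi-coherent `F`, affine open `U ∋ x`: the stalk `F_x` is the localization of `Γ(F, U)` at
the prime of `x`, in elementwise form (`germ_eq_zero_iff`, `exists_germ_smul_eq_germ`) and as
`IsLocalizedModule` (`isLocalizedModule_germ`).
-/

set_option autoImplicit false
universe u

open AlgebraicGeometry CategoryTheory Opposite TopologicalSpace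

namespace Groth.Agent.Lib.Lead.QCohAff

variable {X : Scheme.{u}} (F : X.Modules)

theorem germ_smul (U : X.Opens) (x : X) (hx : x ∈ U) (r : Γ(X, U)) (m : Γ(F, U)) :
    F.presheaf.germ U x hx (r • m) = X.presheaf.germ U x hx r • F.presheaf.germ U x hx m :=
  PresheafOfModules.germ_smul (R := X.presheaf)
    (show PresheafOfModules (X.presheaf ⋙ forget₂ CommRingCat RingCat) from F.val) x U hx r m

theorem germ_res {U V : X.Opens} (h : V ≤ U) (x : X) (hx : x ∈ V) (s : Γ(F, U)) :
    F.presheaf.germ V x hx (F.presheaf.map (homOfLE h).op s) = F.presheaf.germ U x (h hx) s :=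
  TopCat.Presheaf.germ_res_apply F.presheaf (homOfLE h) x hx s

theorem germX_res {U V : X.Opens} (h : V ≤ U) (x : X) (hx : x ∈ V) (s : Γ(X, U)) :
    X.presheaf.germ V x hx (X.presheaf.map (homOfLE h).op s) = X.presheaf.germ U x (h hx) s :=
  TopCat.Presheaf.germ_res_apply X.presheaf (homOfLE h) x hx s

theorem isUnit_germ_of_mem_basicOpen {U : X.Opens} (r : Γ(X, U)) (x : X) (hx : x ∈ U)
    (hxr : x ∈ X.basicOpen r) : IsUnit (X.presheaf.germ U x hx r) :=
  (X.mem_basicOpen r x hx).1 hxr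

variable {U : X.Opens} (hU : IsAffineOpen U)

include hU in
theorem germ_eq_zero_iff_of_locOn (hF : LocOn F U) (x : X) (hx : x ∈ U) (s : Γ(F, U)) :
    F.presheaf.germ U x hx s = 0 ↔ ∃ r : Γ(X, U), x ∈ X.basicOpen r ∧ r • s = 0 := by
  constructor
  · intro h
    have h0 : F.presheaf.germ U x hx s = F.presheaf.germ U x hx 0 := by rw [h, map_zero]
    obtain ⟨W, hxW, iU, iV, hW⟩ := TopCat.Presheaf.germ_eq F.presheaf x hx hx s 0 h0
    rw [map_zero] at hW
    obtain ⟨r, hrW, hxr⟩ := hU.exists_basicOpen_le ⟨x, hxW⟩ hx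
    have hs : F.presheaf.map (homOfLE (X.basicOpen_le r)).op s = 0 := by
      have : F.presheaf.map (homOfLE (X.basicOpen_le r)).op s =
          F.presheaf.map (homOfLE hrW).op (F.presheaf.map iU.op s) := by
        rw [← ConcreteCategory.comp_apply, ← Functor.map_comp]
        rfl
      rw [this, hW, map_zero]
    obtain ⟨n, hn⟩ := hF.1 r s hs
    refine ⟨r ^ (n + 1), ?_, ?_⟩
    · rw [X.basicOpen_pow r (Nat.succ_pos n)]
      exact hxr
    · rw [pow_succ', mul_smul, hn, smul_zero]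
  · rintro ⟨r, hxr, hrs⟩
    have h1 := germ_smul F U x hx r s
    rw [hrs, map_zero] at h1
    exact (isUnit_germ_of_mem_basicOpen r x hx hxr).smul_eq_zero.1 h1.symm

include hU in
theorem exists_germ_smul_eq_germ_of_locOn (hF : LocOn F U) (x : X) (hx : x ∈ U)
    (t : F.presheaf.stalk x) :
    ∃ (r : Γ(X, U)) (s : Γ(F, U)), x ∈ X.basicOpen r ∧
      X.presheaf.germ U x hx r • t = F.presheaf.germ U x hx s := by
  obtain ⟨W, hxW, t', rfl⟩ := TopCat.Presheaf.exists_germ_eq F.presheaf t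
  obtain ⟨r, hrW, hxr⟩ := hU.exists_basicOpen_le ⟨x, Opens.mem_inf.2 ⟨hxW, hx⟩⟩ hx
  have hrW' : X.basicOpen r ≤ W := hrW.trans inf_le_left
  obtain ⟨n, s, hs⟩ := hF.2 r (F.presheaf.map (homOfLE hrW').op t')
  refine ⟨r ^ n, s, ?_, ?_⟩
  · rcases Nat.eq_zero_or_pos n with h0 | h0
    · subst h0
      rw [pow_zero, X.basicOpen_of_isUnit isUnit_one]
      exact hx
    · rw [X.basicOpen_pow r h0]
      exact hxr
  · have h1 := congrArg (F.presheaf.germ (X.basicOpen r) x hxr) hs
    rw [germ_res, germ_smul, germ_res, map_pow, germX_res] at h1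
    rw [map_pow]
    exact h1.symm

include hU in
theorem germ_eq_zero_iff [F.IsQuasicoherent] (x : X) (hx : x ∈ U) (s : Γ(F, U)) :
    F.presheaf.germ U x hx s = 0 ↔ ∃ r : Γ(X, U), x ∈ X.basicOpen r ∧ r • s = 0 :=
  germ_eq_zero_iff_of_locOn F hU (LocOn.of_isQuasicoherent F hU) x hx s

include hU in
theorem exists_germ_smul_eq_germ [F.IsQuasicoherent] (x : X) (hx : x ∈ U)
    (t : F.presheaf.stalk x) :
    ∃ (r : Γ(X, U)) (s : Γ(F, U)), x ∈ X.basicOpen r ∧
      X.presheaf.germ U x hx r • t = F.presheaf.germ U x hx s :=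
  exists_germ_smul_eq_germ_of_locOn F hU (LocOn.of_isQuasicoherent F hU) x hx t

end Groth.Agent.Lib.Lead.QCohAff
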