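import Mathlib.RingTheory.Flat.Localization
import Mathlib.RingTheory.Flat.Tensor
import Mathlib.RingTheory.Localization.BaseChange
import Mathlib.LinearAlgebra.TensorProduct.Quotient
import Mathlib.LinearAlgebra.TensorProduct.RightExactness
import Mathlib.Tactic

/-!
# A flatness criterion along a non-zero-divisor (lead seat library)

`flat_of_torsionFree_of_flat_quotient_of_flat_away`: if `π` is a non-zero-divisor of `A`,
`M` has no `π`-torsion, `(A/π) ⊗ M` is flat over `A/π` and `A[1/π] ⊗ M` is flat over `A[1/π]`,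
then `M` is flat over `A`.  No `Tor` is used.
-/

namespace Groth.Agent.Lib.Lead.FlatCrit

open TensorProduct LinearMap

universe u v w

section F1

variable {A : Type*} [CommRing A] (B : Type*) [CommRing B] [Algebra A B]
  (M : Type*) [AddCommGroup M] [Module A M]
  {P Q : Type*} [AddCommGroup P] [AddCommGroup Q] [Module A P] [Module B P]
  [IsScalarTower A B P] [Module A Q] [Module B Q] [IsScalarTower A B Q]

/-- If `B ⊗[A] M` is `B`-flat, then `- ⊗[A] M` preserves injectivity of `B`-linear maps. -/
theorem rTensor_injective_of_flat_baseChange [Module.Flat B (B ⊗[A] M)] (g : P →ₗ[B] Q)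
    (hg : Function.Injective g) :
    Function.Injective (rTensor M (g.restrictScalars A)) := by
  have h1 : Function.Injective (rTensor (B ⊗[A] M) g) :=
    Module.Flat.rTensor_preserves_injective_linearMap g hg
  let eP := AlgebraTensorModule.cancelBaseChange A B B P M
  let eQ := AlgebraTensorModule.cancelBaseChange A B B Q M
  have h2 : ∀ x, rTensor M (g.restrictScalars A) (eP x) = eQ (rTensor (B ⊗[A] M) g x) := by
    intro x
    induction x using TensorProduct.induction_on with
    | zero => simp
    | tmul p y =>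
      induction y using TensorProduct.induction_on with
      | zero => simp
      | tmul b m => simp [eP, eQ, AlgebraTensorModule.cancelBaseChange_tmul]
      | add y1 y2 h1 h2 => simp only [tmul_add, map_add, h1, h2]
    | add x y hx hy => simp only [map_add, hx, hy]
  intro x y hxy
  obtain ⟨x', rfl⟩ := eP.surjective x
  obtain ⟨y', rfl⟩ := eP.surjective y
  rw [h2, h2] at hxy
  rw [h1 (eQ.injective hxy)]

end F1

section K

variable {A : Type*} [CommRing A] (π : A) {X : Type*} [AddCommGroup X] [Module A X]

/-- The kernel of `X → (A/π) ⊗ X` is `πX`. -/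
theorem exists_eq_smul_of_one_tmul_eq_zero (x : X)
    (h : (1 : A ⧸ Ideal.span {π}) ⊗ₜ[A] x = 0) : ∃ x', x = π • x' := by
  have h1 := congrArg (quotTensorEquivQuotSMul X (Ideal.span {π})) h
  rw [quotTensorEquivQuotSMul_mk_one_tmul, map_zero, Submodule.Quotient.mk_eq_zero,
    Submodule.ideal_span_singleton_smul, Submodule.mem_smul_pointwise_iff_exists] at h1
  obtain ⟨x', -, rfl⟩ := h1
  exact ⟨x', rfl⟩

theorem smul_one_tmul_eq_zero (x : X) :
    π • ((1 : A ⧸ Ideal.span {π}) ⊗ₜ[A] x) = 0 := by
  rw [smul_tmul']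
  have : π • (1 : A ⧸ Ideal.span {π}) = 0 := by
    rw [Algebra.smul_def, mul_one]
    exact Ideal.Quotient.eq_zero_iff_mem.mpr (Ideal.mem_span_singleton_self π)
  rw [this, zero_tmul]

theorem exact_smul_mk :
    Function.Exact (π • (LinearMap.id : X →ₗ[A] X))
      (TensorProduct.mk A (A ⧸ Ideal.span {π}) X 1) := by
  intro x
  constructor
  · intro h
    obtain ⟨x', rfl⟩ := exists_eq_smul_of_one_tmul_eq_zero π x h
    exact ⟨x', rfl⟩
  · rintro ⟨x', rfl⟩
    change (1 : A ⧸ Ideal.span {π}) ⊗ₜ[A] (π • x') = 0
    rw [tmul_smul]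
    exact smul_one_tmul_eq_zero π x'

theorem mk_one_surjective :
    Function.Surjective (TensorProduct.mk A (A ⧸ Ideal.span {π}) X 1) := by
  intro t
  induction t using TensorProduct.induction_on with
  | zero => exact ⟨0, map_zero _⟩
  | tmul a x =>
    obtain ⟨a, rfl⟩ := Ideal.Quotient.mk_surjective a
    refine ⟨a • x, ?_⟩
    change (1 : A ⧸ Ideal.span {π}) ⊗ₜ[A] (a • x) = _
    rw [tmul_smul, smul_tmul', Algebra.smul_def, mul_one]
    rfl
  | add t₁ t₂ h₁ h₂ =>
    obtain ⟨x₁, rfl⟩ := h₁
    obtain ⟨x₂, rfl⟩ := h₂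
    exact ⟨x₁ + x₂, map_add _ _ _⟩

end K

section T

variable {A : Type u} [CommRing A] (π : A) (M : Type v) [AddCommGroup M] [Module A M]

/-- Auxiliary form of `tensor_torsionFree` with a chosen flat presentation `p : F → L`. -/
theorem tensor_torsionFree_aux (hM : ∀ x : M, π • x = 0 → x = 0)
    [Module.Flat (A ⧸ Ideal.span {π}) ((A ⧸ Ideal.span {π}) ⊗[A] M)]
    (L : Type w) [AddCommGroup L] [Module A L] (hL : ∀ l : L, π • l = 0 → l = 0)
    (F : Type*) [AddCommGroup F] [Module A F] [Module.Flat A F] (p : F →ₗ[A] L)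
    (hp : Function.Surjective p)
    (z : L ⊗[A] M) (hz : π • z = 0) : z = 0 := by
  classical
  let K := LinearMap.ker p
  let ι : K →ₗ[A] F := K.subtype
  have hex : Function.Exact ι p := LinearMap.exact_subtype_ker_map p
  have hexM : Function.Exact (rTensor M ι) (rTensor M p) := rTensor_exact M hex hp
  obtain ⟨y, rfl⟩ := rTensor_surjective M hp z
  have h1 : rTensor M p (π • y) = 0 := by rw [map_smul]; exact hz
  obtain ⟨w, hw⟩ := (hexM (π • y)).mp h1
  -- `F ⊗ M` has no `π`-torsion
  have hFM : ∀ y : F ⊗[A] M, π • y = 0 → y = 0 := by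
    intro y hy
    have hinj : Function.Injective (lTensor F (π • (LinearMap.id : M →ₗ[A] M))) :=
      Module.Flat.lTensor_preserves_injective_linearMap _ (by
        intro a b hab
        have : π • (a - b) = 0 := by
          rw [smul_sub]; exact sub_eq_zero.mpr hab
        exact sub_eq_zero.mp (hM _ this))
    apply hinj
    rw [map_zero, LinearMap.lTensor_smul, LinearMap.lTensor_id, LinearMap.smul_apply,
      LinearMap.id_apply, hy]
  -- reduction mod `π`
  let qK : K →ₗ[A] (A ⧸ Ideal.span {π}) ⊗[A] K := TensorProduct.mk A (A ⧸ Ideal.span {π}) K 1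
  let qF : F →ₗ[A] (A ⧸ Ideal.span {π}) ⊗[A] F := TensorProduct.mk A (A ⧸ Ideal.span {π}) F 1
  let ιbar : (A ⧸ Ideal.span {π}) ⊗[A] K →ₗ[A ⧸ Ideal.span {π}] (A ⧸ Ideal.span {π}) ⊗[A] F :=
    LinearMap.baseChange (A ⧸ Ideal.span {π}) ι
  have hιbar : Function.Injective ιbar := by
    rw [injective_iff_map_eq_zero]
    intro t ht
    obtain ⟨k, rfl⟩ := mk_one_surjective π t
    have h2 : (1 : A ⧸ Ideal.span {π}) ⊗ₜ[A] (ι k) = 0 := ht
    obtain ⟨v, hv⟩ := exists_eq_smul_of_one_tmul_eq_zero π _ h2
    have h3 : p v = 0 := by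
      apply hL
      rw [← map_smul, ← hv]
      exact k.2
    have h4 : k = π • (⟨v, h3⟩ : K) := Subtype.ext hv
    rw [h4]
    change (1 : A ⧸ Ideal.span {π}) ⊗ₜ[A] (π • (⟨v, h3⟩ : K)) = 0
    rw [tmul_smul]
    exact smul_one_tmul_eq_zero π _
  have hinj := rTensor_injective_of_flat_baseChange (A := A) (A ⧸ Ideal.span {π}) M ιbar hιbar
  have hsq : ∀ w, rTensor M (ιbar.restrictScalars A) (rTensor M qK w) =
      rTensor M qF (rTensor M ι w) := by
    intro w
    induction w using TensorProduct.induction_on with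
    | zero => simp
    | tmul k m => simp [qK, qF, ιbar]
    | add x y hx hy => simp only [map_add, hx, hy]
  have hqF : π • qF = 0 := by
    ext f
    exact smul_one_tmul_eq_zero π _
  have h2 : rTensor M qK w = 0 := by
    apply hinj
    rw [map_zero, hsq, hw, map_smul]
    have : π • rTensor M qF y = rTensor M (π • qF) y := by
      rw [LinearMap.rTensor_smul, LinearMap.smul_apply]
    rw [this, hqF, LinearMap.rTensor_zero, LinearMap.zero_apply]
  obtain ⟨w', hw'⟩ :=
    (rTensor_exact M (exact_smul_mk π (X := K)) (mk_one_surjective π) w).mp h2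
  have h5 : π • w' = w := by
    rw [← hw', LinearMap.rTensor_smul, LinearMap.rTensor_id, LinearMap.smul_apply,
      LinearMap.id_apply]
  have h6 : y = rTensor M ι w' := by
    have : π • (y - rTensor M ι w') = 0 := by
      rw [smul_sub, ← map_smul, h5, hw, sub_self]
    exact sub_eq_zero.mp (hFM _ this)
  rw [h6]
  exact hexM.apply_apply_eq_zero w'

/-- If `M` has no `π`-torsion and `(A/π) ⊗ M` is flat over `A/π`, then `L ⊗ M` has no `π`-torsion
for every `A`-module `L` without `π`-torsion. -/
theorem tensor_torsionFree (hM : ∀ x : M, π • x = 0 → x = 0)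
    [Module.Flat (A ⧸ Ideal.span {π}) ((A ⧸ Ideal.span {π}) ⊗[A] M)]
    (L : Type w) [AddCommGroup L] [Module A L] (hL : ∀ l : L, π • l = 0 → l = 0)
    (z : L ⊗[A] M) (hz : π • z = 0) : z = 0 := by
  refine tensor_torsionFree_aux π M hM L hL (L →₀ A) (Finsupp.linearCombination A id) ?_ z hz
  intro l
  refine ⟨Finsupp.single l 1, ?_⟩
  rw [Finsupp.linearCombination_single, one_smul]
  rfl

end T

section Loc

variable {A : Type u} [CommRing A] (π : A) (M : Type v) [AddCommGroup M] [Module A M]

/-- If `A[1/π] ⊗ M` is flat over `A[1/π]`, then the kernel of `f ⊗ M` for injective `f` is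
`π`-power torsion. -/
theorem exists_pow_smul_eq_zero
    [Module.Flat (Localization.Away π) ((Localization.Away π) ⊗[A] M)]
    {N : Type*} {P : Type*} [AddCommGroup N] [Module A N] [AddCommGroup P] [Module A P]
    (f : N →ₗ[A] P) (hf : Function.Injective f) (x : N ⊗[A] M) (hx : rTensor M f x = 0) :
    ∃ k : ℕ, π ^ k • x = 0 := by
  have hflat : Module.Flat A ((Localization.Away π) ⊗[A] M) :=
    (Module.flat_iff_of_isLocalization (Localization.Away π) (Submonoid.powers π) _).mp
      inferInstance
  let j : M →ₗ[A] (Localization.Away π) ⊗[A] M := TensorProduct.mk A (Localization.Away π) M 1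
  have hloc : IsLocalizedModule (Submonoid.powers π) (AlgebraTensorModule.rTensor A N j) :=
    inferInstance
  let x' : M ⊗[A] N := TensorProduct.comm A N M x
  have h1 : lTensor M f x' = 0 := by
    have : ∀ x : N ⊗[A] M, lTensor M f (TensorProduct.comm A N M x) =
        TensorProduct.comm A P M (rTensor M f x) := by
      intro x
      induction x using TensorProduct.induction_on with
      | zero => simp
      | tmul n m => simp
      | add x y hx hy => simp only [map_add, hx, hy]
    rw [this, hx, map_zero]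
  have h2 : rTensor N j x' = 0 := by
    have hinj : Function.Injective (lTensor ((Localization.Away π) ⊗[A] M) f) :=
      Module.Flat.lTensor_preserves_injective_linearMap f hf
    apply hinj
    rw [map_zero, ← LinearMap.comp_apply, LinearMap.lTensor_comp_rTensor,
      ← LinearMap.rTensor_comp_lTensor, LinearMap.comp_apply, h1, map_zero]
  have h3 : (AlgebraTensorModule.rTensor A N j) x' = 0 := h2
  rw [IsLocalizedModule.eq_zero_iff (Submonoid.powers π)] at h3
  obtain ⟨⟨s, k, rfl⟩, hs⟩ := h3
  refine ⟨k, ?_⟩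
  apply (TensorProduct.comm A N M).injective
  rw [map_smul, map_zero]
  exact hs

end Loc

/-- **Flatness criterion along a non-zero-divisor.** -/
theorem flat_of_torsionFree_of_flat_quotient_of_flat_away
    {A : Type u} [CommRing A] (π : A) (hπ : π ∈ nonZeroDivisors A)
    (M : Type v) [AddCommGroup M] [Module A M]
    (hM : ∀ x : M, π • x = 0 → x = 0)
    [Module.Flat (A ⧸ Ideal.span {π}) ((A ⧸ Ideal.span {π}) ⊗[A] M)]
    [Module.Flat (Localization.Away π) ((Localization.Away π) ⊗[A] M)] :
    Module.Flat A M := by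
  rw [Module.Flat.iff_rTensor_injective']
  intro I
  rw [injective_iff_map_eq_zero]
  intro x hx
  obtain ⟨k, hk⟩ := exists_pow_smul_eq_zero π M I.subtype I.injective_subtype x hx
  have hI : ∀ l : I, π • l = 0 → l = 0 := by
    intro l hl
    have h1 : π * (l : A) = 0 := by
      have := congrArg Subtype.val hl
      simpa using this
    have h2 : (l : A) = 0 := (mul_left_mem_nonZeroDivisors_eq_zero_iff hπ).mp h1
    exact Subtype.ext h2
  induction k with
  | zero => simpa using hk
  | succ k ih =>
    apply ih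
    apply tensor_torsionFree π M hM I hI
    rw [← mul_smul, ← pow_succ']
    exact hk

end Groth.Agent.Lib.Lead.FlatCrit
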