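import Mathlib

/-!
# Points of affine schemes over an affine base as ring homomorphisms

For `h : Z ⟶ Spec A` we write `pt h : A ⟶ Γ(Z, ⊤)` and conversely `ofPt θ`. A criterion for
composition with `Spec.map φ` to be bijective on `T`-points over `Spec R`.
-/

set_option autoImplicit false
universe u
open CategoryTheory CategoryTheory.Limits AlgebraicGeometry

namespace Groth.Agent.Lib.Lead.SpecPts

variable {Z : Scheme.{u}} {A B : CommRingCat.{u}}

/-- the ring map of a morphism to an affine scheme -/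
noncomputable def pt (h : Z ⟶ Spec A) : A ⟶ Γ(Z, ⊤) := (Scheme.ΓSpecIso A).inv ≫ h.appTop

/-- the morphism to an affine scheme of a ring map -/
noncomputable def ofPt (θ : A ⟶ Γ(Z, ⊤)) : Z ⟶ Spec A := Z.toSpecΓ ≫ Spec.map θ

theorem ofPt_pt (h : Z ⟶ Spec A) : ofPt (pt h) = h := by
  unfold ofPt pt
  rw [Spec.map_comp, ← Category.assoc, ← Scheme.toSpecΓ_naturality, Category.assoc,
    toSpecΓ_SpecMap_ΓSpecIso_inv, Category.comp_id]

theorem pt_comp_SpecMap (h : Z ⟶ Spec A) (φ : B ⟶ A) : pt (h ≫ Spec.map φ) = φ ≫ pt h := by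
  unfold pt
  rw [Scheme.Hom.comp_appTop, ← Category.assoc, ← Scheme.ΓSpecIso_inv_naturality, Category.assoc]

theorem ofPt_comp_SpecMap (θ : A ⟶ Γ(Z, ⊤)) (φ : B ⟶ A) :
    ofPt θ ≫ Spec.map φ = ofPt (φ ≫ θ) := by
  unfold ofPt
  rw [Spec.map_comp, Category.assoc]

theorem pt_injective {h₁ h₂ : Z ⟶ Spec A} (e : pt h₁ = pt h₂) : h₁ = h₂ := by
  rw [← ofPt_pt h₁, ← ofPt_pt h₂, e]

/-- Criterion for bijectivity of composition with a morphism `g` of affine schemes over `Spec R`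
given by a ring map `φ`. -/
theorem comp_bijective {R B B' : CommRingCat.{u}} (a : R ⟶ B) (a' : R ⟶ B') (φ : B ⟶ B')
    (g : Over.mk (Spec.map a') ⟶ Over.mk (Spec.map a)) (hg : g.left = Spec.map φ)
    (T : Over (Spec R))
    (hinj : ∀ θ₁ θ₂ : B' ⟶ Γ(T.left, ⊤), a' ≫ θ₁ = pt T.hom → a' ≫ θ₂ = pt T.hom →
      φ ≫ θ₁ = φ ≫ θ₂ → θ₁ = θ₂)
    (hsurj : ∀ θ' : B ⟶ Γ(T.left, ⊤), a ≫ θ' = pt T.hom →
      ∃ θ : B' ⟶ Γ(T.left, ⊤), φ ≫ θ = θ' ∧ a' ≫ θ = pt T.hom) :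
    Function.Bijective (fun k : T ⟶ Over.mk (Spec.map a') => k ≫ g) := by
  have hw : ∀ k : T ⟶ Over.mk (Spec.map a'), a' ≫ pt k.left = pt T.hom := by
    intro k
    rw [← pt_comp_SpecMap]
    congr 1
    exact Over.w k
  have hw' : ∀ k : T ⟶ Over.mk (Spec.map a), a ≫ pt k.left = pt T.hom := by
    intro k
    rw [← pt_comp_SpecMap]
    congr 1
    exact Over.w k
  constructor
  · intro k₁ k₂ (e : k₁ ≫ g = k₂ ≫ g)
    apply Over.OverMorphism.ext
    apply pt_injective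
    apply hinj _ _ (hw k₁) (hw k₂)
    rw [← pt_comp_SpecMap, ← pt_comp_SpecMap, ← hg, ← Over.comp_left, ← Over.comp_left, e]
  · intro k'
    obtain ⟨θ, hθ, hθa⟩ := hsurj (pt k'.left) (hw' k')
    have h1 : ofPt θ ≫ Spec.map a' = T.hom := by
      rw [ofPt_comp_SpecMap, hθa, ofPt_pt]
    refine ⟨Over.homMk (ofPt θ) h1, ?_⟩
    apply Over.OverMorphism.ext
    change ofPt θ ≫ g.left = k'.left
    rw [hg, ofPt_comp_SpecMap, hθ, ofPt_pt]

end Groth.Agent.Lib.Lead.SpecPts
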