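import Mathlib
import Groth.Prelude.Def_SekSuwa
import Groth.Prelude.Def_NonAbH2
import Groth.Agent.Lib.Lead.SpecPts

/-!
# Points of base changes of affine schemes, of `G^(λ)` and of the split multiplicative group (lead)
-/

set_option autoImplicit false
universe u
open CategoryTheory CategoryTheory.Limits AlgebraicGeometry

namespace Groth.Agent.Lib.Lead.SekPts

open Groth.Agent.Lib.Lead

section general

variable {X : Scheme.{u}} {Rc : CommRingCat.{u}} (f : X ⟶ Spec Rc) {B B' : CommRingCat.{u}}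
  (a : Rc ⟶ B) (a' : Rc ⟶ B')

theorem pt_ofPt {Z : Scheme.{u}} {A : CommRingCat.{u}} (θ : A ⟶ Γ(Z, ⊤)) :
    SpecPts.pt (SpecPts.ofPt θ) = θ := by
  unfold SpecPts.pt SpecPts.ofPt
  rw [Scheme.Hom.comp_appTop, Scheme.toSpecΓ_appTop, ← Category.assoc,
    ← Scheme.ΓSpecIso_inv_naturality, Category.assoc, Iso.inv_hom_id, Category.comp_id]

theorem pt_comp_left {Z Z' : Scheme.{u}} {A : CommRingCat.{u}} (q : Z' ⟶ Z) (h : Z ⟶ Spec A) :
    SpecPts.pt (q ≫ h) = SpecPts.pt h ≫ q.appTop := by
  unfold SpecPts.pt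
  rw [Scheme.Hom.comp_appTop, Category.assoc]

/-- The ring map of a point of the base change of an affine scheme. -/
noncomputable def th (T : Over X) (k : T ⟶ (Over.pullback f).obj (Over.mk (Spec.map a))) :
    B ⟶ Γ(T.left, ⊤) :=
  SpecPts.pt (((Over.mapPullbackAdj f).homEquiv T (Over.mk (Spec.map a))).symm k).left

theorem th_str (T : Over X) (k : T ⟶ (Over.pullback f).obj (Over.mk (Spec.map a))) :
    a ≫ th f a T k = SpecPts.pt (T.hom ≫ f) := by
  unfold th
  rw [← SpecPts.pt_comp_SpecMap]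
  congr 1
  exact Over.w (((Over.mapPullbackAdj f).homEquiv T (Over.mk (Spec.map a))).symm k)

theorem th_injective (T : Over X) {k k' : T ⟶ (Over.pullback f).obj (Over.mk (Spec.map a))}
    (e : th f a T k = th f a T k') : k = k' := by
  apply ((Over.mapPullbackAdj f).homEquiv T (Over.mk (Spec.map a))).symm.injective
  apply Over.OverMorphism.ext
  exact SpecPts.pt_injective e

theorem th_comp {T T' : Over X} (q : T' ⟶ T)
    (k : T ⟶ (Over.pullback f).obj (Over.mk (Spec.map a))) :
    th f a T' (q ≫ k) = th f a T k ≫ q.left.appTop := by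
  unfold th
  rw [Adjunction.homEquiv_naturality_left_symm, Over.comp_left, ← pt_comp_left]
  rfl

theorem th_surjective (T : Over X) (θ₀ : B ⟶ Γ(T.left, ⊤))
    (h : a ≫ θ₀ = SpecPts.pt (T.hom ≫ f)) :
    ∃ k : T ⟶ (Over.pullback f).obj (Over.mk (Spec.map a)), th f a T k = θ₀ := by
  have hw : SpecPts.ofPt θ₀ ≫ Spec.map a = T.hom ≫ f := by
    rw [SpecPts.ofPt_comp_SpecMap, h, SpecPts.ofPt_pt]
  let k₀ : (Over.map f).obj T ⟶ Over.mk (Spec.map a) := Over.homMk (SpecPts.ofPt θ₀) hw
  refine ⟨(Over.mapPullbackAdj f).homEquiv T (Over.mk (Spec.map a)) k₀, ?_⟩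
  unfold th
  rw [Equiv.symm_apply_apply]
  exact pt_ofPt θ₀

theorem th_map (g : Over.mk (Spec.map a') ⟶ Over.mk (Spec.map a)) (φ : B ⟶ B')
    (hg : g.left = Spec.map φ) (T : Over X)
    (k : T ⟶ (Over.pullback f).obj (Over.mk (Spec.map a'))) :
    th f a T (k ≫ (Over.pullback f).map g) = φ ≫ th f a' T k := by
  unfold th
  rw [Adjunction.homEquiv_naturality_right_symm, Over.comp_left, hg, SpecPts.pt_comp_SpecMap]

end general

section sek

variable {X : Scheme.{u}} (R : Type u) [CommRing R] (lam : R) (f : X ⟶ Spec (CommRingCat.of R))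

/-- The structure ring map `R → Γ(T, ⊤)` of an `X`-scheme `T`. -/
noncomputable def strMap (T : Over X) : R →+* Γ(T.left, ⊤) := (SpecPts.pt (T.hom ≫ f)).hom

theorem strMap_comp {T T' : Over X} (q : T' ⟶ T) (r : R) :
    strMap R f T' r = q.left.appTop.hom (strMap R f T r) := by
  unfold strMap
  have h : T'.hom ≫ f = q.left ≫ (T.hom ≫ f) := by rw [← Category.assoc, Over.w q]
  rw [h, pt_comp_left]
  rfl

/-- The function `b` of a point of `G^(λ)` over `X`. -/
noncomputable def bet (T : Over X) (g : T ⟶ Red.bc f (SekSuwa.G R lam)) : Γ(T.left, ⊤) :=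
  (th f (CommRingCat.ofHom (algebraMap R (SekSuwa.A R lam))) T g).hom SekSuwa.A.t

/-- The invertible function of a point of the split multiplicative group over `X`. -/
noncomputable def eps (T : Over X) (h : T ⟶ Red.bc f (Red.diag R ℤ)) : Γ(T.left, ⊤) :=
  (th f (CommRingCat.ofHom (algebraMap R (MonoidAlgebra R (Multiplicative ℤ)))) T h).hom
    (MonoidAlgebra.single (Multiplicative.ofAdd (1 : ℤ)) (1 : R))

theorem bet_comp {T T' : Over X} (q : T' ⟶ T) (g : T ⟶ Red.bc f (SekSuwa.G R lam)) :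
    bet R lam f T' (q ≫ g) = q.left.appTop.hom (bet R lam f T g) := by
  exact congrArg (fun φ => φ.hom SekSuwa.A.t)
    (th_comp f (CommRingCat.ofHom (algebraMap R (SekSuwa.A R lam))) q g)

theorem eps_comp {T T' : Over X} (q : T' ⟶ T) (h : T ⟶ Red.bc f (Red.diag R ℤ)) :
    eps R f T' (q ≫ h) = q.left.appTop.hom (eps R f T h) := by
  exact congrArg (fun φ => φ.hom (MonoidAlgebra.single (Multiplicative.ofAdd (1 : ℤ)) (1 : R)))
    (th_comp f (CommRingCat.ofHom (algebraMap R (MonoidAlgebra R (Multiplicative ℤ)))) q h)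

theorem th_algebraMap {B : Type u} [CommRing B] [Algebra R B] (T : Over X)
    (k : T ⟶ (Over.pullback f).obj (Over.mk (Spec.map (CommRingCat.ofHom (algebraMap R B))))) (r : R) :
    (th f (CommRingCat.ofHom (algebraMap R B)) T k).hom (algebraMap R B r) = strMap R f T r := by
  have h := th_str f (CommRingCat.ofHom (algebraMap R B)) T k
  exact congrArg (fun φ => φ.hom r) h

theorem eps_alpha (T : Over X) (g : T ⟶ Red.bc f (SekSuwa.G R lam)) :
    eps R f T (g ≫ (Over.pullback f).map (SekSuwa.alpha R lam)) =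
      1 + strMap R f T lam * bet R lam f T g := by
  have h1 := th_map f (CommRingCat.ofHom (algebraMap R (MonoidAlgebra R (Multiplicative ℤ))))
    (CommRingCat.ofHom (algebraMap R (SekSuwa.A R lam))) (SekSuwa.alpha R lam)
    (CommRingCat.ofHom ((SekSuwa.alphaHom R lam : MonoidAlgebra R (Multiplicative ℤ) →ₐc[R]
      SekSuwa.A R lam) : MonoidAlgebra R (Multiplicative ℤ) →+* SekSuwa.A R lam)) rfl T g
  have h2 := congrArg (fun φ => φ.hom (MonoidAlgebra.single (Multiplicative.ofAdd (1 : ℤ)) (1 : R))) h1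
  refine h2.trans ?_
  set θ := th f (CommRingCat.ofHom (algebraMap R (SekSuwa.A R lam))) T g with hθ
  change θ.hom (SekSuwa.alphaHom R lam (MonoidAlgebra.single (Multiplicative.ofAdd (1 : ℤ)) 1)) = _
  rw [SekSuwa.alphaHom_single_one, SekSuwa.A.u_def, map_add, map_one, map_mul, hθ]
  congr 2
  exact th_algebraMap R f T g lam

/-- The `R`-algebra map attached to a point (with the algebra structure given by `strMap`). -/
noncomputable def thAlg {B : Type u} [CommRing B] [Algebra R B] (T : Over X)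
    (k : T ⟶ (Over.pullback f).obj (Over.mk (Spec.map (CommRingCat.ofHom (algebraMap R B))))) :
    letI : Algebra R Γ(T.left, ⊤) := (strMap R f T).toAlgebra
    B →ₐ[R] Γ(T.left, ⊤) :=
  letI : Algebra R Γ(T.left, ⊤) := (strMap R f T).toAlgebra
  { (th f (CommRingCat.ofHom (algebraMap R B)) T k).hom with
    commutes' := fun r => th_algebraMap R f T k r }

theorem eps_injective (T : Over X) {h h' : T ⟶ Red.bc f (Red.diag R ℤ)}
    (e : eps R f T h = eps R f T h') : h = h' := by
  letI : Algebra R Γ(T.left, ⊤) := (strMap R f T).toAlgebra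
  apply th_injective f (CommRingCat.ofHom (algebraMap R (MonoidAlgebra R (Multiplicative ℤ)))) T
  have key : thAlg R f T h = thAlg R f T h' := by
    apply MonoidAlgebra.algHom_ext
    have hF : ((thAlg R f T h : MonoidAlgebra R (Multiplicative ℤ) →* Γ(T.left, ⊤)).comp
        (MonoidAlgebra.of R (Multiplicative ℤ))) =
        ((thAlg R f T h' : MonoidAlgebra R (Multiplicative ℤ) →* Γ(T.left, ⊤)).comp
        (MonoidAlgebra.of R (Multiplicative ℤ))) := by
      apply MonoidHom.ext_mint
      exact e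
    · intro m
      exact congrArg (fun F => F m) hF
    · exact Subsingleton.elim _ _
  refine CommRingCat.hom_ext (RingHom.ext fun x => ?_)
  exact congrArg (fun F => F x) key

theorem isUnit_eps (T : Over X) (h : T ⟶ Red.bc f (Red.diag R ℤ)) : IsUnit (eps R f T h) := by
  refine IsUnit.of_mul_eq_one
    ((th f (CommRingCat.ofHom (algebraMap R (MonoidAlgebra R (Multiplicative ℤ)))) T h).hom
      (MonoidAlgebra.single (Multiplicative.ofAdd (-1 : ℤ)) (1 : R))) ?_
  unfold eps
  rw [← map_mul, MonoidAlgebra.single_mul_single, ← ofAdd_add, mul_one]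
  norm_num
  exact map_one _

theorem exists_eps (T : Over X) (v : Γ(T.left, ⊤)ˣ) :
    ∃ h : T ⟶ Red.bc f (Red.diag R ℤ), eps R f T h = v := by
  letI : Algebra R Γ(T.left, ⊤) := (strMap R f T).toAlgebra
  let θA : MonoidAlgebra R (Multiplicative ℤ) →ₐ[R] Γ(T.left, ⊤) :=
    MonoidAlgebra.lift R Γ(T.left, ⊤) (Multiplicative ℤ)
      ((Units.coeHom Γ(T.left, ⊤)).comp (zpowersHom Γ(T.left, ⊤)ˣ v))
  obtain ⟨h, hh⟩ := th_surjective f
    (CommRingCat.ofHom (algebraMap R (MonoidAlgebra R (Multiplicative ℤ)))) T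
    (CommRingCat.ofHom (θA : MonoidAlgebra R (Multiplicative ℤ) →+* Γ(T.left, ⊤))) (by
      refine CommRingCat.hom_ext (RingHom.ext fun r => ?_)
      exact θA.commutes r)
  refine ⟨h, ?_⟩
  unfold eps
  rw [hh]
  change θA (MonoidAlgebra.single (Multiplicative.ofAdd (1 : ℤ)) (1 : R)) = v
  simp [θA]

theorem bet_injective (T : Over X) {g g' : T ⟶ Red.bc f (SekSuwa.G R lam)}
    (e : bet R lam f T g = bet R lam f T g') : g = g' := by
  letI : Algebra R Γ(T.left, ⊤) := (strMap R f T).toAlgebra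
  apply th_injective f (CommRingCat.ofHom (algebraMap R (SekSuwa.A R lam))) T
  have ht : thAlg R f T g SekSuwa.A.t = thAlg R f T g' SekSuwa.A.t := e
  have hu : thAlg R f T g SekSuwa.A.u = thAlg R f T g' SekSuwa.A.u := by
    rw [SekSuwa.A.u_def, map_add, map_add, map_mul, map_mul, ht, AlgHom.commutes, AlgHom.commutes,
      map_one, map_one]
  have key : thAlg R f T g = thAlg R f T g' := by
    apply SekSuwa.A.algHom_ext ht
    have h1 : thAlg R f T g SekSuwa.A.inv * thAlg R f T g SekSuwa.A.u = 1 := by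
      rw [← map_mul, SekSuwa.A.inv_mul_u, map_one]
    have h2 : thAlg R f T g' SekSuwa.A.u * thAlg R f T g' SekSuwa.A.inv = 1 := by
      rw [← map_mul, SekSuwa.A.u_mul_inv, map_one]
    calc thAlg R f T g SekSuwa.A.inv
        = thAlg R f T g SekSuwa.A.inv * (thAlg R f T g' SekSuwa.A.u * thAlg R f T g' SekSuwa.A.inv) := by
          rw [h2, mul_one]
      _ = (thAlg R f T g SekSuwa.A.inv * thAlg R f T g SekSuwa.A.u) * thAlg R f T g' SekSuwa.A.inv := by
          rw [hu, mul_assoc]
      _ = thAlg R f T g' SekSuwa.A.inv := by rw [h1, one_mul]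
  refine CommRingCat.hom_ext (RingHom.ext fun x => ?_)
  exact congrArg (fun F => F x) key

theorem exists_bet (T : Over X) (b : Γ(T.left, ⊤)) (hb : IsUnit (1 + strMap R f T lam * b)) :
    ∃ g : T ⟶ Red.bc f (SekSuwa.G R lam), bet R lam f T g = b := by
  letI : Algebra R Γ(T.left, ⊤) := (strMap R f T).toAlgebra
  obtain ⟨c, hc⟩ := hb.exists_right_inv
  have hc' : (1 + lam • b) * c = 1 := by
    rw [Algebra.smul_def]
    exact hc
  let θA : SekSuwa.A R lam →ₐ[R] Γ(T.left, ⊤) := SekSuwa.A.lift R lam b c hc'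
  obtain ⟨g, hg⟩ := th_surjective f (CommRingCat.ofHom (algebraMap R (SekSuwa.A R lam))) T
    (CommRingCat.ofHom (θA : SekSuwa.A R lam →+* Γ(T.left, ⊤))) (by
      refine CommRingCat.hom_ext (RingHom.ext fun r => ?_)
      exact θA.commutes r)
  refine ⟨g, ?_⟩
  unfold bet
  rw [hg]
  exact SekSuwa.A.lift_t b c hc'

/-- `α^λ` is injective on `T`-points when `λ` is a non-zero-divisor on `T`. -/
theorem alpha_injective (T : Over X) (hreg : ∀ b : Γ(T.left, ⊤), strMap R f T lam * b = 0 → b = 0)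
    {g g' : T ⟶ Red.bc f (SekSuwa.G R lam)}
    (e : g ≫ (Over.pullback f).map (SekSuwa.alpha R lam) =
      g' ≫ (Over.pullback f).map (SekSuwa.alpha R lam)) : g = g' := by
  apply bet_injective R lam f T
  have h1 := eps_alpha R lam f T g
  have h2 := eps_alpha R lam f T g'
  rw [e, h2] at h1
  have h3 : strMap R f T lam * (bet R lam f T g - bet R lam f T g') = 0 := by
    rw [mul_sub, sub_eq_zero]
    exact (add_left_cancel h1).symm
  exact sub_eq_zero.mp (hreg _ h3)

/-- `α^λ` is constant on `T`-points when `λ` vanishes on `T`. -/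
theorem alpha_eq_of_zero (T : Over X) (h0 : strMap R f T lam = 0)
    (g g' : T ⟶ Red.bc f (SekSuwa.G R lam)) :
    g ≫ (Over.pullback f).map (SekSuwa.alpha R lam) =
      g' ≫ (Over.pullback f).map (SekSuwa.alpha R lam) := by
  apply eps_injective R f T
  rw [eps_alpha, eps_alpha, h0, zero_mul, zero_mul]

/-- A point of the multiplicative group whose function is `1 + λ b` comes from `G^(λ)`. -/
theorem exists_alpha_eq (T : Over X) (h : T ⟶ Red.bc f (Red.diag R ℤ)) (b : Γ(T.left, ⊤))
    (hb : eps R f T h = 1 + strMap R f T lam * b) :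
    ∃ g : T ⟶ Red.bc f (SekSuwa.G R lam),
      g ≫ (Over.pullback f).map (SekSuwa.alpha R lam) = h := by
  obtain ⟨g, hg⟩ := exists_bet R lam f T b (hb ▸ isUnit_eps R f T h)
  refine ⟨g, ?_⟩
  apply eps_injective R f T
  rw [eps_alpha, hg, hb]

end sek

end Groth.Agent.Lib.Lead.SekPts
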