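import Mathlib
import Groth.Agent.Lib.Lead.SekPts

/-!
# Geometric input for torsors under `G^(λ)`: the locus `λ = 0`, flatness, affine schemes (lead)
-/

set_option autoImplicit false
universe u
open CategoryTheory CategoryTheory.Limits AlgebraicGeometry

namespace Groth.Agent.Lib.Lead.SekGeom

open Groth.Agent.Lib.Lead Groth.Agent.Lib.Lead.SekPts

variable {X : Scheme.{u}} (R : Type u) [CommRing R] (lam : R) (f : X ⟶ Spec (CommRingCat.of R))

/-- The quotient map `R → R/λ` in `CommRingCat`. -/
noncomputable abbrev mkLam : CommRingCat.of R ⟶ CommRingCat.of (R ⧸ Ideal.span ({lam} : Set R)) :=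
  CommRingCat.ofHom (Ideal.Quotient.mk (Ideal.span ({lam} : Set R)))

/-- The closed subscheme `λ = 0` of `X`, as an object over `X`. -/
noncomputable abbrev Xl : Over X := Over.mk (pullback.fst f (Spec.map (mkLam R lam)))

theorem strMap_eq_zero_of_hom (T : Over X) (c : T ⟶ Xl R lam f) : strMap R f T lam = 0 := by
  unfold strMap
  have h : T.hom ≫ f = (c.left ≫ pullback.snd f (Spec.map (mkLam R lam))) ≫ Spec.map (mkLam R lam) := by
    rw [Category.assoc, ← pullback.condition, ← Category.assoc]
    congr 1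
    exact (Over.w c).symm
  rw [h, SpecPts.pt_comp_SpecMap]
  change (SpecPts.pt (c.left ≫ pullback.snd f (Spec.map (mkLam R lam)))).hom
    (Ideal.Quotient.mk (Ideal.span ({lam} : Set R)) lam) = 0
  rw [Ideal.Quotient.eq_zero_iff_mem.mpr (Ideal.mem_span_singleton_self lam), map_zero]

theorem exists_hom_of_strMap_eq_zero (T : Over X) (h0 : strMap R f T lam = 0) :
    Nonempty (T ⟶ Xl R lam f) := by
  let ψ : R ⧸ Ideal.span ({lam} : Set R) →+* Γ(T.left, ⊤) :=
    Ideal.Quotient.lift _ (strMap R f T) (by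
      intro a ha
      obtain ⟨c, rfl⟩ := Ideal.mem_span_singleton'.mp ha
      rw [map_mul, h0, mul_zero])
  let c₀ : T.left ⟶ Spec (CommRingCat.of (R ⧸ Ideal.span ({lam} : Set R))) :=
    SpecPts.ofPt (CommRingCat.ofHom ψ)
  have hc : T.hom ≫ f = c₀ ≫ Spec.map (mkLam R lam) := by
    rw [SpecPts.ofPt_comp_SpecMap]
    have : mkLam R lam ≫ CommRingCat.ofHom ψ = SpecPts.pt (T.hom ≫ f) := by
      refine CommRingCat.hom_ext (RingHom.ext fun r => ?_)
      rfl
    rw [this, SpecPts.ofPt_pt]
  exact ⟨Over.homMk (pullback.lift T.hom c₀ hc) (pullback.lift_fst _ _ _)⟩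

/-- `λ` is a non-zero-divisor on the functions of a scheme flat over a domain. -/
theorem regular_of_flat [IsDomain R] (hlam : lam ≠ 0) (T : Over X) [Flat (T.hom ≫ f)]
    (b : Γ(T.left, ⊤)) (hb : strMap R f T lam * b = 0) : b = 0 := by
  apply Scheme.zero_of_zero_cover b T.left.affineCover
  intro i
  haveI hflat : Flat (T.left.affineCover.f i ≫ T.hom ≫ f) := inferInstance
  have hfl : (SpecPts.pt (T.left.affineCover.f i ≫ T.hom ≫ f)).hom.Flat := by
    have h1 := Flat.flat_appLE (T.left.affineCover.f i ≫ T.hom ≫ f)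
      (isAffineOpen_top (Spec (CommRingCat.of R)))
      (isAffineOpen_top (T.left.affineCover.X i)) le_top
    unfold SpecPts.pt
    rw [CommRingCat.hom_comp]
    refine RingHom.Flat.comp ?_ ?_
    · exact RingHom.Flat.of_bijective (ConcreteCategory.bijective_of_isIso (Scheme.ΓSpecIso _).inv)
    · convert h1 using 2
      simp [Scheme.Hom.appLE]
  letI : Algebra R Γ(T.left.affineCover.X i, ⊤) :=
    (SpecPts.pt (T.left.affineCover.f i ≫ T.hom ≫ f)).hom.toAlgebra
  haveI : Module.Flat R Γ(T.left.affineCover.X i, ⊤) := hfl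
  have hreg : IsSMulRegular Γ(T.left.affineCover.X i, ⊤)
      (algebraMap R Γ(T.left.affineCover.X i, ⊤) lam) :=
    IsSMulRegular.of_flat (IsRegular.of_ne_zero hlam).isSMulRegular
  have h2 : algebraMap R Γ(T.left.affineCover.X i, ⊤) lam *
      (T.left.affineCover.f i).appTop.hom b = 0 := by
    have h3 := congrArg (T.left.affineCover.f i).appTop.hom hb
    rw [map_mul, map_zero] at h3
    have h4 : (T.left.affineCover.f i).appTop.hom (strMap R f T lam) =
        algebraMap R Γ(T.left.affineCover.X i, ⊤) lam := by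
      unfold strMap
      change _ = (SpecPts.pt (T.left.affineCover.f i ≫ T.hom ≫ f)).hom lam
      rw [pt_comp_left]
      rfl
    rwa [h4] at h3
  have h5 : (T.left.affineCover.f i).appTop.hom b = 0 := by
    apply hreg
    simpa [smul_eq_mul] using h2
  exact h5

end Groth.Agent.Lib.Lead.SekGeom
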