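import Groth.Agent.Lib.Lead.Tw2

/-!
# Functoriality of the sheafified tensor product `CohB1.tensorMod` (lead seat library)
`tensorMapLeft`, `tensorLift` (morphisms out of a tensor product from bilinear families),
`mulHom` (multiplication `J ⊗ M ⟶ M` for `J ⟶ O_X`), all with formulas on pure tensors `tmul`.
-/

set_option autoImplicit false
universe u

open AlgebraicGeometry CategoryTheory Opposite TopologicalSpace MonoidalCategory Limits

namespace Groth.Agent.Lib.Lead.Inv

open Groth.Agent.Lib.Lead.QCohAff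

variable {X : Scheme.{u}}

/-- Functoriality of `− ⊗ C` on `X.Modules`. -/
noncomputable def tensorMapLeft {A B : X.Modules} (φ : A ⟶ B) (C : X.Modules) :
    CohB1.tensorMod A C ⟶ CohB1.tensorMod B C :=
  (shP X).map (show CohB1.toPMod A ⊗ CohB1.toPMod C ⟶ CohB1.toPMod B ⊗ CohB1.toPMod C from
    (show CohB1.toPMod A ⟶ CohB1.toPMod B from φ.val) ▷ CohB1.toPMod C)

theorem tensorMapLeft_tmul {A B : X.Modules} (φ : A ⟶ B) (C : X.Modules) {W : X.Opens}
    (a : Γ(A, W)) (c : Γ(C, W)) :
    ((tensorMapLeft φ C).app W).hom (tmul A C a c) = tmul B C ((φ.app W).hom a) c := by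
  exact shP_map_ηP ((show CohB1.toPMod A ⟶ CohB1.toPMod B from φ.val) ▷ CohB1.toPMod C) W
    (pt (CohB1.toPMod A) C a c)

open Groth.Agent.Lib.Helper60.TensorLib in
/-- The morphism out of a tensor product induced by a compatible family of bilinear maps. -/
noncomputable def tensorLift (M N K : X.Modules)
    (b : ∀ U : X.Opens, Γ(M, U) →ₗ[Γ(X, U)] Γ(N, U) →ₗ[Γ(X, U)] Γ(K, U))
    (hb : ∀ {U V : X.Opens} (i : V ⟶ U) (m : Γ(M, U)) (n : Γ(N, U)),
      K.presheaf.map i.op (b U m n) = b V (M.presheaf.map i.op m) (N.presheaf.map i.op n)) :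
    CohB1.tensorMod M N ⟶ K :=
  liftHom (CohB1.tensorPre M N) K (tensorPreHom M N K b hb)

open Groth.Agent.Lib.Helper60.TensorLib in
theorem tensorLift_tmul (M N K : X.Modules)
    (b : ∀ U : X.Opens, Γ(M, U) →ₗ[Γ(X, U)] Γ(N, U) →ₗ[Γ(X, U)] Γ(K, U))
    (hb : ∀ {U V : X.Opens} (i : V ⟶ U) (m : Γ(M, U)) (n : Γ(N, U)),
      K.presheaf.map i.op (b U m n) = b V (M.presheaf.map i.op m) (N.presheaf.map i.op n))
    {W : X.Opens} (m : Γ(M, W)) (n : Γ(N, W)) :
    ((tensorLift M N K b hb).app W).hom (tmul M N m n) = b W m n := by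
  have h := toSheafify_liftHom (CohB1.tensorPre M N) K (tensorPreHom M N K b hb)
  have h2 := congrArg (fun ψ => (ψ.app (op W)).hom
    (show (CohB1.tensorPre M N).obj (op W) from
      (show TensorProduct Γ(X, W) Γ(M, W) Γ(N, W) from TensorProduct.tmul Γ(X, W) m n))) h
  exact h2

/-- The bilinear map `(a, m) ↦ i(a) • m`. -/
noncomputable def mulBilin {J : X.Modules} (i : J ⟶ Coh.structureModule X) (M : X.Modules)
    (U : X.Opens) : Γ(J, U) →ₗ[Γ(X, U)] Γ(M, U) →ₗ[Γ(X, U)] Γ(M, U) :=
  LinearMap.mk₂ Γ(X, U)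
    (fun (a : Γ(J, U)) (m : Γ(M, U)) => (show Γ(X, U) from (i.app U).hom a) • m)
    (fun a a' m => by
      rw [map_add]
      exact add_smul _ _ m)
    (fun r a m => by
      change (show Γ(X, U) from (i.app U).hom (r • a)) • m = r • _
      have h1 : (i.app U).hom (r • a) = r • (i.app U).hom a := Scheme.Modules.Hom.app_smul i r a
      rw [h1]
      exact mul_smul r _ m)
    (fun a m m' => smul_add _ m m')
    (fun r a m => smul_comm _ r m)

theorem mulBilin_apply {J : X.Modules} (i : J ⟶ Coh.structureModule X) (M : X.Modules)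
    (U : X.Opens) (a : Γ(J, U)) (m : Γ(M, U)) :
    mulBilin i M U a m = (show Γ(X, U) from (i.app U).hom a) • m := rfl

theorem mulBilin_res {J : X.Modules} (i : J ⟶ Coh.structureModule X) (M : X.Modules)
    {U V : X.Opens} (j : V ⟶ U) (a : Γ(J, U)) (m : Γ(M, U)) :
    M.presheaf.map j.op (mulBilin i M U a m) =
      mulBilin i M V (J.presheaf.map j.op a) (M.presheaf.map j.op m) := by
  change M.presheaf.map j.op ((show Γ(X, U) from (i.app U).hom a) • m) =
    (show Γ(X, V) from (i.app V).hom (J.presheaf.map j.op a)) • M.presheaf.map j.op m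
  have h1 := Scheme.Modules.map_smul M j (show Γ(X, U) from (i.app U).hom a) m
  refine h1.trans ?_
  congr 1
  have := congrArg (fun f => f.hom a) (i.mapPresheaf.naturality j.op)
  exact this.symm

/-- The multiplication map `J ⊗ M ⟶ M` of an "ideal" `i : J ⟶ O_X`. -/
noncomputable def mulHom {J : X.Modules} (i : J ⟶ Coh.structureModule X) (M : X.Modules) :
    CohB1.tensorMod J M ⟶ M :=
  tensorLift J M M (mulBilin i M) (fun j a m => mulBilin_res i M j a m)

theorem mulHom_tmul {J : X.Modules} (i : J ⟶ Coh.structureModule X) (M : X.Modules) {W : X.Opens}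
    (a : Γ(J, W)) (m : Γ(M, W)) :
    ((mulHom i M).app W).hom (tmul J M a m) = (show Γ(X, W) from (i.app W).hom a) • m :=
  tensorLift_tmul J M M (mulBilin i M) (fun j a m => mulBilin_res i M j a m) a m

end Groth.Agent.Lib.Lead.Inv
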