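import Groth.Agent.Lib.Helper35.Dual
import Groth.Agent.Lib.Lead.Inv2

/-!
# The module glued from a multiplicative 1-cocycle (lead seat library)

For an open cover `U i` of a scheme and functions `η i j` on `U i ⊓ U j` satisfying the cocycle
identity, the sheaf of modules `L` whose sections over `V` are the families `f i ∈ Γ(X, V ⊓ U i)`
with `f j = f i * η i j` on `V ⊓ U i ⊓ U j`.  It carries sections `gen i` over `U i` with
`gen i = η i j • gen j` on `U i ⊓ U j`, each generating freely.
-/

set_option autoImplicit false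
universe u

open CategoryTheory AlgebraicGeometry TopologicalSpace Opposite

namespace Groth.Agent.Lib.Lead.CocycleMod

open Groth.Agent.Lib.Helper35.AbSheaf Groth.Agent.Lib.Helper35.Gen Groth.Agent.Lib.Helper35.Dual

variable {X : Scheme.{u}} {ι : Type u} (U : ι → X.Opens) (η : ∀ i j : ι, Γ(X, U i ⊓ U j))

/-- the ambient group of families of functions -/
abbrev Amb (V : X.Opens) : Type u := ∀ i : ι, Γ(X, V ⊓ U i)

/-- sections over `V`: families with `f j = f i * η i j` on overlaps -/
def secs (V : X.Opens) : AddSubgroup (Amb U V) where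
  carrier := {f | ∀ (i j : ι) (W : X.Opens) (h1 : W ≤ V ⊓ U i) (h2 : W ≤ V ⊓ U j)
      (h3 : W ≤ U i ⊓ U j), rr X h2 (f j) = rr X h1 (f i) * rr X h3 (η i j)}
  add_mem' := by
    intro f g hf hg i j W h1 h2 h3
    simp only [Pi.add_apply, map_add, hf i j W h1 h2 h3, hg i j W h1 h2 h3, add_mul]
  zero_mem' := by
    intro i j W h1 h2 h3
    simp
  neg_mem' := by
    intro f hf i j W h1 h2 h3
    simp [hf i j W h1 h2 h3]

variable {U η}

lemma secs_rel {V : X.Opens} (f : secs U η V) (i j : ι) {W : X.Opens} (h1 : W ≤ V ⊓ U i)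
    (h2 : W ≤ V ⊓ U j) (h3 : W ≤ U i ⊓ U j) :
    rr X h2 (f.1 j) = rr X h1 (f.1 i) * rr X h3 (η i j) :=
  f.2 i j W h1 h2 h3

lemma secs_ext {V : X.Opens} {f g : secs U η V} (h : ∀ i, f.1 i = g.1 i) : f = g :=
  Subtype.ext (funext h)

noncomputable instance instSMul (V : X.Opens) : SMul Γ(X, V) (secs U η V) where
  smul r f := ⟨fun i => rr X inf_le_left r * f.1 i, by
    intro i j W h1 h2 h3
    simp only [map_mul, rr_rr]
    rw [secs_rel f i j h1 h2 h3, mul_assoc]⟩

lemma smul_apply {V : X.Opens} (r : Γ(X, V)) (f : secs U η V) (i : ι) :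
    (r • f).1 i = rr X inf_le_left r * f.1 i := rfl

lemma add_apply {V : X.Opens} (f g : secs U η V) (i : ι) : (f + g).1 i = f.1 i + g.1 i := rfl

lemma zero_apply {V : X.Opens} (i : ι) : (0 : secs U η V).1 i = 0 := rfl

noncomputable instance instModule (V : X.Opens) : Module Γ(X, V) (secs U η V) where
  one_smul f := by
    apply secs_ext; intro i
    rw [smul_apply, map_one, one_mul]
  mul_smul r s f := by
    apply secs_ext; intro i
    rw [smul_apply, smul_apply, smul_apply, map_mul, mul_assoc]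
  smul_zero r := by
    apply secs_ext; intro i
    rw [smul_apply, zero_apply, mul_zero]
  smul_add r f g := by
    apply secs_ext; intro i
    rw [smul_apply, add_apply, add_apply, smul_apply, smul_apply, mul_add]
  add_smul r s f := by
    apply secs_ext; intro i
    rw [smul_apply, add_apply, smul_apply, smul_apply, map_add, add_mul]
  zero_smul f := by
    apply secs_ext; intro i
    rw [smul_apply, zero_apply, map_zero, zero_mul]

/-- restriction of sections -/
noncomputable def resHom {V V' : X.Opens} (h : V' ≤ V) : secs U η V →+ secs U η V' where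
  toFun f := ⟨fun i => rr X (inf_le_inf_right (U i) h) (f.1 i), by
    intro i j W h1 h2 h3
    simp only [rr_rr]
    exact secs_rel f i j _ _ h3⟩
  map_zero' := by
    apply secs_ext; intro i
    change rr X _ (0 : Γ(X, V ⊓ U i)) = 0
    rw [map_zero]
  map_add' f g := by
    apply secs_ext; intro i
    change rr X _ (f.1 i + g.1 i) = rr X _ (f.1 i) + rr X _ (g.1 i)
    rw [map_add]

lemma resHom_apply {V V' : X.Opens} (h : V' ≤ V) (f : secs U η V) (i : ι) :
    (resHom h f).1 i = rr X (inf_le_inf_right (U i) h) (f.1 i) := rfl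

variable (U η)

/-- the underlying presheaf of abelian groups -/
noncomputable def cocAb : (Opens X)ᵒᵖ ⥤ Ab.{u} where
  obj V := AddCommGrpCat.of (secs U η V.unop)
  map f := AddCommGrpCat.ofHom (resHom f.unop.le)
  map_id V := by
    refine AddCommGrpCat.hom_ext (AddMonoidHom.ext fun f => ?_)
    apply secs_ext; intro i
    change rr X _ (f.1 i) = f.1 i
    exact rr_self _
  map_comp f g := by
    refine AddCommGrpCat.hom_ext (AddMonoidHom.ext fun φ => ?_)
    apply secs_ext; intro i
    change rr X _ (φ.1 i) = rr X _ (rr X _ (φ.1 i))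
    rw [rr_rr]

noncomputable instance (V : (Opens X)ᵒᵖ) :
    Module (X.ringCatSheaf.obj.obj V) ((cocAb U η).obj V) :=
  inferInstanceAs (Module Γ(X, V.unop) (secs U η V.unop))

/-- the presheaf of modules -/
noncomputable def cocPre : PresheafOfModules X.ringCatSheaf.obj :=
  PresheafOfModules.ofPresheaf (cocAb U η) (by
    intro V V' f r φ
    apply secs_ext; intro i
    change rr X _ (rr X _ (show Γ(X, V.unop) from r) * φ.1 i) =
      rr X _ (rr X _ (show Γ(X, V.unop) from r)) * rr X _ (φ.1 i)
    rw [map_mul, rr_rr, rr_rr])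


variable {U η}

/-- gluing sections -/
theorem exists_glue {κ : Type u} (W : κ → X.Opens) (sf : ∀ a, secs U η (W a))
    (hc : ∀ a b, resHom (inf_le_left : W a ⊓ W b ≤ W a) (sf a) =
      resHom (inf_le_right : W a ⊓ W b ≤ W b) (sf b)) :
    ∃ s : secs U η (iSup W), ∀ a, resHom (le_iSup W a) s = sf a := by
  have hcov : ∀ i, iSup W ⊓ U i ≤ ⨆ a, W a ⊓ U i := by
    intro i x hx
    obtain ⟨a, ha⟩ := Opens.mem_iSup.mp hx.1
    exact Opens.mem_iSup.mpr ⟨a, ha, hx.2⟩
  have key : ∀ i, ∃! t : Γ(X, iSup W ⊓ U i),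
      ∀ a, rr X (inf_le_inf_right (U i) (le_iSup W a)) t = (sf a).1 i := by
    intro i
    refine glueO (fun a => W a ⊓ U i) (fun a => inf_le_inf_right (U i) (le_iSup W a)) (hcov i) _ ?_
    intro a b
    have h := congrArg (fun φ : secs U η (W a ⊓ W b) => φ.1 i) (hc a b)
    simp only [resHom_apply] at h
    have h' := congrArg (rr X (le_inf (le_inf (inf_le_left.trans inf_le_left)
      (inf_le_right.trans inf_le_left)) (inf_le_left.trans inf_le_right) :
        (W a ⊓ U i) ⊓ (W b ⊓ U i) ≤ (W a ⊓ W b) ⊓ U i)) h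
    rw [rr_rr, rr_rr] at h'
    exact h'
  choose t ht hu using key
  have hmem : t ∈ secs U η (iSup W) := by
    intro i j W' h1 h2 h3
    refine extO (fun a => W' ⊓ W a) (fun a => inf_le_left) ?_ _ _ (fun a => ?_)
    · intro x hx
      obtain ⟨a, ha⟩ := Opens.mem_iSup.mp (h1 hx).1
      exact Opens.mem_iSup.mpr ⟨a, hx, ha⟩
    · rw [map_mul, rr_rr, rr_rr, rr_rr]
      have e1 : rr X ((inf_le_left : W' ⊓ W a ≤ W').trans h2) (t j) =
          rr X (le_inf inf_le_right (inf_le_left.trans (h2.trans inf_le_right)) :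
            W' ⊓ W a ≤ W a ⊓ U j) ((sf a).1 j) := by
        rw [← ht j a, rr_rr]
      have e2 : rr X ((inf_le_left : W' ⊓ W a ≤ W').trans h1) (t i) =
          rr X (le_inf inf_le_right (inf_le_left.trans (h1.trans inf_le_right)) :
            W' ⊓ W a ≤ W a ⊓ U i) ((sf a).1 i) := by
        rw [← ht i a, rr_rr]
      rw [e1, e2]
      exact secs_rel (sf a) i j _ _ _
  refine ⟨⟨t, hmem⟩, fun a => ?_⟩
  apply secs_ext; intro i
  exact ht i a

theorem glue_unique {κ : Type u} (W : κ → X.Opens) (s s' : secs U η (iSup W))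
    (h : ∀ a, resHom (le_iSup W a) s = resHom (le_iSup W a) s') : s = s' := by
  apply secs_ext; intro i
  refine extO (fun a => W a ⊓ U i) (fun a => inf_le_inf_right (U i) (le_iSup W a)) ?_ _ _
    (fun a => ?_)
  · intro x hx
    obtain ⟨a, ha⟩ := Opens.mem_iSup.mp hx.1
    exact Opens.mem_iSup.mpr ⟨a, ha, hx.2⟩
  · exact congrArg (fun φ : secs U η (W a) => φ.1 i) (h a)

variable (U η)

theorem isSheaf_cocAb : TopCat.Presheaf.IsSheaf (cocAb U η) := by
  rw [TopCat.Presheaf.isSheaf_iff_isSheafUniqueGluing]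
  intro κ W sf hsf
  obtain ⟨s, hs⟩ := exists_glue W sf (fun a b => hsf a b)
  refine ⟨s, fun a => hs a, ?_⟩
  intro s' hs'
  exact glue_unique W s' s (fun a => (hs' a).trans (hs a).symm)

/-- **the module glued from the cocycle `η`** -/
noncomputable def cocMod : X.Modules where
  val := cocPre U η
  isSheaf := isSheaf_cocAb U η


section gen

variable {U η}
variable (hη : ∀ (i j k : ι) (W : X.Opens) (h1 : W ≤ U i ⊓ U j) (h2 : W ≤ U j ⊓ U k)
  (h3 : W ≤ U i ⊓ U k), rr X h3 (η i k) = rr X h1 (η i j) * rr X h2 (η j k))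

/-- the generator over `U i` -/
def genSec (i : ι) : secs U η (U i) :=
  ⟨fun j => η i j, fun j k W h1 h2 h3 => hη i j k W h1 h3 h2⟩

/-- the generator over `U i`, as a section of `cocMod` -/
noncomputable def gen (i : ι) : Γ(cocMod U η, U i) := genSec hη i

lemma rs_eq_resHom {V V' : X.Opens} (h : V' ≤ V) (f : Γ(cocMod U η, V)) :
    rs (cocMod U η) h f = resHom h (show secs U η V from f) := rfl

lemma smul_eq {V : X.Opens} (r : Γ(X, V)) (f : Γ(cocMod U η, V)) :
    r • f = (r • (show secs U η V from f) : secs U η V) := rfl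

include hη in
lemma eta_self (hu : ∀ i, IsUnit (η i i)) (i : ι) {W : X.Opens} (h : W ≤ U i ⊓ U i) :
    rr X h (η i i) = 1 := by
  have h1 := hη i i i W h h h
  have h2 : IsUnit (rr X h (η i i)) := (hu i).map _
  have h3 : rr X h (η i i) * 1 = rr X h (η i i) * rr X h (η i i) := by rw [mul_one]; exact h1
  exact (h2.mul_left_cancel h3).symm

lemma genSec_rel (i j : ι) :
    (resHom (inf_le_left : U i ⊓ U j ≤ U i) (genSec hη i) : secs U η (U i ⊓ U j)) =
      η i j • resHom (inf_le_right : U i ⊓ U j ≤ U j) (genSec hη j) := by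
  apply secs_ext; intro k
  rw [smul_apply, resHom_apply, resHom_apply]
  exact hη i j k _ _ _ _

lemma gen_rel (i j : ι) :
    rs (cocMod U η) (inf_le_left : U i ⊓ U j ≤ U i) (gen hη i) =
      η i j • rs (cocMod U η) (inf_le_right : U i ⊓ U j ≤ U j) (gen hη j) :=
  genSec_rel hη i j

theorem gen_bijective (hu : ∀ i, IsUnit (η i i)) (i : ι) (V : X.Opens) (h : V ≤ U i) :
    Function.Bijective (fun r : Γ(X, V) => r • rs (cocMod U η) h (gen hη i)) := by
  have hVi : V ⊓ U i = V := inf_eq_left.mpr h
  have hbij : Function.Bijective (rr X (inf_le_left : V ⊓ U i ≤ V)) :=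
    Groth.Agent.Lib.Lead.Inv.resX_bijective_of_eq hVi
  have hval : ∀ (r : Γ(X, V)) (j : ι),
      (show secs U η V from r • rs (cocMod U η) h (gen hη i)).1 j =
        rr X inf_le_left r * rr X (inf_le_inf_right (U j) h) (η i j) := fun r j => rfl
  constructor
  · intro r r' hrr
    have h1 := congrArg (fun f : secs U η V => f.1 i) hrr
    simp only [hval] at h1
    rw [eta_self hη hu i, mul_one, mul_one] at h1
    exact hbij.1 h1
  · intro f
    obtain ⟨r, hr⟩ := hbij.2 ((show secs U η V from f).1 i)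
    refine ⟨r, ?_⟩
    apply secs_ext (U := U) (η := η); intro j
    change (show secs U η V from r • rs (cocMod U η) h (gen hη i)).1 j = _
    rw [hval]
    have h1 := secs_rel (show secs U η V from f) i j
      (le_inf inf_le_left (inf_le_left.trans h) : V ⊓ U j ≤ V ⊓ U i) le_rfl
      (inf_le_inf_right (U j) h)
    rw [rr_self] at h1
    rw [h1, ← hr, rr_rr]

end gen

end Groth.Agent.Lib.Lead.CocycleMod
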