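import Groth.Agent.Lib.Lead.QCohAff

/-!
# Gluing sections of an `O_X`-module over two opens (lead seat library)
-/

set_option autoImplicit false
universe u

open AlgebraicGeometry CategoryTheory Opposite TopologicalSpace

namespace Groth.Agent.Lib.Lead.SheafGlue

open Groth.Agent.Lib.Lead.QCohAff

variable {X : Scheme.{u}} (F : X.Modules)

/-- The underlying sheaf of abelian groups. -/
noncomputable def shf : TopCat.Sheaf Ab X := ⟨F.presheaf, F.isSheaf⟩

theorem map_eq_of_le {U V : X.Opens} (i j : op V ⟶ op U) (s : Γ(F, V)) :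
    F.presheaf.map i s = F.presheaf.map j s := by
  rw [Subsingleton.elim i j]

theorem map_map' {U V W : X.Opens} (i : op V ⟶ op U) (j : op W ⟶ op V) (k : op W ⟶ op U)
    (s : Γ(F, W)) : F.presheaf.map i (F.presheaf.map j s) = F.presheaf.map k s := by
  rw [← ConcreteCategory.comp_apply, ← Functor.map_comp]
  exact map_eq_of_le F _ _ _

/-- Two sections agreeing on two opens covering `V` are equal. -/
theorem eq_of_res₂ {U₁ U₂ V : X.Opens} (h₁ : U₁ ≤ V) (h₂ : U₂ ≤ V) (hcover : V ≤ U₁ ⊔ U₂)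
    (s t : Γ(F, V))
    (e₁ : F.presheaf.map (homOfLE h₁).op s = F.presheaf.map (homOfLE h₁).op t)
    (e₂ : F.presheaf.map (homOfLE h₂).op s = F.presheaf.map (homOfLE h₂).op t) : s = t :=
  (shf F).eq_of_locally_eq₂ (homOfLE h₁) (homOfLE h₂) hcover s t e₁ e₂

/-- Sections over the empty open vanish. -/
theorem eq_zero_of_bot {V : X.Opens} (hV : V = ⊥) (s : Γ(F, V)) : s = 0 := by
  refine (shf F).eq_of_locally_eq' (fun i : PEmpty.{1} => i.elim) V (fun i => i.elim) ?_ s 0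
    (fun i => i.elim)
  rw [hV]
  exact bot_le

/-- Gluing two sections agreeing on the intersection. -/
theorem exists_glue₂ {U₁ U₂ : X.Opens} (s₁ : Γ(F, U₁)) (s₂ : Γ(F, U₂))
    (h : F.presheaf.map (homOfLE (inf_le_left : U₁ ⊓ U₂ ≤ U₁)).op s₁ =
      F.presheaf.map (homOfLE (inf_le_right : U₁ ⊓ U₂ ≤ U₂)).op s₂) :
    ∃ s : Γ(F, U₁ ⊔ U₂), F.presheaf.map (homOfLE (le_sup_left : U₁ ≤ U₁ ⊔ U₂)).op s = s₁ ∧
      F.presheaf.map (homOfLE (le_sup_right : U₂ ≤ U₁ ⊔ U₂)).op s = s₂ := by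
  let U : Bool → X.Opens := fun b => cond b U₁ U₂
  let sf : ∀ b : Bool, Γ(F, U b) := fun b => Bool.rec (motive := fun b => Γ(F, cond b U₁ U₂)) s₂ s₁ b
  have hle : ∀ b, U b ≤ U₁ ⊔ U₂ := fun b => by cases b <;> simp [U]
  have hcomp : TopCat.Presheaf.IsCompatible (shf F).1 U sf := by
    rintro (_ | _) (_ | _)
    · exact map_eq_of_le F _ _ _
    · change F.presheaf.map _ s₂ = F.presheaf.map _ s₁
      have h' := congrArg (F.presheaf.map (homOfLE (le_of_eq (inf_comm U₂ U₁))).op) h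
      rw [map_map' F _ _ (homOfLE (inf_le_right : U₂ ⊓ U₁ ≤ U₁)).op,
        map_map' F _ _ (homOfLE (inf_le_left : U₂ ⊓ U₁ ≤ U₂)).op] at h'
      exact h'.symm
    · change F.presheaf.map _ s₁ = F.presheaf.map _ s₂
      exact h
    · exact map_eq_of_le F _ _ _
  obtain ⟨s, hs, -⟩ := (shf F).existsUnique_gluing' U (U₁ ⊔ U₂) (fun b => homOfLE (hle b)) (by
    refine sup_le ?_ ?_
    · exact le_iSup U true
    · exact le_iSup U false) sf hcomp
  exact ⟨s, hs true, hs false⟩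

end Groth.Agent.Lib.Lead.SheafGlue
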