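import Groth.Agent.Lib.Lead.RelAmp3
import Mathlib.AlgebraicGeometry.Morphisms.Affine

/-!
# Sums of sections of an invertible module and avoidance of finitely many points
(lead seat library)
-/

set_option autoImplicit false
universe u

open AlgebraicGeometry CategoryTheory Opposite TopologicalSpace MonoidalCategory Limits

namespace Groth.Agent.Lib.Lead.Inv

open Groth.Agent.Lib.Lead.QCohAff Groth.Agent.Lib.Helper60.TensorLib

variable {X : Scheme.{u}} {M : X.Modules}

theorem val_add (s t : Coh.structureModule X ⟶ M) (W : X.Opens) :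
    val (s + t) W = val s W + val t W := rfl

/-- `X_{s+t} ⊆ X_s ∪ X_t`. -/
theorem genLocus_add_le (hM : PicF.IsInvertible M) (s t : Coh.structureModule X ⟶ M) :
    CohB1.genLocus M (s + t) ≤ CohB1.genLocus M s ⊔ CohB1.genLocus M t := by
  intro z hz
  obtain ⟨U, hzU, e, he⟩ := (isInvertible_iff_exists_isGen.mp hM) z
  have ha := he.coeff_smul le_rfl (val s U)
  have hb := he.coeff_smul le_rfl (val t U)
  rw [res_self] at ha hb
  have hab : (he.coeff le_rfl (val s U) + he.coeff le_rfl (val t U)) • e = val (s + t) U := by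
    rw [add_smul, ha, hb, val_add]
  have h1 := (mem_genLocus_iff_of_isGen he (s + t) _ hab z hzU).mp hz
  rcases X.basicOpen_add_le _ _ h1 with h | h
  · exact Or.inl ((mem_genLocus_iff_of_isGen he s _ ha z hzU).mpr h)
  · exact Or.inr ((mem_genLocus_iff_of_isGen he t _ hb z hzU).mpr h)

/-- If `s` generates at `z` and `t` does not, then `s + t` generates at `z`. -/
theorem mem_genLocus_add (hM : PicF.IsInvertible M) (s t : Coh.structureModule X ⟶ M) (z : X)
    (hs : z ∈ CohB1.genLocus M s) (ht : z ∉ CohB1.genLocus M t) :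
    z ∈ CohB1.genLocus M (s + t) := by
  obtain ⟨U, hzU, e, he⟩ := (isInvertible_iff_exists_isGen.mp hM) z
  have ha := he.coeff_smul le_rfl (val s U)
  have hb := he.coeff_smul le_rfl (val t U)
  rw [res_self] at ha hb
  have hab : (he.coeff le_rfl (val s U) + he.coeff le_rfl (val t U)) • e = val (s + t) U := by
    rw [add_smul, ha, hb, val_add]
  refine (mem_genLocus_iff_of_isGen he (s + t) _ hab z hzU).mpr ?_
  have h1 := (mem_genLocus_iff_of_isGen he s _ ha z hzU).mp hs
  have h2 : z ∉ X.basicOpen (he.coeff le_rfl (val t U)) := fun h =>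
    ht ((mem_genLocus_iff_of_isGen he t _ hb z hzU).mpr h)
  rw [Scheme.mem_basicOpen X _ z hzU] at h1 h2 ⊢
  rw [map_add]
  by_contra h3
  exact h3 (by
    have := IsLocalRing.nonunits_add (a := X.presheaf.germ U z hzU (he.coeff le_rfl (val s U)) +
      X.presheaf.germ U z hzU (he.coeff le_rfl (val t U)))
      (b := -X.presheaf.germ U z hzU (he.coeff le_rfl (val t U))) h3
      (by rw [mem_nonunits_iff, IsUnit.neg_iff]; exact h2)
    rw [add_neg_cancel_right] at this
    exact absurd h1 this)


/-- If `X_s` and `X_t` are affine, so is `X_{s+t}`. -/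
theorem isAffineOpen_genLocus_add (hM : PicF.IsInvertible M) (s t : Coh.structureModule X ⟶ M)
    (hs : IsAffineOpen (CohB1.genLocus M s)) (ht : IsAffineOpen (CohB1.genLocus M t)) :
    IsAffineOpen (CohB1.genLocus M (s + t)) := by
  have he : IsGen M (CohB1.genLocus M (s + t)) (val (s + t) (CohB1.genLocus M (s + t))) :=
    (le_genLocus_iff_isGen (s + t) _).mp le_rfl
  have ha := he.coeff_smul le_rfl (val s (CohB1.genLocus M (s + t)))
  have hb := he.coeff_smul le_rfl (val t (CohB1.genLocus M (s + t)))
  rw [res_self] at ha hb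
  have hab : he.coeff le_rfl (val s (CohB1.genLocus M (s + t))) +
      he.coeff le_rfl (val t (CohB1.genLocus M (s + t))) = 1 := by
    rw [← he.coeff_add, ← val_add]
    have := he.coeff_self (le_refl (CohB1.genLocus M (s + t)))
    rw [res_self] at this
    exact this
  refine isAffineOpen_of_isAffineOpen_basicOpen _
    {he.coeff le_rfl (val s (CohB1.genLocus M (s + t))),
      he.coeff le_rfl (val t (CohB1.genLocus M (s + t)))} ?_ ?_
  · rw [Ideal.eq_top_iff_one, ← hab]
    exact Ideal.add_mem _ (Ideal.subset_span (Set.mem_insert _ _))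
      (Ideal.subset_span (Set.mem_insert_of_mem _ rfl))
  · intro i hi
    rcases hi with rfl | rfl
    · rw [← genLocus_inf_eq_basicOpen he s _ ha]
      exact isAffineOpen_inf_genLocus hM (s + t) hs
    · rw [← genLocus_inf_eq_basicOpen he t _ hb]
      exact isAffineOpen_inf_genLocus hM (s + t) ht


theorem genLocus_zero (hM : PicF.IsInvertible M) :
    CohB1.genLocus M (0 : Coh.structureModule X ⟶ M) = ⊥ := by
  rw [eq_bot_iff]
  intro z hz
  obtain ⟨U, hzU, e, he⟩ := (isInvertible_iff_exists_isGen.mp hM) z
  have h0 : (0 : Γ(X, U)) • e = val (0 : Coh.structureModule X ⟶ M) U := by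
    rw [zero_smul]
    rfl
  have := (mem_genLocus_iff_of_isGen he 0 _ h0 z hzU).mp hz
  rw [Scheme.basicOpen_zero] at this
  exact this

/-- For an ample `L`, every neighbourhood of a point contains an affine `X_t` around the point. -/
theorem exists_affine_section_le {L : X.Modules} (hL : CohB1.IsAmple L) (N : X.Opens) (w : X)
    (hw : w ∈ N) :
    ∃ (n : ℕ) (t : Coh.structureModule X ⟶ CohB1.tensorPow L (n + 1)),
      w ∈ CohB1.genLocus _ t ∧ CohB1.genLocus _ t ≤ N ∧ IsAffineOpen (CohB1.genLocus _ t) := by
  obtain ⟨n₀, s₀, hx₀, haff₀⟩ := hL.2.2 w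
  have hB := Groth.Agent.Lib.Helper35.Ample.isBasis_of_isAmple hL
  have hmem : w ∈ (N ⊓ CohB1.genLocus _ s₀ : X.Opens) := ⟨hw, hx₀⟩
  obtain ⟨_, ⟨n, s, rfl⟩, hxs, hsub⟩ := Opens.isBasis_iff_nbhd.mp hB hmem
  have haff : IsAffineOpen (CohB1.genLocus _ s) := by
    have := isAffineOpen_inf_genLocus (isInvertible_tensorPow hL.1 (n + 1)) s haff₀
    rwa [inf_eq_right.mpr (hsub.trans inf_le_right)] at this
  exact ⟨n, s, hxs, hsub.trans inf_le_left, haff⟩

/-- **Avoidance** (EGA II 4.5.4): for `L` ample, a finite set of points inside an open `U` lies in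
an affine `X_s ⊆ U`, `s` a section of a positive power of `L`. -/
theorem exists_section_avoid {L : X.Modules} (hL : CohB1.IsAmple L) (U : X.Opens) (Z : Finset X)
    (hZU : ∀ z ∈ Z, z ∈ U) :
    ∃ (m : ℕ) (_ : 0 < m) (s : Coh.structureModule X ⟶ CohB1.tensorPow L m),
      (∀ z ∈ Z, z ∈ CohB1.genLocus _ s) ∧ CohB1.genLocus _ s ≤ U ∧
        IsAffineOpen (CohB1.genLocus _ s) := by
  classical
  have hInv := hL.1
  induction Z using Finset.strongInduction with
  | H Z ih =>
    rcases Z.eq_empty_or_nonempty with rfl | hne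
    · refine ⟨1, Nat.one_pos, 0, fun z hz => absurd hz (Finset.notMem_empty z), ?_, ?_⟩
      · rw [genLocus_zero (isInvertible_tensorPow hInv 1)]
        exact bot_le
      · rw [genLocus_zero (isInvertible_tensorPow hInv 1)]
        exact isAffineOpen_bot X
    · -- a maximal point for generization
      let _ := specializationPreorder X
      obtain ⟨w, hwZ, hwmax⟩ := Z.exists_maximal hne
      have hw' : ∀ z ∈ Z.erase w, w ∉ closure ({z} : Set X) := by
        intro z hz hcl
        have hzw : z ⤳ w := specializes_iff_mem_closure.mpr hcl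
        have hzZ := Finset.mem_of_mem_erase hz
        have h2 : w ⤳ z := hwmax hzZ hzw
        exact (Finset.ne_of_mem_erase hz) ((hzw.antisymm h2).eq)
      obtain ⟨m, hm, s, hsZ, hsU, hsaff⟩ := ih (Z.erase w) (Finset.erase_ssubset hwZ)
        (fun z hz => hZU z (Finset.mem_of_mem_erase hz))
      by_cases hws : w ∈ CohB1.genLocus _ s
      · refine ⟨m, hm, s, fun z hz => ?_, hsU, hsaff⟩
        by_cases hzw : z = w
        · rw [hzw]; exact hws
        · exact hsZ z (Finset.mem_erase.mpr ⟨hzw, hz⟩)
      · -- the neighbourhood of `w` avoiding the other points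
        have hclosed : IsClosed (⋃ z ∈ Z.erase w, closure ({z} : Set X)) :=
          (Z.erase w).finite_toSet.isClosed_biUnion (fun z _ => isClosed_closure)
        let N : X.Opens := U ⊓ ⟨(⋃ z ∈ Z.erase w, closure ({z} : Set X))ᶜ, hclosed.isOpen_compl⟩
        have hwN : w ∈ N := by
          refine ⟨hZU w hwZ, ?_⟩
          change w ∉ ⋃ z ∈ Z.erase w, closure ({z} : Set X)
          simp only [Set.mem_iUnion, not_exists]
          exact fun z hz => hw' z hz
        obtain ⟨n, t, hwt, htN, htaff⟩ := exists_affine_section_le hL N w hwN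
        have hzt : ∀ z ∈ Z.erase w, z ∉ CohB1.genLocus _ t := by
          intro z hz hzt
          have : z ∈ (⋃ z ∈ Z.erase w, closure ({z} : Set X))ᶜ := (htN hzt).2
          apply this
          simp only [Set.mem_iUnion]
          exact ⟨z, hz, subset_closure rfl⟩
        -- common degree
        obtain ⟨m', rfl⟩ : ∃ m', m = m' + 1 := ⟨m - 1, by omega⟩
        obtain ⟨s', hs'⟩ := exists_pow_section hInv s n
        obtain ⟨t₁, ht₁⟩ := exists_pow_section hInv t m'
        obtain ⟨t', ht'⟩ := exists_cast_section L (Nat.mul_comm (n + 1) (m' + 1)) t₁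
        rw [ht₁] at ht'
        have hM := isInvertible_tensorPow hInv ((m' + 1) * (n + 1))
        refine ⟨(m' + 1) * (n + 1), Nat.mul_pos (Nat.succ_pos _) (Nat.succ_pos _), s' + t',
          fun z hz => ?_, ?_, ?_⟩
        · by_cases hzw : z = w
          · rw [hzw, add_comm s' t']
            refine mem_genLocus_add hM t' s' w ?_ ?_
            · rw [ht']; exact hwt
            · rw [hs']; exact hws
          · have hz' : z ∈ Z.erase w := Finset.mem_erase.mpr ⟨hzw, hz⟩
            refine mem_genLocus_add hM s' t' z ?_ ?_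
            · rw [hs']; exact hsZ z hz'
            · rw [ht']; exact hzt z hz'
        · refine (genLocus_add_le hM s' t').trans (sup_le ?_ ?_)
          · rw [hs']; exact hsU
          · rw [ht']; exact htN.trans inf_le_left
        · refine isAffineOpen_genLocus_add hM s' t' ?_ ?_
          · rw [hs']; exact hsaff
          · rw [ht']; exact htaff

end Groth.Agent.Lib.Lead.Inv
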