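import Groth.Agent.Lib.Lead.RelAmp3
import Groth.Agent.Lib.Helper26.SerreCrit

set_option autoImplicit false
universe u

open AlgebraicGeometry CategoryTheory Opposite TopologicalSpace MonoidalCategory Limits

namespace Groth.Agent.Lib.Lead.Inv

variable {Z : Scheme.{u}}

/-- Ampleness of a restriction of a pullback along an open immersion. -/
theorem isAmple_pullback_restrict_iff {U : Scheme.{u}} (j : U ⟶ Z) [IsOpenImmersion j]
    (L'' : Z.Modules) (V' : U.Opens) :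
    CohB1.IsAmple (((Scheme.Modules.pullback j).obj L'').restrict V'.ι) ↔
      CohB1.IsAmple (L''.restrict (j ''ᵁ V').ι) := by
  have e1 : L''.restrict j ≅ (Scheme.Modules.pullback j).obj L'' :=
    (Scheme.Modules.restrictFunctorIsoPullback j).app L''
  have e2 : (L''.restrict j).restrict V'.ι ≅ ((Scheme.Modules.pullback j).obj L'').restrict V'.ι :=
    (Scheme.Modules.restrictFunctor V'.ι).mapIso e1
  have e3 : L''.restrict (V'.ι ≫ j) ≅ (L''.restrict j).restrict V'.ι :=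
    (Scheme.Modules.restrictFunctorComp _ _).app L''
  have h1 : CohB1.IsAmple (((Scheme.Modules.pullback j).obj L'').restrict V'.ι) ↔
      CohB1.IsAmple (L''.restrict (V'.ι ≫ j)) :=
    ⟨Groth.Agent.Lib.Helper35.Ample.isAmple_of_iso (e3 ≪≫ e2).symm,
      Groth.Agent.Lib.Helper35.Ample.isAmple_of_iso (e3 ≪≫ e2)⟩
  rw [h1]
  refine Groth.Agent.Lib.Helper60.TensorRestrict.isAmple_restrict_iff_of_opensRange_eq (V'.ι ≫ j) (j ''ᵁ V').ι ?_ L''
  rw [Scheme.Hom.opensRange_comp, Scheme.Opens.opensRange_ι, Scheme.Opens.opensRange_ι]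

/-- On a scheme which is the disjoint union of two opens, the indicator function of the first. -/
theorem exists_indicator (Y : Scheme.{u}) (V₁ V₂ : Y.Opens) (hd : V₁ ⊓ V₂ = ⊥) (hc : V₁ ⊔ V₂ = ⊤) :
    ∃ e : Γ(Y, ⊤), Y.basicOpen e = V₁ := by
  obtain ⟨e, he1, he2⟩ := Groth.Agent.Lib.Helper26.SerreCrit.exists_glue_two Y V₁ V₂ hd hc 1 0
  refine ⟨e, ?_⟩
  have h1 : V₁ ⊓ Y.basicOpen e = V₁ := by
    rw [← Scheme.basicOpen_res Y e (homOfLE (le_top : V₁ ≤ ⊤)).op, he1,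
      Scheme.basicOpen_of_isUnit _ isUnit_one]
  have h2 : V₂ ⊓ Y.basicOpen e = ⊥ := by
    rw [← Scheme.basicOpen_res Y e (homOfLE (le_top : V₂ ≤ ⊤)).op, he2, Scheme.basicOpen_zero]
  calc Y.basicOpen e = (V₁ ⊔ V₂) ⊓ Y.basicOpen e := by rw [hc, top_inf_eq]
    _ = (V₁ ⊓ Y.basicOpen e) ⊔ (V₂ ⊓ Y.basicOpen e) := inf_sup_right _ _ _
    _ = V₁ := by rw [h1, h2, sup_bot_eq]

/-- Ampleness on a disjoint union of two opens. -/
theorem isAmple_restrict_of_disjoint_cover (L'' : Z.Modules) (W A B : Z.Opens) (hd : A ⊓ B = ⊥)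
    (hc : W ≤ A ⊔ B) (hA : CohB1.IsAmple (L''.restrict (A ⊓ W).ι))
    (hB : CohB1.IsAmple (L''.restrict (B ⊓ W).ι)) : CohB1.IsAmple (L''.restrict W.ι) := by
  have hd' : W.ι ⁻¹ᵁ A ⊓ W.ι ⁻¹ᵁ B = ⊥ := by
    rw [← Scheme.Hom.preimage_inf, hd]
    rfl
  have hc' : W.ι ⁻¹ᵁ A ⊔ W.ι ⁻¹ᵁ B = ⊤ := by
    rw [← Scheme.Hom.preimage_sup]
    ext z
    simp only [Opens.coe_top, Set.mem_univ, iff_true]
    exact hc z.2
  have hd'' : W.ι ⁻¹ᵁ B ⊓ W.ι ⁻¹ᵁ A = ⊥ := by rw [inf_comm]; exact hd'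
  have hc'' : W.ι ⁻¹ᵁ B ⊔ W.ι ⁻¹ᵁ A = ⊤ := by rw [sup_comm]; exact hc'
  obtain ⟨e₁, he₁⟩ := exists_indicator (↑W : Scheme.{u}) _ _ hd' hc'
  obtain ⟨e₂, he₂⟩ := exists_indicator (↑W : Scheme.{u}) _ _ hd'' hc''
  have himgA : W.ι ''ᵁ (W.ι ⁻¹ᵁ A) = A ⊓ W := by
    rw [Scheme.Hom.image_preimage_eq_opensRange_inf, Scheme.Opens.opensRange_ι, inf_comm]
  have himgB : W.ι ''ᵁ (W.ι ⁻¹ᵁ B) = B ⊓ W := by
    rw [Scheme.Hom.image_preimage_eq_opensRange_inf, Scheme.Opens.opensRange_ι, inf_comm]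
  refine isAmple_of_basicOpen_cover (fun b : Bool => cond b e₁ e₂) ?_ ?_
  · intro z
    have hz : z ∈ W.ι ⁻¹ᵁ A ⊔ W.ι ⁻¹ᵁ B := by rw [hc']; trivial
    rcases hz with hz | hz
    · exact ⟨true, by simp only [cond_true]; rw [he₁]; exact hz⟩
    · exact ⟨false, by simp only [cond_false]; rw [he₂]; exact hz⟩
  · intro b
    cases b
    · simp only [cond_false]
      exact (isAmple_restrict_restrict_iff L'' W _ (B ⊓ W) (by rw [he₂]; exact himgB)).mpr hB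
    · simp only [cond_true]
      exact (isAmple_restrict_restrict_iff L'' W _ (A ⊓ W) (by rw [he₁]; exact himgA)).mpr hA

section Coprod

variable {X X' Y : Scheme.{u}} (f : X ⟶ Y) (f' : X' ⟶ Y)

theorem inl_preimage_desc (V : Y.Opens) :
    (coprod.inl : X ⟶ X ⨿ X') ⁻¹ᵁ ((coprod.desc f f') ⁻¹ᵁ V) = f ⁻¹ᵁ V := by
  rw [← Scheme.Hom.comp_preimage, coprod.inl_desc]

theorem inr_preimage_desc (V : Y.Opens) :
    (coprod.inr : X' ⟶ X ⨿ X') ⁻¹ᵁ ((coprod.desc f f') ⁻¹ᵁ V) = f' ⁻¹ᵁ V := by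
  rw [← Scheme.Hom.comp_preimage, coprod.inr_desc]

theorem inl_image_preimage (V : Y.Opens) :
    (coprod.inl : X ⟶ X ⨿ X') ''ᵁ (f ⁻¹ᵁ V) =
      (coprod.inl : X ⟶ X ⨿ X').opensRange ⊓ (coprod.desc f f') ⁻¹ᵁ V := by
  rw [← Scheme.Hom.image_preimage_eq_opensRange_inf, inl_preimage_desc]

theorem inr_image_preimage (V : Y.Opens) :
    (coprod.inr : X' ⟶ X ⨿ X') ''ᵁ (f' ⁻¹ᵁ V) =
      (coprod.inr : X' ⟶ X ⨿ X').opensRange ⊓ (coprod.desc f f') ⁻¹ᵁ V := by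
  rw [← Scheme.Hom.image_preimage_eq_opensRange_inf, inr_preimage_desc]

theorem desc_preimage_eq (V : Y.Opens) :
    (coprod.desc f f') ⁻¹ᵁ V =
      (coprod.inl : X ⟶ X ⨿ X') ''ᵁ (f ⁻¹ᵁ V) ⊔ (coprod.inr : X' ⟶ X ⨿ X') ''ᵁ (f' ⁻¹ᵁ V) := by
  rw [inl_image_preimage, inr_image_preimage, ← inf_sup_right,
    (isCompl_opensRange_inl_inr X X').sup_eq_top, top_inf_eq]

theorem quasiCompact_coprod_desc [QuasiCompact f] [QuasiCompact f'] :
    QuasiCompact (coprod.desc f f') := by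
  constructor
  intro U hU hUc
  have h := desc_preimage_eq f f' ⟨U, hU⟩
  have h' : ((coprod.desc f f') ⁻¹ᵁ (⟨U, hU⟩ : Y.Opens) : Set ↥(X ⨿ X')) =
      (coprod.inl : X ⟶ X ⨿ X') '' (f ⁻¹' U) ∪ (coprod.inr : X' ⟶ X ⨿ X') '' (f' ⁻¹' U) := by
    rw [h]
    rfl
  change IsCompact ((coprod.desc f f') ⁻¹ᵁ (⟨U, hU⟩ : Y.Opens) : Set ↥(X ⨿ X'))
  rw [h']
  exact ((QuasiCompact.isCompact_preimage (f := f) U hU hUc).image
      (coprod.inl : X ⟶ X ⨿ X').continuous).union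
    ((QuasiCompact.isCompact_preimage (f := f') U hU hUc).image
      (coprod.inr : X' ⟶ X ⨿ X').continuous)

/-- Relative ampleness on a disjoint union (EGA II 4.6.17 style). -/
theorem isRelAmple_coprod_iff [QuasiCompact f] [QuasiCompact f'] (L'' : (X ⨿ X').Modules) :
    RelAmple.IsRelAmple (coprod.desc f f') L'' ↔
      RelAmple.IsRelAmple f ((Scheme.Modules.pullback (coprod.inl : X ⟶ X ⨿ X')).obj L'') ∧
        RelAmple.IsRelAmple f' ((Scheme.Modules.pullback (coprod.inr : X' ⟶ X ⨿ X')).obj L'') := by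
  constructor
  · rintro ⟨_, h⟩
    refine ⟨⟨inferInstance, fun V => ?_⟩, ⟨inferInstance, fun V => ?_⟩⟩
    · rw [isAmple_pullback_restrict_iff]
      refine isAmple_restrict_of_le L'' _ _ ?_ ?_ (h V)
      · rw [inl_image_preimage]; exact inf_le_right
      · exact (f.isCompact_preimage V.2.isCompact).image
          (coprod.inl : X ⟶ X ⨿ X').continuous
    · rw [isAmple_pullback_restrict_iff]
      refine isAmple_restrict_of_le L'' _ _ ?_ ?_ (h V)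
      · rw [inr_image_preimage]; exact inf_le_right
      · exact (f'.isCompact_preimage V.2.isCompact).image
          (coprod.inr : X' ⟶ X ⨿ X').continuous
  · rintro ⟨⟨_, h⟩, ⟨_, h'⟩⟩
    refine ⟨quasiCompact_coprod_desc f f', fun V => ?_⟩
    refine isAmple_restrict_of_disjoint_cover L'' _ (coprod.inl : X ⟶ X ⨿ X').opensRange
      (coprod.inr : X' ⟶ X ⨿ X').opensRange (isCompl_opensRange_inl_inr X X').inf_eq_bot ?_ ?_ ?_
    · rw [(isCompl_opensRange_inl_inr X X').sup_eq_top]; exact le_top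
    · rw [← inl_image_preimage, ← isAmple_pullback_restrict_iff]
      exact h V
    · rw [← inr_image_preimage, ← isAmple_pullback_restrict_iff]
      exact h' V

end Coprod

end Groth.Agent.Lib.Lead.Inv
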