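import Groth.Agent.Lib.Lead.Tw4
import Groth.Agent.Lib.Helper35.Ample4

/-!
# Serre's theorem: `F ⊗ L^n` is generated by global sections for `n ≫ 0`, `L` ample
(lead seat library)
-/

set_option autoImplicit false
universe u

open AlgebraicGeometry CategoryTheory Opposite TopologicalSpace MonoidalCategory Limits

namespace Groth.Agent.Lib.Lead.Inv

open Groth.Agent.Lib.Lead.QCohAff Groth.Agent.Lib.Helper60.TensorLib

variable {X : Scheme.{u}}

/-- For an ample `L`: a finite cover by affine `X_{s_i}` with all `s_i` sections of one positive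
power `L^m`. -/
theorem exists_finite_cover_common_exponent {L : X.Modules} (hL : CohB1.IsAmple L) :
    ∃ (m : ℕ) (_ : 0 < m) (ι : Type u) (_ : Finite ι)
      (s : ι → (Coh.structureModule X ⟶ CohB1.tensorPow L m)),
      (∀ i, IsAffineOpen (CohB1.genLocus _ (s i))) ∧ ∀ x : X, ∃ i, x ∈ CohB1.genLocus _ (s i) := by
  obtain ⟨hInv, hcomp, hpts⟩ := hL
  choose n s hx haff using hpts
  obtain ⟨t, ht⟩ := isCompact_univ.elim_finite_subcover
    (fun x : X => (CohB1.genLocus _ (s x) : Set X)) (fun x => (CohB1.genLocus _ (s x)).2)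
    (fun x _ => Set.mem_iUnion.mpr ⟨x, hx x⟩)
  let m : ℕ := ∏ x ∈ t, (n x + 1)
  have hm : 0 < m := Finset.prod_pos (fun x _ => Nat.succ_pos _)
  have key : ∀ x ∈ t, ∃ s' : Coh.structureModule X ⟶ CohB1.tensorPow L m,
      CohB1.genLocus _ s' = CohB1.genLocus _ (s x) := by
    intro x hxt
    obtain ⟨q, hq⟩ : (n x + 1) ∣ m := Finset.dvd_prod_of_mem (fun x => n x + 1) hxt
    have hq0 : q ≠ 0 := by
      rintro rfl
      rw [Nat.mul_zero] at hq
      exact hm.ne' hq
    obtain ⟨k, rfl⟩ := Nat.exists_eq_succ_of_ne_zero hq0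
    obtain ⟨s₁, hs₁⟩ := exists_pow_section hInv (s x) k
    obtain ⟨s₂, hs₂⟩ := exists_cast_section L hq.symm s₁
    exact ⟨s₂, hs₂.trans hs₁⟩
  choose s' hs' using key
  refine ⟨m, hm, {x // x ∈ t}, inferInstance, fun i => s' i.1 i.2, fun i => ?_, fun x => ?_⟩
  · rw [hs']
    exact haff i.1
  · have hxm := ht (Set.mem_univ x)
    obtain ⟨y, hy⟩ := Set.mem_iUnion.mp hxm
    obtain ⟨hyt, hxy⟩ := Set.mem_iUnion.mp hy
    refine ⟨⟨y, hyt⟩, ?_⟩
    rw [hs']
    exact hxy


theorem GG_of_iso {F G : X.Modules} (e : F ≅ G) (h : GG F) : GG G := by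
  intro U t x hxU
  obtain ⟨W, hW, hxW, hmem⟩ := h U ((e.inv.app U).hom t) x hxU
  refine ⟨W, hW, hxW, ?_⟩
  have h1 : G.presheaf.map (homOfLE hW).op t =
      (e.hom.app W).hom (F.presheaf.map (homOfLE hW).op ((e.inv.app U).hom t)) := by
    rw [← hom_app_res]
    change _ = G.presheaf.map (homOfLE hW).op (((e.inv ≫ e.hom).app U).hom t)
    rw [e.inv_hom_id]
    rfl
  rw [h1]
  generalize F.presheaf.map (homOfLE hW).op ((e.inv.app U).hom t) = y at hmem
  clear h1
  induction hmem using Submodule.span_induction with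
  | mem y hy =>
    obtain ⟨σ, rfl⟩ := hy
    refine Submodule.subset_span ⟨(e.hom.app ⊤).hom σ, ?_⟩
    exact hom_app_res e.hom le_top σ
  | zero => rw [map_zero]; exact Submodule.zero_mem _
  | add a b _ _ ha hb => rw [map_add]; exact Submodule.add_mem _ ha hb
  | smul r a _ ha =>
    have : (e.hom.app W).hom (r • a) = r • (e.hom.app W).hom a :=
      Scheme.Modules.Hom.app_smul e.hom r a
    rw [this]
    exact Submodule.smul_mem _ _ ha

/-- **Serre's theorem** (EGA II 4.5.5): for `L` ample and `F` quasi-coherent of finite type,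
`F ⊗ L^n` is generated by its global sections for all large `n`. -/
theorem exists_forall_GG_twist {L : X.Modules} (hL : CohB1.IsAmple L) (F : X.Modules)
    (hF : Coh.IsCoh F) :
    ∃ n₀ : ℕ, ∀ n, n₀ ≤ n → GG (CohB1.tensorMod F (CohB1.tensorPow L n)) := by
  obtain ⟨m, hm, ι, hfin, s, haff, hcov⟩ := exists_finite_cover_common_exponent hL
  have hInv := hL.1
  have := hL.2.1
  have : QuasiSeparatedSpace X :=
    Groth.Agent.Lib.Helper35.Ample.quasiSeparatedSpace_of_cover_genLocus hInv hL.2.2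
  have hInvm := isInvertible_tensorPow hInv m
  have h1 : ∀ r ∈ Finset.range m, ∃ k₀ : ℕ, ∀ k, k₀ ≤ k →
      GG (CohB1.tensorMod (CohB1.tensorMod F (CohB1.tensorPow L r))
        (CohB1.tensorPow (CohB1.tensorPow L m) k)) :=
    fun r _ => exists_GG_twist hInvm s haff hcov _
      (isCoh_tensorMod_right hF (isInvertible_tensorPow hInv r))
  obtain ⟨k₀, hk₀⟩ := exists_uniform_finset (Finset.range m) _ h1
  refine ⟨m * k₀, fun n hn => ?_⟩
  have hr : n % m < m := Nat.mod_lt _ hm
  have hk : k₀ ≤ n / m := (Nat.le_div_iff_mul_le hm).mpr (by rwa [Nat.mul_comm] at hn)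
  have hGG := hk₀ (n / m) hk (n % m) (Finset.mem_range.mpr hr)
  obtain ⟨e1⟩ := nonempty_tensorPow_mul hInv m (n / m)
  obtain ⟨e2⟩ := nonempty_tensorPow_add hInv (n % m) (m * (n / m))
  obtain ⟨e3⟩ := nonempty_tensorPow_cast L (Nat.mod_add_div n m)
  let α := assocIso (assocOK_of_mid_right (A := F) (isInvertible_tensorPow hInv (n % m))
    (isInvertible_tensorPow hInv (m * (n / m))))
  exact GG_of_iso (tensorModCongrRight _ e1 ≪≫ α ≪≫ tensorModCongrRight F (e2.symm ≪≫ e3)) hGG

end Groth.Agent.Lib.Lead.Inv
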