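import Groth.Agent.Lib.Lead.SerreRel
import Groth.Agent.Lib.Lead.QcqsLoc
import Mathlib.AlgebraicGeometry.QuasiAffine

/-!
# Quasi-affine morphisms and the counit `f^* f_* F ⟶ F` (lead seat library)
-/

set_option autoImplicit false
universe u

open AlgebraicGeometry CategoryTheory Opposite TopologicalSpace MonoidalCategory Limits

namespace Groth.Agent.Lib.Lead.Inv

open Groth.Agent.Lib.Lead.QCohAff Groth.Agent.Lib.Helper22.IdealModAff
  Groth.Agent.Lib.Helper35.GlobGen Groth.Agent.Lib.Lead.SheafGlue Scheme.Modules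

variable {X Y : Scheme.{u}} (f : X ⟶ Y)

/-- If the counit `f^* f_* M ⟶ M` is an epimorphism, then `f_*` is faithful on maps out of `M`. -/
theorem eq_zero_of_pushforward_map_eq_zero (M : X.Modules)
    [hepi : Epi ((pullbackPushforwardAdjunction f).counit.app M)] {T : X.Modules} (g : M ⟶ T)
    (hg : (pushforward f).map g = 0) : g = 0 := by
  have h1 := (pullbackPushforwardAdjunction f).counit_naturality g
  rw [hg, Functor.map_zero, zero_comp] at h1
  exact zero_of_epi_comp _ h1.symm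

/-- Conversely. -/
theorem epi_counit_of_faithful (M : X.Modules)
    (h : ∀ (T : X.Modules) (g : M ⟶ T), (pushforward f).map g = 0 → g = 0) :
    Epi ((pullbackPushforwardAdjunction f).counit.app M) := by
  apply Preadditive.epi_of_cancel_zero
  intro T g hg
  apply h T g
  have h2 := (pullbackPushforwardAdjunction f).right_triangle_components M
  have h3 : (pushforward f).map g = (pullbackPushforwardAdjunction f).unit.app _ ≫
      (pushforward f).map ((pullbackPushforwardAdjunction f).counit.app M ≫ g) := by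
    rw [Functor.map_comp, ← Category.assoc, h2]
    exact (Category.id_comp _).symm
  rw [h3, hg, Functor.map_zero, comp_zero]

/-- evaluation at `x` of a function not invertible at `x` vanishes -/
theorem evPt_eq_zero_of_notMem_basicOpen (x : X) {W : X.Opens} (h : Γ(X, W))
    (hx : x ∉ X.basicOpen h) : ((X.fromSpecResidueField x).app W).hom h = 0 := by
  rw [← AlgebraicGeometry.basicOpen_eq_bot_iff, ← Scheme.preimage_basicOpen]
  ext z
  simp only [Opens.coe_bot, Set.mem_empty_iff_false, iff_false]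
  intro hz
  apply hx
  have h3 := Scheme.fromSpecResidueField_apply x z
  rw [← h3]
  exact hz

theorem evPt_ne_zero_of_mem_basicOpen (x : X) {W : X.Opens} (h : Γ(X, W))
    (hx : x ∈ X.basicOpen h) : ((X.fromSpecResidueField x).app W).hom h ≠ 0 := by
  intro h0
  have h1 : (X.fromSpecResidueField x) ⁻¹ᵁ X.basicOpen h = ⊥ := by
    rw [Scheme.preimage_basicOpen]
    have : ((X.fromSpecResidueField x).app W) h = 0 := h0
    rw [this, Scheme.basicOpen_zero]
  have h3 := Scheme.fromSpecResidueField_apply x (IsLocalRing.closedPoint (X.residueField x))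
  have h2 : (IsLocalRing.closedPoint (X.residueField x)) ∈
      (X.fromSpecResidueField x) ⁻¹ᵁ X.basicOpen h := by
    change (X.fromSpecResidueField x) _ ∈ X.basicOpen h
    rw [h3]
    exact hx
  rw [h1] at h2
  exact h2

/-- If the counit at the ideal sheaf `I` is an epimorphism, then any point off the support of `I`
is in the nonvanishing locus of a section of `I` over the preimage of an open of `Y`. -/
theorem exists_section_of_epi_counit_idealMod (I : X.IdealSheafData)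
    [Epi ((pullbackPushforwardAdjunction f).counit.app (ClSub.idealMod I))] (x : X)
    (hx : x ∉ I.support) :
    ∃ (V' : Y.Opens) (σ : Γ(ClSub.idealMod I, f ⁻¹ᵁ V')), x ∈ X.basicOpen (incl I (f ⁻¹ᵁ V') σ) := by
  by_contra hcon
  push Not at hcon
  have hzero : (pushforward f).map (inclHom I ≫ evPt x) = 0 := by
    apply Scheme.Modules.hom_ext
    intro V'
    ext σ
    exact evPt_eq_zero_of_notMem_basicOpen x _
      (hcon V' (show Γ(ClSub.idealMod I, f ⁻¹ᵁ V') from σ))
  have hg := eq_zero_of_pushforward_map_eq_zero f (ClSub.idealMod I) _ hzero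
  obtain ⟨_, ⟨W, hW, rfl⟩, hxW, -⟩ :=
    X.isBasis_affineOpens.exists_subset_of_mem_open (Set.mem_univ x) isOpen_univ
  have h1 : x ∉ X.zeroLocus (U := W) (I.ideal ⟨W, hW⟩ : Set Γ(X, W)) := fun h =>
    hx ((Scheme.IdealSheafData.mem_support_iff_of_mem (I := I) (U := ⟨W, hW⟩) hxW).mpr h)
  rw [Scheme.mem_zeroLocus_iff] at h1
  push Not at h1
  obtain ⟨a, haI, hxa⟩ := h1
  obtain ⟨a', rfl⟩ := (mem_ideal_iff I ⟨W, hW⟩ a).mp haI
  have h2 := congrArg (fun ψ => (Scheme.Modules.Hom.app ψ W).hom a') hg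
  exact evPt_ne_zero_of_mem_basicOpen x _ hxa h2

theorem exists_affine_basicOpen_of_epi_counit [QuasiCompact f] [QuasiSeparated f]
    (hepi : ∀ F : X.Modules, F.IsQuasicoherent →
      Epi ((pullbackPushforwardAdjunction f).counit.app F))
    (V : Y.Opens) (hV : IsAffineOpen V) (x : X) (hx : x ∈ f ⁻¹ᵁ V) :
    ∃ h : Γ(X, f ⁻¹ᵁ V), IsAffineOpen (X.basicOpen h) ∧ x ∈ X.basicOpen h := by
  obtain ⟨_, ⟨U, hU, rfl⟩, hxU, hUW0⟩ :=
    X.isBasis_affineOpens.exists_subset_of_mem_open hx (f ⁻¹ᵁ V).isOpen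
  have hUW : U ≤ f ⁻¹ᵁ V := fun z hz => hUW0 hz
  have hxI : x ∉ (IU U).support := by
    intro hx'
    have : x ∈ ((IU U).support : Set X) := hx'
    rw [support_IU] at this
    exact this hxU
  haveI := hepi _ (isQuasicoherent_idealMod (IU U))
  obtain ⟨V', σ, hσ⟩ := exists_section_of_epi_counit_idealMod f (IU U) x hxI
  have hxV' : x ∈ f ⁻¹ᵁ V' := X.basicOpen_le _ hσ
  obtain ⟨a, haV, hxa⟩ := hV.exists_basicOpen_le (V := V ⊓ V') ⟨f x, ⟨hx, hxV'⟩⟩ hx
  have hφ : X.basicOpen ((f.app V).hom a) = f ⁻¹ᵁ (Y.basicOpen a) :=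
    (Scheme.preimage_basicOpen f a).symm
  have hle : X.basicOpen ((f.app V).hom a) ≤ f ⁻¹ᵁ V' := by
    rw [hφ]
    exact f.preimage_mono (haV.trans inf_le_right)
  have hWc : IsCompact ((f ⁻¹ᵁ V : X.Opens) : Set X) :=
    QuasiCompact.isCompact_preimage (f := f) _ V.isOpen hV.isCompact
  have hWqs : IsQuasiSeparated ((f ⁻¹ᵁ V : X.Opens) : Set X) :=
    f.isQuasiSeparated_preimage hV.isQuasiSeparated
  obtain ⟨n, τ, hτ⟩ := Groth.Agent.Lib.Lead.QcqsLoc.exists_res_eq_pow_smul_of_qcqs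
    (ClSub.idealMod (IU U)) hWc hWqs ((f.app V).hom a)
    ((ClSub.idealMod (IU U)).presheaf.map (homOfLE hle).op σ)
  refine ⟨incl (IU U) _ τ, isAffineOpen_basicOpen_incl hU hUW τ, ?_⟩
  have hxD : x ∈ X.basicOpen ((f.app V).hom a) := by rw [hφ]; exact hxa
  have h1 := congrArg (incl (IU U) _) hτ
  rw [incl_res, LinearMap.map_smul, incl_res, smul_eq_mul] at h1
  have h2 : x ∈ X.basicOpen (X.presheaf.map (homOfLE (X.basicOpen_le ((f.app V).hom a))).op
      (incl (IU U) _ τ)) := by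
    rw [h1, Scheme.basicOpen_mul, Scheme.basicOpen_of_isUnit _
      ((isUnit_res_basicOpen ((f.app V).hom a)).pow n), Scheme.basicOpen_res]
    exact ⟨hxD, hxD, hσ⟩
  rw [Scheme.basicOpen_res] at h2
  exact h2.2

theorem basicOpen_topIso_inv (W : X.Opens) (h : Γ(X, W)) :
    X.basicOpen (W.topIso.inv.hom h : Γ(X, W.ι ''ᵁ ⊤)) = X.basicOpen h :=
  Scheme.basicOpen_res_eq X h (eqToIso W.ι_image_top.symm).op.inv

/-- A quasi-compact open covered by affine basic opens of its functions is quasi-affine. -/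
theorem isQuasiAffine_of_forall_exists (W : X.Opens) (hW : IsCompact (W : Set X))
    (H : ∀ x ∈ W, ∃ h : Γ(X, W), IsAffineOpen (X.basicOpen h) ∧ x ∈ X.basicOpen h) :
    (W : Scheme.{u}).IsQuasiAffine := by
  haveI : CompactSpace (W : Scheme.{u}) := isCompact_iff_compactSpace.mp hW
  apply Scheme.IsQuasiAffine.of_forall_exists_mem_basicOpen
  intro x
  obtain ⟨h, hh, hxh⟩ := H x.1 x.2
  have key := basicOpen_topIso_inv W h
  refine ⟨W.topIso.inv h, ?_, ?_⟩
  · rw [← (Scheme.Opens.ι _).isAffineOpen_iff_of_isOpenImmersion, Scheme.image_basicOpen]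
    have : X.basicOpen ((W.ι.appIso ⊤).inv (W.topIso.inv h)) = X.basicOpen h := by
      rw [← key]
      simp [Scheme.Opens.toScheme_presheaf_obj]
      rfl
    rw [this]
    exact hh
  · refine (Scheme.Opens.mem_basicOpen_toScheme (U := W) (V := ⊤) (r := W.topIso.inv h)
      (x := x)).mpr ?_
    exact key ▸ hxh

/-- On an open `W` covered by affine basic opens of its functions, local sections of a
quasi-coherent module are, locally and up to a unit, restrictions of sections over `W`. -/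
theorem exists_unit_smul_eq_res (F : X.Modules) [F.IsQuasicoherent] (W : X.Opens)
    (hWc : IsCompact (W : Set X)) (hWqs : IsQuasiSeparated (W : Set X))
    (H : ∀ x ∈ W, ∃ h : Γ(X, W), IsAffineOpen (X.basicOpen h) ∧ x ∈ X.basicOpen h)
    {W' : X.Opens} (t : Γ(F, W')) (x : X) (hxW' : x ∈ W') (hxW : x ∈ W) :
    ∃ (W'' : X.Opens) (h1 : W'' ≤ W') (h2 : W'' ≤ W), x ∈ W'' ∧ ∃ (u : Γ(X, W'')) (τ : Γ(F, W)),
      IsUnit u ∧ u • F.presheaf.map (homOfLE h1).op t = F.presheaf.map (homOfLE h2).op τ := by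
  obtain ⟨h, hh, hxh⟩ := H x hxW
  have hDW : X.basicOpen h ≤ W := X.basicOpen_le h
  obtain ⟨h', hh'le, hxh'⟩ := hh.exists_basicOpen_le (V := X.basicOpen h ⊓ W')
    ⟨x, ⟨hxh, hxW'⟩⟩ hxh
  have h1 : X.basicOpen h' ≤ W' := hh'le.trans inf_le_right
  have hD : X.basicOpen h' ≤ X.basicOpen h := X.basicOpen_le h'
  have h2 : X.basicOpen h' ≤ W := hD.trans hDW
  obtain ⟨k, m, hm⟩ := exists_res_eq_pow_smul F hh h' (F.presheaf.map (homOfLE h1).op t)
  obtain ⟨N, τ, hτ⟩ := Groth.Agent.Lib.Lead.QcqsLoc.exists_res_eq_pow_smul_of_qcqs F hWc hWqs h m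
  refine ⟨X.basicOpen h', h1, h2, hxh', (X.presheaf.map (homOfLE hD).op
    (X.presheaf.map (homOfLE hDW).op h)) ^ N * (X.presheaf.map (homOfLE hD).op h') ^ k, τ, ?_, ?_⟩
  · refine IsUnit.mul (IsUnit.pow _ ?_) (IsUnit.pow _ (isUnit_res_basicOpen h'))
    exact (isUnit_res_basicOpen h).map (X.presheaf.map (homOfLE hD).op).hom
  · have e1 : F.presheaf.map (homOfLE h2).op τ =
        F.presheaf.map (homOfLE hD).op (F.presheaf.map (homOfLE hDW).op τ) := (res_res F _ _ τ).symm
    rw [e1, hτ, res_smul, map_pow, hm, mul_smul]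


theorem forall_exists_of_isQuasiAffine (W : X.Opens) [(W : Scheme.{u}).IsQuasiAffine] :
    ∀ x ∈ W, ∃ h : Γ(X, W), IsAffineOpen (X.basicOpen h) ∧ x ∈ X.basicOpen h := by
  intro x hx
  obtain ⟨_, ⟨_, ⟨r, hr, rfl⟩, rfl⟩, hxr, -⟩ :=
    (Scheme.IsQuasiAffine.isBasis_basicOpen (W : Scheme.{u})).exists_subset_of_mem_open
      (Set.mem_univ (⟨x, hx⟩ : W)) isOpen_univ
  have hr' : r = W.topIso.inv.hom (W.topIso.hom.hom r) := by
    have := W.topIso.hom_inv_id
    exact (congrArg (fun φ => φ.hom r) this).symm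
  have key := basicOpen_topIso_inv W (W.topIso.hom.hom r)
  refine ⟨W.topIso.hom.hom r, ?_, ?_⟩
  · rw [← (Scheme.Opens.ι _).isAffineOpen_iff_of_isOpenImmersion, Scheme.image_basicOpen] at hr
    have : X.basicOpen ((W.ι.appIso ⊤).inv r) = X.basicOpen (W.topIso.hom.hom r) := by
      rw [← key, ← hr']
      simp [Scheme.Opens.toScheme_presheaf_obj]
      rfl
    rw [this] at hr
    exact hr
  · have h1 := (Scheme.Opens.mem_basicOpen_toScheme (U := W) (V := ⊤) (r := r)
      (x := ⟨x, hx⟩)).mp hxr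
    rw [hr'] at h1
    exact key ▸ h1

theorem eq_zero_of_pushforward_map_eq_zero_of_isQuasiAffine [QuasiCompact f]
    (hqa : ∀ V : Y.Opens, IsAffineOpen V → (f ⁻¹ᵁ V : Scheme.{u}).IsQuasiAffine)
    (F : X.Modules) [F.IsQuasicoherent] {T : X.Modules} (g : F ⟶ T)
    (hg : (pushforward f).map g = 0) : g = 0 := by
  apply Scheme.Modules.hom_ext
  intro W'
  ext t
  change (g.app W').hom t = 0
  have hloc : ∀ x : W', ∃ (W'' : X.Opens) (h1 : W'' ≤ W'), x.1 ∈ W'' ∧
      T.presheaf.map (homOfLE h1).op ((g.app W').hom t) = 0 := by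
    intro x
    obtain ⟨_, ⟨V, hV, rfl⟩, hxV, -⟩ :=
      Y.isBasis_affineOpens.exists_subset_of_mem_open (Set.mem_univ (f x.1)) isOpen_univ
    haveI := hqa V hV
    have hWc : IsCompact ((f ⁻¹ᵁ V : X.Opens) : Set X) :=
      QuasiCompact.isCompact_preimage (f := f) _ V.isOpen hV.isCompact
    have hWqs : IsQuasiSeparated ((f ⁻¹ᵁ V : X.Opens) : Set X) := by
      rw [isQuasiSeparated_iff_quasiSeparatedSpace _ (f ⁻¹ᵁ V).isOpen]
      exact inferInstanceAs (QuasiSeparatedSpace ((f ⁻¹ᵁ V : X.Opens) : Scheme.{u}))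
    obtain ⟨W'', h1, h2, hxW'', u, τ, hu, huτ⟩ := exists_unit_smul_eq_res F (f ⁻¹ᵁ V) hWc hWqs
      (forall_exists_of_isQuasiAffine (f ⁻¹ᵁ V)) t x.1 x.2 hxV
    refine ⟨W'', h1, hxW'', ?_⟩
    have hτ0 : (g.app (f ⁻¹ᵁ V)).hom τ = 0 :=
      congrArg (fun ψ => (Scheme.Modules.Hom.app ψ V).hom τ) hg
    rw [hom_app_res]
    have e1 : F.presheaf.map (homOfLE h1).op t =
        (↑hu.unit⁻¹ : Γ(X, W'')) • F.presheaf.map (homOfLE h2).op τ := by
      rw [← huτ, smul_smul, IsUnit.val_inv_mul, one_smul]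
    rw [e1, Scheme.Modules.Hom.app_smul, ← hom_app_res, hτ0, map_zero, smul_zero]
  choose W'' h1 hx h0 using hloc
  refine (shf T).eq_of_locally_eq' (fun x : W' => W'' x) W' (fun x => homOfLE (h1 x)) ?_ _ _ ?_
  · intro y hy
    exact Opens.mem_iSup.mpr ⟨⟨y, hy⟩, hx ⟨y, hy⟩⟩
  · intro x
    exact (h0 x).trans (map_zero _).symm

end Groth.Agent.Lib.Lead.Inv
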