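import Groth.Agent.Lib.Lead.Tw3

/-!
# Serre's theorem on generation by global sections after twisting: the local step and one
residue class (lead seat library)
-/

set_option autoImplicit false
universe u

open AlgebraicGeometry CategoryTheory Opposite TopologicalSpace MonoidalCategory Limits

namespace Groth.Agent.Lib.Lead.Inv

open Groth.Agent.Lib.Lead.QCohAff Groth.Agent.Lib.Helper35.GlobGen

variable {X : Scheme.{u}}

theorem hom_app_res {M N : X.Modules} (φ : M ⟶ N) {U V : X.Opens} (h : V ≤ U) (x : Γ(M, U)) :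
    N.presheaf.map (homOfLE h).op ((φ.app U).hom x) =
      (φ.app V).hom (M.presheaf.map (homOfLE h).op x) := by
  have := φ.mapPresheaf.naturality (homOfLE h).op
  exact (congrArg (fun f => f.hom x) this).symm

/-- Extension of `t ⊗ s^n` from `X_s` to `X` for all large `n` (EGA I 9.3.1 (ii)). -/
theorem exists_twist_extends_ge [CompactSpace X] [QuasiSeparatedSpace X] {L : X.Modules}
    (hL : PicF.IsInvertible L) (s : Coh.structureModule X ⟶ L) (F : X.Modules)
    [F.IsQuasicoherent] (t : Γ(F, CohB1.genLocus L s)) :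
    ∃ n₀ : ℕ, ∀ n, n₀ ≤ n → ∃ t' : Γ(CohB1.tensorMod F (CohB1.tensorPow L n), ⊤),
      (CohB1.tensorMod F (CohB1.tensorPow L n)).presheaf.map
        (homOfLE (le_top : CohB1.genLocus L s ≤ ⊤)).op t' =
        tmul F (CohB1.tensorPow L n) t (genPow (val s (CohB1.genLocus L s)) n) := by
  obtain ⟨n₀, -, t₀, ht₀⟩ := Groth.Agent.Lib.Helper35.Gen.exists_twist_extends hL s F t
  rw [gen_tw_eq] at ht₀
  refine ⟨n₀, fun n hn => ?_⟩
  induction n, hn using Nat.le_induction with
  | base => exact ⟨t₀, ht₀⟩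
  | succ n hn ih =>
    obtain ⟨t', ht'⟩ := ih
    have hOK : AssocOK F (CohB1.tensorPow L n) L :=
      assocOK_of_mid_right (isInvertible_tensorPow hL n) hL
    refine ⟨((assocIso hOK).hom.app ⊤).hom
      (tmul (CohB1.tensorMod F (CohB1.tensorPow L n)) L t' (val s ⊤)), ?_⟩
    change (CohB1.tensorMod F (CohB1.tensorMod (CohB1.tensorPow L n) L)).presheaf.map _ _ = _
    rw [hom_app_res, tmul_res, ht', val_res, assocIso_hom_tmul]
    rfl


theorem exists_uniform_finset {α : Type*} (S : Finset α) (P : α → ℕ → Prop)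
    (h : ∀ a ∈ S, ∃ n₀, ∀ n, n₀ ≤ n → P a n) : ∃ n₀, ∀ n, n₀ ≤ n → ∀ a ∈ S, P a n := by
  classical
  induction S using Finset.induction_on with
  | empty => exact ⟨0, fun _ _ a ha => absurd ha (Finset.notMem_empty a)⟩
  | insert a S ha ih =>
    obtain ⟨n₁, h₁⟩ := h a (Finset.mem_insert_self a S)
    obtain ⟨n₂, h₂⟩ := ih (fun b hb => h b (Finset.mem_insert_of_mem hb))
    refine ⟨max n₁ n₂, fun n hn b hb => ?_⟩
    rcases Finset.mem_insert.mp hb with rfl | hb
    · exact h₁ n (le_trans (le_max_left _ _) hn)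
    · exact h₂ n (le_trans (le_max_right _ _) hn) b hb

theorem exists_uniform_finite {α : Type*} [Finite α] (P : α → ℕ → Prop)
    (h : ∀ a, ∃ n₀, ∀ n, n₀ ≤ n → P a n) : ∃ n₀, ∀ n, n₀ ≤ n → ∀ a, P a n := by
  have := Fintype.ofFinite α
  obtain ⟨n₀, hn₀⟩ := exists_uniform_finset (Finset.univ : Finset α) P (fun a _ => h a)
  exact ⟨n₀, fun n hn a => hn₀ n hn a (Finset.mem_univ a)⟩

/-- all global sections generate -/
def GG (F : X.Modules) : Prop := SpanGen F (fun s : Γ(F, ⊤) => s)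

theorem isGloballyGenerated_of_GG {F : X.Modules} (h : GG F) : Curv2.IsGloballyGenerated F :=
  isGloballyGenerated_of_spanGen F _ h

/-- the local step: on an affine `X_s`, the twists of generators of `Γ(G, X_s)` generate. -/
theorem spanGen_local {L : X.Modules} (G : X.Modules) [G.IsQuasicoherent]
    (s : Coh.structureModule X ⟶ L) (hU : IsAffineOpen (CohB1.genLocus L s)) (k : ℕ)
    (T : Set Γ(G, CohB1.genLocus L s)) (hT : Submodule.span Γ(X, CohB1.genLocus L s) T = ⊤)
    (hext : ∀ τ ∈ T, ∃ t' : Γ(CohB1.tensorMod G (CohB1.tensorPow L k), ⊤),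
      (CohB1.tensorMod G (CohB1.tensorPow L k)).presheaf.map
        (homOfLE (le_top : CohB1.genLocus L s ≤ ⊤)).op t' =
        tmul G (CohB1.tensorPow L k) τ (genPow (val s (CohB1.genLocus L s)) k))
    (U : X.Opens) (t : Γ(CohB1.tensorMod G (CohB1.tensorPow L k), U)) (x : X) (hxU : x ∈ U)
    (hxs : x ∈ CohB1.genLocus L s) :
    ∃ (W : X.Opens) (hW : W ≤ U), x ∈ W ∧
      (CohB1.tensorMod G (CohB1.tensorPow L k)).presheaf.map (homOfLE hW).op t ∈
        Submodule.span Γ(X, W) (Set.range fun σ : Γ(CohB1.tensorMod G (CohB1.tensorPow L k), ⊤) =>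
          (CohB1.tensorMod G (CohB1.tensorPow L k)).presheaf.map
            (homOfLE (le_top : W ≤ ⊤)).op σ) := by
  have hgen : IsGen (CohB1.tensorPow L k) (CohB1.genLocus L s)
      (genPow (val s (CohB1.genLocus L s)) k) :=
    isGen_genPow ((le_genLocus_iff_isGen s (CohB1.genLocus L s)).mp le_rfl) k
  obtain ⟨f, hfW, hxf⟩ := hU.exists_basicOpen_le (V := U ⊓ CohB1.genLocus L s)
    ⟨x, ⟨hxU, hxs⟩⟩ hxs
  have hDU : X.basicOpen f ≤ U := hfW.trans inf_le_left
  have hDs : X.basicOpen f ≤ CohB1.genLocus L s := X.basicOpen_le f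
  refine ⟨X.basicOpen f, hDU, hxf, ?_⟩
  -- write `t` on `D(f)` as `τ ⊗ e`
  obtain ⟨τ, hτ⟩ := (tmulREquiv G hgen hDs).surjective
    ((CohB1.tensorMod G (CohB1.tensorPow L k)).presheaf.map (homOfLE hDU).op t)
  rw [← hτ]
  -- `τ` times a power of `f` extends to `X_s`
  obtain ⟨n, σ, hσ⟩ := (LocOn.of_isQuasicoherent G hU).2 f τ
  obtain ⟨u, hu⟩ := (isUnit_res_basicOpen f).pow n
  have hτ' : τ = (↑u⁻¹ : Γ(X, X.basicOpen f)) • G.presheaf.map (homOfLE hDs).op σ := by
    rw [hσ, ← hu, smul_smul, Units.inv_mul, one_smul]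
  rw [hτ', map_smul]
  refine Submodule.smul_mem _ _ ?_
  -- now `σ` is in the span of `T`
  have hσT : σ ∈ Submodule.span Γ(X, CohB1.genLocus L s) T := by rw [hT]; trivial
  clear hτ' hσ
  induction hσT using Submodule.span_induction with
  | mem τ₀ hτ₀ =>
    obtain ⟨t', ht'⟩ := hext τ₀ hτ₀
    refine Submodule.subset_span ⟨t', ?_⟩
    rw [tmulREquiv_apply, ← tmul_res, ← ht', res_res]
  | zero => rw [map_zero, map_zero]; exact Submodule.zero_mem _
  | add a b _ _ ha hb => rw [map_add, map_add]; exact Submodule.add_mem _ ha hb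
  | smul r a _ ha => rw [res_smul, map_smul]; exact Submodule.smul_mem _ _ ha


open Groth.Agent.Lib.Lead.CohAff in
/-- Serre's theorem, one residue class: for a finite cover by affine `X_{s_i}`, `s_i ∈ Γ(L)`,
`G ⊗ L^k` is generated by global sections for all large `k`. -/
theorem exists_GG_twist [CompactSpace X] [QuasiSeparatedSpace X] {L : X.Modules}
    (hL : PicF.IsInvertible L) {ι : Type*} [Finite ι] (s : ι → (Coh.structureModule X ⟶ L))
    (haff : ∀ i, IsAffineOpen (CohB1.genLocus L (s i)))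
    (hcov : ∀ x : X, ∃ i, x ∈ CohB1.genLocus L (s i)) (G : X.Modules) (hG : Coh.IsCoh G) :
    ∃ k₀ : ℕ, ∀ k, k₀ ≤ k → GG (CohB1.tensorMod G (CohB1.tensorPow L k)) := by
  have := hG.1
  have fin : ∀ i, Module.Finite Γ(X, CohB1.genLocus L (s i)) Γ(G, CohB1.genLocus L (s i)) :=
    fun i => finite_sections_of_isFiniteType G hG.2 (haff i)
  choose T hT using (fun i => (fin i).fg_top)
  have h1 : ∀ i, ∃ n₀ : ℕ, ∀ n, n₀ ≤ n → ∀ τ ∈ T i,
      ∃ t' : Γ(CohB1.tensorMod G (CohB1.tensorPow L n), ⊤),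
      (CohB1.tensorMod G (CohB1.tensorPow L n)).presheaf.map
        (homOfLE (le_top : CohB1.genLocus L (s i) ≤ ⊤)).op t' =
        tmul G (CohB1.tensorPow L n) τ (genPow (val (s i) (CohB1.genLocus L (s i))) n) :=
    fun i => exists_uniform_finset (T i) _ (fun τ _ => exists_twist_extends_ge hL (s i) G τ)
  obtain ⟨k₀, hk₀⟩ := exists_uniform_finite _ h1
  refine ⟨k₀, fun k hk U t x hxU => ?_⟩
  obtain ⟨i, hi⟩ := hcov x
  exact spanGen_local G (s i) (haff i) k (↑(T i)) (hT i) (fun τ hτ => hk₀ k hk i τ hτ) U t x hxU hi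

end Groth.Agent.Lib.Lead.Inv
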