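import Groth.Agent.Lib.Lead.Tw1
import Groth.Agent.Lib.Lead.CohAff3
import Groth.Agent.Lib.Lead.QCohCrit
import Groth.Agent.Lib.Helper35.Twist1

/-!
# Tensoring with an invertible module preserves quasi-coherence and finite type
(lead seat library)
-/

set_option autoImplicit false
universe u

open AlgebraicGeometry CategoryTheory Opposite TopologicalSpace MonoidalCategory Limits

namespace Groth.Agent.Lib.Lead.Inv

open Groth.Agent.Lib.Lead.QCohAff Groth.Agent.Lib.Lead.CohAff Groth.Agent.Lib.Lead.QCohCrit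

variable {X : Scheme.{u}}

/-! ### Bridge to helper35's parallel calculus -/

theorem gen_isGen_iff (L : X.Modules) (U : X.Opens) (e : Γ(L, U)) :
    Groth.Agent.Lib.Helper35.Gen.IsGen L U e ↔ IsGen L U e := Iff.rfl

theorem gen_tm_eq (M N : X.Modules) {U : X.Opens} (m : Γ(M, U)) (n : Γ(N, U)) :
    Groth.Agent.Lib.Helper35.Gen.tm M N m n = tmul M N m n := rfl

theorem gen_rs_eq (M : X.Modules) {U V : X.Opens} (h : V ≤ U) (m : Γ(M, U)) :
    Groth.Agent.Lib.Helper35.Gen.rs M h m = M.presheaf.map (homOfLE h).op m := rfl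

theorem secTwist_val_eq {L : X.Modules} (s : Coh.structureModule X ⟶ L) (U : X.Opens) :
    SecTwist.val s U = val s U := rfl

theorem secTwist_pow_eq {L : X.Modules} (s : Coh.structureModule X ⟶ L) (n : ℕ) (U : X.Opens) :
    SecTwist.pow s n U = genPow (val s U) n := by
  induction n with
  | zero => rfl
  | succ n ih =>
    change SecTwist.tmul _ _ U (SecTwist.pow s n U) (SecTwist.val s U) = _
    rw [ih]
    rfl

theorem gen_tw_eq {L : X.Modules} (s : Coh.structureModule X ⟶ L) (n : ℕ) (F : X.Modules)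
    {U : X.Opens} (t : Γ(F, U)) :
    Groth.Agent.Lib.Helper35.Gen.tw s n F t =
      tmul F (CohB1.tensorPow L n) t (genPow (val s U) n) := by
  change SecTwist.tmul F (CohB1.tensorPow L n) U t (SecTwist.pow s n U) = _
  rw [secTwist_pow_eq]
  rfl

/-- Tensoring sections with a local generator is bijective. -/
theorem tmulR_bijective (F : X.Modules) {C : X.Modules} {U : X.Opens} {e : Γ(C, U)}
    (he : IsGen C U e) {W : X.Opens} (hW : W ≤ U) :
    Function.Bijective (fun τ : Γ(F, W) => tmul F C τ (C.presheaf.map (homOfLE hW).op e)) :=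
  Groth.Agent.Lib.Helper35.Gen.tm_right_bijective F C e he W hW

theorem tmul_zero_left (M N : X.Modules) {U : X.Opens} (n : Γ(N, U)) :
    tmul M N (0 : Γ(M, U)) n = 0 := by
  have := tmul_smul_left M N (0 : Γ(X, U)) (0 : Γ(M, U)) n
  rw [zero_smul, zero_smul] at this
  exact this


/-- `τ ↦ τ ⊗ e` as a linear equivalence, for a local generator `e` of `C` on `U`. -/
noncomputable def tmulREquiv (F : X.Modules) {C : X.Modules} {U : X.Opens} {e : Γ(C, U)}
    (he : IsGen C U e) {W : X.Opens} (hW : W ≤ U) :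
    Γ(F, W) ≃ₗ[Γ(X, W)] Γ(CohB1.tensorMod F C, W) :=
  LinearEquiv.ofBijective
    { toFun := fun τ => tmul F C τ (C.presheaf.map (homOfLE hW).op e)
      map_add' := fun a b => tmul_add_left F C a b _
      map_smul' := fun r a => tmul_smul_left F C r a _ }
    (tmulR_bijective F he hW)

theorem tmulREquiv_apply (F : X.Modules) {C : X.Modules} {U : X.Opens} {e : Γ(C, U)}
    (he : IsGen C U e) {W : X.Opens} (hW : W ≤ U) (τ : Γ(F, W)) :
    tmulREquiv F he hW τ = tmul F C τ (C.presheaf.map (homOfLE hW).op e) := rfl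

theorem tmulREquiv_res (F : X.Modules) {C : X.Modules} {U : X.Opens} {e : Γ(C, U)}
    (he : IsGen C U e) {W W' : X.Opens} (hW : W ≤ U) (h : W' ≤ W) (τ : Γ(F, W)) :
    (CohB1.tensorMod F C).presheaf.map (homOfLE h).op (tmulREquiv F he hW τ) =
      tmulREquiv F he (h.trans hW) (F.presheaf.map (homOfLE h).op τ) := by
  rw [tmulREquiv_apply, tmulREquiv_apply, tmul_res, res_res]

theorem locOn_tensorMod_right (F : X.Modules) {C : X.Modules} {U : X.Opens} {e : Γ(C, U)}
    (he : IsGen C U e) (hF : LocOn F U) : LocOn (CohB1.tensorMod F C) U := by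
  constructor
  · intro f σ hσ
    obtain ⟨τ, rfl⟩ := (tmulREquiv F he le_rfl).surjective σ
    rw [tmulREquiv_res] at hσ
    have h0 : F.presheaf.map (homOfLE (X.basicOpen_le f)).op τ = 0 := by
      apply (tmulREquiv F he ((X.basicOpen_le f).trans le_rfl)).injective
      rw [hσ, map_zero]
    obtain ⟨n, hn⟩ := hF.1 f τ h0
    refine ⟨n, ?_⟩
    rw [← map_smul, hn, map_zero]
  · intro f t
    obtain ⟨τ', rfl⟩ := (tmulREquiv F he ((X.basicOpen_le f).trans le_rfl)).surjective t
    obtain ⟨n, τ, hτ⟩ := hF.2 f τ'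
    refine ⟨n, tmulREquiv F he le_rfl τ, ?_⟩
    rw [tmulREquiv_res, hτ, map_smul]

theorem isQuasicoherent_tensorMod_right (F : X.Modules) [F.IsQuasicoherent] {C : X.Modules}
    (hC : PicF.IsInvertible C) : (CohB1.tensorMod F C).IsQuasicoherent := by
  refine isQuasicoherent_of_locOn _ (fun x => ?_)
  obtain ⟨U₀, hx₀, e₀, he₀⟩ := (isInvertible_iff_exists_isGen.mp hC) x
  obtain ⟨_, ⟨U, hU, rfl⟩, hxU, hUU₀⟩ :=
    X.isBasis_affineOpens.exists_subset_of_mem_open hx₀ U₀.2
  exact ⟨U, hU, hxU, locOn_tensorMod_right F (he₀.res hUU₀) (LocOn.of_isQuasicoherent F hU)⟩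

theorem isFiniteType_tensorMod_right (F : X.Modules) [F.IsQuasicoherent]
    (hF : SheafOfModules.IsFiniteType (R := X.ringCatSheaf) F) {C : X.Modules}
    (hC : PicF.IsInvertible C) :
    SheafOfModules.IsFiniteType (R := X.ringCatSheaf) (CohB1.tensorMod F C) := by
  have := isQuasicoherent_tensorMod_right F hC
  refine isFiniteType_of_finite_sections _ (fun x => ?_)
  obtain ⟨U₀, hx₀, e₀, he₀⟩ := (isInvertible_iff_exists_isGen.mp hC) x
  obtain ⟨_, ⟨U, hU, rfl⟩, hxU, hUU₀⟩ :=
    X.isBasis_affineOpens.exists_subset_of_mem_open hx₀ U₀.2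
  refine ⟨U, hU, hxU, ?_⟩
  have := finite_sections_of_isFiniteType F hF hU
  exact Module.Finite.equiv (tmulREquiv F (he₀.res hUU₀) le_rfl)

theorem isCoh_tensorMod_right {F : X.Modules} (hF : Coh.IsCoh F) {C : X.Modules}
    (hC : PicF.IsInvertible C) : Coh.IsCoh (CohB1.tensorMod F C) := by
  have := hF.1
  exact ⟨isQuasicoherent_tensorMod_right F hC, isFiniteType_tensorMod_right F hF.2 hC⟩

end Groth.Agent.Lib.Lead.Inv
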