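import Mathlib.RingTheory.LocalRing.Module
import Mathlib.RingTheory.LocalRing.ResidueField.Basic
import Mathlib.RingTheory.Flat.FaithfullyFlat.Basic
import Mathlib.LinearAlgebra.TensorProduct.Tower

/-!
# Nakayama for base change along a local homomorphism (lead seat library, pure algebra)
-/

set_option autoImplicit false

open TensorProduct IsLocalRing

namespace Groth.Agent.Lib.Lead.LocalTensor

variable {A B M : Type*} [CommRing A] [CommRing B] [IsLocalRing A] [IsLocalRing B] [Algebra A B]
  [IsLocalHom (algebraMap A B)] [AddCommGroup M] [Module A M] [Module.Finite A M]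

/-- For a local homomorphism `A → B` and a finite `A`-module `M`: `B ⊗[A] M = 0` implies
`M = 0`. -/
theorem subsingleton_of_subsingleton_tensor (h : Subsingleton (B ⊗[A] M)) : Subsingleton M := by
  rw [← IsLocalRing.subsingleton_tensorProduct (R := A)]
  have e1 : ResidueField B ⊗[ResidueField A] (ResidueField A ⊗[A] M) ≃ₗ[ResidueField B]
      ResidueField B ⊗[A] M :=
    TensorProduct.AlgebraTensorModule.cancelBaseChange A (ResidueField A) (ResidueField B)
      (ResidueField B) M
  have e2 : ResidueField B ⊗[B] (B ⊗[A] M) ≃ₗ[ResidueField B] ResidueField B ⊗[A] M :=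
    TensorProduct.AlgebraTensorModule.cancelBaseChange A B (ResidueField B) (ResidueField B) M
  haveI : Subsingleton (ResidueField B ⊗[B] (B ⊗[A] M)) := inferInstance
  haveI : Subsingleton (ResidueField B ⊗[A] M) := e2.symm.toEquiv.subsingleton
  haveI : Subsingleton (ResidueField B ⊗[ResidueField A] (ResidueField A ⊗[A] M)) :=
    e1.toEquiv.subsingleton
  exact (Module.FaithfullyFlat.subsingleton_tensorProduct_iff_right (ResidueField A)
    (ResidueField B)).1 inferInstance

theorem subsingleton_tensor_iff : Subsingleton (B ⊗[A] M) ↔ Subsingleton M :=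
  ⟨subsingleton_of_subsingleton_tensor, fun _ => inferInstance⟩

end Groth.Agent.Lib.Lead.LocalTensor
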