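import Groth.Prelude.Def_NonAbH1
import Mathlib.CategoryTheory.Sites.Subsheaf
import Mathlib.Tactic

/-!
# The boundary map of non-abelian cohomology on a general site (lead seat library)

General-site versions of the exactness statements for `1 → F → G → G/F` in terms of the
prelude predicates `NonAbH1.GSheaf.IsQuotientBy`, `IsFibreOver`, `IsPushforwardAlong`.
-/

universe w v u

open CategoryTheory Opposite

namespace Groth.Agent.Lib.Lead.NonAb

variable {C : Type u} [Category.{v} C] {J : GrothendieckTopology C}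

section Glue

variable (P : Sheaf J (Type w))

theorem isSheafType : Presieve.IsSheaf J P.obj :=
  (isSheaf_iff_isSheaf_of_type J P.obj).mp P.property

/-- Separatedness of a sheaf of types. -/
theorem ext_of_cover {U : C} (S : Sieve U) (hS : S ∈ J U) (x y : P.obj.obj (op U))
    (h : ∀ ⦃V : C⦄ (f : V ⟶ U), S f → P.obj.map f.op x = P.obj.map f.op y) : x = y :=
  ((isSheafType P S hS).isSeparatedFor).ext (fun _ _ hf => h _ hf)

/-- Gluing a locally defined compatible section to a global section. -/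
theorem exists_global_section (D : C → Prop) (hD : ∀ ⦃V W : C⦄ (_ : W ⟶ V), D V → D W)
    (hloc : ∀ U : C, ∃ S ∈ J U, ∀ ⦃V : C⦄ (f : V ⟶ U), S f → D V)
    (s : ∀ V : C, D V → P.obj.obj (op V))
    (hs : ∀ ⦃V W : C⦄ (f : W ⟶ V) (hV : D V), P.obj.map f.op (s V hV) = s W (hD f hV)) :
    ∃ σ : P.obj.sections, ∀ (V : C) (hV : D V), σ.1 (op V) = s V hV := by
  classical
  let S : ∀ U : C, Sieve U := fun U =>
    { arrows := fun V _ => D V
      downward_closed := fun h g => hD g h }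
  have hS : ∀ U, S U ∈ J U := by
    intro U
    obtain ⟨S', hS', h⟩ := hloc U
    exact J.superset_covering (fun V f hf => h f hf) hS'
  let x : ∀ U : C, Presieve.FamilyOfElements P.obj (S U).arrows := fun U V _ hf => s V hf
  have hx : ∀ U, (x U).Compatible := by
    intro U Y₁ Y₂ Z g₁ g₂ f₁ f₂ h₁ h₂ _
    change P.obj.map g₁.op (s Y₁ h₁) = P.obj.map g₂.op (s Y₂ h₂)
    rw [hs g₁ h₁, hs g₂ h₂]
  let σ : ∀ U : C, P.obj.obj (op U) := fun U =>
    (isSheafType P (S U) (hS U)).amalgamate (x U) (hx U)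
  have hσ : ∀ (U : C) ⦃V : C⦄ (f : V ⟶ U) (hV : D V), P.obj.map f.op (σ U) = s V hV := by
    intro U V f hV
    exact (isSheafType P (S U) (hS U)).valid_glue (hx U) f hV
  have hσD : ∀ (V : C) (hV : D V), σ V = s V hV := by
    intro V hV
    have := hσ V (𝟙 V) hV
    simpa using this
  refine ⟨⟨fun U => σ U.unop, ?_⟩, fun V hV => hσD V hV⟩
  intro U U' f
  apply ext_of_cover P (S U'.unop) (hS U'.unop)
  intro V g hg
  have h1 : P.obj.map g.op (P.obj.map f (σ U.unop)) = P.obj.map (g ≫ f.unop).op (σ U.unop) := by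
    rw [← FunctorToTypes.map_comp_apply]
    rfl
  rw [h1, hσ U.unop (g ≫ f.unop) hg, hσ U'.unop g hg]

/-- A section which is locally in the image of an injective morphism of sheaves is in the image. -/
theorem exists_preimage_of_locally {P P' : Sheaf J (Type w)} (ι : P ⟶ P')
    (hι : ∀ U, Function.Injective (ι.hom.app U))
    {U : C} (x : P'.obj.obj (op U)) (S : Sieve U) (hS : S ∈ J U)
    (h : ∀ ⦃V : C⦄ (f : V ⟶ U), S f →
      ∃ t : P.obj.obj (op V), ι.hom.app (op V) t = P'.obj.map f.op x) :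
    ∃ t : P.obj.obj (op U), ι.hom.app (op U) t = x := by
  classical
  let y : Presieve.FamilyOfElements P.obj S.arrows := fun V f hf => (h f hf).choose
  have hy : ∀ ⦃V : C⦄ (f : V ⟶ U) (hf : S f), ι.hom.app (op V) (y f hf) = P'.obj.map f.op x :=
    fun V f hf => (h f hf).choose_spec
  have hcomp : y.Compatible := by
    intro Y₁ Y₂ Z g₁ g₂ f₁ f₂ h₁ h₂ hfg
    apply hι
    rw [FunctorToTypes.naturality, FunctorToTypes.naturality, hy f₁ h₁, hy f₂ h₂,
      ← FunctorToTypes.map_comp_apply, ← FunctorToTypes.map_comp_apply, ← op_comp, ← op_comp, hfg]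
  refine ⟨(isSheafType P S hS).amalgamate y hcomp, ?_⟩
  apply ext_of_cover P' S hS
  intro V f hf
  rw [← FunctorToTypes.naturality, (isSheafType P S hS).valid_glue hcomp f hf, hy f hf]

end Glue

section GSheafIso

open NonAbH1

variable {G : Sheaf J GrpCat.{w}}

/-- An equivariant morphism which is bijective on sections is an isomorphism. -/
theorem nonempty_iso_of_bijective {P Q : GSheaf G} (f : P ⟶ Q)
    (h : ∀ U, Function.Bijective (f.hom.hom.app U)) : Nonempty (P ≅ Q) := by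
  classical
  let e : ∀ U, P.P.obj.obj U ≃ Q.P.obj.obj U := fun U => Equiv.ofBijective _ (h U)
  have he : ∀ U x, f.hom.hom.app U ((e U).symm x) = x := fun U x => (e U).apply_symm_apply x
  have he' : ∀ U x, (e U).symm (f.hom.hom.app U x) = x := fun U x => (e U).symm_apply_apply x
  let invNat : Q.P.obj ⟶ P.P.obj :=
    { app := fun U => TypeCat.ofHom (e U).symm
      naturality := by
        intro U V g
        ext x
        apply (h V).1
        change f.hom.hom.app V ((e V).symm (Q.P.obj.map g x)) =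
          f.hom.hom.app V (P.P.obj.map g ((e U).symm x))
        rw [FunctorToTypes.naturality, he, he] }
  let inv : Q ⟶ P := ⟨ObjectProperty.homMk invNat, by
    intro U g p
    apply (h U).1
    change f.hom.hom.app U ((e U).symm (Q.smul g p)) =
      f.hom.hom.app U (P.smul g ((e U).symm p))
    rw [he, f.map_smul, he]⟩
  refine ⟨⟨f, inv, ?_, ?_⟩⟩
  · apply GSheaf.hom_ext
    apply Sheaf.hom_ext
    ext U x
    exact he' U x
  · apply GSheaf.hom_ext
    apply Sheaf.hom_ext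
    ext U x
    exact he U x

end GSheafIso

section Boundary

open NonAbH1 NonAbH1.GSheaf

variable [J.HasSheafCompose (forget GrpCat.{w})] {F G : Sheaf J GrpCat.{w}} (u : F ⟶ G)
  {Q : GSheaf G} (π : GSheaf.trivial G ⟶ Q)

omit [J.HasSheafCompose (forget GrpCat.{w})] in
theorem uSh_map_apply [J.HasSheafCompose (forget GrpCat.{w})] {U V : Cᵒᵖ} (f : U ⟶ V)
    (x : (uSh G).obj.obj U) :
    (uSh G).obj.map f x = ofGrp (G.obj.map f (toGrp x)) := rfl

theorem pi_mul {U : Cᵒᵖ} (g h : G.obj.obj U) :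
    π.hom.hom.app U (ofGrp (g * h)) = Q.smul g (π.hom.hom.app U (ofGrp h)) :=
  π.map_smul g (ofGrp h)

theorem pi_map {U V : Cᵒᵖ} (f : U ⟶ V) (g : G.obj.obj U) :
    π.hom.hom.app V (ofGrp (G.obj.map f g)) = Q.P.obj.map f (π.hom.hom.app U (ofGrp g)) :=
  NatTrans.naturality_apply π.hom.hom f (ofGrp g)

theorem pi_nat {U V : Cᵒᵖ} (i : U ⟶ V) (g : (uSh G).obj.obj U) :
    π.hom.hom.app V ((uSh G).obj.map i g) = Q.P.obj.map i (π.hom.hom.app U g) :=
  NatTrans.naturality_apply π.hom.hom i g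

variable {u π}

/-- A sheaf of liftings is a torsor. -/
theorem isTorsor_of_isFibreOver (hu : ∀ U : Cᵒᵖ, Function.Injective (u.hom.app U))
    (hQ : IsQuotientBy u π) {c : Q.P.obj.sections} {T : GSheaf F}
    (hT : IsFibreOver u π c T) : T.IsTorsor := by
  obtain ⟨ι, hinj, hfib, hact⟩ := hT
  constructor
  · intro U p q
    have hp : π.hom.hom.app U (ofGrp (toGrp (ι.hom.app U p))) = c.1 U :=
      (hfib U _).mp ⟨p, rfl⟩
    have hq : π.hom.hom.app U (ofGrp (toGrp (ι.hom.app U q))) = c.1 U :=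
      (hfib U _).mp ⟨q, rfl⟩
    obtain ⟨f, hf⟩ := (hQ.1 U _ _).mp (hp.trans hq.symm)
    refine ⟨f⁻¹, ?_, ?_⟩
    · apply hinj
      change toGrp (ι.hom.app U (T.smul f⁻¹ p)) = toGrp (ι.hom.app U q)
      rw [hact, hf, map_inv, inv_inv]
    · intro g hg
      have h1 : toGrp (ι.hom.app U (T.smul g p)) = toGrp (ι.hom.app U q) := by rw [hg]
      rw [hact, hf] at h1
      have h2 : (u.hom.app U g)⁻¹ = u.hom.app U f := mul_left_cancel h1
      apply hu U
      rw [map_inv, ← h2, inv_inv]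
  · intro U
    obtain ⟨S, hS, h⟩ := hQ.2 U (c.1 (op U))
    refine ⟨S, hS, fun V a ha => ?_⟩
    obtain ⟨g, hg⟩ := h a ha
    rw [c.2 a.op] at hg
    obtain ⟨t, -⟩ := (hfib (op V) g).mpr hg
    exact ⟨t⟩

omit [J.HasSheafCompose (forget GrpCat.{w})] in
theorem iota_map [J.HasSheafCompose (forget GrpCat.{w})] {T : Sheaf J (Type w)} (ι : T ⟶ uSh G)
    {U V : Cᵒᵖ} (f : U ⟶ V) (t : T.obj.obj U) :
    toGrp (ι.hom.app V (T.obj.map f t)) = G.obj.map f (toGrp (ι.hom.app U t)) :=
  NatTrans.naturality_apply ι.hom f t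

omit [J.HasSheafCompose (forget GrpCat.{w})] in
theorem section_map [J.HasSheafCompose (forget GrpCat.{w})] (g : (uSh G).obj.sections)
    {U V : Cᵒᵖ} (f : U ⟶ V) : G.obj.map f (toGrp (g.1 U)) = toGrp (g.1 V) :=
  g.2 f

/-- Two sheaves of liftings over sections `c`, `c'` with `g • c = c'` for a global section `g` of
`G` are equivariantly isomorphic. -/
theorem nonempty_iso_of_translate {c c' : Q.P.obj.sections} {T T' : GSheaf F}
    (hT : IsFibreOver u π c T) (hT' : IsFibreOver u π c' T')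
    (g : (uSh G).obj.sections)
    (hg : ∀ U : Cᵒᵖ, Q.smul (toGrp (g.1 U)) (c.1 U) = c'.1 U) : Nonempty (T ≅ T') := by
  classical
  obtain ⟨ι, hinj, hfib, hact⟩ := hT
  obtain ⟨ι', hinj', hfib', hact'⟩ := hT'
  have hex : ∀ (U : Cᵒᵖ) (t : T.P.obj.obj U), ∃ t' : T'.P.obj.obj U,
      toGrp (ι'.hom.app U t') = toGrp (g.1 U) * toGrp (ι.hom.app U t) := by
    intro U t
    apply (hfib' U _).mpr
    rw [pi_mul, (hfib U _).mp ⟨t, rfl⟩, hg]
  let m : ∀ U, T.P.obj.obj U → T'.P.obj.obj U := fun U t => (hex U t).choose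
  have hm : ∀ U t, toGrp (ι'.hom.app U (m U t)) = toGrp (g.1 U) * toGrp (ι.hom.app U t) :=
    fun U t => (hex U t).choose_spec
  let mNat : T.P.obj ⟶ T'.P.obj :=
    { app := fun U => TypeCat.ofHom (m U)
      naturality := by
        intro U V f
        ext t
        apply hinj' V
        change toGrp (ι'.hom.app V (m V (T.P.obj.map f t))) =
          toGrp (ι'.hom.app V (T'.P.obj.map f (m U t)))
        rw [hm, iota_map, iota_map, hm, map_mul, section_map] }
  let mHom : T ⟶ T' := ⟨ObjectProperty.homMk mNat, by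
    intro U f t
    apply hinj' U
    change toGrp (ι'.hom.app U (m U (T.smul f t))) = toGrp (ι'.hom.app U (T'.smul f (m U t)))
    rw [hm, hact, hact', hm, mul_assoc]⟩
  apply nonempty_iso_of_bijective mHom
  intro U
  constructor
  · intro t₁ t₂ h
    have h1 : m U t₁ = m U t₂ := h
    have h2 := hm U t₁
    rw [h1, hm] at h2
    exact hinj U (mul_left_cancel h2).symm
  · intro t'
    have h1 : ∃ t : T.P.obj.obj U,
        toGrp (ι.hom.app U t) = (toGrp (g.1 U))⁻¹ * toGrp (ι'.hom.app U t') := by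
      apply (hfib U _).mpr
      rw [pi_mul, (hfib' U _).mp ⟨t', rfl⟩, ← hg, ← Q.mul_smul, inv_mul_cancel, Q.one_smul]
    obtain ⟨t, ht⟩ := h1
    refine ⟨t, ?_⟩
    apply hinj' U
    change toGrp (ι'.hom.app U (m U t)) = toGrp (ι'.hom.app U t')
    rw [hm, ht, mul_inv_cancel_left]

/-- If two sheaves of liftings over `c`, `c'` are isomorphic then `c'` is a translate of `c` by a
global section of `G`. -/
theorem exists_translate_of_iso (hu : ∀ U : Cᵒᵖ, Function.Injective (u.hom.app U))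
    (hQ : IsQuotientBy u π) {c c' : Q.P.obj.sections} {T T' : GSheaf F}
    (hT : IsFibreOver u π c T) (hT' : IsFibreOver u π c' T') (e : T ≅ T') :
    ∃ g : (uSh G).obj.sections, ∀ U : Cᵒᵖ, Q.smul (toGrp (g.1 U)) (c.1 U) = c'.1 U := by
  classical
  have htors := isTorsor_of_isFibreOver hu hQ hT
  obtain ⟨ι, hinj, hfib, hact⟩ := hT
  obtain ⟨ι', hinj', hfib', hact'⟩ := hT'
  let D : C → Prop := fun V => Nonempty (T.P.obj.obj (op V))
  have hD : ∀ ⦃V W : C⦄ (_ : W ⟶ V), D V → D W := fun V W f ⟨t⟩ => ⟨T.P.obj.map f.op t⟩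
  let val : ∀ (V : C), T.P.obj.obj (op V) → G.obj.obj (op V) := fun V t =>
    toGrp (ι'.hom.app (op V) (e.hom.hom.hom.app (op V) t)) * (toGrp (ι.hom.app (op V) t))⁻¹
  have indep : ∀ (V : C) (t₁ t₂ : T.P.obj.obj (op V)), val V t₁ = val V t₂ := by
    intro V t₁ t₂
    obtain ⟨f, hf, -⟩ := htors.1 (op V) t₁ t₂
    subst hf
    change _ = toGrp (ι'.hom.app (op V) (e.hom.hom.hom.app (op V) (T.smul f t₁))) *
      (toGrp (ι.hom.app (op V) (T.smul f t₁)))⁻¹
    rw [e.hom.map_smul, hact, hact']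
    simp only [val]
    group
  have hvalmap : ∀ ⦃V W : C⦄ (f : W ⟶ V) (t : T.P.obj.obj (op V)),
      G.obj.map f.op (val V t) = val W (T.P.obj.map f.op t) := by
    intro V W f t
    change G.obj.map f.op (_ * _) = toGrp (ι'.hom.app (op W) (e.hom.hom.hom.app (op W)
      (T.P.obj.map f.op t))) * (toGrp (ι.hom.app (op W) (T.P.obj.map f.op t)))⁻¹
    rw [map_mul, map_inv, NatTrans.naturality_apply e.hom.hom.hom f.op t, iota_map, iota_map]
  let s : ∀ V : C, D V → (uSh G).obj.obj (op V) := fun V hV => ofGrp (val V hV.some)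
  have hs : ∀ ⦃V W : C⦄ (f : W ⟶ V) (hV : D V),
      (uSh G).obj.map f.op (s V hV) = s W (hD f hV) := by
    intro V W f hV
    change ofGrp (G.obj.map f.op (val V hV.some)) = ofGrp (val W (hD f hV).some)
    rw [hvalmap, indep W _ (hD f hV).some]
  obtain ⟨σ, hσ⟩ := exists_global_section (uSh G) D hD htors.2 s hs
  refine ⟨σ, fun U => ?_⟩
  obtain ⟨S, hS, h⟩ := htors.2 U.unop
  apply ext_of_cover Q.P S hS
  intro V a ha
  obtain ⟨t⟩ := h a ha
  rw [Q.map_smul, c.2 a.op, c'.2 a.op, section_map σ a.op, hσ V ⟨t⟩]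
  change Q.smul (val V _) _ = _
  rw [indep V _ t, ← (hfib (op V) _).mp ⟨t, rfl⟩, ← pi_mul]
  change π.hom.hom.app (op V) (ofGrp (toGrp (ι'.hom.app (op V) (e.hom.hom.hom.app (op V) t)) *
    (toGrp (ι.hom.app (op V) t))⁻¹ * toGrp (ι.hom.app (op V) t))) = _
  rw [inv_mul_cancel_right]
  exact (hfib' (op V) _).mp ⟨_, rfl⟩

variable (π) in
/-- The subfunctor of `G` of liftings of the global section `c` of `Q`. -/
def fibreSub (c : Q.P.obj.sections) : Subfunctor (uSh G).obj where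
  obj U := {g | π.hom.hom.app U g = c.1 U}
  map := by
    intro U V i g hg
    change π.hom.hom.app V ((uSh G).obj.map i g) = c.1 V
    rw [pi_nat π i g, show π.hom.hom.app U g = c.1 U from hg, c.2 i]

variable (π) in
theorem fibreSub_isSheaf (c : Q.P.obj.sections) :
    Presieve.IsSheaf J (fibreSub π c).toFunctor := by
  rw [Subfunctor.isSheaf_iff _ (isSheafType (uSh G))]
  intro U s hs
  change π.hom.hom.app U s = c.1 U
  apply ext_of_cover Q.P _ hs
  intro V f hf
  have h1 : π.hom.hom.app (op V) ((uSh G).obj.map f.op s) = c.1 (op V) := hf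
  rw [pi_nat π f.op s] at h1
  rw [c.2 f.op]
  exact h1

/-- The sheaf of liftings of `c`, with `F` acting by `f • g = g * u(f)⁻¹`. -/
noncomputable def fibre (hQ : IsQuotientBy u π) (c : Q.P.obj.sections) : GSheaf F where
  P := ⟨(fibreSub π c).toFunctor,
    (isSheaf_iff_isSheaf_of_type J _).mpr (fibreSub_isSheaf π c)⟩
  smul {U} f t := ⟨ofGrp (toGrp t.1 * (u.hom.app U f)⁻¹), by
    change π.hom.hom.app U (ofGrp (toGrp t.1 * (u.hom.app U f)⁻¹)) = c.1 U
    have h1 : π.hom.hom.app U (ofGrp (toGrp t.1)) =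
        π.hom.hom.app U (ofGrp (toGrp t.1 * (u.hom.app U f)⁻¹)) :=
      (hQ.1 U _ _).mpr ⟨f⁻¹, by rw [map_inv]⟩
    rw [← h1]
    exact t.2⟩
  one_smul {U} t := by
    apply Subtype.ext
    change ofGrp (toGrp t.1 * (u.hom.app U 1)⁻¹) = t.1
    rw [map_one, inv_one, mul_one]
  mul_smul {U} f h t := by
    apply Subtype.ext
    change ofGrp (toGrp t.1 * (u.hom.app U (f * h))⁻¹) =
      ofGrp (toGrp t.1 * (u.hom.app U h)⁻¹ * (u.hom.app U f)⁻¹)
    rw [map_mul, mul_inv_rev, mul_assoc]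
  map_smul {U V} i f t := by
    apply Subtype.ext
    change G.obj.map i (toGrp t.1 * (u.hom.app U f)⁻¹) =
      G.obj.map i (toGrp t.1) * (u.hom.app V (F.obj.map i f))⁻¹
    rw [map_mul, map_inv]
    congr 2
    exact (NatTrans.naturality_apply u.hom i f).symm

theorem fibre_isFibreOver (hQ : IsQuotientBy u π) (c : Q.P.obj.sections) :
    IsFibreOver u π c (fibre hQ c) := by
  refine ⟨ObjectProperty.homMk (fibreSub π c).ι, ?_, ?_, ?_⟩
  · intro U t₁ t₂ h
    exact Subtype.ext h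
  · intro U g
    constructor
    · rintro ⟨t, rfl⟩
      exact t.2
    · intro h
      exact ⟨⟨ofGrp g, h⟩, rfl⟩
  · intro U f t
    rfl

/-- A sheaf of liftings, pushed forward to `G`, is trivial. -/
theorem isPushforwardAlong_trivial_of_isFibreOver {c : Q.P.obj.sections} {T : GSheaf F}
    (hT : IsFibreOver u π c T) : IsPushforwardAlong u T (GSheaf.trivial G) := by
  obtain ⟨ι, hinj, hfib, hact⟩ := hT
  let nat : T.P.obj ⟶ (uSh G).obj :=
    { app := fun U => TypeCat.ofHom (fun t => ofGrp (toGrp (ι.hom.app U t))⁻¹)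
      naturality := by
        intro U V f
        ext t
        change ofGrp (toGrp (ι.hom.app V (T.P.obj.map f t)))⁻¹ =
          ofGrp (G.obj.map f (toGrp (ι.hom.app U t))⁻¹)
        rw [iota_map, map_inv] }
  refine ⟨(ObjectProperty.homMk nat : T.P ⟶ uSh G), ?_⟩
  intro U f t
  change ofGrp (toGrp (ι.hom.app U (T.smul f t)))⁻¹ =
    ofGrp (u.hom.app U f * (toGrp (ι.hom.app U t))⁻¹)
  rw [hact, mul_inv_rev, inv_inv]

/-- A torsor whose pushforward to `G` is trivial is a sheaf of liftings. -/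
theorem exists_isFibreOver_of_isPushforwardAlong_trivial
    (hu : ∀ U : Cᵒᵖ, Function.Injective (u.hom.app U)) (hQ : IsQuotientBy u π)
    {T : GSheaf F} (hT : T.IsTorsor) (h : IsPushforwardAlong u T (GSheaf.trivial G)) :
    ∃ c : Q.P.obj.sections, IsFibreOver u π c T := by
  classical
  obtain ⟨φ, hφ⟩ := h
  have hφ' : ∀ (U : Cᵒᵖ) (f : F.obj.obj U) (t : T.P.obj.obj U),
      toGrp (φ.hom.app U (T.smul f t)) = u.hom.app U f * toGrp (φ.hom.app U t) :=
    fun U f t => hφ U f t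
  have hφmap : ∀ {U V : Cᵒᵖ} (f : U ⟶ V) (t : T.P.obj.obj U),
      toGrp (φ.hom.app V (T.P.obj.map f t)) = G.obj.map f (toGrp (φ.hom.app U t)) :=
    fun f t => NatTrans.naturality_apply φ.hom f t
  let nat : T.P.obj ⟶ (uSh G).obj :=
    { app := fun U => TypeCat.ofHom (fun t => ofGrp (toGrp (φ.hom.app U t))⁻¹)
      naturality := by
        intro U V f
        ext t
        change ofGrp (toGrp (φ.hom.app V (T.P.obj.map f t)))⁻¹ =
          ofGrp (G.obj.map f (toGrp (φ.hom.app U t))⁻¹)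
        rw [hφmap, map_inv] }
  let ι : T.P ⟶ uSh G := ObjectProperty.homMk nat
  have hι : ∀ U t, toGrp (ι.hom.app U t) = (toGrp (φ.hom.app U t))⁻¹ := fun U t => rfl
  have hact : ∀ (U : Cᵒᵖ) (f : F.obj.obj U) (t : T.P.obj.obj U),
      toGrp (ι.hom.app U (T.smul f t)) = toGrp (ι.hom.app U t) * (u.hom.app U f)⁻¹ := by
    intro U f t
    rw [hι, hι, hφ', mul_inv_rev]
  have hinj : ∀ U : Cᵒᵖ, Function.Injective (ι.hom.app U) := by
    intro U t₁ t₂ h12
    have h1 : toGrp (φ.hom.app U t₁) = toGrp (φ.hom.app U t₂) := by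
      have : toGrp (ι.hom.app U t₁) = toGrp (ι.hom.app U t₂) := by rw [h12]
      rw [hι, hι] at this
      exact inv_injective this
    obtain ⟨f, hf, -⟩ := hT.1 U t₁ t₂
    rw [← hf, hφ'] at h1
    have h2 : u.hom.app U f = 1 := by
      have h4 := congrArg (· * (toGrp (φ.hom.app U t₁))⁻¹) h1
      simp only [mul_inv_cancel, mul_inv_cancel_right] at h4
      exact h4.symm
    have h3 : f = 1 := hu U (by rw [h2, map_one])
    rw [← hf, h3, T.one_smul]
  let D : C → Prop := fun V => Nonempty (T.P.obj.obj (op V))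
  have hD : ∀ ⦃V W : C⦄ (_ : W ⟶ V), D V → D W := fun V W f ⟨t⟩ => ⟨T.P.obj.map f.op t⟩
  have indep : ∀ (U : Cᵒᵖ) (t₁ t₂ : T.P.obj.obj U),
      π.hom.hom.app U (ofGrp (toGrp (ι.hom.app U t₁))) =
        π.hom.hom.app U (ofGrp (toGrp (ι.hom.app U t₂))) := by
    intro U t₁ t₂
    obtain ⟨f, hf, -⟩ := hT.1 U t₁ t₂
    apply (hQ.1 U _ _).mpr
    refine ⟨f⁻¹, ?_⟩
    rw [← hf, hact, map_inv]
  let s : ∀ V : C, D V → Q.P.obj.obj (op V) := fun V hV =>
    π.hom.hom.app (op V) (ofGrp (toGrp (ι.hom.app (op V) hV.some)))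
  have hs : ∀ ⦃V W : C⦄ (f : W ⟶ V) (hV : D V),
      Q.P.obj.map f.op (s V hV) = s W (hD f hV) := by
    intro V W f hV
    change Q.P.obj.map f.op (π.hom.hom.app (op V) (ofGrp (toGrp (ι.hom.app (op V) hV.some)))) =
      π.hom.hom.app (op W) (ofGrp (toGrp (ι.hom.app (op W) (hD f hV).some)))
    rw [← pi_map, ← iota_map]
    exact indep _ _ _
  obtain ⟨c, hc⟩ := exists_global_section Q.P D hD hT.2 s hs
  have hcU : ∀ (U : Cᵒᵖ) (t : T.P.obj.obj U),
      c.1 U = π.hom.hom.app U (ofGrp (toGrp (ι.hom.app U t))) := by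
    intro U t
    have := hc U.unop ⟨t⟩
    change c.1 U = _ at this
    rw [this]
    exact indep U _ _
  refine ⟨c, ι, hinj, ?_, hact⟩
  intro U g
  constructor
  · rintro ⟨t, rfl⟩
    exact (hcU U t).symm
  · intro hg
    obtain ⟨S, hS, hS'⟩ := hT.2 U.unop
    have := exists_preimage_of_locally ι hinj (U := U.unop) (ofGrp g) S hS (by
      intro V a ha
      obtain ⟨t⟩ := hS' a ha
      have h1 : π.hom.hom.app (op V) (ofGrp (toGrp (ι.hom.app (op V) t))) =
          π.hom.hom.app (op V) (ofGrp (G.obj.map a.op g)) := by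
        rw [← hcU (op V) t, pi_map, hg, c.2 a.op]
      obtain ⟨f, hf⟩ := (hQ.1 (op V) _ _).mp h1
      refine ⟨T.smul f⁻¹ t, ?_⟩
      change ofGrp (toGrp (ι.hom.app (op V) (T.smul f⁻¹ t))) = ofGrp (G.obj.map a.op g)
      rw [hact, map_inv, inv_inv, hf])
    obtain ⟨t, ht⟩ := this
    exact ⟨t, ht⟩

/-- Two sheaves of liftings of the same section are isomorphic. -/
theorem nonempty_iso_of_isFibreOver {c : Q.P.obj.sections} {T T' : GSheaf F}
    (hT : IsFibreOver u π c T) (hT' : IsFibreOver u π c T') : Nonempty (T ≅ T') := by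
  refine nonempty_iso_of_translate hT hT'
    ⟨fun U => ofGrp (1 : G.obj.obj U), ?_⟩ (fun U => Q.one_smul _)
  intro U V f
  change ofGrp (G.obj.map f (1 : G.obj.obj U)) = ofGrp (1 : G.obj.obj V)
  rw [map_one]

variable (π) in
/-- The base point of the global sections of `Q`: the image of the unit section of `G`. -/
def baseSection : Q.P.obj.sections :=
  ⟨fun U => π.hom.hom.app U (ofGrp (1 : G.obj.obj U)), by
    intro U V f
    change Q.P.obj.map f (π.hom.hom.app U (ofGrp (1 : G.obj.obj U))) =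
      π.hom.hom.app V (ofGrp (1 : G.obj.obj V))
    rw [← pi_map, map_one]⟩

/-- The trivial `F`-torsor is the sheaf of liftings of the base point. -/
theorem trivial_isFibreOver (hu : ∀ U : Cᵒᵖ, Function.Injective (u.hom.app U))
    (hQ : IsQuotientBy u π) : IsFibreOver u π (baseSection π) (GSheaf.trivial F) := by
  let nat : (uSh F).obj ⟶ (uSh G).obj :=
    { app := fun U => TypeCat.ofHom (fun x => ofGrp (u.hom.app U (toGrp x))⁻¹)
      naturality := by
        intro U V f
        ext x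
        change ofGrp (u.hom.app V (F.obj.map f (toGrp x)))⁻¹ =
          ofGrp (G.obj.map f (u.hom.app U (toGrp x))⁻¹)
        rw [map_inv]
        congr 2
        exact NatTrans.naturality_apply u.hom f (toGrp x) }
  refine ⟨(ObjectProperty.homMk nat : uSh F ⟶ uSh G), ?_, ?_, ?_⟩
  · intro U x y hxy
    have h1 : (u.hom.app U (toGrp x))⁻¹ = (u.hom.app U (toGrp y))⁻¹ := hxy
    exact hu U (inv_injective h1)
  · intro U g
    change (∃ t : (uSh F).obj.obj U, (u.hom.app U (toGrp t))⁻¹ = g) ↔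
      π.hom.hom.app U (ofGrp g) = π.hom.hom.app U (ofGrp 1)
    rw [eq_comm, hQ.1 U 1 g]
    constructor
    · rintro ⟨t, rfl⟩
      exact ⟨(toGrp t)⁻¹, by rw [one_mul, map_inv]⟩
    · rintro ⟨f, rfl⟩
      exact ⟨ofGrp f⁻¹, by rw [one_mul]; change (u.hom.app U f⁻¹)⁻¹ = _; rw [map_inv, inv_inv]⟩
  · intro U f t
    change (u.hom.app U (f * toGrp t))⁻¹ = (u.hom.app U (toGrp t))⁻¹ * (u.hom.app U f)⁻¹
    rw [map_mul, mul_inv_rev]

omit [J.HasSheafCompose (forget GrpCat.{w})] in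
theorem cl_eq_iff (T T' : Torsor F) :
    T.cl = T'.cl ↔ Nonempty (T.toGSheaf ≅ T'.toGSheaf) := by
  have heq : Equivalence (fun P Q : Torsor F => Nonempty (P.toGSheaf ≅ Q.toGSheaf)) :=
    ⟨fun _ => ⟨Iso.refl _⟩, fun ⟨e⟩ => ⟨e.symm⟩, fun ⟨e₁⟩ ⟨e₂⟩ => ⟨e₁ ≪≫ e₂⟩⟩
  change Quot.mk _ T = Quot.mk _ T' ↔ _
  rw [Quot.eq, heq.eqvGen_iff]

theorem cl_eq_one_iff (T : Torsor F) :
    T.cl = 1 ↔ Nonempty (T.toGSheaf ≅ GSheaf.trivial F) :=
  cl_eq_iff T (trivialTorsor F)

/-- Exactness at the global sections of the quotient. -/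
theorem cl_eq_one_iff_lifts (hu : ∀ U : Cᵒᵖ, Function.Injective (u.hom.app U))
    (hQ : IsQuotientBy u π) {c : Q.P.obj.sections} (T : Torsor F)
    (hT : IsFibreOver u π c T.toGSheaf) :
    T.cl = 1 ↔ ∃ g : (uSh G).obj.sections, ∀ U : Cᵒᵖ, π.hom.hom.app U (g.1 U) = c.1 U := by
  rw [cl_eq_one_iff]
  have h0 := trivial_isFibreOver hu hQ
  have key : ∀ (g : (uSh G).obj.sections) (U : Cᵒᵖ),
      Q.smul (toGrp (g.1 U)) ((baseSection π).1 U) = π.hom.hom.app U (g.1 U) := by
    intro g U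
    change Q.smul (toGrp (g.1 U)) (π.hom.hom.app U (ofGrp 1)) = _
    rw [← pi_mul, mul_one]
  constructor
  · rintro ⟨e⟩
    obtain ⟨g, hg⟩ := exists_translate_of_iso hu hQ h0 hT e.symm
    exact ⟨g, fun U => by rw [← key, hg]⟩
  · rintro ⟨g, hg⟩
    obtain ⟨e⟩ := nonempty_iso_of_translate h0 hT g (fun U => by rw [key, hg])
    exact ⟨e.symm⟩

end Boundary

end Groth.Agent.Lib.Lead.NonAb
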