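import Mathlib
import Groth.Prelude.Def_NonAbH2
import Groth.Agent.S0084
import Groth.Agent.Lib.Helper5.FppfLocal

/-!
# A torsor (fppf) under a finite group scheme is finite over the base
-/

set_option autoImplicit false
universe u
open CategoryTheory CategoryTheory.Limits AlgebraicGeometry MonoidalCategory CartesianMonoidalCategory

namespace Groth.Agent.Lib.Lead.TorsorFinite

variable {X : Scheme.{u}}

/-- For a pseudo-torsor `Y` under `G` with `G → X` having a base-change-stable property `P`, the
second projection `Y ×_X Y → Y` has `P`. -/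
theorem prop_snd_of_isPseudoTorsorSch (P : MorphismProperty Scheme.{u}) [P.IsStableUnderBaseChange]
    {G Y : Over X} [GrpObj G] (a : AlgGrp.Action G Y) (ha : NonAbH1.IsPseudoTorsorSch a)
    (hG : P G.hom) : P (pullback.snd Y.hom Y.hom) := by
  haveI : P.RespectsIso := MorphismProperty.IsStableUnderBaseChange.respectsIso
  haveI : IsIso (lift a.act (snd G Y)) := ha
  have h1 : lift a.act (snd G Y) ≫ snd Y Y = snd G Y := lift_snd _ _
  have h2 : (lift a.act (snd G Y)).left ≫ pullback.snd Y.hom Y.hom = pullback.snd G.hom Y.hom := by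
    have := congrArg CommaMorphism.left h1
    exact this
  have h3 : P (pullback.snd G.hom Y.hom) := P.pullback_snd _ _ hG
  rw [← h2] at h3
  haveI : IsIso (lift a.act (snd G Y)).left :=
    inferInstanceAs (IsIso ((Over.forget X).map (lift a.act (snd G Y))))
  exact (P.cancel_left_of_respectsIso _ _).mp h3

/-- base change of `Y ×_X Y → Y` along a section-like map `t : U → Y` -/
theorem isPullback_lift {Y U : Scheme.{u}} (p : Y ⟶ X) (g : U ⟶ X) (t : U ⟶ Y) (ht : t ≫ p = g) :
    IsPullback (pullback.lift (pullback.fst p g) (pullback.snd p g ≫ t)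
        (by rw [Category.assoc, ht, pullback.condition]))
      (pullback.snd p g) (pullback.snd p p) t := by
  refine IsPullback.of_right (h₁₂ := pullback.fst p p) (h₂₂ := p) (v₁₃ := p) ?_ ?_
    (IsPullback.of_hasPullback p p)
  · rw [pullback.lift_fst, ht]
    exact IsPullback.of_hasPullback p g
  · rw [pullback.lift_snd]

theorem prop_of_isTorsorFor (P : MorphismProperty Scheme.{u}) [P.IsStableUnderBaseChange]
    (K : Precoverage Scheme.{u}) [P.IsLocalAtTarget K]
    {G Y : Over X} [GrpObj G] (a : AlgGrp.Action G Y) (ha : NonAbH1.IsTorsorFor K a)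
    (hG : P G.hom) : P Y.hom := by
  obtain ⟨hpt, R, hR, hsec⟩ := ha
  have hsnd := prop_snd_of_isPseudoTorsorSch P a hpt hG
  refine MorphismProperty.IsLocalAtTarget.of_forall_pullbackSnd (P := P) hR ?_
  intro U g _ hg
  obtain ⟨t, ht⟩ := hsec g hg
  exact P.of_isPullback (isPullback_lift Y.hom g t ht) hsnd

theorem isFinite_of_isTorsorFor {G Y : Over X} [GrpObj G] (a : AlgGrp.Action G Y)
    (ha : NonAbH1.IsTorsorFor Scheme.fppfPrecoverage a) [IsFinite G.hom] : IsFinite Y.hom := by
  haveI : MorphismProperty.DescendsAlong @IsFinite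
      (@Surjective ⊓ @Flat ⊓ @QuasiCompact : MorphismProperty Scheme.{u}) :=
    Groth.Agent.S0084.result
  haveI : MorphismProperty.IsLocalAtTarget (@IsFinite : MorphismProperty Scheme.{u})
      Scheme.fppfPrecoverage.{u} := Groth.Agent.Lib.Helper5.isLocalAtTarget_fppf _
  exact prop_of_isTorsorFor @IsFinite Scheme.fppfPrecoverage a ha inferInstance

end Groth.Agent.Lib.Lead.TorsorFinite
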