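import Groth.Agent.Lib.Lead.Tw5

/-!
# Invertible modules generated by global sections (lead seat library)
-/

set_option autoImplicit false
universe u

open AlgebraicGeometry CategoryTheory Opposite TopologicalSpace MonoidalCategory Limits

namespace Groth.Agent.Lib.Lead.Inv

open Groth.Agent.Lib.Lead.QCohAff Groth.Agent.Lib.Helper60.TensorLib Groth.Agent.Lib.Lead.CohAff
open Groth.Agent.Lib.Helper35.GlobGen

variable {X : Scheme.{u}}

theorem isCoh_of_isInvertible {M : X.Modules} (hM : PicF.IsInvertible M) : Coh.IsCoh M := by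
  have hq := isQuasicoherent_of_isInvertible hM
  refine ⟨hq, isFiniteType_of_finite_sections M (fun x => ?_)⟩
  obtain ⟨U₀, hx₀, e₀, he₀⟩ := (isInvertible_iff_exists_isGen.mp hM) x
  obtain ⟨_, ⟨U, hU, rfl⟩, hxU, hUU₀⟩ :=
    X.isBasis_affineOpens.exists_subset_of_mem_open hx₀ U₀.2
  refine ⟨U, hU, hxU, ?_⟩
  have he := (he₀.res hUU₀) U le_rfl
  let φ : Γ(X, U) →ₗ[Γ(X, U)] Γ(M, U) :=
    LinearMap.toSpanSingleton Γ(X, U) Γ(M, U)
      (M.presheaf.map (homOfLE (le_refl U)).op (M.presheaf.map (homOfLE hUU₀).op e₀))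
  exact Module.Finite.of_surjective φ he.2

/-- An invertible module generated by its global sections: every point lies in some `X_σ`. -/
theorem exists_section_of_GG {M : X.Modules} (hM : PicF.IsInvertible M) (h : GG M) (x : X) :
    ∃ σ : Γ(M, ⊤), x ∈ CohB1.genLocus M (secHom M σ) := by
  obtain ⟨U, hxU, e, he⟩ := (isInvertible_iff_exists_isGen.mp hM) x
  obtain ⟨W, hW, hxW, hmem⟩ := h U e x hxU
  have heW := he.res hW
  by_contra hcon
  simp only [not_exists] at hcon
  -- the ideal of functions on `W` vanishing at `x`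
  let I : Ideal Γ(X, W) := Ideal.comap (X.presheaf.germ W x hxW).hom
    (IsLocalRing.maximalIdeal (X.presheaf.stalk x))
  have hI : ∀ a : Γ(X, W), a ∈ I ↔ x ∉ X.basicOpen a := by
    intro a
    rw [Scheme.mem_basicOpen X a x hxW]
    exact Iff.rfl
  -- the submodule of sections whose coefficient vanishes at `x`
  let N : Submodule Γ(X, W) Γ(M, W) :=
    { carrier := {y | heW.coeff le_rfl y ∈ I}
      add_mem' := fun {a b} ha hb => by
        change heW.coeff le_rfl (a + b) ∈ I
        rw [heW.coeff_add]
        exact I.add_mem ha hb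
      zero_mem' := by
        change heW.coeff le_rfl (0 : Γ(M, W)) ∈ I
        have h0 : heW.coeff le_rfl (0 : Γ(M, W)) = 0 := by
          have := heW.coeff_smul' le_rfl (0 : Γ(X, W)) (0 : Γ(M, W))
          rw [zero_smul, zero_mul] at this
          exact this
        rw [h0]
        exact I.zero_mem
      smul_mem' := fun r a ha => by
        change heW.coeff le_rfl (r • a) ∈ I
        rw [heW.coeff_smul']
        exact I.mul_mem_left r ha }
  have hle : Submodule.span Γ(X, W)
      (Set.range fun σ : Γ(M, ⊤) => M.presheaf.map (homOfLE (le_top : W ≤ ⊤)).op σ) ≤ N := by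
    rw [Submodule.span_le]
    rintro _ ⟨σ, rfl⟩
    change heW.coeff le_rfl (M.presheaf.map (homOfLE (le_top : W ≤ ⊤)).op σ) ∈ I
    rw [hI]
    intro hxa
    apply hcon σ
    refine (mem_genLocus_iff_of_isGen heW (secHom M σ) _ ?_ x hxW).mpr hxa
    rw [val_secHom]
    have := heW.coeff_smul le_rfl (M.presheaf.map (homOfLE (le_top : W ≤ ⊤)).op σ)
    rw [res_self] at this
    exact this
  have h1 : heW.coeff le_rfl (M.presheaf.map (homOfLE hW).op e) ∈ I := hle hmem
  have h2 : heW.coeff le_rfl (M.presheaf.map (homOfLE hW).op e) = 1 := by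
    have := heW.coeff_self (le_refl W)
    rw [res_self] at this
    exact this
  rw [h2, hI] at h1
  apply h1
  rw [Scheme.mem_basicOpen X (1 : Γ(X, W)) x hxW, map_one]
  exact isUnit_one

end Groth.Agent.Lib.Lead.Inv
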