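import Mathlib
import Groth.Prelude.Def_NonAbH2
import Groth.Prelude.Def_GmPts
import Groth.Agent.Lib.Lead.GaTorsor
import Groth.Agent.Lib.Lead.Hilbert90

/-!
# Torsors under the multiplicative group over a local scheme are trivial (lead)
-/

set_option autoImplicit false
universe u
open CategoryTheory CategoryTheory.Limits MonoidalCategory CartesianMonoidalCategory MonObj
  AlgebraicGeometry
open scoped TensorProduct

namespace Groth.Agent.Lib.Lead.GmTorsor

open Groth.Agent.Lib.Lead.GaTorsor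

section Un

variable {S : Scheme.{u}} (R : CommRingCat.{u}) (j : Spec R ⟶ S)
variable {B C : Type u} [CommRing B] [CommRing C] [Algebra R B] [Algebra R C]

/-- The invertible function attached to a point of the multiplicative group. -/
noncomputable def fnm (c : ov R j B ⟶ Red.Gm S) : B :=
  (Scheme.ΓSpecIso (CommRingCat.of B)).hom (Red.gmFn c)

theorem fnm_mul (c c' : ov R j B ⟶ Red.Gm S) : fnm R j (c * c') = fnm R j c * fnm R j c' := by
  unfold fnm
  rw [GmPts.gmFn_mul]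
  exact map_mul (Scheme.ΓSpecIso (CommRingCat.of B)).hom.hom _ _

theorem fnm_one : fnm R j (1 : ov R j B ⟶ Red.Gm S) = 1 := by
  unfold fnm
  have h : Red.gmFn (1 : ov R j B ⟶ Red.Gm S) = 1 := by
    rw [← GmPts.val_unitOfPt, GmPts.unitOfPt_one]
    rfl
  rw [h]
  exact map_one (Scheme.ΓSpecIso (CommRingCat.of B)).hom.hom

theorem fnm_mul_inv (c : ov R j B ⟶ Red.Gm S) : fnm R j c * fnm R j c⁻¹ = 1 := by
  rw [← fnm_mul, mul_inv_cancel, fnm_one]

theorem fnm_injective {c c' : ov R j B ⟶ Red.Gm S} (h : fnm R j c = fnm R j c') : c = c' := by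
  apply (GmPts.equiv (ov R j B)).injective
  apply Units.ext
  change Red.gmFn c = Red.gmFn c'
  have := congrArg (Scheme.ΓSpecIso (CommRingCat.of B)).inv h
  unfold fnm at this
  have e : ∀ y, (Scheme.ΓSpecIso (CommRingCat.of B)).inv
      ((Scheme.ΓSpecIso (CommRingCat.of B)).hom y) = y :=
    fun y => congr($((Scheme.ΓSpecIso (CommRingCat.of B)).hom_inv_id) y)
  rwa [e, e] at this

theorem fnm_comp (φ : B →ₐ[R] C) (c : ov R j B ⟶ Red.Gm S) :
    fnm R j (ovMap R j φ ≫ c) = φ (fnm R j c) := by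
  unfold fnm
  have h : Red.gmFn (ovMap R j φ ≫ c) = (ovMap R j φ).left.appTop (Red.gmFn c) := by
    rw [← GmPts.val_unitOfPt, GmPts.unitOfPt_comp]
    rfl
  rw [h]
  exact congr($(Scheme.ΓSpecIso_naturality (CommRingCat.ofHom φ.toRingHom)) (Red.gmFn c))

/-- The point of the multiplicative group attached to a unit. -/
noncomputable def ptm (b : Bˣ) : ov R j B ⟶ Red.Gm S :=
  GmPts.ptOfUnit (T := ov R j B) (Units.map
    (((Scheme.ΓSpecIso (CommRingCat.of B)).inv.hom : B →+* Γ(Spec (CommRingCat.of B), ⊤)) :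
      B →* Γ(Spec (CommRingCat.of B), ⊤)) b)

theorem fnm_ptm (b : Bˣ) : fnm R j (ptm R j b) = b := by
  unfold fnm ptm
  rw [← GmPts.val_unitOfPt, GmPts.unitOfPt_ptOfUnit]
  exact congr($((Scheme.ΓSpecIso (CommRingCat.of B)).inv_hom_id) (b : B))

end Un

section Main

variable {S : Scheme.{u}}

open Groth.Agent.Lib.Lead Groth.Agent.Lib.Lead.Hilbert90

/-- A pseudo-torsor under the multiplicative group which is smooth and surjective over `S` has a
section over every local affine scheme mapping to `S`. -/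
theorem exists_section_local (P : Over S) (a : AlgGrp.Action (Red.Gm S) P)
    (hps : NonAbH1.IsPseudoTorsorSch a) [Smooth P.hom] [Surjective P.hom]
    (R : CommRingCat.{u}) [IsLocalRing R] (j : Spec R ⟶ S) :
    ∃ s : Spec R ⟶ P.left, s ≫ P.hom = j := by
  obtain ⟨R', iR', iA', hEt, hFF, t₀, ht₀⟩ :=
    Groth.Agent.Lib.Lead.EtaleCoverSection.exists_etale_faithfullyFlat_section R
      (pullback.snd P.hom j)
  -- a prime over the closed point, and the localization there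
  obtain ⟨q, hq⟩ := PrimeSpectrum.comap_surjective_of_faithfullyFlat (A := R) (B := R')
    (IsLocalRing.closedPoint R)
  let A := Localization.AtPrime q.asIdeal
  haveI : Module.Flat R R' := inferInstance
  haveI : Module.Flat R A := Module.Flat.trans R R' A
  haveI : IsLocalHom (algebraMap R A) := by
    constructor
    intro r hr
    rw [IsScalarTower.algebraMap_apply R R' A, IsLocalization.AtPrime.isUnit_to_map_iff A q.asIdeal]
      at hr
    by_contra hnu
    apply hr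
    have h1 : r ∈ IsLocalRing.maximalIdeal R := (IsLocalRing.mem_maximalIdeal r).mpr hnu
    have h2 : (IsLocalRing.closedPoint R).asIdeal = Ideal.comap (algebraMap R R') q.asIdeal := by
      rw [← hq]; rfl
    change r ∈ (IsLocalRing.closedPoint R).asIdeal at h1
    rw [h2] at h1
    exact h1
  haveI hFFA : Module.FaithfullyFlat R A := Module.FaithfullyFlat.of_flat_of_isLocalHom
  let f : Spec (CommRingCat.of A) ⟶ Spec R := Spec.map (CommRingCat.ofHom (algebraMap R A))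
  let x : Spec (CommRingCat.of A) ⟶ P.left :=
    Spec.map (CommRingCat.ofHom (algebraMap R' A)) ≫ t₀ ≫ pullback.fst P.hom j
  have hx : x ≫ P.hom = f ≫ j := by
    change (Spec.map _ ≫ t₀ ≫ pullback.fst P.hom j) ≫ P.hom = _
    rw [Category.assoc, Category.assoc, pullback.condition, ← Category.assoc t₀, ht₀,
      ← Category.assoc, ← Spec.map_comp]
    congr 2
  let xO : ov R j A ⟶ P := Over.homMk x hx
  -- algebra maps
  let e₁ : A →ₐ[R] A ⊗[R] A := Algebra.TensorProduct.includeLeft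
  let e₂ : A →ₐ[R] A ⊗[R] A := Algebra.TensorProduct.includeRight
  have h121 : (J12 R A).comp e₁ = (J13 R A).comp e₁ := by
    ext r
    simp [J12, J13, e₁]
  have h122 : (J12 R A).comp e₂ = (J23 R A).comp e₁ := by
    ext r
    simp [J12, J23, e₁, e₂]
  have h132 : (J13 R A).comp e₂ = (J23 R A).comp e₂ := by
    ext r
    simp [J13, J23, e₂]
  obtain ⟨c, hc⟩ := TorsorPush.exists_act_eq a.act hps (ovMap R j e₁ ≫ xO) (ovMap R j e₂ ≫ xO)
  have hc' : smul a c (ovMap R j e₁ ≫ xO) = ovMap R j e₂ ≫ xO := hc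
  -- the cocycle condition
  have s1 : smul a (ovMap R j (J12 R A) ≫ c) (ovMap R j ((J12 R A).comp e₁) ≫ xO) =
      ovMap R j ((J12 R A).comp e₂) ≫ xO := by
    rw [ovMap_comp, Category.assoc, ← comp_smul, hc', ← Category.assoc, ← ovMap_comp]
  have s2 : smul a (ovMap R j (J23 R A) ≫ c) (ovMap R j ((J12 R A).comp e₂) ≫ xO) =
      ovMap R j ((J23 R A).comp e₂) ≫ xO := by
    rw [h122, ovMap_comp, Category.assoc, ← comp_smul, hc', ← Category.assoc, ← ovMap_comp]
  have s3 : smul a (ovMap R j (J13 R A) ≫ c) (ovMap R j ((J12 R A).comp e₁) ≫ xO) =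
      ovMap R j ((J23 R A).comp e₂) ≫ xO := by
    rw [h121, ovMap_comp, Category.assoc, ← comp_smul, hc', ← Category.assoc, ← ovMap_comp, h132]
  have hcoc : (ovMap R j (J23 R A) ≫ c) * (ovMap R j (J12 R A) ≫ c) = ovMap R j (J13 R A) ≫ c := by
    apply TorsorPush.act_injective a.act hps (ovMap R j ((J12 R A).comp e₁) ≫ xO)
    change smul a _ _ = smul a _ _
    rw [GaTorsor.mul_smul, s1, s2, s3]
  have hcoc' : J23 R A (fnm R j c) * J12 R A (fnm R j c) = J13 R A (fnm R j c) := by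
    have := congrArg (fnm R j) hcoc
    rwa [fnm_mul, fnm_comp, fnm_comp, fnm_comp] at this
  obtain ⟨b, hb⟩ := Hilbert90.exists_unit (fnm R j c) (fnm R j c⁻¹) (fnm_mul_inv R j c) hcoc'
  -- modify the point
  have hx' : ovMap R j e₁ ≫ smul a (ptm R j b⁻¹) xO = ovMap R j e₂ ≫ smul a (ptm R j b⁻¹) xO := by
    rw [comp_smul, comp_smul, ← hc', ← GaTorsor.mul_smul]
    congr 1
    apply fnm_injective
    rw [fnm_mul, fnm_comp, fnm_comp, fnm_ptm]
    change ((b⁻¹ : Aˣ) : A) ⊗ₜ[R] (1 : A) = (1 : A) ⊗ₜ[R] ((b⁻¹ : Aˣ) : A) * fnm R j c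
    have k1 : ((b : A) ⊗ₜ[R] (1 : A)) * (((b⁻¹ : Aˣ) : A) ⊗ₜ[R] (1 : A)) = 1 := by
      rw [Algebra.TensorProduct.tmul_mul_tmul, Units.mul_inv, _root_.mul_one]
      rfl
    have k2 : ((1 : A) ⊗ₜ[R] (b : A)) * ((1 : A) ⊗ₜ[R] ((b⁻¹ : Aˣ) : A)) = 1 := by
      rw [Algebra.TensorProduct.tmul_mul_tmul, Units.mul_inv, _root_.mul_one]
      rfl
    calc ((b⁻¹ : Aˣ) : A) ⊗ₜ[R] (1 : A)
        = (((1 : A) ⊗ₜ[R] (b : A)) * ((1 : A) ⊗ₜ[R] ((b⁻¹ : Aˣ) : A))) *
            (((b⁻¹ : Aˣ) : A) ⊗ₜ[R] (1 : A)) := by rw [k2, _root_.one_mul]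
      _ = ((fnm R j c * ((b : A) ⊗ₜ[R] (1 : A))) * ((1 : A) ⊗ₜ[R] ((b⁻¹ : Aˣ) : A))) *
            (((b⁻¹ : Aˣ) : A) ⊗ₜ[R] (1 : A)) := by rw [hb]
      _ = ((1 : A) ⊗ₜ[R] ((b⁻¹ : Aˣ) : A) * fnm R j c) *
            (((b : A) ⊗ₜ[R] (1 : A)) * (((b⁻¹ : Aˣ) : A) ⊗ₜ[R] (1 : A))) := by ring
      _ = (1 : A) ⊗ₜ[R] ((b⁻¹ : Aˣ) : A) * fnm R j c := by rw [k1, _root_.mul_one]
  -- descent along `f`
  have hff : (CommRingCat.ofHom (algebraMap R A)).hom.FaithfullyFlat :=
    RingHom.faithfullyFlat_algebraMap_iff.mpr hFFA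
  obtain ⟨hfl, hsu⟩ := (flat_and_surjective_SpecMap_iff (CommRingCat.ofHom (algebraMap R A))).mpr hff
  haveI : Flat f := hfl
  haveI : Surjective f := hsu
  haveI : EffectiveEpi f := inferInstance
  have hpb : IsPullback (Spec.map (CommRingCat.ofHom e₁.toRingHom))
      (Spec.map (CommRingCat.ofHom e₂.toRingHom)) f f :=
    isPullback_SpecMap_of_isPushout _ _ _ _ (CommRingCat.isPushout_tensorProduct R A A)
  let xl : Spec (CommRingCat.of A) ⟶ P.left := (smul a (ptm R j b⁻¹) xO).left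
  have hxl : Spec.map (CommRingCat.ofHom e₁.toRingHom) ≫ xl =
      Spec.map (CommRingCat.ofHom e₂.toRingHom) ≫ xl := congrArg CommaMorphism.left hx'
  have hdesc : ∀ {Z : Scheme.{u}} (g₁ g₂ : Z ⟶ Spec (CommRingCat.of A)), g₁ ≫ f = g₂ ≫ f →
      g₁ ≫ xl = g₂ ≫ xl := by
    intro Z g₁ g₂ h
    obtain ⟨l, hl1, hl2⟩ : ∃ l : Z ⟶ Spec (CommRingCat.of (A ⊗[R] A)),
        l ≫ Spec.map (CommRingCat.ofHom e₁.toRingHom) = g₁ ∧
        l ≫ Spec.map (CommRingCat.ofHom e₂.toRingHom) = g₂ :=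
      ⟨hpb.lift g₁ g₂ h, hpb.lift_fst g₁ g₂ h, hpb.lift_snd g₁ g₂ h⟩
    rw [← hl1, ← hl2, Category.assoc, Category.assoc, hxl]
  refine ⟨EffectiveEpi.desc f xl hdesc, ?_⟩
  rw [← cancel_epi f, ← Category.assoc, EffectiveEpi.fac]
  exact Over.w (smul a (ptm R j b⁻¹) xO)

end Main

section Smooth

open Polynomial LaurentPolynomial

theorem smooth_laurent (R : Type u) [CommRing R] : Algebra.Smooth R R[T;T⁻¹] := by
  haveI : Algebra.Smooth R[X] R[T;T⁻¹] := Algebra.Smooth.of_isLocalization_Away (X : R[X])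
  haveI : IsScalarTower R R[X] R[T;T⁻¹] := IsScalarTower.of_algebraMap_eq (by
    intro r
    rw [LaurentPolynomial.algebraMap_eq_toLaurent, LaurentPolynomial.algebraMap_apply,
      Polynomial.algebraMap_apply, Polynomial.toLaurent_C])
  haveI : Algebra.Smooth R R[X] := ⟨inferInstance, inferInstance⟩
  exact Algebra.Smooth.comp R R[X] R[T;T⁻¹]

theorem smooth_monoidAlgebra (R : Type u) [CommRing R] :
    Algebra.Smooth R (MonoidAlgebra R (Multiplicative ℤ)) := by
  haveI := smooth_laurent R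
  exact Algebra.Smooth.of_equiv (AddMonoidAlgebra.toMultiplicativeAlgEquiv R R ℤ)

theorem smooth_GmZ : Smooth (GmPts.GmZ.{u}).hom := by
  change Smooth (Spec.map (CommRingCat.ofHom (algebraMap (ULift.{u} ℤ)
      (MonoidAlgebra (ULift.{u} ℤ) (Multiplicative ℤ)))))
  rw [HasRingHomProperty.Spec_iff (P := @Smooth)]
  exact RingHom.smooth_algebraMap.mpr (smooth_monoidAlgebra _)

theorem smooth_Gm (S : Scheme.{u}) : Smooth (Red.Gm S).hom := by
  haveI := smooth_GmZ.{u}
  change Smooth (pullback.snd _ _)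
  infer_instance

end Smooth

end Groth.Agent.Lib.Lead.GmTorsor
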