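import Groth.Agent.Lib.Helper76.ArtFibre
import Mathlib.RingTheory.Henselian
import Mathlib.FieldTheory.Separable
import Mathlib.Algebra.Polynomial.Lifts
import Mathlib.Tactic

/-!
# Hensel lifting in `ArtFun.Art Λ k` (lead seat library)

* `isAdicComplete_of_pow_eq_bot`: a ring is `I`-adically complete when `I` is nilpotent.
* `Art.exists_root_lift`: simple roots in `k` of monic polynomials over `Λ` lift to every object.
* `Art.root_unique`: two roots with the same residue, at which the derivative is a unit, coincide.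
* `Art.exists_compatible_lift`: if `k` is separable over the image of `Λ`, then for every `c : k`
  there is a monic `P : Λ[X]` having in each object `A` a unique root with residue `c`.
-/

set_option autoImplicit false
universe u v

open CategoryTheory ArtFun ArtFun.Art Polynomial

namespace Groth.Agent.Lib.Lead.ArtHensel

theorem isAdicComplete_of_pow_eq_bot {R : Type*} [CommRing R] (I : Ideal R) (n : ℕ)
    (h : I ^ n = ⊥) : IsAdicComplete I R := by
  have hbot : (I ^ n • ⊤ : Submodule R R) = ⊥ := by rw [h, Submodule.bot_smul]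
  haveI : IsHausdorff I R := ⟨fun x hx => by
    have := hx n
    rw [hbot] at this
    exact SModEq.bot.1 this⟩
  haveI : IsPrecomplete I R := ⟨fun f hf => ⟨f n, fun m => by
    rcases le_total m n with hmn | hnm
    · exact hf hmn
    · have := hf hnm
      rw [hbot] at this
      rw [SModEq.bot.1 this]⟩⟩
  exact {}

variable {Λ : Type u} {k : Type u} [CommRing Λ] [Field k] [Algebra Λ k]

theorem isAdicComplete_art (A : Art Λ k) : IsAdicComplete (IsLocalRing.maximalIdeal A) A := by
  obtain ⟨n, hn⟩ := IsArtinianRing.isNilpotent_jacobson_bot (R := A)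
  rw [IsLocalRing.jacobson_eq_maximalIdeal ⊥ bot_ne_top] at hn
  exact isAdicComplete_of_pow_eq_bot _ n hn

theorem res_eval_map (A : Art Λ k) (P : Λ[X]) (a : A) :
    A.res ((P.map (algebraMap Λ A)).eval a) = P.eval₂ (algebraMap Λ k) (A.res a) := by
  rw [eval_map]
  have := hom_eval₂ P (algebraMap Λ A) (A.res : A →+* k) a
  rw [AlgHom.comp_algebraMap] at this
  exact this

theorem hom_eval_map {A B : Art Λ k} (f : A ⟶ B) (P : Λ[X]) (a : A) :
    f ((P.map (algebraMap Λ A)).eval a) = (P.map (algebraMap Λ B)).eval (f a) := by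
  rw [eval_map, eval_map]
  have := hom_eval₂ P (algebraMap Λ A) (f.toAlgHom : A →+* B) a
  rw [AlgHom.comp_algebraMap] at this
  exact this

/-- Hensel's lemma in an object of `Art Λ k`. -/
theorem exists_root_lift (A : Art Λ k) (P : Λ[X]) (hP : P.Monic) (c : k)
    (h0 : P.eval₂ (algebraMap Λ k) c = 0) (h1 : P.derivative.eval₂ (algebraMap Λ k) c ≠ 0) :
    ∃ a : A, (P.map (algebraMap Λ A)).IsRoot a ∧ A.res a = c := by
  haveI := isAdicComplete_art A
  obtain ⟨a₀, ha₀⟩ := A.res_surjective c
  have hmon : (P.map (algebraMap Λ A)).Monic := hP.map _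
  have hev : (P.map (algebraMap Λ A)).eval a₀ ∈ IsLocalRing.maximalIdeal A := by
    rw [Art.mem_maximalIdeal_iff, res_eval_map, ha₀, h0]
  have hder : IsUnit ((P.map (algebraMap Λ A)).derivative.eval a₀) := by
    by_contra hnu
    have hm : (P.map (algebraMap Λ A)).derivative.eval a₀ ∈ IsLocalRing.maximalIdeal A :=
      (IsLocalRing.mem_maximalIdeal _).2 hnu
    rw [Art.mem_maximalIdeal_iff, derivative_map, res_eval_map, ha₀] at hm
    exact h1 hm
  obtain ⟨a, ha, haa⟩ := HenselianRing.is_henselian (I := IsLocalRing.maximalIdeal A)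
    (P.map (algebraMap Λ A)) hmon a₀ hev (hder.map _)
  refine ⟨a, ha, ?_⟩
  rw [Art.mem_maximalIdeal_iff, map_sub, sub_eq_zero] at haa
  rw [haa, ha₀]

/-- Simple roots with the same residue coincide. -/
theorem root_unique (A : Art Λ k) (Q : A[X]) (x y : A) (hx : Q.IsRoot x) (hy : Q.IsRoot y)
    (hxy : A.res x = A.res y) (hder : IsUnit (Q.derivative.eval x)) : x = y := by
  obtain ⟨z, hz⟩ := Q.binomExpansion x (y - x)
  rw [add_sub_cancel, hx.eq_zero, hy.eq_zero] at hz
  have hm : y - x ∈ IsLocalRing.maximalIdeal A := by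
    rw [Art.mem_maximalIdeal_iff, map_sub, hxy, sub_self]
  have hu : IsUnit (Q.derivative.eval x + z * (y - x)) := by
    by_contra hnu
    have h1 : Q.derivative.eval x + z * (y - x) ∈ IsLocalRing.maximalIdeal A :=
      (IsLocalRing.mem_maximalIdeal _).2 hnu
    have h2 : z * (y - x) ∈ IsLocalRing.maximalIdeal A := Ideal.mul_mem_left _ _ hm
    have h3 : Q.derivative.eval x ∈ IsLocalRing.maximalIdeal A := by
      have := Ideal.sub_mem _ h1 h2
      simpa using this
    exact (IsLocalRing.mem_maximalIdeal _).1 h3 hder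
  have h0 : (Q.derivative.eval x + z * (y - x)) * (y - x) = 0 := by
    linear_combination -hz
  have := hu.mul_right_eq_zero.1 h0
  exact (sub_eq_zero.1 this).symm

/-- Every element of `k` separable over the image of `Λ` is a simple root of a monic polynomial
with coefficients in `Λ`. -/
theorem exists_monic_simple_root [Algebra.IsSeparable (↥(algebraMap Λ k).range) k] (c : k) :
    ∃ P : Λ[X], P.Monic ∧ P.eval₂ (algebraMap Λ k) c = 0 ∧
      P.derivative.eval₂ (algebraMap Λ k) c ≠ 0 := by
  have hsep : IsSeparable (↥(algebraMap Λ k).range) c := Algebra.IsSeparable.isSeparable _ c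
  have hint : IsIntegral (↥(algebraMap Λ k).range) c := hsep.isIntegral
  set p := minpoly (↥(algebraMap Λ k).range) c with hp
  have hmon : p.Monic := minpoly.monic hint
  have hroot : aeval c p = 0 := minpoly.aeval _ c
  have hsep' : p.Separable := hsep
  set φ : Λ →+* ↥(algebraMap Λ k).range := (algebraMap Λ k).rangeRestrict with hφ
  have hφs : Function.Surjective φ := (algebraMap Λ k).rangeRestrict_surjective
  have hlift : p ∈ lifts φ := by
    rw [mem_lifts]
    exact map_surjective φ hφs p
  obtain ⟨P, hPp, -, hPmon⟩ := lifts_and_natDegree_eq_and_monic hlift hmon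
  have hcomp : (algebraMap (↥(algebraMap Λ k).range) k).comp φ = algebraMap Λ k := by
    ext l
    rfl
  refine ⟨P, hPmon, ?_, ?_⟩
  · rw [← hcomp, ← eval₂_map, hPp]
    exact hroot
  · rw [← hcomp, ← eval₂_map, ← derivative_map, hPp]
    exact hsep'.eval₂_derivative_ne_zero _ hroot

end Groth.Agent.Lib.Lead.ArtHensel
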