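import Mathlib.RingTheory.AdicCompletion.Functoriality
import Mathlib.RingTheory.AdicCompletion.Noetherian
import Mathlib.RingTheory.Nakayama
import Mathlib.RingTheory.LocalRing.MaximalIdeal.Basic
import Mathlib.Tactic

/-!
# Basic facts on local rings with the same residue field (lead seat library)

`surjective_of_cotangent`: a ring map `f : A → B` of local rings, inducing a surjection on residue
fields, with `A` complete, `B` separated and `m_B` finitely generated, is surjective as soon as
`f(m_A)B + m_B² = m_B`.
-/

namespace Groth.Agent.Lib.Lead.ArtBasic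

open IsLocalRing

variable {A B : Type*} [CommRing A] [CommRing B] [IsLocalRing A] [IsLocalRing B]

/-- Nakayama: `f(m_A)B + m_B² = m_B` forces `f(m_A)B = m_B`. -/
theorem map_maximalIdeal_eq (f : A →+* B) (hfg : (maximalIdeal B).FG)
    (hle : Ideal.map f (maximalIdeal A) ≤ maximalIdeal B)
    (h : maximalIdeal B ≤ Ideal.map f (maximalIdeal A) ⊔ maximalIdeal B ^ 2) :
    Ideal.map f (maximalIdeal A) = maximalIdeal B := by
  apply le_antisymm hle
  apply Submodule.le_of_le_smul_of_le_jacobson_bot hfg (maximalIdeal_le_jacobson ⊥)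
  rw [sq] at h
  exact h

theorem surjective_of_cotangent (f : A →+* B) [IsPrecomplete (maximalIdeal A) A]
    [IsHausdorff (maximalIdeal B) B] (hfg : (maximalIdeal B).FG)
    (hres : ∀ b : B, ∃ a : A, b - f a ∈ maximalIdeal B)
    (hle : Ideal.map f (maximalIdeal A) ≤ maximalIdeal B)
    (h : maximalIdeal B ≤ Ideal.map f (maximalIdeal A) ⊔ maximalIdeal B ^ 2) :
    Function.Surjective f := by
  have heq := map_maximalIdeal_eq f hfg hle h
  haveI : IsHausdorff ((maximalIdeal A).map f) B := by rw [heq]; infer_instance
  apply surjective_of_mk_map_comp_surjective (I := maximalIdeal A) f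
  intro x
  obtain ⟨b, rfl⟩ := Ideal.Quotient.mk_surjective x
  obtain ⟨a, ha⟩ := hres b
  refine ⟨a, ?_⟩
  rw [RingHom.comp_apply, eq_comm, Ideal.Quotient.eq, heq]
  exact ha

end Groth.Agent.Lib.Lead.ArtBasic
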