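import Groth.Agent.Lib.Lead.SerreRel

/-!
# Serre's criterion for affineness, relative form with a class of test modules (lead seat library)

`isAffineOpen_of_surjOnP`: as `isAffineOpen_of_surjOn`, but surjectivity on `W`-sections is only
required for epimorphisms whose source lies in a class `P` of modules containing `O_X`, the ideal
sheaves, and stable under `A ↦ A ⊞ I`.
-/

set_option autoImplicit false
universe u

open AlgebraicGeometry CategoryTheory Opposite TopologicalSpace MonoidalCategory Limits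

namespace Groth.Agent.Lib.Lead.Inv

open Groth.Agent.Lib.Lead.QCohAff Groth.Agent.Lib.Helper22.IdealModAff
  Groth.Agent.Lib.Helper35.GlobGen Groth.Agent.Lib.Lead.SheafGlue

variable {X : Scheme.{u}}

/-- Epimorphisms of quasi-coherent modules with source in `P` are surjective on sections over
`W`. -/
def SurjOnP (P : X.Modules → Prop) (W : X.Opens) : Prop :=
  ∀ (F F'' : X.Modules) (p : F ⟶ F''), P F → F.IsQuasicoherent → F''.IsQuasicoherent → Epi p →
    Function.Surjective (p.app W).hom

/-- Right exactness of sections over `W`: a section which is locally in the image of `φ` is in the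
image of `φ`. -/
theorem exists_lift_of_locallyP (P : X.Modules → Prop) (W : X.Opens) (HS : SurjOnP P W) {A B : X.Modules} (hPA : P A)
    [A.IsQuasicoherent] [B.IsQuasicoherent] (φ : A ⟶ B) (s : Γ(B, W))
    (hloc : ∀ y ∈ W, ∃ (W' : X.Opens) (hW' : W' ≤ W), y ∈ W' ∧
      ∃ a : Γ(A, W'), (φ.app W').hom a = B.presheaf.map (homOfLE hW').op s) :
    ∃ a : Γ(A, W), (φ.app W).hom a = s := by
  haveI hC : (cokernel φ).IsQuasicoherent :=
    Groth.Agent.Lib.Helper21.QCohKernel.isQuasicoherent_cokernel φ
  haveI hJ : (kernel (cokernel.π φ)).IsQuasicoherent :=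
    Groth.Agent.Lib.Helper2.KerSec.isQuasicoherent_kernel (cokernel.π φ)
  have h0 : ((cokernel.π φ).app W).hom s = 0 := by
    choose W' hW' hyW' a ha using hloc
    refine (shf (cokernel φ)).eq_of_locally_eq' (fun y : W => W' y.1 y.2) W
      (fun y => homOfLE (hW' y.1 y.2)) ?_ _ _ ?_
    · intro y hy
      exact Opens.mem_iSup.mpr ⟨⟨y, hy⟩, hyW' y hy⟩
    · intro y
      change (cokernel φ).presheaf.map (homOfLE (hW' y.1 y.2)).op (((cokernel.π φ).app W).hom s) =
        (cokernel φ).presheaf.map (homOfLE (hW' y.1 y.2)).op 0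
      rw [hom_app_res, ← ha y.1 y.2, map_zero]
      have := congrArg (fun ψ : A ⟶ cokernel φ => (ψ.app (W' y.1 y.2)).hom (a y.1 y.2))
        (cokernel.condition φ)
      exact this
  obtain ⟨t, ht⟩ := Groth.Agent.Lib.Helper2.KerSec.exists_of_app_eq_zero (cokernel.π φ) W s h0
  obtain ⟨a, ha⟩ := HS _ _ (Abelian.factorThruImage φ) hPA inferInstance hJ inferInstance t
  refine ⟨a, ?_⟩
  have := congrArg (fun ψ : A ⟶ B => (ψ.app W).hom a) (Abelian.image.fac φ)
  refine this.symm.trans ?_
  change ((Abelian.image.ι φ).app W).hom (((Abelian.factorThruImage φ).app W).hom a) = s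
  rw [ha]
  exact ht

theorem exists_gen_of_closedInP (P : X.Modules → Prop) (hPI : ∀ I : X.IdealSheafData, P (ClSub.idealMod I))
    (W : X.Opens) (HS : SurjOnP P W) (x : X)
    (hx : closure ({x} : Set X) ∩ W ⊆ {x}) {U : X.Opens} (hU : IsAffineOpen U) (hxU : x ∈ U)
    (hUW : U ≤ W) :
    ∃ g : Γ(ClSub.idealMod (IU U), W), x ∈ X.basicOpen (incl (IU U) W g) := by
  haveI : (Coh.structureModule (Spec (X.residueField x))).IsQuasicoherent :=
    structureModule_isQuasicoherent _
  haveI hq : ((Scheme.Modules.pushforward (X.fromSpecResidueField x)).obj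
      (Coh.structureModule (Spec (X.residueField x)))).IsQuasicoherent := inferInstance
  obtain ⟨a₁, ha₁⟩ := exists_incl_eq_one hU
  obtain ⟨g, hg⟩ := exists_lift_of_locallyP P W HS (hPI (IU U)) (inclHom (IU U) ≫ evPt x)
    (show Γ(Spec (X.residueField x), (X.fromSpecResidueField x) ⁻¹ᵁ W) from 1) (by
      intro y hyW
      by_cases hyx : y = x
      · subst hyx
        refine ⟨U, hUW, hxU, a₁, ?_⟩
        rw [Scheme.Modules.Hom.comp_app]
        change ((evPt y).app U).hom (incl (IU U) U a₁) = _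
        rw [ha₁, evPt_app, map_one]
        exact (map_one ((Spec (X.residueField y)).presheaf.map
          (homOfLE ((X.fromSpecResidueField y).preimage_mono hUW)).op).hom).symm
      · have hycl : y ∉ closure ({x} : Set X) := fun h => hyx (hx ⟨h, hyW⟩)
        let W₂ : X.Opens := W ⊓ ⟨(closure ({x} : Set X))ᶜ, isClosed_closure.isOpen_compl⟩
        have hxW₂ : x ∉ W₂ := fun h => h.2 (subset_closure rfl)
        haveI := subsingleton_evPt_of_notMem x hxW₂
        exact ⟨W₂, inf_le_left, ⟨hyW, hycl⟩, 0, Subsingleton.elim _ _⟩)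
  refine ⟨g, mem_basicOpen_of_app_eq_one x (hUW hxU) _ ?_⟩
  rw [Scheme.Modules.Hom.comp_app] at hg
  exact hg

theorem exists_mem_affGensP (P : X.Modules → Prop) (hPI : ∀ I : X.IdealSheafData, P (ClSub.idealMod I))
    (W : X.Opens) (hW : IsCompact (W : Set X)) (HS : SurjOnP P W) (y : X)
    (hy : y ∈ W) : ∃ h ∈ affGens W, y ∈ X.basicOpen h := by
  obtain ⟨x, hxW, hxy, hx⟩ := exists_closedIn W hW y hy
  obtain ⟨_, ⟨U, hU, rfl⟩, hxU, hUW0⟩ :=
    X.isBasis_affineOpens.exists_subset_of_mem_open hxW W.isOpen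
  have hUW : U ≤ W := fun z hz => hUW0 hz
  obtain ⟨g, hg⟩ := exists_gen_of_closedInP P hPI W HS x hx hU hxU hUW
  refine ⟨_, ⟨U, hU, hUW, g, rfl⟩, ?_⟩
  obtain ⟨z, hz, hzy⟩ := mem_closure_iff.mp hxy _ (X.basicOpen _).isOpen hg
  rw [Set.mem_singleton_iff] at hzy
  exact hzy ▸ hz

theorem exists_sum_moduleP (P : X.Modules → Prop) (hP1 : P (Coh.structureModule X))
    (hPb : ∀ (A : X.Modules) (I : X.IdealSheafData), A.IsQuasicoherent → P A →
      P (A ⊞ ClSub.idealMod I)) (W : X.Opens) (h : W → Γ(X, W)) (hh : ∀ y, h y ∈ affGens W)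
    (t : Finset W) :
    ∃ (A : X.Modules) (_ : A.IsQuasicoherent) (_ : P A) (φ : A ⟶ Coh.structureModule X),
      (∀ a : Γ(A, W), (show Γ(X, W) from (φ.app W).hom a) ∈ Ideal.span (affGens W)) ∧
      ∀ y ∈ t, ∀ z ∈ X.basicOpen (h y), LocOne W φ z := by
  classical
  induction t using Finset.induction_on with
  | empty =>
    refine ⟨Coh.structureModule X, structureModule_isQuasicoherent X, hP1, 0, ?_, ?_⟩
    · intro a
      exact Ideal.zero_mem _
    · intro y hy
      exact absurd hy (Finset.notMem_empty y)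
  | insert y t hyt ih =>
    obtain ⟨A, hA, hPA, φ, h1, h2⟩ := ih
    obtain ⟨U, hU, hUW, g, hg⟩ := hh y
    haveI := hA
    refine ⟨A ⊞ ClSub.idealMod (IU U),
      Groth.Agent.Lib.Helper2.KerSec.isQuasicoherent_biprod A (ClSub.idealMod (IU U)),
      hPb A (IU U) hA hPA, biprod.desc φ (inclHom (IU U)), ?_, ?_⟩
    · intro s
      have e := Groth.Agent.Lib.Helper2.KerSec.biprod_total_apply A (ClSub.idealMod (IU U)) W s
      have e2 := congrArg (fun v => ((biprod.desc φ (inclHom (IU U))).app W).hom v) e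
      simp only [map_add] at e2
      have e3 : ((biprod.desc φ (inclHom (IU U))).app W).hom
          (((biprod.inl : A ⟶ A ⊞ ClSub.idealMod (IU U)).app W).hom
            (((biprod.fst : A ⊞ ClSub.idealMod (IU U) ⟶ A).app W).hom s)) =
          (φ.app W).hom (((biprod.fst : A ⊞ ClSub.idealMod (IU U) ⟶ A).app W).hom s) := by
        have := congrArg (fun ψ : A ⟶ Coh.structureModule X =>
          (ψ.app W).hom (((biprod.fst : A ⊞ ClSub.idealMod (IU U) ⟶ A).app W).hom s))
          (biprod.inl_desc φ (inclHom (IU U)))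
        exact this
      have e4 : ((biprod.desc φ (inclHom (IU U))).app W).hom
          (((biprod.inr : ClSub.idealMod (IU U) ⟶ A ⊞ ClSub.idealMod (IU U)).app W).hom
            (((biprod.snd : A ⊞ ClSub.idealMod (IU U) ⟶ _).app W).hom s)) =
          ((inclHom (IU U)).app W).hom
            (((biprod.snd : A ⊞ ClSub.idealMod (IU U) ⟶ _).app W).hom s) := by
        have := congrArg (fun ψ : ClSub.idealMod (IU U) ⟶ Coh.structureModule X =>
          (ψ.app W).hom (((biprod.snd : A ⊞ ClSub.idealMod (IU U) ⟶ _).app W).hom s))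
          (biprod.inr_desc φ (inclHom (IU U)))
        exact this
      rw [← e2]
      refine Ideal.add_mem _ ?_ ?_
      · exact (congrArg (fun v : Γ(X, W) => v ∈ Ideal.span (affGens W)) e3).mpr (h1 _)
      · refine (congrArg (fun v : Γ(X, W) => v ∈ Ideal.span (affGens W)) e4).mpr ?_
        exact Ideal.subset_span ⟨U, hU, hUW, _, rfl⟩
    · intro y' hy' z hz
      rw [Finset.mem_insert] at hy'
      rcases hy' with rfl | hy'
      · rw [← hg] at hz
        obtain ⟨W', hW', hzW', a, ha⟩ := locOne_of_mem_basicOpen (IU U) g z hz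
        refine ⟨W', hW', hzW', ((biprod.inr : _ ⟶ A ⊞ ClSub.idealMod (IU U)).app W').hom a, ?_⟩
        have := congrArg (fun ψ : ClSub.idealMod (IU U) ⟶ Coh.structureModule X =>
          (ψ.app W').hom a) (biprod.inr_desc φ (inclHom (IU U)))
        exact this.trans ha
      · obtain ⟨W', hW', hzW', a, ha⟩ := h2 y' hy' z hz
        refine ⟨W', hW', hzW', ((biprod.inl : _ ⟶ A ⊞ ClSub.idealMod (IU U)).app W').hom a, ?_⟩
        have := congrArg (fun ψ : A ⟶ Coh.structureModule X =>
          (ψ.app W').hom a) (biprod.inl_desc φ (inclHom (IU U)))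
        exact this.trans ha


/-- Serre's criterion, relative form: a quasi-compact open `W` on which sections are right exact
for quasi-coherent modules is affine. -/
theorem isAffineOpen_of_surjOnP (P : X.Modules → Prop) (hP1 : P (Coh.structureModule X))
    (hPI : ∀ I : X.IdealSheafData, P (ClSub.idealMod I))
    (hPb : ∀ (A : X.Modules) (I : X.IdealSheafData), A.IsQuasicoherent → P A →
      P (A ⊞ ClSub.idealMod I))
    (W : X.Opens) (hW : IsCompact (W : Set X)) (HS : SurjOnP P W) :
    IsAffineOpen W := by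
  choose h hh hyh using fun y : W => exists_mem_affGensP P hPI W hW HS y.1 y.2
  obtain ⟨t, ht⟩ := hW.elim_finite_subcover (fun y : W => (X.basicOpen (h y) : Set X))
    (fun y => (X.basicOpen (h y)).isOpen)
    (fun z hz => Set.mem_iUnion.mpr ⟨⟨z, hz⟩, hyh ⟨z, hz⟩⟩)
  obtain ⟨A, hA, hPA, φ, h1, h2⟩ := exists_sum_moduleP P hP1 hPb W h hh t
  haveI := hA
  haveI := structureModule_isQuasicoherent X
  obtain ⟨a, ha⟩ := exists_lift_of_locallyP P W HS hPA φ
    (show Γ(Coh.structureModule X, W) from (1 : Γ(X, W))) (fun z hz => by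
      obtain ⟨y, hy⟩ := Set.mem_iUnion.mp (ht hz)
      obtain ⟨hyt, hzy⟩ := Set.mem_iUnion.mp hy
      exact h2 y hyt z hzy)
  have hspan : Ideal.span (affGens W) = ⊤ := by
    rw [Ideal.eq_top_iff_one]
    have := h1 a
    rw [ha] at this
    exact this
  exact isAffineOpen_of_isAffineOpen_basicOpen W (affGens W) hspan
    (fun i hi => isAffineOpen_basicOpen_of_mem_affGens hi)

end Groth.Agent.Lib.Lead.Inv
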