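import Groth.Agent.Lib.Helper68.RightDerivedLES
import Groth.Agent.Lib.Helper42.ModSheaf
import Groth.Agent.Lib.Lead.SerreRelP

/-!
# Serre's criterion for affineness via vanishing of `R¹f_*` on quasi-coherent ideals
(lead seat library)
-/

set_option autoImplicit false
universe v u v' u'

open CategoryTheory Category Limits AlgebraicGeometry TopologicalSpace

namespace Groth.Agent.Lib.Lead.SerreH1

section Abstract

variable {C : Type u} [Category.{v} C] [Abelian C] [HasInjectiveResolutions C]
variable {D : Type u'} [Category.{v'} D] [Abelian D] (F : C ⥤ D) [F.Additive]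
  [PreservesFiniteLimits F]

open Groth.Agent.Lib.Helper68 in
/-- If `R¹F` vanishes on the kernel, the left exact functor `F` preserves the epimorphism. -/
theorem epi_map_of_isZero_rightDerived_one {S : ShortComplex C} (hS : S.ShortExact)
    (h : IsZero ((F.rightDerived 1).obj S.X₁)) : Epi (F.map S.g) := by
  have h1 : Epi ((F.rightDerived 0).map S.g) :=
    (RightDerivedLES.exact₃ F hS 0).epi_f (h.eq_of_tgt _ _)
  have h2 : F.map S.g = F.toRightDerivedZero.app S.X₂ ≫ (F.rightDerived 0).map S.g ≫
      F.rightDerivedZeroIsoSelf.hom.app S.X₃ := by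
    rw [← Category.assoc, ← F.toRightDerivedZero.naturality, Category.assoc,
      Functor.rightDerivedZeroIsoSelf_inv_hom_id_app, Category.comp_id]
  rw [h2]
  haveI : Epi (F.toRightDerivedZero.app S.X₂) := by
    haveI : IsIso (F.toRightDerivedZero.app S.X₂) := inferInstance
    infer_instance
  exact epi_comp _ _

end Abstract

variable {X Y : Scheme.{u}} (f : X ⟶ Y)

instance : PreservesFiniteLimits (Coh.pushAb f) := by
  haveI : (Coh.pushAb f).IsRightAdjoint :=
    (TopCat.Sheaf.pullbackPushforwardAdjunction AddCommGrpCat.{u} f.base).isRightAdjoint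
  infer_instance

open Groth.Agent.Lib.Helper42.ModSheaf in
/-- A short exact sequence of modules gives a short exact sequence of abelian sheaves. -/
theorem shortExact_toSheaf {A B : X.Modules} (e : A ⟶ B) [Epi e] :
    ((ShortComplex.mk (C := SheafOfModules.{u} X.ringCatSheaf) (kernel.ι e) e
      (kernel.condition e)).map (SheafOfModules.toSheaf.{u} X.ringCatSheaf)).ShortExact := by
  have hS : (ShortComplex.mk (C := SheafOfModules.{u} X.ringCatSheaf) (kernel.ι e) e
      (kernel.condition e)).ShortExact :=
    { exact := ShortComplex.exact_kernel e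
      mono_f := equalizer.ι_mono
      epi_g := inferInstanceAs (Epi e) }
  haveI : PreservesFiniteLimits (SheafOfModules.toSheaf.{u} X.ringCatSheaf) :=
    PreservesLimitsOfSize.preservesFiniteLimits _
  haveI : PreservesFiniteColimits (SheafOfModules.toSheaf.{u} X.ringCatSheaf) :=
    PreservesColimitsOfSize.preservesFiniteColimits _
  haveI : (SheafOfModules.toSheaf.{u} X.ringCatSheaf).PreservesZeroMorphisms := ⟨fun _ _ => rfl⟩
  exact hS.map_of_exact (SheafOfModules.toSheaf.{u} X.ringCatSheaf)

/-- If `R¹f_*` of the kernel vanishes, then `f_*` preserves the epimorphism `e`. -/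
theorem epi_pushforward_of_isZero {A B : X.Modules} (e : A ⟶ B) [Epi e]
    (h : IsZero ((Coh.RpushAb f 1).obj (Coh.toAb (kernel e)))) :
    Epi ((Scheme.Modules.pushforward f).map e) := by
  have h1 : Epi ((Coh.pushAb f).map ((SheafOfModules.toSheaf X.ringCatSheaf).map e)) :=
    epi_map_of_isZero_rightDerived_one (Coh.pushAb f) (shortExact_toSheaf e) h
  have h2 : Epi ((SheafOfModules.toSheaf Y.ringCatSheaf).map
      ((Scheme.Modules.pushforward f).map e)) := h1
  exact Functor.epi_of_epi_map (SheafOfModules.toSheaf _) h2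

/-- `R¹f_*` vanishes on all quasi-coherent submodules of `A`. -/
def Good (A : X.Modules) : Prop :=
  ∀ (N : X.Modules) (i : N ⟶ A), Mono i → N.IsQuasicoherent →
    IsZero ((Coh.RpushAb f 1).obj (Coh.toAb N))

theorem good_of_mono {A B : X.Modules} (j : A ⟶ B) [Mono j] (hB : Good f B) : Good f A :=
  fun N i hi hN => by
    haveI := hi
    exact hB N (i ≫ j) (mono_comp _ _) hN

open Groth.Agent.Lib.Helper68 in
theorem good_biprod {A B : X.Modules} [B.IsQuasicoherent] (hA : Good f A)
    (hB : Good f B) : Good f (A ⊞ B) := by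
  intro N i hi hN
  haveI := hi
  haveI := hN
  let ψ : N ⟶ B := i ≫ biprod.snd
  haveI hC : (cokernel ψ).IsQuasicoherent :=
    Groth.Agent.Lib.Helper21.QCohKernel.isQuasicoherent_cokernel ψ
  haveI hN₂ : (Abelian.image ψ).IsQuasicoherent :=
    Groth.Agent.Lib.Helper2.KerSec.isQuasicoherent_kernel (cokernel.π ψ)
  let g' : N ⟶ Abelian.image ψ := Abelian.factorThruImage ψ
  haveI hN₁ : (kernel g').IsQuasicoherent :=
    Groth.Agent.Lib.Helper2.KerSec.isQuasicoherent_kernel g'
  have h₃ : IsZero ((Coh.RpushAb f 1).obj (Coh.toAb (Abelian.image ψ))) :=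
    hB _ (Abelian.image.ι ψ) inferInstance hN₂
  have hmono : Mono (kernel.ι g' ≫ i ≫ biprod.fst) := by
    apply Preadditive.mono_of_cancel_zero
    intro T t ht
    have h1 : (t ≫ kernel.ι g' ≫ i) ≫ biprod.fst = 0 := by simpa using ht
    have h2 : (t ≫ kernel.ι g' ≫ i) ≫ biprod.snd = 0 := by
      have : kernel.ι g' ≫ ψ = 0 := by
        have e1 : ψ = g' ≫ Abelian.image.ι ψ := (Abelian.image.fac ψ).symm
        calc kernel.ι g' ≫ ψ = kernel.ι g' ≫ g' ≫ Abelian.image.ι ψ := congrArg _ e1
          _ = (kernel.ι g' ≫ g') ≫ Abelian.image.ι ψ := (Category.assoc _ _ _).symm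
          _ = 0 := by rw [kernel.condition, zero_comp]
      simp only [Category.assoc]
      change t ≫ kernel.ι g' ≫ ψ = 0
      rw [this, comp_zero]
    have h3 : t ≫ kernel.ι g' ≫ i = 0 := by
      apply biprod.hom_ext
      · rw [h1, zero_comp]
      · rw [h2, zero_comp]
    have h4 : (t ≫ kernel.ι g') ≫ i = 0 := by rw [Category.assoc]; exact h3
    have h5 : t ≫ kernel.ι g' = 0 := by
      rw [← cancel_mono i, h4, zero_comp]
    rw [← cancel_mono (kernel.ι g'), h5, zero_comp]
  have h₁ : IsZero ((Coh.RpushAb f 1).obj (Coh.toAb (kernel g'))) :=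
    hA _ _ hmono hN₁
  exact RightDerivedLES.isZero_mid (Coh.pushAb f) (shortExact_toSheaf g') 1 h₁ h₃

open Groth.Agent.Lib.Lead.Inv Groth.Agent.Lib.Helper22.IdealModAff in
/-- Serre's criterion: if `R¹f_*` vanishes on all quasi-coherent ideals, `f` is affine. -/
theorem isAffineHom_of_good [QuasiCompact f] [QuasiSeparated f]
    (h : Good f (Coh.structureModule X)) : IsAffineHom f := by
  constructor
  intro V hV
  refine isAffineOpen_of_surjOnP
    (fun A => Good f A) h
    (fun I => good_of_mono f (inclHom I) h)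
    (fun A I _ hA => by
      haveI := isQuasicoherent_idealMod I
      exact good_biprod f hA (good_of_mono f (inclHom I) h))
    (f ⁻¹ᵁ V) (QuasiCompact.isCompact_preimage (f := f) _ V.isOpen hV.isCompact) ?_
  intro F F'' p hPF hF hF'' hp
  haveI := hF
  haveI := hF''
  haveI := hp
  haveI : ((Scheme.Modules.pushforward f).obj F).IsQuasicoherent :=
    Groth.Agent.Lib.Helper2.KerSec.isQuasicoherent_pushforward_of_qcqs f F
  haveI : ((Scheme.Modules.pushforward f).obj F'').IsQuasicoherent :=
    Groth.Agent.Lib.Helper2.KerSec.isQuasicoherent_pushforward_of_qcqs f F''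
  haveI : Epi ((Scheme.Modules.pushforward f).map p) :=
    epi_pushforward_of_isZero f p (hPF _ (kernel.ι p) equalizer.ι_mono
      (Groth.Agent.Lib.Helper2.KerSec.isQuasicoherent_kernel p))
  exact Groth.Agent.Lib.Helper21.QCohSections.app_surjective_of_epi
    ((Scheme.Modules.pushforward f).map p) hV

end Groth.Agent.Lib.Lead.SerreH1
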