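import Groth.Agent.Lib.Lead.Avoid1
import Groth.Agent.Lib.Helper42.ModSheaf

/-!
# Epimorphisms from free modules: the generating sections span locally (lead seat library)
-/

set_option autoImplicit false
universe u

open AlgebraicGeometry CategoryTheory Opposite TopologicalSpace MonoidalCategory Limits

namespace Groth.Agent.Lib.Lead.Inv

open Groth.Agent.Lib.Lead.QCohAff

variable {X : Scheme.{u}} {F : X.Modules}

section

variable {I : Type u} (s : I → (Coh.structureModule X ⟶ F))

/-- the presheaf-level coproduct of copies of the structure presheaf -/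
noncomputable def preFree (X : Scheme.{u}) (I : Type u) : X.PresheafOfModules :=
  ∐ fun _ : I => (Coh.structureModule X).val

/-- the presheaf-level map induced by a family of global sections -/
noncomputable def preDesc : preFree X I ⟶ F.val :=
  Sigma.desc (fun i => (s i).val)

theorem preDesc_app_mem_span (W : X.Opens) (z : (preFree X I).obj (op W)) :
    ((preDesc s).app (op W)).hom z ∈ Submodule.span Γ(X, W)
      (Set.range fun i => val (s i) W) := by
  let S : Submodule (X.ringCatSheaf.obj.obj (op W)) (F.val.obj (op W)) :=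
    Submodule.span (X.ringCatSheaf.obj.obj (op W))
      (Set.range fun i => (show F.val.obj (op W) from val (s i) W))
  change ((preDesc s).app (op W)).hom z ∈ S
  let ev := PresheafOfModules.evaluation X.ringCatSheaf.obj (op W)
  -- the evaluated cofan is a colimit
  have hc : IsColimit (ev.mapCocone (colimit.cocone (Discrete.functor
      fun _ : I => (Coh.structureModule X).val))) :=
    isColimitOfPreserves ev (colimit.isColimit _)
  let π : F.val.obj (op W) ⟶ ModuleCat.of (X.ringCatSheaf.obj.obj (op W)) (F.val.obj (op W) ⧸ S) :=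
    ModuleCat.ofHom S.mkQ
  have h0 : (preDesc s).app (op W) ≫ π = 0 := by
    refine hc.hom_ext (fun j => ?_)
    refine Eq.trans ?_ Limits.comp_zero.symm
    apply ModuleCat.hom_ext
    apply LinearMap.ext
    intro c
    change S.mkQ (((preDesc s).app (op W)).hom
      (((Sigma.ι (fun _ : I => (Coh.structureModule X).val) j.as).app (op W)).hom c)) = 0
    have h1 : ((preDesc s).app (op W)).hom
        (((Sigma.ι (fun _ : I => (Coh.structureModule X).val) j.as).app (op W)).hom c) =
        ((s j.as).val.app (op W)).hom c := by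
      have := Sigma.ι_desc (fun i => (s i).val) j.as
      exact congrArg (fun φ => (PresheafOfModules.Hom.app φ (op W)).hom c) this
    rw [h1, Submodule.mkQ_apply, Submodule.Quotient.mk_eq_zero]
    have h2 : ((s j.as).val.app (op W)).hom c = (show Γ(X, W) from c) • val (s j.as) W :=
      app_eq_smul (s j.as) W c
    rw [h2]
    exact Submodule.smul_mem S _ (Submodule.subset_span ⟨j.as, rfl⟩)
  have h1 := congrArg (fun φ => φ.hom z) h0
  have h2 : S.mkQ (((preDesc s).app (op W)).hom z) = 0 := h1
  rwa [Submodule.mkQ_apply, Submodule.Quotient.mk_eq_zero] at h2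

/-- the sheaf-level map adjoint to `preDesc` -/
noncomputable def shDesc : (CohB1.sheafifyMod X).obj (preFree X I) ⟶ F :=
  ((PresheafOfModules.sheafificationAdjunction (𝟙 X.ringCatSheaf.obj)).homEquiv
    (preFree X I) F).symm (preDesc s)

theorem ηT_shDesc : ηT (preFree X I) ≫ (shDesc s).val = preDesc s := by
  have := (PresheafOfModules.sheafificationAdjunction (𝟙 X.ringCatSheaf.obj)).homEquiv_unit
    (X := preFree X I) (Y := F) (f := shDesc s)
  exact this.symm.trans (Equiv.apply_symm_apply _ _)

theorem epi_shDesc (hp : Epi (Sigma.desc s : (∐ fun _ : I => Coh.structureModule X) ⟶ F)) :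
    Epi (shDesc s) := by
  refine Preadditive.epi_of_cancel_zero _ (fun {T} g hg => ?_)
  -- `preDesc s ≫ g.val = 0`
  have h1 : preDesc s ≫ g.val = 0 := by
    have e1 : preDesc s ≫ g.val = ηT (preFree X I) ≫ ((shDesc s).val ≫ g.val) :=
      (congrArg (fun φ => φ ≫ g.val) (ηT_shDesc s).symm).trans (Category.assoc _ _ _)
    have e2 : (shDesc s).val ≫ g.val = 0 := congrArg (fun φ : _ ⟶ T => φ.val) hg
    exact e1.trans ((congrArg (fun φ => ηT (preFree X I) ≫ φ) e2).trans Limits.comp_zero)
  have h2 : ∀ i, s i ≫ g = 0 := by
    intro i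
    apply SheafOfModules.hom_ext
    have h3 : (s i).val = Sigma.ι (fun _ : I => (Coh.structureModule X).val) i ≫ preDesc s :=
      (Sigma.ι_desc (fun i => (s i).val) i).symm
    change (s i).val ≫ g.val = 0
    exact (congrArg (fun φ => φ ≫ g.val) h3).trans ((Category.assoc _ _ _).trans
      ((congrArg (fun φ => Sigma.ι (fun _ : I => (Coh.structureModule X).val) i ≫ φ) h1).trans
        Limits.comp_zero))
  have h4 : (Sigma.desc s : (∐ fun _ : I => Coh.structureModule X) ⟶ F) ≫ g = 0 := by
    apply Sigma.hom_ext
    intro i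
    exact (Category.assoc _ _ _).symm.trans ((congrArg (fun φ => φ ≫ g)
      (Sigma.ι_desc s i)).trans ((h2 i).trans Limits.comp_zero.symm))
  exact (cancel_epi (Sigma.desc s : (∐ fun _ : I => Coh.structureModule X) ⟶ F)).mp
    (h4.trans Limits.comp_zero.symm)

/-- **Epimorphisms from free modules**: if the global sections `s i` generate `F` (the induced
morphism from the free module is an epimorphism), every local section of `F` is, locally, a linear
combination of the `s i`. -/
theorem spanGen_of_epi (hp : Epi (Sigma.desc s : (∐ fun _ : I => Coh.structureModule X) ⟶ F)) :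
    SpanGen F (fun i => val (s i) ⊤) := by
  intro U t x hxU
  have hepi := epi_shDesc s hp
  have : PreservesFiniteColimits (SheafOfModules.toSheaf.{u} X.ringCatSheaf) :=
    PreservesColimitsOfSize.preservesFiniteColimits _
  have hpe : (SheafOfModules.toSheaf.{u} X.ringCatSheaf).PreservesEpimorphisms := inferInstance
  have hepi' : Epi ((SheafOfModules.toSheaf.{u} X.ringCatSheaf).map (shDesc s)) :=
    @Functor.map_epi _ _ _ _ _ hpe _ _ (shDesc s) hepi
  have hls : Sheaf.IsLocallySurjective ((SheafOfModules.toSheaf.{u} X.ringCatSheaf).map (shDesc s)) :=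
    (Sheaf.isLocallySurjective_iff_epi' _ _).mpr hepi'
  obtain ⟨W', hW', ⟨y, hy⟩, hxW'⟩ :=
    (TopCat.Presheaf.isLocallySurjective_iff (X := X.toTopCat) _).mp hls U t x hxU
  obtain ⟨V, hV, hxV, z, hz⟩ := η_surj_local (preFree X I) y x hxW'
  refine ⟨V, hV.trans hW', hxV, ?_⟩
  have h1 : F.presheaf.map (homOfLE (hV.trans hW')).op t =
      ((preDesc s).app (op V)).hom z := by
    have e1 : F.presheaf.map (homOfLE (hV.trans hW')).op t =
        F.presheaf.map (homOfLE hV).op (F.presheaf.map (homOfLE hW').op t) :=
      (res_res F hW' hV t).symm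
    have e2 : F.presheaf.map (homOfLE hW').op t = ((shDesc s).app W').hom y := hy.symm
    have e3 : F.presheaf.map (homOfLE hV).op (((shDesc s).app W').hom y) =
        ((shDesc s).app V).hom
          (((CohB1.sheafifyMod X).obj (preFree X I)).presheaf.map (homOfLE hV).op y) :=
      hom_app_res (shDesc s) hV y
    have e4 : ((shDesc s).app V).hom
        (((CohB1.sheafifyMod X).obj (preFree X I)).presheaf.map (homOfLE hV).op y) =
        ((preDesc s).app (op V)).hom z := by
      exact (congrArg (fun w => ((shDesc s).app V).hom w) hz.symm).trans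
        (congrArg (fun φ => (PresheafOfModules.Hom.app φ (op V)).hom z) (ηT_shDesc s))
    rw [e1, e2, e3, e4]
  rw [h1]
  have h2 := preDesc_app_mem_span s V z
  have h3 : (fun i => F.presheaf.map (homOfLE (le_top : V ≤ ⊤)).op (val (s i) ⊤)) =
      fun i => val (s i) V := by
    funext i
    exact val_res (s i) le_top
  rw [h3]
  exact h2

end

theorem GG_of_spanGen {ι : Type u} (σ : ι → Γ(F, ⊤)) (h : SpanGen F σ) : GG F := by
  intro U t x hxU
  obtain ⟨W, hW, hxW, hmem⟩ := h U t x hxU
  refine ⟨W, hW, hxW, Submodule.span_mono ?_ hmem⟩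
  rintro _ ⟨i, rfl⟩
  exact ⟨σ i, rfl⟩

/-- A globally generated module (quotient of a free module) is generated by its global sections
in the sectionwise sense. -/
theorem GG_of_isGloballyGenerated (h : Curv2.IsGloballyGenerated F) : GG F := by
  obtain ⟨ι, p, hp⟩ := h
  let s : ι → (Coh.structureModule X ⟶ F) := fun i =>
    Sigma.ι (fun _ : ι => Coh.structureModule X) i ≫ p
  have hps : p = (Sigma.desc s : (∐ fun _ : ι => Coh.structureModule X) ⟶ F) := by
    apply Sigma.hom_ext
    intro i
    exact (Sigma.ι_desc s i).symm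
  have hp' : Epi (Sigma.desc s : (∐ fun _ : ι => Coh.structureModule X) ⟶ F) := by
    rw [← hps]
    exact hp
  exact GG_of_spanGen _ (spanGen_of_epi s hp')

theorem isGloballyGenerated_iff_GG : Curv2.IsGloballyGenerated F ↔ GG F :=
  ⟨GG_of_isGloballyGenerated, isGloballyGenerated_of_GG⟩

end Groth.Agent.Lib.Lead.Inv
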