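import Groth.Agent.Lib.Lead.SerreAff
import Groth.Agent.Lib.Helper21.QCohKernel
import Groth.Agent.Lib.Helper21.QCohSections
import Groth.Agent.Lib.Helper2.QCohLim

/-!
# Serre's criterion for affineness, relative form (lead seat library)

`isAffineOpen_of_surjOn`: a quasi-compact open `W` of a scheme `X` is affine as soon as every
epimorphism of quasi-coherent `O_X`-modules is surjective on sections over `W`.
-/

set_option autoImplicit false
universe u

open AlgebraicGeometry CategoryTheory Opposite TopologicalSpace MonoidalCategory Limits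

namespace Groth.Agent.Lib.Lead.Inv

open Groth.Agent.Lib.Lead.QCohAff Groth.Agent.Lib.Helper22.IdealModAff
  Groth.Agent.Lib.Helper35.GlobGen Groth.Agent.Lib.Lead.SheafGlue

variable {X : Scheme.{u}}

/-- Epimorphisms of quasi-coherent modules are surjective on sections over `W`. -/
def SurjOn (W : X.Opens) : Prop :=
  ∀ (F F'' : X.Modules) (p : F ⟶ F''), F.IsQuasicoherent → F''.IsQuasicoherent → Epi p →
    Function.Surjective (p.app W).hom

/-- Right exactness of sections over `W`: a section which is locally in the image of `φ` is in the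
image of `φ`. -/
theorem exists_lift_of_locally (W : X.Opens) (HS : SurjOn W) {A B : X.Modules}
    [A.IsQuasicoherent] [B.IsQuasicoherent] (φ : A ⟶ B) (s : Γ(B, W))
    (hloc : ∀ y ∈ W, ∃ (W' : X.Opens) (hW' : W' ≤ W), y ∈ W' ∧
      ∃ a : Γ(A, W'), (φ.app W').hom a = B.presheaf.map (homOfLE hW').op s) :
    ∃ a : Γ(A, W), (φ.app W).hom a = s := by
  haveI hC : (cokernel φ).IsQuasicoherent :=
    Groth.Agent.Lib.Helper21.QCohKernel.isQuasicoherent_cokernel φ
  haveI hJ : (kernel (cokernel.π φ)).IsQuasicoherent :=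
    Groth.Agent.Lib.Helper2.KerSec.isQuasicoherent_kernel (cokernel.π φ)
  have h0 : ((cokernel.π φ).app W).hom s = 0 := by
    choose W' hW' hyW' a ha using hloc
    refine (shf (cokernel φ)).eq_of_locally_eq' (fun y : W => W' y.1 y.2) W
      (fun y => homOfLE (hW' y.1 y.2)) ?_ _ _ ?_
    · intro y hy
      exact Opens.mem_iSup.mpr ⟨⟨y, hy⟩, hyW' y hy⟩
    · intro y
      change (cokernel φ).presheaf.map (homOfLE (hW' y.1 y.2)).op (((cokernel.π φ).app W).hom s) =
        (cokernel φ).presheaf.map (homOfLE (hW' y.1 y.2)).op 0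
      rw [hom_app_res, ← ha y.1 y.2, map_zero]
      have := congrArg (fun ψ : A ⟶ cokernel φ => (ψ.app (W' y.1 y.2)).hom (a y.1 y.2))
        (cokernel.condition φ)
      exact this
  obtain ⟨t, ht⟩ := Groth.Agent.Lib.Helper2.KerSec.exists_of_app_eq_zero (cokernel.π φ) W s h0
  obtain ⟨a, ha⟩ := HS _ _ (Abelian.factorThruImage φ) inferInstance hJ inferInstance t
  refine ⟨a, ?_⟩
  have := congrArg (fun ψ : A ⟶ B => (ψ.app W).hom a) (Abelian.image.fac φ)
  refine this.symm.trans ?_
  change ((Abelian.image.ι φ).app W).hom (((Abelian.factorThruImage φ).app W).hom a) = s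
  rw [ha]
  exact ht

/-- A section of the ideal sheaf over `W` vanishes on the support. -/
theorem basicOpen_incl_disjoint_support' (I : X.IdealSheafData) {W : X.Opens}
    (σ : Γ(ClSub.idealMod I, W)) (y : X) (hy : y ∈ I.support) :
    y ∉ X.basicOpen (incl I W σ) := by
  intro h4
  have hyW : y ∈ W := X.basicOpen_le _ h4
  obtain ⟨_, ⟨V, hV, rfl⟩, hyV, hVW0⟩ :=
    X.isBasis_affineOpens.exists_subset_of_mem_open hyW W.isOpen
  have hVW : V ≤ W := fun z hz => hVW0 hz
  have h1 := (Scheme.IdealSheafData.mem_support_iff_of_mem (I := I) (U := ⟨V, hV⟩) hyV).mp hy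
  rw [Scheme.mem_zeroLocus_iff] at h1
  have h2 : X.presheaf.map (homOfLE (hVW : V ≤ W)).op (incl I W σ) ∈ I.ideal ⟨V, hV⟩ := by
    rw [← incl_res]
    exact (mem_ideal_iff I ⟨V, hV⟩ _).mpr ⟨_, rfl⟩
  have h3 := h1 _ h2
  rw [Scheme.basicOpen_res] at h3
  exact h3 ⟨hyV, h4⟩

/-- The radical ideal sheaf of the complement of an open. -/
noncomputable def IU (U : X.Opens) : X.IdealSheafData :=
  Scheme.IdealSheafData.vanishingIdeal ⟨(U : Set X)ᶜ, U.isOpen.isClosed_compl⟩

theorem support_IU (U : X.Opens) : ((IU U).support : Set X) = (U : Set X)ᶜ :=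
  Scheme.IdealSheafData.coe_support_vanishingIdeal _

theorem basicOpen_incl_le (U : X.Opens) {W : X.Opens} (g : Γ(ClSub.idealMod (IU U), W)) :
    X.basicOpen (incl (IU U) W g) ≤ U := by
  intro y hy
  by_contra hyU
  have : y ∈ ((IU U).support : Set X) := by rw [support_IU]; exact hyU
  exact basicOpen_incl_disjoint_support' (IU U) g y this hy

theorem isAffineOpen_basicOpen_incl {U : X.Opens} (hU : IsAffineOpen U) {W : X.Opens}
    (hUW : U ≤ W) (g : Γ(ClSub.idealMod (IU U), W)) :
    IsAffineOpen (X.basicOpen (incl (IU U) W g)) := by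
  have heq : X.basicOpen (incl (IU U) W g) =
      X.basicOpen (X.presheaf.map (homOfLE hUW).op (incl (IU U) W g)) := by
    rw [Scheme.basicOpen_res]
    exact (inf_eq_right.mpr (basicOpen_incl_le U g)).symm
  rw [heq]
  exact hU.basicOpen _

theorem exists_incl_eq_one {U : X.Opens} (hU : IsAffineOpen U) :
    ∃ a : Γ(ClSub.idealMod (IU U), U), incl (IU U) U a = 1 := by
  apply (mem_ideal_iff (IU U) ⟨U, hU⟩ 1).mp
  have : (IU U).ideal ⟨U, hU⟩ = ⊤ := by
    unfold IU
    rw [Scheme.IdealSheafData.vanishingIdeal_ideal]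
    have : (hU.fromSpec ⁻¹' ((U : Set X)ᶜ)) = ∅ := by
      ext z
      simp only [Set.mem_preimage, Set.mem_compl_iff, SetLike.mem_coe, Set.mem_empty_iff_false,
        iff_false, not_not]
      have : hU.fromSpec z ∈ Set.range hU.fromSpec := ⟨z, rfl⟩
      rw [hU.range_fromSpec] at this
      exact this
    simp only [TopologicalSpace.Closeds.coe_mk]
    refine Eq.trans (congrArg PrimeSpectrum.vanishingIdeal ?_) PrimeSpectrum.vanishingIdeal_empty
    exact this
  rw [this]
  exact Submodule.mem_top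

/-- A morphism from the spectrum of a field is affine. -/
instance isAffineHom_fromSpecResidueField (x : X) : IsAffineHom (X.fromSpecResidueField x) := by
  constructor
  intro V _
  by_cases h : IsLocalRing.closedPoint (X.residueField x) ∈ (X.fromSpecResidueField x) ⁻¹ᵁ V
  · have : (X.fromSpecResidueField x) ⁻¹ᵁ V = ⊤ := by
      ext z
      simp only [Opens.coe_top, Set.mem_univ, iff_true]
      rw [Subsingleton.elim z (IsLocalRing.closedPoint (X.residueField x))]
      exact h
    rw [this]
    exact isAffineOpen_top _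
  · have : (X.fromSpecResidueField x) ⁻¹ᵁ V = ⊥ := by
      ext z
      simp only [Opens.coe_bot, Set.mem_empty_iff_false, iff_false]
      rw [Subsingleton.elim z (IsLocalRing.closedPoint (X.residueField x))]
      exact h
    rw [this]
    exact isAffineOpen_bot _

theorem subsingleton_evPt_of_notMem (x : X) {W : X.Opens} (hxW : x ∉ W) :
    Subsingleton Γ((Scheme.Modules.pushforward (X.fromSpecResidueField x)).obj
      (Coh.structureModule (Spec (X.residueField x))), W) := by
  have hbot : (X.fromSpecResidueField x) ⁻¹ᵁ W = ⊥ := by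
    ext z
    simp only [Opens.coe_bot, Set.mem_empty_iff_false, iff_false]
    intro hz
    apply hxW
    have : (X.fromSpecResidueField x) z ∈ Set.range (X.fromSpecResidueField x) := ⟨z, rfl⟩
    rw [Scheme.range_fromSpecResidueField] at this
    rw [← (this : _ = x)]
    exact hz
  have hss : Subsingleton Γ(Spec (X.residueField x), (X.fromSpecResidueField x) ⁻¹ᵁ W) := by
    rw [hbot]; infer_instance
  exact hss

theorem mem_basicOpen_of_app_eq_one (x : X) {W : X.Opens} (hxW : x ∈ W) (f : Γ(X, W))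
    (hf : ((X.fromSpecResidueField x).app W).hom f = 1) : x ∈ X.basicOpen f := by
  have h1 : (X.fromSpecResidueField x) ⁻¹ᵁ X.basicOpen f = (X.fromSpecResidueField x) ⁻¹ᵁ W := by
    rw [Scheme.preimage_basicOpen]
    have : ((X.fromSpecResidueField x).app W) f = 1 := hf
    rw [this, Scheme.basicOpen_of_isUnit _ isUnit_one]
  have h3 := Scheme.fromSpecResidueField_apply x (IsLocalRing.closedPoint (X.residueField x))
  have h2 : (IsLocalRing.closedPoint (X.residueField x)) ∈
      (X.fromSpecResidueField x) ⁻¹ᵁ X.basicOpen f := by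
    rw [h1]
    change (X.fromSpecResidueField x) _ ∈ W
    rw [h3]
    exact hxW
  rw [← h3]
  exact h2

theorem exists_gen_of_closedIn (W : X.Opens) (HS : SurjOn W) (x : X)
    (hx : closure ({x} : Set X) ∩ W ⊆ {x}) {U : X.Opens} (hU : IsAffineOpen U) (hxU : x ∈ U)
    (hUW : U ≤ W) :
    ∃ g : Γ(ClSub.idealMod (IU U), W), x ∈ X.basicOpen (incl (IU U) W g) := by
  haveI : (Coh.structureModule (Spec (X.residueField x))).IsQuasicoherent :=
    structureModule_isQuasicoherent _
  haveI hq : ((Scheme.Modules.pushforward (X.fromSpecResidueField x)).obj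
      (Coh.structureModule (Spec (X.residueField x)))).IsQuasicoherent := inferInstance
  obtain ⟨a₁, ha₁⟩ := exists_incl_eq_one hU
  obtain ⟨g, hg⟩ := exists_lift_of_locally W HS (inclHom (IU U) ≫ evPt x)
    (show Γ(Spec (X.residueField x), (X.fromSpecResidueField x) ⁻¹ᵁ W) from 1) (by
      intro y hyW
      by_cases hyx : y = x
      · subst hyx
        refine ⟨U, hUW, hxU, a₁, ?_⟩
        rw [Scheme.Modules.Hom.comp_app]
        change ((evPt y).app U).hom (incl (IU U) U a₁) = _
        rw [ha₁, evPt_app, map_one]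
        exact (map_one ((Spec (X.residueField y)).presheaf.map
          (homOfLE ((X.fromSpecResidueField y).preimage_mono hUW)).op).hom).symm
      · have hycl : y ∉ closure ({x} : Set X) := fun h => hyx (hx ⟨h, hyW⟩)
        let W₂ : X.Opens := W ⊓ ⟨(closure ({x} : Set X))ᶜ, isClosed_closure.isOpen_compl⟩
        have hxW₂ : x ∉ W₂ := fun h => h.2 (subset_closure rfl)
        haveI := subsingleton_evPt_of_notMem x hxW₂
        exact ⟨W₂, inf_le_left, ⟨hyW, hycl⟩, 0, Subsingleton.elim _ _⟩)
  refine ⟨g, mem_basicOpen_of_app_eq_one x (hUW hxU) _ ?_⟩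
  rw [Scheme.Modules.Hom.comp_app] at hg
  exact hg

/-- Every point of a quasi-compact subset `S` of a `T₀` space specializes to a point closed in
`S`. -/
theorem exists_closedIn_set {α : Type*} [TopologicalSpace α] [T0Space α] (S : Set α)
    (hS : IsCompact S) (y : α) (hy : y ∈ S) :
    ∃ x ∈ S, x ∈ closure ({y} : Set α) ∧ closure ({x} : Set α) ∩ S ⊆ {x} := by
  haveI : CompactSpace S := isCompact_iff_compactSpace.mp hS
  obtain ⟨x', hx'S, hx'cl⟩ := (isClosed_closure (s := ({⟨y, hy⟩} : Set S))).exists_closed_singleton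
    ⟨_, subset_closure rfl⟩
  refine ⟨x'.1, x'.2, ?_, ?_⟩
  · have h1 := image_closure_subset_closure_image (f := (Subtype.val : S → α))
      (s := ({⟨y, hy⟩} : Set S)) continuous_subtype_val
    have h2 : (Subtype.val : S → α) '' {⟨y, hy⟩} = {y} := Set.image_singleton
    rw [h2] at h1
    exact h1 ⟨x', hx'S, rfl⟩
  · rintro z ⟨hz, hzS⟩
    have h2 : (⟨z, hzS⟩ : S) ∈ closure ({x'} : Set S) := by
      rw [closure_subtype]
      have h3 : (Subtype.val : S → α) '' {x'} = {x'.1} := Set.image_singleton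
      rw [h3]
      exact hz
    rw [hx'cl.closure_eq] at h2
    have h4 : (⟨z, hzS⟩ : S) = x' := h2
    exact congrArg Subtype.val h4

theorem exists_closedIn (W : X.Opens) (hW : IsCompact (W : Set X)) (y : X) (hy : y ∈ W) :
    ∃ x ∈ W, x ∈ closure ({y} : Set X) ∧ closure ({x} : Set X) ∩ W ⊆ {x} :=
  exists_closedIn_set (W : Set X) hW y hy

/-- The functions on `W` coming from sections over `W` of ideal sheaves of complements of affine
opens contained in `W`. -/
def affGens (W : X.Opens) : Set Γ(X, W) :=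
  {h | ∃ (U : X.Opens) (_ : IsAffineOpen U) (_ : U ≤ W) (g : Γ(ClSub.idealMod (IU U), W)),
    incl (IU U) W g = h}

theorem isAffineOpen_basicOpen_of_mem_affGens {W : X.Opens} {h : Γ(X, W)} (hh : h ∈ affGens W) :
    IsAffineOpen (X.basicOpen h) := by
  obtain ⟨U, hU, hUW, g, rfl⟩ := hh
  exact isAffineOpen_basicOpen_incl hU hUW g

theorem exists_mem_affGens (W : X.Opens) (hW : IsCompact (W : Set X)) (HS : SurjOn W) (y : X)
    (hy : y ∈ W) : ∃ h ∈ affGens W, y ∈ X.basicOpen h := by
  obtain ⟨x, hxW, hxy, hx⟩ := exists_closedIn W hW y hy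
  obtain ⟨_, ⟨U, hU, rfl⟩, hxU, hUW0⟩ :=
    X.isBasis_affineOpens.exists_subset_of_mem_open hxW W.isOpen
  have hUW : U ≤ W := fun z hz => hUW0 hz
  obtain ⟨g, hg⟩ := exists_gen_of_closedIn W HS x hx hU hxU hUW
  refine ⟨_, ⟨U, hU, hUW, g, rfl⟩, ?_⟩
  obtain ⟨z, hz, hzy⟩ := mem_closure_iff.mp hxy _ (X.basicOpen _).isOpen hg
  rw [Set.mem_singleton_iff] at hzy
  exact hzy ▸ hz

/-- `1` is locally at `z` in the image of `φ : A ⟶ O_X`. -/
def LocOne (W : X.Opens) {A : X.Modules} (φ : A ⟶ Coh.structureModule X) (z : X) : Prop :=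
  ∃ (W' : X.Opens) (hW' : W' ≤ W), z ∈ W' ∧ ∃ a : Γ(A, W'), (φ.app W').hom a =
    (Coh.structureModule X).presheaf.map (homOfLE hW').op
      (show Γ(Coh.structureModule X, W) from (1 : Γ(X, W)))

theorem locOne_of_mem_basicOpen {W : X.Opens} (I : X.IdealSheafData) (g : Γ(ClSub.idealMod I, W))
    (z : X) (hz : z ∈ X.basicOpen (incl I W g)) : LocOne W (inclHom I) z := by
  have hle : X.basicOpen (incl I W g) ≤ W := X.basicOpen_le _
  have hu := isUnit_res_basicOpen (incl I W g)
  rw [← incl_res I hle] at hu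
  refine ⟨X.basicOpen (incl I W g), hle, hz,
    (↑hu.unit⁻¹ : Γ(X, X.basicOpen (incl I W g))) • (ClSub.idealMod I).presheaf.map (homOfLE hle).op g, ?_⟩
  rw [inclHom_app, map_smul, smul_eq_mul, IsUnit.val_inv_mul]
  exact (map_one (X.presheaf.map (homOfLE hle).op).hom).symm

theorem exists_sum_module (W : X.Opens) (h : W → Γ(X, W)) (hh : ∀ y, h y ∈ affGens W)
    (t : Finset W) :
    ∃ (A : X.Modules) (_ : A.IsQuasicoherent) (φ : A ⟶ Coh.structureModule X),
      (∀ a : Γ(A, W), (show Γ(X, W) from (φ.app W).hom a) ∈ Ideal.span (affGens W)) ∧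
      ∀ y ∈ t, ∀ z ∈ X.basicOpen (h y), LocOne W φ z := by
  classical
  induction t using Finset.induction_on with
  | empty =>
    refine ⟨Coh.structureModule X, structureModule_isQuasicoherent X, 0, ?_, ?_⟩
    · intro a
      exact Ideal.zero_mem _
    · intro y hy
      exact absurd hy (Finset.notMem_empty y)
  | insert y t hyt ih =>
    obtain ⟨A, hA, φ, h1, h2⟩ := ih
    obtain ⟨U, hU, hUW, g, hg⟩ := hh y
    haveI := hA
    refine ⟨A ⊞ ClSub.idealMod (IU U),
      Groth.Agent.Lib.Helper2.KerSec.isQuasicoherent_biprod A (ClSub.idealMod (IU U)),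
      biprod.desc φ (inclHom (IU U)), ?_, ?_⟩
    · intro s
      have e := Groth.Agent.Lib.Helper2.KerSec.biprod_total_apply A (ClSub.idealMod (IU U)) W s
      have e2 := congrArg (fun v => ((biprod.desc φ (inclHom (IU U))).app W).hom v) e
      simp only [map_add] at e2
      have e3 : ((biprod.desc φ (inclHom (IU U))).app W).hom
          (((biprod.inl : A ⟶ A ⊞ ClSub.idealMod (IU U)).app W).hom
            (((biprod.fst : A ⊞ ClSub.idealMod (IU U) ⟶ A).app W).hom s)) =
          (φ.app W).hom (((biprod.fst : A ⊞ ClSub.idealMod (IU U) ⟶ A).app W).hom s) := by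
        have := congrArg (fun ψ : A ⟶ Coh.structureModule X =>
          (ψ.app W).hom (((biprod.fst : A ⊞ ClSub.idealMod (IU U) ⟶ A).app W).hom s))
          (biprod.inl_desc φ (inclHom (IU U)))
        exact this
      have e4 : ((biprod.desc φ (inclHom (IU U))).app W).hom
          (((biprod.inr : ClSub.idealMod (IU U) ⟶ A ⊞ ClSub.idealMod (IU U)).app W).hom
            (((biprod.snd : A ⊞ ClSub.idealMod (IU U) ⟶ _).app W).hom s)) =
          ((inclHom (IU U)).app W).hom
            (((biprod.snd : A ⊞ ClSub.idealMod (IU U) ⟶ _).app W).hom s) := by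
        have := congrArg (fun ψ : ClSub.idealMod (IU U) ⟶ Coh.structureModule X =>
          (ψ.app W).hom (((biprod.snd : A ⊞ ClSub.idealMod (IU U) ⟶ _).app W).hom s))
          (biprod.inr_desc φ (inclHom (IU U)))
        exact this
      rw [← e2]
      refine Ideal.add_mem _ ?_ ?_
      · exact (congrArg (fun v : Γ(X, W) => v ∈ Ideal.span (affGens W)) e3).mpr (h1 _)
      · refine (congrArg (fun v : Γ(X, W) => v ∈ Ideal.span (affGens W)) e4).mpr ?_
        exact Ideal.subset_span ⟨U, hU, hUW, _, rfl⟩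
    · intro y' hy' z hz
      rw [Finset.mem_insert] at hy'
      rcases hy' with rfl | hy'
      · rw [← hg] at hz
        obtain ⟨W', hW', hzW', a, ha⟩ := locOne_of_mem_basicOpen (IU U) g z hz
        refine ⟨W', hW', hzW', ((biprod.inr : _ ⟶ A ⊞ ClSub.idealMod (IU U)).app W').hom a, ?_⟩
        have := congrArg (fun ψ : ClSub.idealMod (IU U) ⟶ Coh.structureModule X =>
          (ψ.app W').hom a) (biprod.inr_desc φ (inclHom (IU U)))
        exact this.trans ha
      · obtain ⟨W', hW', hzW', a, ha⟩ := h2 y' hy' z hz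
        refine ⟨W', hW', hzW', ((biprod.inl : _ ⟶ A ⊞ ClSub.idealMod (IU U)).app W').hom a, ?_⟩
        have := congrArg (fun ψ : A ⟶ Coh.structureModule X =>
          (ψ.app W').hom a) (biprod.inl_desc φ (inclHom (IU U)))
        exact this.trans ha


/-- Serre's criterion, relative form: a quasi-compact open `W` on which sections are right exact
for quasi-coherent modules is affine. -/
theorem isAffineOpen_of_surjOn (W : X.Opens) (hW : IsCompact (W : Set X)) (HS : SurjOn W) :
    IsAffineOpen W := by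
  choose h hh hyh using fun y : W => exists_mem_affGens W hW HS y.1 y.2
  obtain ⟨t, ht⟩ := hW.elim_finite_subcover (fun y : W => (X.basicOpen (h y) : Set X))
    (fun y => (X.basicOpen (h y)).isOpen)
    (fun z hz => Set.mem_iUnion.mpr ⟨⟨z, hz⟩, hyh ⟨z, hz⟩⟩)
  obtain ⟨A, hA, φ, h1, h2⟩ := exists_sum_module W h hh t
  haveI := hA
  haveI := structureModule_isQuasicoherent X
  obtain ⟨a, ha⟩ := exists_lift_of_locally W HS φ
    (show Γ(Coh.structureModule X, W) from (1 : Γ(X, W))) (fun z hz => by
      obtain ⟨y, hy⟩ := Set.mem_iUnion.mp (ht hz)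
      obtain ⟨hyt, hzy⟩ := Set.mem_iUnion.mp hy
      exact h2 y hyt z hzy)
  have hspan : Ideal.span (affGens W) = ⊤ := by
    rw [Ideal.eq_top_iff_one]
    have := h1 a
    rw [ha] at this
    exact this
  exact isAffineOpen_of_isAffineOpen_basicOpen W (affGens W) hspan
    (fun i hi => isAffineOpen_basicOpen_of_mem_affGens hi)

end Groth.Agent.Lib.Lead.Inv
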