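import Groth.Agent.Lib.Lead.TensorMapMono
import Groth.Agent.Lib.Lead.SerreRel
import Groth.Agent.Lib.Helper2.KerSec
import Groth.Agent.S0009

set_option autoImplicit false
universe u

open AlgebraicGeometry CategoryTheory Opposite TopologicalSpace MonoidalCategory Limits

namespace Groth.Agent.Lib.Lead.Inv

open Groth.Agent.Lib.Lead.QCohAff Groth.Agent.Lib.Lead.SheafGlue
  Groth.Agent.Lib.Helper22.IdealModAff Groth.Agent.Lib.Helper35.GlobGen

variable {X : Scheme.{u}}

/-- An epimorphism of modules is locally surjective on sections. -/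
theorem exists_local_lift_of_epi {A B : X.Modules} (φ : A ⟶ B) [hφ : Epi φ] {U : X.Opens}
    (t : Γ(B, U)) (x : X) (hxU : x ∈ U) :
    ∃ (W : X.Opens) (hW : W ≤ U), x ∈ W ∧ ∃ a : Γ(A, W),
      (φ.app W).hom a = B.presheaf.map (homOfLE hW).op t := by
  have : PreservesFiniteColimits (SheafOfModules.toSheaf.{u} X.ringCatSheaf) :=
    PreservesColimitsOfSize.preservesFiniteColimits _
  have hpe : (SheafOfModules.toSheaf.{u} X.ringCatSheaf).PreservesEpimorphisms := inferInstance
  have hepi' : Epi ((SheafOfModules.toSheaf.{u} X.ringCatSheaf).map φ) :=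
    @Functor.map_epi _ _ _ _ _ hpe _ _ φ hφ
  have hls : Sheaf.IsLocallySurjective ((SheafOfModules.toSheaf.{u} X.ringCatSheaf).map φ) :=
    (Sheaf.isLocallySurjective_iff_epi' _ _).mpr hepi'
  obtain ⟨W', hW', ⟨y, hy⟩, hxW'⟩ :=
    (TopCat.Presheaf.isLocallySurjective_iff (X := X.toTopCat) _).mp hls U t x hxU
  exact ⟨W', hW', hxW', y, hy⟩

/-- Left exactness of sections for a short exact sequence. -/
theorem exists_of_shortExact_app_eq_zero {S : ShortComplex X.Modules} (hS : S.ShortExact)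
    (W : X.Opens) (z : Γ(S.X₂, W)) (hz : (S.g.app W).hom z = 0) :
    ∃ z' : Γ(S.X₁, W), (S.f.app W).hom z' = z := by
  obtain ⟨k, hk⟩ := Groth.Agent.Lib.Helper2.KerSec.exists_of_app_eq_zero S.g W z hz
  let l : kernel S.g ⟶ S.X₁ :=
    hS.fIsKernel.lift (KernelFork.ofι (kernel.ι S.g) (kernel.condition S.g))
  have h1 : l ≫ S.f = kernel.ι S.g :=
    Fork.IsLimit.lift_ι hS.fIsKernel
  refine ⟨(l.app W).hom k, ?_⟩
  have h2 := congrArg (fun ψ => (Scheme.Modules.Hom.app ψ W).hom k) h1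
  exact h2.trans hk

/-- Key step of the cohomological criterion of ampleness: a closed point has an affine
neighbourhood of the form `X_s`, `s` a section of a positive power of `L`. -/
theorem exists_section_of_H1_of_isClosed_singleton (L : X.Modules) (hL : PicF.IsInvertible L)
    (h : ∀ (I : X.Modules) (i : I ⟶ Coh.structureModule X), Mono i → Coh.IsQCoh I →
      ∃ n : ℕ, Subsingleton (Coh.HH X (CohB1.tensorMod I (CohB1.tensorPow L (n + 1))) 1))
    (x : X) (hx : IsClosed ({x} : Set X)) :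
    ∃ (n : ℕ) (s : Coh.structureModule X ⟶ CohB1.tensorPow L (n + 1)),
      x ∈ CohB1.genLocus _ s ∧ IsAffineOpen (CohB1.genLocus _ s) := by
  obtain ⟨U₀, hxU₀, e₀, he₀⟩ := (isInvertible_iff_exists_isGen.mp hL) x
  obtain ⟨_, ⟨U, hU, rfl⟩, hxU, hUU₀'⟩ :=
    X.isBasis_affineOpens.exists_subset_of_mem_open hxU₀ U₀.2
  have hUU₀ : U ≤ U₀ := fun z hz => hUU₀' hz
  have hxI : x ∉ (IU U).support := by
    intro hx'
    have : x ∈ ((IU U).support : Set X) := hx'
    rw [support_IU] at this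
    exact this hxU
  haveI : IsClosedImmersion (X.fromSpecResidueField x) :=
    isClosed_singleton_iff_isClosedImmersion.mp hx
  haveI : (Coh.structureModule (Spec (X.residueField x))).IsQuasicoherent :=
    structureModule_isQuasicoherent _
  haveI hq : ((Scheme.Modules.pushforward (X.fromSpecResidueField x)).obj
      (Coh.structureModule (Spec (X.residueField x)))).IsQuasicoherent := inferInstance
  set p := inclHom (IU U) ≫ evPt x with hp
  haveI : Epi p := epi_inclHom_evPt (IU U) x hx hxI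
  have hqI' : (kernel p).IsQuasicoherent :=
    Groth.Agent.Lib.Helper2.KerSec.isQuasicoherent_kernel p
  obtain ⟨n, hn⟩ := h (kernel p) (kernel.ι p ≫ inclHom (IU U)) inferInstance hqI'
  have hM : PicF.IsInvertible (CohB1.tensorPow L (n + 1)) := isInvertible_tensorPow hL _
  have heL : IsGen L U (L.presheaf.map (homOfLE hUU₀).op e₀) := he₀.res hUU₀
  have heM := isGen_genPow heL (n + 1)
  set eM := genPow (L.presheaf.map (homOfLE hUU₀).op e₀) (n + 1) with heMdef
  haveI : Mono (tensorMapLeft (kernel.ι p) (CohB1.tensorPow L (n + 1))) :=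
    mono_tensorMapLeft (kernel.ι p) hM
  let S : ShortComplex X.Modules :=
    ShortComplex.mk (tensorMapLeft (kernel.ι p) (CohB1.tensorPow L (n + 1)))
      (cokernel.π (tensorMapLeft (kernel.ι p) (CohB1.tensorPow L (n + 1)))) (cokernel.condition _)
  have hS : S.ShortExact :=
    { exact := ShortComplex.exact_cokernel _
      mono_f := inferInstanceAs (Mono (tensorMapLeft (kernel.ι p) (CohB1.tensorPow L (n + 1))))
      epi_g := inferInstanceAs
        (Epi (cokernel.π (tensorMapLeft (kernel.ι p) (CohB1.tensorPow L (n + 1))))) }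
  have hsurj := Groth.Agent.S0009.surjective_of_H1 hS hn
  -- sections of the cokernel away from `x` vanish
  have hA : ∀ (W : X.Opens), x ∉ W → ∀ c' : Γ(S.X₃, W), c' = 0 := by
    intro W hxW c'
    apply eq_of_locally_eq_pts S.X₃ c' 0
    intro y hy
    obtain ⟨W₁, hW₁, hyW₁, t', ht'⟩ := exists_local_lift_of_epi S.g c' y hy
    obtain ⟨Uy, hyUy, ey, hey⟩ := (isInvertible_iff_exists_isGen.mp hM) y
    have hW₂ : W₁ ⊓ Uy ≤ W₁ := inf_le_left
    refine ⟨W₁ ⊓ Uy, hW₂.trans hW₁, ⟨hyW₁, hyUy⟩, ?_⟩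
    rw [map_zero]
    obtain ⟨a', ha'⟩ := (tmulREquiv (ClSub.idealMod (IU U)) hey
      (inf_le_right : W₁ ⊓ Uy ≤ Uy)).surjective ((S.X₂).presheaf.map (homOfLE hW₂).op t')
    have hxW₂ : x ∉ W₁ ⊓ Uy := fun hx' => hxW (hW₁ hx'.1)
    haveI := subsingleton_evPt_of_notMem x hxW₂
    have hpa : (p.app (W₁ ⊓ Uy)).hom a' = 0 := Subsingleton.elim _ _
    obtain ⟨a'', ha''⟩ :=
      Groth.Agent.Lib.Helper2.KerSec.exists_of_app_eq_zero p (W₁ ⊓ Uy) a' hpa
    have h1 : (S.f.app (W₁ ⊓ Uy)).hom (tmulREquiv (kernel p) hey inf_le_right a'') =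
        S.X₂.presheaf.map (homOfLE hW₂).op t' := by
      rw [← ha', ← ha'']
      exact tensorMapLeft_tmulREquiv (kernel.ι p) hey inf_le_right a''
    calc S.X₃.presheaf.map (homOfLE (hW₂.trans hW₁)).op c'
        = S.X₃.presheaf.map (homOfLE hW₂).op (S.X₃.presheaf.map (homOfLE hW₁).op c') :=
          (res_res S.X₃ hW₁ hW₂ c').symm
      _ = S.X₃.presheaf.map (homOfLE hW₂).op ((S.g.app W₁).hom t') := by rw [ht']
      _ = (S.g.app (W₁ ⊓ Uy)).hom (S.X₂.presheaf.map (homOfLE hW₂).op t') :=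
          hom_app_res S.g hW₂ t'
      _ = (S.g.app (W₁ ⊓ Uy)).hom ((S.f.app (W₁ ⊓ Uy)).hom
            (tmulREquiv (kernel p) hey inf_le_right a'')) := by rw [h1]
      _ = 0 := congrArg (fun ψ => (Scheme.Modules.Hom.app ψ (W₁ ⊓ Uy)).hom
            (tmulREquiv (kernel p) hey inf_le_right a'')) S.zero
  -- the global section of the cokernel
  obtain ⟨a, ha⟩ := exists_incl_eq_one hU
  let t₀ : Γ(S.X₂, U) := tmulREquiv (ClSub.idealMod (IU U)) heM le_rfl a
  let V : X.Opens := ⟨({x} : Set X)ᶜ, hx.isOpen_compl⟩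
  have hUV : ∀ c' : Γ(S.X₃, U ⊓ V), c' = 0 := hA (U ⊓ V) (fun h => h.2 rfl)
  obtain ⟨c, hc1, -⟩ := exists_glue₂ S.X₃ ((S.g.app U).hom t₀) (0 : Γ(S.X₃, V))
    ((hUV _).trans (hUV _).symm)
  have htop : U ⊔ V = ⊤ := by
    ext y
    simp only [Opens.coe_sup, Opens.coe_top, Set.mem_univ, iff_true]
    by_cases hyx : y = x
    · exact Or.inl (hyx ▸ hxU)
    · exact Or.inr hyx
  obtain ⟨t, ht⟩ := hsurj (S.X₃.presheaf.map (homOfLE htop.ge).op c)
  replace ht : (S.g.app ⊤).hom t = S.X₃.presheaf.map (homOfLE htop.ge).op c := ht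
  -- the section of `L^(n+1)`
  let σ : Γ(CohB1.tensorPow L (n + 1), ⊤) :=
    ((mulHom (inclHom (IU U)) (CohB1.tensorPow L (n + 1))).app ⊤).hom t
  refine ⟨n, secHom _ σ, ?_⟩
  have hvalW : ∀ (W : X.Opens) (e : Γ(CohB1.tensorPow L (n + 1), W))
      (he : IsGen (CohB1.tensorPow L (n + 1)) W e) (b : Γ(ClSub.idealMod (IU U), W)),
      tmulREquiv (ClSub.idealMod (IU U)) he le_rfl b =
        S.X₂.presheaf.map (homOfLE (le_top : W ≤ ⊤)).op t →
      (show Γ(X, W) from incl (IU U) W b) • e = val (secHom _ σ) W := by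
    intro W e he b hb
    rw [val_secHom]
    have h1 := hom_app_res (mulHom (inclHom (IU U)) (CohB1.tensorPow L (n + 1)))
      (le_top : W ≤ ⊤) t
    refine Eq.trans ?_ h1.symm
    have h2 : S.X₂.presheaf.map (homOfLE (le_top : W ≤ ⊤)).op t =
        (CohB1.tensorMod (ClSub.idealMod (IU U)) (CohB1.tensorPow L (n + 1))).presheaf.map
          (homOfLE (le_top : W ≤ ⊤)).op t := rfl
    rw [← h2, ← hb, mulHom_tmulREquiv, res_self]
    rfl
  have hle : CohB1.genLocus _ (secHom _ σ) ≤ U := by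
    intro y hy
    by_contra hyU
    have hyS : y ∈ (IU U).support := by
      change y ∈ ((IU U).support : Set X)
      rw [support_IU]
      exact hyU
    obtain ⟨Uy, hyUy, ey, hey⟩ := (isInvertible_iff_exists_isGen.mp hM) y
    obtain ⟨by', hby⟩ := (tmulREquiv (ClSub.idealMod (IU U)) hey le_rfl).surjective
      (S.X₂.presheaf.map (homOfLE (le_top : Uy ≤ ⊤)).op t)
    rw [mem_genLocus_iff_of_isGen hey _ _ (hvalW Uy ey hey by' hby) y hyUy] at hy
    exact basicOpen_incl_disjoint_support' (IU U) by' y hyS hy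
  constructor
  · obtain ⟨b, hb⟩ := (tmulREquiv (ClSub.idealMod (IU U)) heM le_rfl).surjective
      (S.X₂.presheaf.map (homOfLE (le_top : U ≤ ⊤)).op t)
    rw [mem_genLocus_iff_of_isGen heM _ _ (hvalW U eM heM b hb) x hxU]
    -- compare with `t₀`
    have hg : (S.g.app U).hom (tmulREquiv (ClSub.idealMod (IU U)) heM le_rfl (b - a)) = 0 := by
      rw [map_sub, map_sub, hb, ← hom_app_res S.g (le_top : U ≤ ⊤) t, ht, res_res]
      change S.X₃.presheaf.map (homOfLE (le_sup_left : U ≤ U ⊔ V)).op c - (S.g.app U).hom t₀ = 0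
      rw [hc1, sub_self]
    obtain ⟨z', hz'⟩ := exists_of_shortExact_app_eq_zero hS U _ hg
    obtain ⟨b', rfl⟩ := (tmulREquiv (kernel p) heM le_rfl).surjective z'
    have h3 : (S.f.app U).hom (tmulREquiv (kernel p) heM le_rfl b') =
        tmulREquiv (ClSub.idealMod (IU U)) heM le_rfl (((kernel.ι p).app U).hom b') :=
      tensorMapLeft_tmulREquiv (kernel.ι p) heM le_rfl b'
    rw [h3] at hz'
    have h4 : ((kernel.ι p).app U).hom b' = b - a :=
      (tmulREquiv (ClSub.idealMod (IU U)) heM le_rfl).injective hz'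
    have h5 : (p.app U).hom (((kernel.ι p).app U).hom b') = 0 :=
      Groth.Agent.Lib.Helper2.KerSec.app_kernelι_comp p U b'
    rw [h4] at h5
    apply mem_basicOpen_of_app_eq_one x hxU
    have h6 : ((X.fromSpecResidueField x).app U).hom (incl (IU U) U (b - a)) = 0 := h5
    have h7 : incl (IU U) U (b - a) = incl (IU U) U b - 1 := by
      rw [← ha]
      exact map_sub ((inclHom (IU U)).app U).hom b a
    rw [h7, map_sub, map_one, sub_eq_zero] at h6
    exact h6
  · have : CohB1.genLocus _ (secHom _ σ) = U ⊓ CohB1.genLocus _ (secHom _ σ) :=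
      (inf_eq_right.mpr hle).symm
    rw [this]
    exact isAffineOpen_inf_genLocus hM _ hU

/-- **Cohomological criterion of ampleness** (`H¹(I ⊗ L^n) = 0` for quasi-coherent ideals). -/
theorem isAmple_of_H1 [CompactSpace X] (L : X.Modules) (hL : PicF.IsInvertible L)
    (h : ∀ (I : X.Modules) (i : I ⟶ Coh.structureModule X), Mono i → Coh.IsQCoh I →
      ∃ n : ℕ, Subsingleton (Coh.HH X (CohB1.tensorMod I (CohB1.tensorPow L (n + 1))) 1)) :
    CohB1.IsAmple L := by
  refine ⟨hL, inferInstance, fun y => ?_⟩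
  obtain ⟨x, hxy, hx⟩ := (isClosed_closure (s := ({y} : Set X))).exists_closed_singleton
    ⟨y, subset_closure rfl⟩
  obtain ⟨n, s, hxs, hs⟩ := exists_section_of_H1_of_isClosed_singleton L hL h x hx
  refine ⟨n, s, ?_, hs⟩
  obtain ⟨z, hz, hzy⟩ := mem_closure_iff.mp hxy _ (CohB1.genLocus _ s).isOpen hxs
  rw [Set.mem_singleton_iff] at hzy
  exact hzy ▸ hz

end Groth.Agent.Lib.Lead.Inv
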