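import Groth.Agent.Lib.Lead.Ample2
import Mathlib.AlgebraicGeometry.Noetherian
import Mathlib.AlgebraicGeometry.Morphisms.Proper

/-!
# Base loci of powers of an invertible module (lead seat library)
-/

set_option autoImplicit false
universe u

open AlgebraicGeometry CategoryTheory Opposite TopologicalSpace MonoidalCategory Limits

namespace Groth.Agent.Lib.Lead.Inv

variable {X : Scheme.{u}}

/-- The base locus of `L^{⊗ m}`. -/
def Bs (L : X.Modules) (m : ℕ) : Set X :=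
  {x : X | ∀ s : Coh.structureModule X ⟶ CohB1.tensorPow L m,
    x ∉ CohB1.genLocus (CohB1.tensorPow L m) s}

/-- The base locus of a module. -/
def Bs' (M : X.Modules) : Set X :=
  {x : X | ∀ s : Coh.structureModule X ⟶ M, x ∉ CohB1.genLocus M s}

theorem Bs_eq_Bs' (L : X.Modules) (m : ℕ) : Bs L m = Bs' (CohB1.tensorPow L m) := rfl

theorem isClosed_Bs' (M : X.Modules) : IsClosed (Bs' M) := by
  have : Bs' M = (⋃ s : Coh.structureModule X ⟶ M, (CohB1.genLocus M s : Set X))ᶜ := by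
    ext x
    simp [Bs']
  rw [this]
  exact (isOpen_iUnion fun s => (CohB1.genLocus M s).isOpen).isClosed_compl

theorem isClosed_Bs (L : X.Modules) (m : ℕ) : IsClosed (Bs L m) := isClosed_Bs' _

theorem Bs'_eq_of_iso {M M' : X.Modules} (h : Nonempty (M ≅ M')) : Bs' M = Bs' M' := by
  obtain ⟨e⟩ := h
  ext x
  constructor
  · intro hx s' hs'
    obtain ⟨s, hs⟩ := exists_section_of_iso ⟨e.symm⟩ s'
    exact hx s (hs ▸ hs')
  · intro hx s hs
    obtain ⟨s', hs'⟩ := exists_section_of_iso ⟨e⟩ s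
    exact hx s' (hs' ▸ hs)

theorem Bs_mul_subset_left {L : X.Modules} (hL : PicF.IsInvertible L) (a k : ℕ) (hk : 0 < k) :
    Bs L (a * k) ⊆ Bs L a := by
  obtain ⟨k, rfl⟩ : ∃ k', k = k' + 1 := ⟨k - 1, by omega⟩
  intro x hx s hs
  obtain ⟨s', hs'⟩ := exists_pow_section hL s k
  exact hx s' (hs' ▸ hs)

theorem Bs_mul_subset_right {L : X.Modules} (hL : PicF.IsInvertible L) (a k : ℕ) (hk : 0 < k) :
    Bs L (k * a) ⊆ Bs L a := by
  rw [Nat.mul_comm]
  exact Bs_mul_subset_left hL a k hk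

/-- The stable base locus. -/
def SB (L : X.Modules) : Set X :=
  {x : X | ∀ m : ℕ, 0 < m → ∀ s : Coh.structureModule X ⟶ CohB1.tensorPow L m,
    x ∉ CohB1.genLocus (CohB1.tensorPow L m) s}

theorem SB_eq (L : X.Modules) : SB L = ⋂ (m : ℕ) (_ : 0 < m), Bs L m := by
  ext x
  simp [SB, Bs]

theorem SB_subset (L : X.Modules) {m : ℕ} (hm : 0 < m) : SB L ⊆ Bs L m :=
  fun _ hx => hx m hm

/-- On a Noetherian space, some `Bs(L^{n₀})` is contained in every `Bs(L^m)`. -/
theorem exists_Bs_min [NoetherianSpace X] {L : X.Modules} (hL : PicF.IsInvertible L) :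
    ∃ n₀ : ℕ, 0 < n₀ ∧ ∀ m : ℕ, 0 < m → Bs L n₀ ⊆ Bs L m := by
  let S : Set (Closeds X) := {Z | ∃ m : ℕ, 0 < m ∧ (Z : Set X) = Bs L m}
  have hS : S.Nonempty := ⟨⟨Bs L 1, isClosed_Bs L 1⟩, 1, one_pos, rfl⟩
  obtain ⟨Z, ⟨n₀, hn₀, hZ⟩, hmin⟩ := wellFounded_lt.has_min S hS
  refine ⟨n₀, hn₀, fun m hm => ?_⟩
  let Z' : Closeds X := ⟨Bs L (n₀ * m), isClosed_Bs L _⟩
  have hZ'S : Z' ∈ S := ⟨n₀ * m, Nat.mul_pos hn₀ hm, rfl⟩
  have hle : Z' ≤ Z := by
    intro x hx
    change x ∈ (Z : Set X)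
    rw [hZ]
    exact Bs_mul_subset_left hL n₀ m hm hx
  have heq : Z' = Z := by
    by_contra hne
    exact hmin Z' hZ'S (lt_of_le_of_ne hle hne)
  have : Bs L n₀ = Bs L (n₀ * m) := by
    rw [← hZ, ← heq]
    rfl
  rw [this]
  exact Bs_mul_subset_right hL m n₀ hn₀

theorem exists_Bs_eq_SB [NoetherianSpace X] {L : X.Modules} (hL : PicF.IsInvertible L) :
    ∃ n₀ : ℕ, 0 < n₀ ∧ Bs L n₀ = SB L := by
  obtain ⟨n₀, hn₀, h⟩ := exists_Bs_min hL
  exact ⟨n₀, hn₀, Set.Subset.antisymm (fun x hx m hm => h m hm hx) (SB_subset L hn₀)⟩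

theorem SB_tensorPow {L : X.Modules} (hL : PicF.IsInvertible L) (p : ℕ) (hp : 0 < p) :
    SB (CohB1.tensorPow L p) = SB L := by
  have key : ∀ m, Bs (CohB1.tensorPow L p) m = Bs L (p * m) := fun m => by
    rw [Bs_eq_Bs', Bs_eq_Bs']
    exact Bs'_eq_of_iso (nonempty_tensorPow_mul hL p m)
  apply Set.Subset.antisymm
  · intro x hx m hm
    have h1 : x ∈ Bs (CohB1.tensorPow L p) m := hx m hm
    rw [key] at h1
    exact Bs_mul_subset_right hL m p hp h1
  · intro x hx m hm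
    have h1 : x ∈ Bs L (p * m) := hx (p * m) (Nat.mul_pos hp hm)
    rw [← key] at h1
    exact h1

/-- A scheme proper over a field is a Noetherian space. -/
theorem noetherianSpace_of_proper_field (k : Type u) [Field k] (f : X ⟶ Spec (CommRingCat.of k))
    [IsProper f] : NoetherianSpace X := by
  haveI : IsLocallyNoetherian (Spec (CommRingCat.of k)) := inferInstance
  haveI : IsLocallyNoetherian X := LocallyOfFiniteType.isLocallyNoetherian f
  haveI : CompactSpace X := QuasiCompact.compactSpace_of_compactSpace f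
  haveI : IsNoetherian X := { }
  infer_instance

end Groth.Agent.Lib.Lead.Inv
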