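import Mathlib.AlgebraicGeometry.Modules.Tilde
import Mathlib.RingTheory.Finiteness.Basic

/-!
# Finite type modules on `Spec R` (lead seat library)

For a quasi-coherent module `N` on `Spec R`: `N` has a finite family of global generating sections
iff `Γ(N)` is a finite `R`-module.
-/

set_option autoImplicit false
universe u

open AlgebraicGeometry CategoryTheory Opposite TopologicalSpace Limits

namespace Groth.Agent.Lib.Lead.CohAff

open Scheme.Modules

/-- `M` has a finite family of generating (global) sections. -/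
def HasFinGen {C : Type*} [Category C] {J : GrothendieckTopology C} {R : Sheaf J RingCat.{u}}
    [HasWeakSheafify J AddCommGrpCat.{u}] [J.WEqualsLocallyBijective AddCommGrpCat.{u}]
    [J.HasSheafCompose (forget₂ RingCat.{u} AddCommGrpCat.{u})]
    (M : SheafOfModules.{u} R) : Prop :=
  ∃ σ : M.GeneratingSections, Finite σ.I

variable {R : CommRingCat.{u}}

/-- An epimorphism between quasi-coherent modules on `Spec R` is surjective on global sections. -/
theorem epi_Γ_of_epi {M N : (Spec R).Modules} [M.IsQuasicoherent] [N.IsQuasicoherent]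
    (φ : M ⟶ N) [Epi φ] : Epi (moduleSpecΓFunctor.map φ) := by
  let P := SheafOfModules.isQuasicoherent (Spec R).ringCatSheaf
  let M' : P.FullSubcategory := ⟨M, ‹_›⟩
  let N' : P.FullSubcategory := ⟨N, ‹_›⟩
  let φ' : M' ⟶ N' := ObjectProperty.homMk φ
  haveI : Epi φ' := P.ι.epi_of_epi_map (by exact ‹Epi φ›)
  exact inferInstanceAs (Epi ((tildeEquiv (R := R)).inverse.map φ'))

theorem surjective_Γ_of_epi {M N : (Spec R).Modules} [M.IsQuasicoherent] [N.IsQuasicoherent]
    (φ : M ⟶ N) [Epi φ] : Function.Surjective (moduleSpecΓFunctor.map φ) := by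
  haveI := epi_Γ_of_epi φ
  exact (ModuleCat.epi_iff_surjective _).1 inferInstance

end Groth.Agent.Lib.Lead.CohAff

namespace Groth.Agent.Lib.Lead.CohAff

open Scheme.Modules

variable {R : CommRingCat.{u}}

instance isQuasicoherent_free (I : Type u) :
    (SheafOfModules.free.{u} (R := (Spec R).ringCatSheaf) I : (Spec R).Modules).IsQuasicoherent :=
  (isQuasicoherent_iff_isIso_fromTildeΓ _).2 (isIso_fromTildeΓ_iff.mpr ⟨_, ⟨tildeFinsupp _⟩⟩)

/-- Global sections of the free module on `Spec R`. -/
noncomputable def ΓfreeIso (I : Type u) :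
    moduleSpecΓFunctor.obj (SheafOfModules.free.{u} (R := (Spec R).ringCatSheaf) I) ≅
      ModuleCat.of R (I →₀ R) :=
  moduleSpecΓFunctor.mapIso (tildeFinsupp I).symm ≪≫ (tilde.toTildeΓNatIso.app _).symm

/-- A quasi-coherent module on `Spec R` with finitely many generating sections has finite global
sections. -/
theorem finite_Γ_of_hasFinGen (N : (Spec R).Modules) [N.IsQuasicoherent]
    (h : HasFinGen (R := (Spec R).ringCatSheaf) N) : Module.Finite R (moduleSpecΓFunctor.obj N) := by
  obtain ⟨σ, hσ⟩ := h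
  let p : (SheafOfModules.free.{u} σ.I : (Spec R).Modules) ⟶ N := σ.π
  have hp : Epi p := by exact σ.epi
  have hsurj := @surjective_Γ_of_epi R _ _ _ _ p hp
  haveI : Module.Finite R (moduleSpecΓFunctor.obj
      (SheafOfModules.free.{u} (R := (Spec R).ringCatSheaf) σ.I)) :=
    Module.Finite.equiv (ΓfreeIso (R := R) σ.I).toLinearEquiv.symm
  exact Module.Finite.of_surjective (moduleSpecΓFunctor.map p).hom hsurj

end Groth.Agent.Lib.Lead.CohAff

namespace Groth.Agent.Lib.Lead.CohAff

open Scheme.Modules

variable {R : CommRingCat.{u}}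

/-- Build finite generating sections from an epimorphism out of a finite free module. -/
theorem hasFinGen_of_epi {C : Type*} [Category C] {J : GrothendieckTopology C}
    {R : Sheaf J RingCat.{u}}
    [HasWeakSheafify J AddCommGrpCat.{u}] [J.WEqualsLocallyBijective AddCommGrpCat.{u}]
    [J.HasSheafCompose (forget₂ RingCat.{u} AddCommGrpCat.{u})]
    {M : SheafOfModules.{u} R} {I : Type u} [Finite I] (p : SheafOfModules.free I ⟶ M) [Epi p] :
    HasFinGen M :=
  ⟨{ I := I
     s := M.freeHomEquiv p
     epi := by rw [Equiv.symm_apply_apply]; infer_instance }, ‹Finite I›⟩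

theorem exists_epi_of_finite (G : ModuleCat.{u} R) [Module.Finite R G] :
    ∃ (n : ℕ) (ψ' : ModuleCat.of R (ULift.{u} (Fin n) →₀ R) ⟶ G), Epi ψ' := by
  obtain ⟨n, ψ, hψ⟩ := Module.Finite.exists_fin' R G
  let e : (ULift.{u} (Fin n) →₀ R) ≃ₗ[R] (Fin n → R) :=
    (Finsupp.domLCongr Equiv.ulift) ≪≫ₗ Finsupp.linearEquivFunOnFinite R R (Fin n)
  refine ⟨n, ModuleCat.ofHom (ψ ∘ₗ e.toLinearMap), (ModuleCat.epi_iff_surjective _).2 ?_⟩
  exact hψ.comp e.surjective

/-- A quasi-coherent module on `Spec R` with finite global sections has finitely many generating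
sections. -/
theorem hasFinGen_of_finite_Γ (N : (Spec R).Modules) [N.IsQuasicoherent]
    [Module.Finite R (moduleSpecΓFunctor.obj N)] : HasFinGen (R := (Spec R).ringCatSheaf) N := by
  obtain ⟨n, ψ', hψ'⟩ := exists_epi_of_finite (moduleSpecΓFunctor.obj N)
  have h3 : Epi N.fromTildeΓ := by
    haveI : IsIso N.fromTildeΓ := Scheme.Modules.isIso_fromTildeΓ_of_isQuasicoherent N
    infer_instance
  have h2 : Epi (tilde.map ψ') := inferInstanceAs (Epi ((tilde.functor R).map ψ'))
  have h1 : Epi (tildeFinsupp (R := R) (ULift.{u} (Fin n))).inv := inferInstance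
  let p : (SheafOfModules.free.{u} (ULift.{u} (Fin n)) : (Spec R).Modules) ⟶ N :=
    (tildeFinsupp _).inv ≫ tilde.map ψ' ≫ N.fromTildeΓ
  haveI : Epi p := epi_comp' h1 (epi_comp' h2 h3)
  exact hasFinGen_of_epi (R := (Spec R).ringCatSheaf) (I := ULift.{u} (Fin n)) p

end Groth.Agent.Lib.Lead.CohAff
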