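import Groth.Agent.Lib.Lead.CohAff1
import Groth.Agent.Lib.Lead.QCohLocal

/-!
# Transport of finite generating families between opens, affine charts and slices
(lead seat library)
-/

set_option autoImplicit false
universe u

open AlgebraicGeometry CategoryTheory Opposite TopologicalSpace Limits

namespace Groth.Agent.Lib.Lead.CohAff

open Scheme.Modules

section general

variable {C : Type*} [Category C] {J : GrothendieckTopology C} {R : Sheaf J RingCat.{u}}
  [HasSheafify J AddCommGrpCat.{u}] [J.WEqualsLocallyBijective AddCommGrpCat.{u}]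
  {C' : Type*} [Category C'] {J' : GrothendieckTopology C'} {S : Sheaf J' RingCat.{u}}
  [HasSheafify J' AddCommGrpCat.{u}] [J'.WEqualsLocallyBijective AddCommGrpCat.{u}]

theorem HasFinGen.map {M : SheafOfModules.{u} R} (h : HasFinGen M)
    (F : SheafOfModules.{u} R ⥤ SheafOfModules.{u} S) [PreservesColimitsOfSize.{u, u} F]
    (η : SheafOfModules.unit S ≅ F.obj (SheafOfModules.unit R)) : HasFinGen (F.obj M) := by
  obtain ⟨σ, hσ⟩ := h
  exact ⟨σ.map F η, hσ⟩

theorem HasFinGen.of_iso {M N : SheafOfModules.{u} R} (h : HasFinGen M) (e : M ≅ N) :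
    HasFinGen N := by
  obtain ⟨σ, hσ⟩ := h
  exact ⟨σ.ofEpi e.hom, hσ⟩

end general

variable {X : Scheme.{u}} (M : X.Modules)

set_option backward.isDefEq.respectTransparency false in
/-- From a slice `M.over W` to an affine chart `Spec Γ(X, D) ⟶ X` with `D ≤ W`. -/
theorem hasFinGen_fromSpec_of_over {W D : X.Opens} (hD : IsAffineOpen D) (hDW : D ≤ W)
    (h : HasFinGen (SheafOfModules.over (R := X.ringCatSheaf) M W)) :
    HasFinGen (R := (Spec Γ(X, D)).ringCatSheaf) (M.restrict hD.fromSpec) := by
  let u := X.homOfLE hDW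
  have : PreservesColimitsOfSize.{u, u} (restrictFunctor u) := inferInstance
  let F := (overEquiv W).functor ⋙ restrictFunctor u
  let iso : SheafOfModules.overFunctor X.ringCatSheaf W ⋙ F ≅ restrictFunctor D.ι :=
    (Functor.associator _ _ _).symm ≪≫
      Functor.isoWhiskerRight (Scheme.Modules.overFunctorEquiv _) _ ≪≫
      (restrictFunctorComp _ _).symm ≪≫ (restrictFunctorCongr (by simp [u]))
  have h1 : HasFinGen (R := D.toScheme.ringCatSheaf) (M.restrict D.ι) :=
    (h.map F (Scheme.Modules.restrictUnitIso _).symm).of_iso (iso.app M)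
  have : PreservesColimitsOfSize.{u, u} (restrictFunctor hD.isoSpec.inv) := inferInstance
  exact (h1.map (restrictFunctor hD.isoSpec.inv) (Scheme.Modules.restrictUnitIso _).symm).of_iso
    ((restrictFunctorComp hD.isoSpec.inv D.ι).app M).symm

set_option backward.isDefEq.respectTransparency false in
/-- From an affine chart `Spec Γ(X, U) ⟶ X` to the slice `M.over U`. -/
theorem hasFinGen_over_of_fromSpec {U : X.Opens} (hU : IsAffineOpen U)
    (h : HasFinGen (R := (Spec Γ(X, U)).ringCatSheaf) (M.restrict hU.fromSpec)) :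
    HasFinGen (SheafOfModules.over (R := X.ringCatSheaf) M U) := by
  have : PreservesColimitsOfSize.{u, u} (restrictFunctor hU.isoSpec.hom) := inferInstance
  have h1 : HasFinGen (R := U.toScheme.ringCatSheaf) (M.restrict U.ι) :=
    ((h.map (restrictFunctor hU.isoSpec.hom) (Scheme.Modules.restrictUnitIso _).symm).of_iso
      ((restrictFunctorComp hU.isoSpec.hom hU.fromSpec).app M).symm).of_iso
      ((restrictFunctorCongr (hU.isoSpec_hom_fromSpec)).app M)
  let E := overEquiv U
  let i : E.inverse.obj (M.restrict U.ι) ≅ SheafOfModules.over (R := X.ringCatSheaf) M U :=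
    E.inverse.mapIso ((overFunctorEquiv U).app M).symm ≪≫ (E.unitIso.app _).symm
  exact (h1.map E.inverse
    (TopologicalSpace.Opens.sheafOfModulesEquivOverInverseUnit _ _).symm).of_iso i

end Groth.Agent.Lib.Lead.CohAff
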