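import Groth.Agent.Lib.Lead.CoprodAmple
import Groth.Prelude.Def_RelProj
import Mathlib.AlgebraicGeometry.Morphisms.FiniteType

set_option autoImplicit false
universe u

open AlgebraicGeometry CategoryTheory Opposite TopologicalSpace MonoidalCategory Limits
open Scheme.Modules

namespace Groth.Agent.Lib.Lead.Inv

open Groth.Agent.Lib.Lead.SheafGlue

variable {X X' Y : Scheme.{u}}

theorem isRelAmple_of_iso (f : X ⟶ Y) {L L' : X.Modules} (e : L ≅ L')
    (h : RelAmple.IsRelAmple f L) : RelAmple.IsRelAmple f L' :=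
  ⟨h.1, fun V => Groth.Agent.Lib.Helper35.Ample.isAmple_of_iso
    ((Scheme.Modules.restrictFunctor (f ⁻¹ᵁ V.1).ι).mapIso e) (h.2 V)⟩

/-- A module all of whose sections vanish is zero. -/
theorem isZero_of_forall_eq_zero (M : X.Modules) (h : ∀ (W : X.Opens) (t : Γ(M, W)), t = 0) :
    IsZero M := by
  rw [IsZero.iff_id_eq_zero]
  apply Scheme.Modules.hom_ext
  intro W
  ext t
  exact h W t

/-- Restricting along `j` a pushforward along `j'` with disjoint range gives zero. -/
theorem isZero_restrict_pushforward_of_disjoint {Z U U' : Scheme.{u}} (j : U ⟶ Z) (j' : U' ⟶ Z)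
    [IsOpenImmersion j] [IsOpenImmersion j'] (hd : j.opensRange ⊓ j'.opensRange = ⊥) (N : U'.Modules) :
    IsZero (((pushforward j').obj N).restrict j) := by
  apply isZero_of_forall_eq_zero
  intro W t
  have hbot : j' ⁻¹ᵁ (j ''ᵁ W) = ⊥ := by
    ext z
    simp only [Opens.coe_bot, Set.mem_empty_iff_false, iff_false]
    intro hz
    have h1 : j' z ∈ j.opensRange ⊓ j'.opensRange :=
      ⟨j.image_le_opensRange W hz, ⟨z, rfl⟩⟩
    rw [hd] at h1
    exact h1
  exact eq_zero_of_bot (F := N) hbot t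

section CoprodMod

variable (L : X.Modules) (L' : X'.Modules)

/-- A module on `X ⨿ X'` with prescribed restrictions to the two summands. -/
noncomputable def coprodMod : (X ⨿ X').Modules :=
  (pushforward (coprod.inl : X ⟶ X ⨿ X')).obj L ⊞ (pushforward (coprod.inr : X' ⟶ X ⨿ X')).obj L'

theorem nonempty_pullback_inl_coprodMod :
    Nonempty ((Scheme.Modules.pullback (coprod.inl : X ⟶ X ⨿ X')).obj (coprodMod L L') ≅ L) := by
  haveI : PreservesBinaryBiproducts (Scheme.Modules.pullback (coprod.inl : X ⟶ X ⨿ X')) :=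
    preservesBinaryBiproducts_of_preservesBiproducts _
  have hQ : IsZero ((Scheme.Modules.pullback (coprod.inl : X ⟶ X ⨿ X')).obj
      ((pushforward (coprod.inr : X' ⟶ X ⨿ X')).obj L')) :=
    IsZero.of_iso (isZero_restrict_pushforward_of_disjoint coprod.inl coprod.inr
      (isCompl_opensRange_inl_inr X X').inf_eq_bot L')
      ((restrictFunctorIsoPullback (coprod.inl : X ⟶ X ⨿ X')).app _).symm
  exact ⟨(Scheme.Modules.pullback (coprod.inl : X ⟶ X ⨿ X')).mapBiprod _ _ ≪≫ (isoBiprodZero hQ).symm ≪≫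
    ((restrictFunctorIsoPullback (coprod.inl : X ⟶ X ⨿ X')).app _).symm ≪≫
    asIso ((restrictAdjunction (coprod.inl : X ⟶ X ⨿ X')).counit.app L)⟩

theorem nonempty_pullback_inr_coprodMod :
    Nonempty ((Scheme.Modules.pullback (coprod.inr : X' ⟶ X ⨿ X')).obj (coprodMod L L') ≅ L') := by
  haveI : PreservesBinaryBiproducts (Scheme.Modules.pullback (coprod.inr : X' ⟶ X ⨿ X')) :=
    preservesBinaryBiproducts_of_preservesBiproducts _
  have hQ : IsZero ((Scheme.Modules.pullback (coprod.inr : X' ⟶ X ⨿ X')).obj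
      ((pushforward (coprod.inl : X ⟶ X ⨿ X')).obj L)) :=
    IsZero.of_iso (isZero_restrict_pushforward_of_disjoint coprod.inr coprod.inl
      (by rw [inf_comm]; exact (isCompl_opensRange_inl_inr X X').inf_eq_bot) L)
      ((restrictFunctorIsoPullback (coprod.inr : X' ⟶ X ⨿ X')).app _).symm
  exact ⟨(Scheme.Modules.pullback (coprod.inr : X' ⟶ X ⨿ X')).mapBiprod _ _ ≪≫ (isoZeroBiprod hQ).symm ≪≫
    ((restrictFunctorIsoPullback (coprod.inr : X' ⟶ X ⨿ X')).app _).symm ≪≫
    asIso ((restrictAdjunction (coprod.inr : X' ⟶ X ⨿ X')).counit.app L')⟩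

end CoprodMod

theorem locallyOfFiniteType_coprod_desc (f : X ⟶ Y) (f' : X' ⟶ Y) [LocallyOfFiniteType f]
    [LocallyOfFiniteType f'] : LocallyOfFiniteType (coprod.desc f f') := by
  haveI : IsZariskiLocalAtSource @LocallyOfFiniteType :=
    HasRingHomProperty.instIsZariskiLocalAtSource
  rw [IsZariskiLocalAtSource.iff_of_openCover (P := @LocallyOfFiniteType)
    (coprodOpenCover.{_, 0} X X')]
  rintro (⟨⟨⟩⟩ | ⟨⟨⟩⟩)
  · change LocallyOfFiniteType (coprod.inl ≫ coprod.desc f f')
    rw [coprod.inl_desc]; infer_instance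
  · change LocallyOfFiniteType (coprod.inr ≫ coprod.desc f f')
    rw [coprod.inr_desc]; infer_instance

/-- The disjoint union of two quasi-projective morphisms is quasi-projective. -/
theorem isQuasiProjective_coprod_desc (f : X ⟶ Y) (f' : X' ⟶ Y)
    (hf : RelProj.IsQuasiProjective f) (hf' : RelProj.IsQuasiProjective f') :
    RelProj.IsQuasiProjective (coprod.desc f f') := by
  obtain ⟨h1, h2, L, hL⟩ := hf
  obtain ⟨h1', h2', L', hL'⟩ := hf'
  haveI := h1; haveI := h2; haveI := h1'; haveI := h2'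
  refine ⟨locallyOfFiniteType_coprod_desc f f', quasiCompact_coprod_desc f f',
    coprodMod L L', ?_⟩
  rw [isRelAmple_coprod_iff]
  obtain ⟨e⟩ := nonempty_pullback_inl_coprodMod L L'
  obtain ⟨e'⟩ := nonempty_pullback_inr_coprodMod L L'
  exact ⟨isRelAmple_of_iso f e.symm hL, isRelAmple_of_iso f' e'.symm hL'⟩

end Groth.Agent.Lib.Lead.Inv
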