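import Groth.Agent.Lib.Lead.QAffCounit
import Groth.Agent.Lib.Lead.RelAmp3
import Groth.Agent.Lib.Lead.Ample2

/-!
# Epimorphic counit `f^* f_* M ⟶ M` for invertible `M` and relative ampleness (lead seat library)
-/

set_option autoImplicit false
universe u

open AlgebraicGeometry CategoryTheory Opposite TopologicalSpace MonoidalCategory Limits
open Scheme.Modules

namespace Groth.Agent.Lib.Lead.Inv

open Groth.Agent.Lib.Helper35.GlobGen Groth.Agent.Lib.Lead.QCohAff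

variable {X Y : Scheme.{u}} (f : X ⟶ Y) {M : X.Modules}

/-- The morphism `O_U ⟶ M|_U` determined by a section `e` of `M` over `U`. -/
noncomputable def genHom {U : X.Opens} (e : Γ(M, U)) :
    Coh.structureModule (↑U : Scheme.{u}) ⟶ M.restrict U.ι :=
  secHom _ (show Γ(M.restrict U.ι, ⊤) from M.presheaf.map (homOfLE U.ι_image_top.le).op e)

theorem genHom_app {U : X.Opens} (e : Γ(M, U)) (V : (↑U : Scheme.{u}).Opens)
    (r : Γ(X, U.ι ''ᵁ V)) :
    ((genHom e).app V).hom r = r • M.presheaf.map (homOfLE (U.ι_image_le V)).op e := by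
  have hres : ((M.restrict U.ι).presheaf.map (homOfLE (le_top : V ≤ ⊤)).op).hom
      (show Γ(M.restrict U.ι, ⊤) from M.presheaf.map (homOfLE U.ι_image_top.le).op e) =
      M.presheaf.map (homOfLE (U.ι_image_le V)).op e := by
    rw [Scheme.Modules.restrict_map]
    exact map_map'' M _ _ _ e
  have h1 := secHom_app (M.restrict U.ι)
    (show Γ(M.restrict U.ι, ⊤) from M.presheaf.map (homOfLE U.ι_image_top.le).op e) V r
  rw [hres] at h1
  exact h1.trans (restrict_smul U V r _)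

theorem isIso_genHom {U : X.Opens} {e : Γ(M, U)} (he : IsGen M U e) : IsIso (genHom e) := by
  apply Groth.Agent.Lib.Helper60.TensorLib.isIso_of_app_bijective
  intro V
  have := he (U.ι ''ᵁ V) (U.ι_image_le V)
  refine ⟨fun a b hab => this.1 ?_, fun y => ?_⟩
  · exact ((genHom_app e V a).symm.trans hab).trans (genHom_app e V b)
  · obtain ⟨r, hr⟩ := this.2 y
    exact ⟨r, (genHom_app e V r).trans hr⟩

theorem inv_genHom_app {U : X.Opens} {e : Γ(M, U)} (he : IsGen M U e)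
    (V : (↑U : Scheme.{u}).Opens) (m : Γ(M, U.ι ''ᵁ V)) :
    haveI := isIso_genHom he
    ((inv (genHom e)).app V).hom m = he.coeff (U.ι_image_le V) m := by
  haveI := isIso_genHom he
  have h1 : ((genHom e).app V).hom (he.coeff (U.ι_image_le V) m) = m := by
    exact (genHom_app e V _).trans (he.coeff_smul _ m)
  have h2 : ((inv (genHom e)).app V).hom (((genHom e).app V).hom (he.coeff (U.ι_image_le V) m)) =
      he.coeff (U.ι_image_le V) m := by
    have := congrArg (fun φ : Coh.structureModule (↑U : Scheme.{u}) ⟶ Coh.structureModule (↑U : Scheme.{u}) =>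
      (Scheme.Modules.Hom.app φ V).hom
        (show Γ(Coh.structureModule (↑U : Scheme.{u}), V) from he.coeff (U.ι_image_le V) m))
      (IsIso.hom_inv_id (genHom e))
    exact this
  rw [h1] at h2
  exact h2

/-- Evaluation of the coefficient (w.r.t. a local generator) at a point. -/
noncomputable def evGen {U : X.Opens} {e : Γ(M, U)} (he : IsGen M U e) (x : (↑U : Scheme.{u})) :
    M ⟶ (pushforward U.ι).obj ((pushforward ((↑U : Scheme.{u}).fromSpecResidueField x)).obj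
      (Coh.structureModule (Spec ((↑U : Scheme.{u}).residueField x)))) :=
  haveI := isIso_genHom he
  (restrictAdjunction U.ι).unit.app M ≫
    (pushforward U.ι).map ((inv (genHom e) : M.restrict U.ι ⟶ Coh.structureModule (↑U : Scheme.{u})) ≫
      evPt (X := (↑U : Scheme.{u})) x)

theorem evGen_app {U : X.Opens} {e : Γ(M, U)} (he : IsGen M U e) (x : (↑U : Scheme.{u})) (W : X.Opens)
    (σ : Γ(M, W)) :
    ((evGen he x).app W).hom σ =
      ((evPt x).app (U.ι ⁻¹ᵁ W)).hom (he.coeff (U.ι_image_le _)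
        (M.presheaf.map (homOfLE (U.ι.image_preimage_le W)).op σ)) := by
  haveI := isIso_genHom he
  refine Eq.trans ?_ (congrArg ((evPt (X := (↑U : Scheme.{u})) x).app (U.ι ⁻¹ᵁ W)).hom
    (inv_genHom_app he (U.ι ⁻¹ᵁ W) (M.presheaf.map (homOfLE (U.ι.image_preimage_le W)).op σ)))
  rfl

/-- If the counit `f^* f_* M ⟶ M` is an epimorphism and `M` is invertible, every point has a
neighbourhood on which `M` is generated by a section of `M` over the preimage of an open of `Y`. -/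
theorem exists_isGen_of_epi_counit (M : X.Modules)
    [Epi ((pullbackPushforwardAdjunction f).counit.app M)] {U : X.Opens} {e : Γ(M, U)}
    (he : IsGen M U e) (x : X) (hx : x ∈ U) :
    ∃ (V' : Y.Opens) (σ : Γ(M, f ⁻¹ᵁ V')) (W : X.Opens) (hW : W ≤ f ⁻¹ᵁ V'), x ∈ W ∧
      IsGen M W (M.presheaf.map (homOfLE hW).op σ) := by
  by_contra hcon
  push Not at hcon
  obtain ⟨x', rfl⟩ : ∃ x' : (↑U : Scheme.{u}), U.ι x' = x := ⟨⟨x, hx⟩, rfl⟩
  have hzero : (pushforward f).map (evGen he x') = 0 := by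
    apply Scheme.Modules.hom_ext
    intro V'
    ext σ0
    suffices key : ∀ σ : Γ(M, f ⁻¹ᵁ V'), ((evGen he x').app (f ⁻¹ᵁ V')).hom σ = 0 from key σ0
    intro σ
    refine (evGen_app he x' (f ⁻¹ᵁ V') σ).trans ?_
    apply evPt_eq_zero_of_notMem_basicOpen (X := (↑U : Scheme.{u}))
    intro hxc0
    set W' : X.Opens := U.ι ''ᵁ (U.ι ⁻¹ᵁ (f ⁻¹ᵁ V')) with hW'
    have hW'U : W' ≤ U := U.ι_image_le _
    have hW'V : W' ≤ f ⁻¹ᵁ V' := U.ι.image_preimage_le _
    set c : Γ(X, W') := he.coeff hW'U (M.presheaf.map (homOfLE hW'V).op σ) with hc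
    have hxc : U.ι x' ∈ X.basicOpen c :=
      (Scheme.Opens.mem_basicOpen_toScheme (U := U) (V := U.ι ⁻¹ᵁ (f ⁻¹ᵁ V'))
        (r := (show Γ(↑U, U.ι ⁻¹ᵁ (f ⁻¹ᵁ V')) from c)) (x := x')).mp hxc0
    have hcs : c • M.presheaf.map (homOfLE hW'U).op e = M.presheaf.map (homOfLE hW'V).op σ :=
      he.coeff_smul hW'U _
    have hgen := ((he.res hW'U).isGen_smul_iff c (X.basicOpen_le c)).mpr le_rfl
    rw [hcs, res_res] at hgen
    exact hcon V' σ (X.basicOpen c) ((X.basicOpen_le c).trans hW'V) hxc hgen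
  have hg := eq_zero_of_pushforward_map_eq_zero f M _ hzero
  have h2 := congrArg (fun ψ => (Scheme.Modules.Hom.app ψ U).hom e) hg
  have h2' := (evGen_app he x' U e).symm.trans h2
  have h4 : he.coeff (U.ι_image_le (U.ι ⁻¹ᵁ U))
      (M.presheaf.map (homOfLE (U.ι.image_preimage_le U)).op e) = 1 := he.coeff_self _
  have h5 : x' ∈ (↑U : Scheme.{u}).basicOpen (1 : Γ(↑U, U.ι ⁻¹ᵁ U)) := by
    rw [Scheme.basicOpen_of_isUnit _ isUnit_one]
    exact hx
  have h6 := evPt_ne_zero_of_mem_basicOpen (X := (↑U : Scheme.{u})) x' _ h5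
  apply h6
  refine Eq.trans ?_ h2'
  exact (congrArg ((evPt (X := (↑U : Scheme.{u})) x').app (U.ι ⁻¹ᵁ U)).hom h4).symm

/-- A unit multiple of a generator is a generator. -/
theorem IsGen.smul_of_isUnit {U : X.Opens} {e : Γ(M, U)} (he : IsGen M U e) (a : Γ(X, U))
    (ha : IsUnit a) : IsGen M U (a • e) := by
  have h := (he.isGen_smul_iff a (le_refl U)).mpr
    (by rw [Scheme.basicOpen_of_isUnit _ ha])
  rw [res_self] at h
  exact h

/-- Under an epimorphic counit, an invertible module is generated near every point of `f⁻¹ V`,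
`V` affine, by a section over `f⁻¹ V`. -/
theorem exists_isGen_preimage_of_epi_counit (M : X.Modules) (hM : PicF.IsInvertible M)
    [Epi ((pullbackPushforwardAdjunction f).counit.app M)] (V : Y.Opens) (hV : IsAffineOpen V)
    (hc : IsCompact (f ⁻¹ᵁ V : Set X)) (hqs : IsQuasiSeparated (f ⁻¹ᵁ V : Set X))
    (x : X) (hx : x ∈ f ⁻¹ᵁ V) :
    ∃ (τ : Γ(M, f ⁻¹ᵁ V)) (W : X.Opens) (hW : W ≤ f ⁻¹ᵁ V), x ∈ W ∧
      IsGen M W (M.presheaf.map (homOfLE hW).op τ) := by
  haveI := isQuasicoherent_of_isInvertible hM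
  obtain ⟨U, hxU, e, he⟩ := isInvertible_iff_exists_isGen.mp hM x
  obtain ⟨V', σ, W, hW, hxW, hgen⟩ := exists_isGen_of_epi_counit f M he x hxU
  have hfx : f x ∈ V' ⊓ V := ⟨hW hxW, hx⟩
  obtain ⟨a, haV, hxa⟩ := hV.exists_basicOpen_le (V := V' ⊓ V) ⟨f x, hfx⟩ hfx.2
  set g : Γ(X, f ⁻¹ᵁ V) := f.app V a with hg
  have hDg : X.basicOpen g = f ⁻¹ᵁ (Y.basicOpen a) := (Scheme.preimage_basicOpen f a).symm
  have hDV' : X.basicOpen g ≤ f ⁻¹ᵁ V' := by
    rw [hDg]
    exact f.preimage_mono (haV.trans inf_le_left)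
  have hxg : x ∈ X.basicOpen g := by
    rw [hDg]
    exact hxa
  obtain ⟨n, τ, hτ⟩ := Groth.Agent.Lib.Lead.QcqsLoc.exists_res_eq_pow_smul_of_qcqs M hc hqs g
    (M.presheaf.map (homOfLE hDV').op σ)
  have hW₀g : W ⊓ X.basicOpen g ≤ X.basicOpen g := inf_le_right
  have hW₀W : W ⊓ X.basicOpen g ≤ W := inf_le_left
  have hW₀V : W ⊓ X.basicOpen g ≤ f ⁻¹ᵁ V := hW₀g.trans (X.basicOpen_le g)
  refine ⟨τ, W ⊓ X.basicOpen g, hW₀V, ⟨hxW, hxg⟩, ?_⟩
  have h1 := congrArg (M.presheaf.map (homOfLE hW₀g).op) hτ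
  rw [res_res, res_smul, map_pow, res_resX, res_res] at h1
  rw [h1]
  have h2 : IsGen M (W ⊓ X.basicOpen g) (M.presheaf.map (homOfLE (hW₀g.trans hDV')).op σ) := by
    have := hgen.res hW₀W
    rw [res_res] at this
    exact this
  refine h2.smul_of_isUnit _ (IsUnit.pow n ?_)
  have h3 : X.presheaf.map (homOfLE hW₀V).op g =
      X.presheaf.map (homOfLE hW₀g).op (X.presheaf.map (homOfLE (X.basicOpen_le g)).op g) := by
    rw [res_resX]
  rw [h3]
  exact (isUnit_res_basicOpen g).map _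

theorem isGen_restrict {U : X.Opens} (W₁ : (↑U : Scheme.{u}).Opens) (m : Γ(M, U.ι ''ᵁ W₁))
    (h : IsGen M (U.ι ''ᵁ W₁) m) :
    IsGen (M.restrict U.ι) W₁ (show Γ(M.restrict U.ι, W₁) from m) := by
  intro W' hW'
  have := h (U.ι ''ᵁ W') (U.ι.image_mono hW')
  have hfun : ∀ r : Γ(↑U, W'),
      (r • (M.restrict U.ι).presheaf.map (homOfLE hW').op (show Γ(M.restrict U.ι, W₁) from m) :
        Γ(M.restrict U.ι, W')) =
      (show Γ(X, U.ι ''ᵁ W') from r) • M.presheaf.map (homOfLE (U.ι.image_mono hW')).op m := by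
    intro r
    rw [restrict_smul]
    rfl
  refine ⟨fun a b hab => this.1 ((hfun a).symm.trans (hab.trans (hfun b))), fun y => ?_⟩
  obtain ⟨r, hr⟩ := this.2 y
  exact ⟨r, (hfun r).trans hr⟩

theorem mem_genLocus_genHom {U : X.Opens} (τ : Γ(M, U)) (W : X.Opens) (hW : W ≤ U)
    (hgen : IsGen M W (M.presheaf.map (homOfLE hW).op τ)) (x₁ : (↑U : Scheme.{u}))
    (hx : U.ι x₁ ∈ W) : x₁ ∈ CohB1.genLocus (M.restrict U.ι) (genHom τ) := by
  have hle : U.ι ''ᵁ (U.ι ⁻¹ᵁ W) ≤ W := U.ι.image_preimage_le W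
  have h1 : U.ι ⁻¹ᵁ W ≤ CohB1.genLocus (M.restrict U.ι) (genHom τ) := by
    rw [le_genLocus_iff_isGen]
    have h2 : (val (genHom τ) (U.ι ⁻¹ᵁ W) : Γ(M, U.ι ''ᵁ (U.ι ⁻¹ᵁ W))) =
        M.presheaf.map (homOfLE (U.ι_image_le _)).op τ := by
      refine (genHom_app τ (U.ι ⁻¹ᵁ W) 1).trans ?_
      exact one_smul Γ(X, U.ι ''ᵁ (U.ι ⁻¹ᵁ W))
        (M.presheaf.map (homOfLE (U.ι_image_le (U.ι ⁻¹ᵁ W))).op τ)
    have h3 := hgen.res hle
    rw [res_res] at h3
    have h4 := isGen_restrict (U.ι ⁻¹ᵁ W) _ h3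
    rw [← h2] at h4
    exact h4
  exact h1 hx

/-- `L` ample and every point in the generating locus of a section of a positive power of the
invertible `L'`: then `L ⊗ L'` is ample. -/
theorem isAmple_tensorMod_of_sections (L L' : X.Modules) (hL : CohB1.IsAmple L)
    (hL' : PicF.IsInvertible L')
    (h : ∀ x : X, ∃ (n : ℕ) (s' : Coh.structureModule X ⟶ CohB1.tensorPow L' (n + 1)),
      x ∈ CohB1.genLocus _ s') :
    CohB1.IsAmple (CohB1.tensorMod L L') := by
  obtain ⟨hLi, hc, ha⟩ := hL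
  refine ⟨isInvertible_tensorMod hLi hL', hc, fun x => ?_⟩
  obtain ⟨m, s, hxs, hs⟩ := ha x
  obtain ⟨n, s', hxs'⟩ := h x
  obtain ⟨k, u, hu⟩ := exists_section_tensor hLi hL' s s'
  refine ⟨k, u, ?_⟩
  rw [hu]
  exact ⟨⟨hxs, hxs'⟩, isAffineOpen_inf_genLocus (isInvertible_tensorPow hL' _) s' hs⟩

/-- **EGA II 4.6.13 (ii) style.** `L` `f`-ample, `L'` invertible with `f^* f_* L'^n ⟶ L'^n`
epi for some `n > 0`: then `L ⊗ L'` is `f`-ample. -/
theorem isRelAmple_tensorMod_of_epi_counit [QuasiCompact f] (L L' : X.Modules)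
    (hL : RelAmple.IsRelAmple f L) (hL' : PicF.IsInvertible L') (n : ℕ) (hn : 0 < n)
    (hepi : Epi ((pullbackPushforwardAdjunction f).counit.app (CohB1.tensorPow L' n))) :
    RelAmple.IsRelAmple f (CohB1.tensorMod L L') := by
  refine ⟨hL.1, fun V => ?_⟩
  have hA := hL.2 V
  have hInv' : PicF.IsInvertible (L'.restrict (f ⁻¹ᵁ V.1).ι) :=
    Groth.Agent.Lib.Helper35.ModRestrict.isInvertible_restrict _ L' hL'
  have hqs : QuasiSeparatedSpace (↑(f ⁻¹ᵁ V.1) : Scheme.{u}) :=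
    Groth.Agent.Lib.Helper35.Ample.quasiSeparatedSpace_of_cover_genLocus hA.1 hA.2.2
  have hqs' : IsQuasiSeparated ((f ⁻¹ᵁ V.1 : X.Opens) : Set X) :=
    (isQuasiSeparated_iff_quasiSeparatedSpace _ (f ⁻¹ᵁ V.1).2).mpr hqs
  have hc : IsCompact ((f ⁻¹ᵁ V.1 : X.Opens) : Set X) := f.isCompact_preimage V.2.isCompact
  have key : CohB1.IsAmple (CohB1.tensorMod (L.restrict (f ⁻¹ᵁ V.1).ι)
      (L'.restrict (f ⁻¹ᵁ V.1).ι)) := by
    refine isAmple_tensorMod_of_sections _ _ hA hInv' (fun x₁ => ?_)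
    obtain ⟨τ, W, hW, hxW, hgen⟩ := exists_isGen_preimage_of_epi_counit f (CohB1.tensorPow L' n)
      (isInvertible_tensorPow hL' n) V.1 V.2 hc hqs' x₁.1 x₁.2
    obtain ⟨m, rfl⟩ : ∃ m, n = m + 1 := ⟨n - 1, by omega⟩
    refine ⟨m, genHom τ ≫
      (Groth.Agent.Lib.Helper60.TensorRestrict.restrictTensorPowIso (f ⁻¹ᵁ V.1).ι L' (m + 1)).hom, ?_⟩
    rw [genLocus_comp_iso]
    exact mem_genLocus_genHom τ W hW hgen x₁ hxW
  exact Groth.Agent.Lib.Helper35.Ample.isAmple_of_iso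
    (Groth.Agent.Lib.Helper60.TensorRestrict.restrictTensorIso (f ⁻¹ᵁ V.1).ι L L').symm key

end Groth.Agent.Lib.Lead.Inv
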