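import Mathlib
import Groth.Agent.S4997

/-!
# Étale schemes over a field: discrete, separated; one-point opens are finite
-/

set_option autoImplicit false
universe u
open CategoryTheory CategoryTheory.Limits AlgebraicGeometry

namespace Groth.Agent.Lib.Lead.EtTorsor

section Field

variable {k : Type u} [Field k] {G : Scheme.{u}} (g : G ⟶ Spec (CommRingCat.of k))

theorem isLocallyArtinian_of_lqf [LocallyQuasiFinite g] : IsLocallyArtinian G := by
  haveI : IsLocallyArtinian (Spec (CommRingCat.of k)) :=
    Scheme.isLocallyArtinianScheme_Spec.mpr inferInstance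
  exact IsLocallyArtinian.of_locallyQuasiFinite g

theorem discreteTopology_of_lqf [LocallyQuasiFinite g] : DiscreteTopology G := by
  haveI := isLocallyArtinian_of_lqf g
  infer_instance

/-- a morphism whose self fibre product is discrete is separated -/
theorem isSeparated_of_discrete {X Y : Scheme.{u}} (f : X ⟶ Y) [DiscreteTopology ↥(pullback f f)] :
    IsSeparated f :=
  ⟨IsClosedImmersion.of_isPreimmersion _ (isClosed_discrete _)⟩

theorem isSeparated_of_lqf [LocallyQuasiFinite g] : IsSeparated g := by
  haveI : LocallyQuasiFinite (pullback.fst g g ≫ g) := inferInstance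
  haveI := discreteTopology_of_lqf (pullback.fst g g ≫ g)
  exact isSeparated_of_discrete g

/-- an open subscheme with finitely many points of a locally quasi-finite `k`-scheme is finite
over `k` -/
theorem isFinite_of_finite_opens [LocallyQuasiFinite g] (U : G.Opens) (hU : (U : Set G).Finite) :
    IsFinite (U.ι ≫ g) := by
  haveI : IsLocallyArtinian (Spec (CommRingCat.of k)) :=
    Scheme.isLocallyArtinianScheme_Spec.mpr inferInstance
  haveI : CompactSpace ↥(U.toScheme) := isCompact_iff_compactSpace.mp hU.isCompact
  haveI : QuasiCompact (U.ι ≫ g) := by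
    rw [quasiCompact_iff_compactSpace]
    infer_instance
  exact IsFinite.of_locallyQuasiFinite (U.ι ≫ g)

end Field

end Groth.Agent.Lib.Lead.EtTorsor
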