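import Mathlib
import Groth.Agent.S2422

/-!
# Rational sections of integral morphisms over a normal integral scheme extend

* `isIso_fromNormalization_fromSpecStalk`: for `X` integral and normal, the normalization of `X`
  in `Spec K(X)` is `X`.
* `exists_section_of_isIntegralHom`: an integral `g : T ⟶ X` with a section over `Spec K(X)`
  has a section.
-/

set_option autoImplicit false
universe u
open CategoryTheory AlgebraicGeometry TopologicalSpace Opposite

noncomputable section
namespace Groth.Agent.Lib.Lead.NormalSection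
variable {X : Scheme.{u}} [IsIntegral X]

theorem finite_spec_functionField : Finite ↥(Spec (X.presheaf.stalk (genericPoint X))) := by
  haveI : Unique ↥(Spec (X.presheaf.stalk (genericPoint X))) :=
    inferInstanceAs <| Unique (PrimeSpectrum X.functionField)
  infer_instance

theorem quasiCompact_fromSpecStalk : QuasiCompact (X.fromSpecStalk (genericPoint X)) := by
  haveI := finite_spec_functionField (X := X)
  rw [quasiCompact_iff_forall_isAffineOpen]
  intro U _
  exact (Set.toFinite _).isCompact

theorem preimage_eq_top {U : X.Opens} (hη : genericPoint X ∈ U) :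
    (X.fromSpecStalk (genericPoint X)) ⁻¹ᵁ U = ⊤ := by
  rw [eq_top_iff]
  intro p _
  have h1 : (X.fromSpecStalk (genericPoint X)) p ∈ Set.range (X.fromSpecStalk (genericPoint X)) :=
    ⟨p, rfl⟩
  rw [Scheme.range_fromSpecStalk] at h1
  exact h1.mem_open U.isOpen hη

theorem bijective_map_of_eq_opens' {Z : Scheme.{u}} {A B : Z.Opens} (h : A ≤ B)
    (e : A = B) : Function.Bijective (Z.presheaf.map (homOfLE h).op) := by
  subst e
  have : (homOfLE h) = 𝟙 A := rfl
  rw [this, op_id, Z.presheaf.map_id]
  exact Function.bijective_id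

/-- the comparison `K(X) → Γ(Spec K(X), f⁻¹U)` -/
theorem bijective_eps {U : X.Opens} (hη : genericPoint X ∈ U) :
    Function.Bijective ((Scheme.ΓSpecIso (X.presheaf.stalk (genericPoint X))).inv ≫
      (Spec (X.presheaf.stalk (genericPoint X))).presheaf.map
        (homOfLE (le_top : (X.fromSpecStalk (genericPoint X)) ⁻¹ᵁ U ≤ ⊤)).op) := by
  have h1 : Function.Bijective ((Scheme.ΓSpecIso (X.presheaf.stalk (genericPoint X))).inv) :=
    (ConcreteCategory.isIso_iff_bijective _).mp inferInstance
  have h2 := bijective_map_of_eq_opens' (Z := Spec (X.presheaf.stalk (genericPoint X)))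
    (le_top : (X.fromSpecStalk (genericPoint X)) ⁻¹ᵁ U ≤ ⊤) (preimage_eq_top hη)
  exact h2.comp h1

attribute [local instance] quasiCompact_fromSpecStalk

theorem isIso_fromNormalization_fromSpecStalk (hX : Pi1.IsNormalScheme X) :
    IsIso (X.fromSpecStalk (genericPoint X)).fromNormalization := by
  set f := X.fromSpecStalk (genericPoint X) with hf
  have hcov : ⨆ i : {U : X.affineOpens // genericPoint X ∈ U.1}, (i.1 : X.Opens) = ⊤ := by
    rw [eq_top_iff]
    intro x _
    obtain ⟨W, hW, hxW, -⟩ := Groth.Agent.S2422.exists_affineOpen_mem_le (Y := X)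
      (V := ⊤) (y := x) trivial
    exact Opens.mem_iSup.mpr ⟨⟨⟨W, hW⟩, Groth.Agent.S2422.genericPoint_mem hxW⟩, hxW⟩
  change MorphismProperty.isomorphisms _ _
  rw [IsZariskiLocalAtTarget.iff_of_iSup_eq_top (P := MorphismProperty.isomorphisms Scheme.{u}) _
    hcov]
  rintro ⟨U, hη⟩
  change IsIso (f.fromNormalization ∣_ U.1)
  rw [isIso_morphismRestrict_iff_isIso_app _ U.2, f.fromNormalization_app U.2]
  letI := (f.app U.1).hom.toAlgebra
  suffices h : Function.Bijective
      (algebraMap Γ(X, U.1) (integralClosure Γ(X, U.1) Γ(Spec _, f ⁻¹ᵁ U.1))) by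
    have : IsIso (CommRingCat.ofHom
        (algebraMap Γ(X, U.1) (integralClosure Γ(X, U.1) Γ(Spec _, f ⁻¹ᵁ U.1)))) :=
      (ConcreteCategory.isIso_iff_bijective _).mpr h
    infer_instance
  have happ := Scheme.fromSpecStalk_app (X := X) (U := U.1) hη
  have heps := bijective_eps (X := X) (U := U.1) hη
  set ε := (Scheme.ΓSpecIso (X.presheaf.stalk (genericPoint X))).inv ≫
      (Spec (X.presheaf.stalk (genericPoint X))).presheaf.map
        (homOfLE (le_top : (X.fromSpecStalk (genericPoint X)) ⁻¹ᵁ U.1 ≤ ⊤)).op with hε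
  have hfa : ∀ a : Γ(X, U.1), (f.app U.1).hom a =
      ε.hom ((X.presheaf.germ U.1 (genericPoint X) hη).hom a) := by
    intro a
    rw [happ]
    rfl
  constructor
  · intro a b hab
    have h1 : (f.app U.1).hom a = (f.app U.1).hom b := congrArg Subtype.val hab
    rw [hfa, hfa] at h1
    exact germ_injective_of_isIntegral X _ hη (heps.1 h1)
  · rintro ⟨b, hb⟩
    obtain ⟨β, hβ⟩ := heps.2 b
    obtain ⟨p, hp, hpb⟩ := hb
    have h2 : Polynomial.eval₂ (X.presheaf.germ U.1 (genericPoint X) hη).hom β p = 0 := by
      apply heps.1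
      change ε.hom _ = ε.hom 0
      rw [map_zero, Polynomial.hom_eval₂]
      have h3 : ε.hom.comp (X.presheaf.germ U.1 (genericPoint X) hη).hom =
          algebraMap Γ(X, U.1) Γ(Spec _, f ⁻¹ᵁ U.1) := by
        ext a
        exact (hfa a).symm
      rw [h3]
      have h4 : ε.hom β = b := hβ
      rw [h4]
      exact hpb
    have h5 : ∀ y ∈ U.1, ∃ a : X.presheaf.stalk y,
        algebraMap (X.presheaf.stalk y) X.functionField a = β := by
      intro y hy
      have h6 : (X.presheaf.germ U.1 (genericPoint X) hη).hom =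
          (algebraMap (X.presheaf.stalk y) X.functionField).comp (X.presheaf.germ U.1 y hy).hom := by
        haveI : Nonempty U.1 := ⟨⟨y, hy⟩⟩
        ext a
        exact (Scheme.algebraMap_germ_eq_germToFunctionField (X := X) hy a).symm
      rw [h6, ← Polynomial.eval₂_map] at h2
      have hint : IsIntegral (X.presheaf.stalk y) β := ⟨_, hp.map _, h2⟩
      haveI : IsIntegrallyClosed (X.presheaf.stalk y) := (hX y).2
      exact IsIntegrallyClosed.algebraMap_eq_of_integral hint
    obtain ⟨a, ha⟩ := Groth.Agent.S2422.exists_section_of_forall_stalk hη β h5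
    refine ⟨a, Subtype.ext ?_⟩
    change (f.app U.1).hom a = b
    rw [hfa]
    have h7 : (X.presheaf.germ U.1 (genericPoint X) hη).hom a = β := ha
    rw [h7]
    exact hβ

/-- **A rational section of an integral morphism over a normal integral scheme extends to a
section.** -/
theorem exists_section_of_isIntegralHom (hX : Pi1.IsNormalScheme X) {T : Scheme.{u}} (g : T ⟶ X)
    [IsIntegralHom g] (s : Spec (X.presheaf.stalk (genericPoint X)) ⟶ T)
    (hs : s ≫ g = X.fromSpecStalk (genericPoint X)) : ∃ σ : X ⟶ T, σ ≫ g = 𝟙 X := by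
  haveI := isIso_fromNormalization_fromSpecStalk hX
  refine ⟨inv (X.fromSpecStalk (genericPoint X)).fromNormalization ≫
    (X.fromSpecStalk (genericPoint X)).normalizationDesc s g hs.symm, ?_⟩
  rw [Category.assoc, Scheme.Hom.normalizationDesc_comp, IsIso.inv_hom_id]

end Groth.Agent.Lib.Lead.NormalSection
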