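import Mathlib
import Groth.Agent.Lib.Lead.NormalSection

/-!
# Rational sections of integral morphisms over a normal integral scheme extend (with compatibility)
-/

set_option autoImplicit false
universe u
open CategoryTheory AlgebraicGeometry TopologicalSpace Opposite

noncomputable section
namespace Groth.Agent.Lib.Lead.NormalSection
variable {X : Scheme.{u}} [IsIntegral X]

attribute [local instance] quasiCompact_fromSpecStalk

/-- A rational section of an integral morphism over a normal integral scheme extends to a
section, and the extension restricts to the given rational section. -/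
theorem exists_section_extending (hX : Pi1.IsNormalScheme X) {T : Scheme.{u}} (g : T ⟶ X)
    [IsIntegralHom g] (s : Spec (X.presheaf.stalk (genericPoint X)) ⟶ T)
    (hs : s ≫ g = X.fromSpecStalk (genericPoint X)) :
    ∃ σ : X ⟶ T, σ ≫ g = 𝟙 X ∧ X.fromSpecStalk (genericPoint X) ≫ σ = s := by
  haveI := isIso_fromNormalization_fromSpecStalk hX
  refine ⟨inv (X.fromSpecStalk (genericPoint X)).fromNormalization ≫
    (X.fromSpecStalk (genericPoint X)).normalizationDesc s g hs.symm, ?_, ?_⟩
  · rw [Category.assoc, Scheme.Hom.normalizationDesc_comp, IsIso.inv_hom_id]
  · have h1 : X.fromSpecStalk (genericPoint X) ≫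
        inv (X.fromSpecStalk (genericPoint X)).fromNormalization =
        (X.fromSpecStalk (genericPoint X)).toNormalization := by
      rw [IsIso.comp_inv_eq, Scheme.Hom.toNormalization_fromNormalization]
    rw [← Category.assoc, h1, Scheme.Hom.toNormalization_normalizationDesc]

end Groth.Agent.Lib.Lead.NormalSection
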