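import Mathlib
import Groth.Prelude.Def_NonAbH2
import Groth.Prelude.Def_ActBC
import Groth.Agent.Lib.Lead.EtTorsor1
import Groth.Agent.Lib.Lead.NormalSection2
import Groth.Agent.Lib.Lead.TorsorFinite
import Groth.Agent.Lib.Lead.TorsorPush
import Groth.Agent.Lib.Helper5.DescProps

/-!
# Torsors under an étale group scheme over a field: descent of properties; extension of points
-/

set_option autoImplicit false
universe u
open CategoryTheory CategoryTheory.Limits AlgebraicGeometry MonoidalCategory CartesianMonoidalCategory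
open MonObj

namespace Groth.Agent.Lib.Lead.EtTorsor

section Descent

variable {S : Scheme.{u}} {G E : Over S} [GrpObj G] (a : AlgGrp.Action G E)
  (ha : NonAbH1.IsTorsorFor Scheme.fppfPrecoverage a)

include ha

theorem etale_of_torsor [Etale G.hom] : Etale E.hom :=
  TorsorFinite.prop_of_isTorsorFor @Etale Scheme.fppfPrecoverage a ha inferInstance

theorem surjective_of_torsor : Surjective E.hom := by
  have hG : Surjective G.hom := by
    refine ⟨fun x => ⟨(η[G]).left x, ?_⟩⟩
    rw [← Scheme.Hom.comp_apply, Over.w η[G]]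
    rfl
  exact TorsorFinite.prop_of_isTorsorFor @Surjective Scheme.fppfPrecoverage a ha hG

theorem isSeparated_of_torsor [IsSeparated G.hom] : IsSeparated E.hom := by
  haveI : MorphismProperty.DescendsAlong @IsSeparated
      (@Surjective ⊓ @Flat ⊓ @QuasiCompact : MorphismProperty Scheme.{u}) :=
    Groth.Agent.Lib.Helper5.DescProps.isSeparated_descendsAlong
  haveI : MorphismProperty.IsLocalAtTarget (@IsSeparated : MorphismProperty Scheme.{u})
      Scheme.fppfPrecoverage.{u} := Groth.Agent.Lib.Helper5.isLocalAtTarget_fppf _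
  exact TorsorFinite.prop_of_isTorsorFor @IsSeparated Scheme.fppfPrecoverage a ha inferInstance

end Descent


section Extension

variable {k : Type u} [Field k] {G : Over (Spec (CommRingCat.of k))} [GrpObj G] [Etale G.hom]
  {S : Scheme.{u}} (s : S ⟶ Spec (CommRingCat.of k)) {E : Over S}
  (a : AlgGrp.Action (Red.bc s G) E) (ha : NonAbH1.IsPseudoTorsorSch a)

include ha

/-- **Extension of points.**  For an integral normal scheme `V` with a `V`-point `v` of the
pseudo-torsor `E` under the étale group `G`, every `K(V)`-point of `E` (over the same point of the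
base) extends to a `V`-point. -/
theorem exists_extension {V : Scheme.{u}} [IsIntegral V] (hV : Pi1.IsNormalScheme V)
    (v : V ⟶ E.left) (y : Spec (V.presheaf.stalk (genericPoint V)) ⟶ E.left)
    (hy : y ≫ E.hom = V.fromSpecStalk (genericPoint V) ≫ v ≫ E.hom) :
    ∃ σ : V ⟶ E.left, σ ≫ E.hom = v ≫ E.hom ∧ V.fromSpecStalk (genericPoint V) ≫ σ = y := by
  classical
  set j0 := V.fromSpecStalk (genericPoint V) with hj0
  let TV : Over S := Over.mk (v ≫ E.hom)
  let TF : Over S := Over.mk (j0 ≫ v ≫ E.hom)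
  let j1 : TF ⟶ TV := Over.homMk j0 rfl
  let v' : TV ⟶ E := Over.homMk v rfl
  let y' : TF ⟶ E := Over.homMk y hy
  obtain ⟨h, hh⟩ := TorsorPush.exists_act_eq a.act ha (j1 ≫ v') y'
  let adj := Over.mapPullbackAdj s
  let h₀ : (Over.map s).obj TF ⟶ G := (adj.homEquiv TF G).symm h
  have hK : IsField (V.presheaf.stalk (genericPoint V)) := Field.toIsField V.functionField
  haveI : LocallyQuasiFinite G.hom := Groth.Agent.S4997.locallyQuasiFinite_of_etale G.hom
  haveI : DiscreteTopology G.left := discreteTopology_of_lqf G.hom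
  let g₀ : G.left := h₀.left (IsLocalRing.closedPoint (V.presheaf.stalk (genericPoint V)))
  let U₀ : G.left.Opens := ⟨{g₀}, isOpen_discrete _⟩
  have hsub : Subsingleton ↥(Spec (V.presheaf.stalk (genericPoint V))) := by
    have h1 : Subsingleton (PrimeSpectrum (V.presheaf.stalk (genericPoint V))) :=
      @Unique.instSubsingleton _ (@PrimeSpectrum.instUnique _ hK.toField)
    exact h1
  have hrange : Set.range h₀.left ⊆ (U₀ : Set G.left) := by
    rintro _ ⟨z, rfl⟩
    have : z = IsLocalRing.closedPoint (V.presheaf.stalk (genericPoint V)) :=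
      @Subsingleton.elim _ hsub z _
    rw [this]
    rfl
  let h₁ : Spec (V.presheaf.stalk (genericPoint V)) ⟶ U₀.toScheme :=
    IsOpenImmersion.lift U₀.ι h₀.left (by simpa using hrange)
  have hh₁ : h₁ ≫ U₀.ι = h₀.left := IsOpenImmersion.lift_fac _ _ _
  haveI : IsFinite (U₀.ι ≫ G.hom) :=
    isFinite_of_finite_opens G.hom U₀ (Set.finite_singleton _)
  have hw : h₀.left ≫ G.hom = j0 ≫ v ≫ E.hom ≫ s := by
    have := Over.w h₀
    simpa [TF] using this
  let sec₀ : Spec (V.presheaf.stalk (genericPoint V)) ⟶ pullback (v ≫ E.hom ≫ s) (U₀.ι ≫ G.hom) :=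
    pullback.lift j0 h₁ (by rw [← Category.assoc h₁, hh₁, hw])
  obtain ⟨τ, hτ1, hτ2⟩ := NormalSection.exists_section_extending hV
    (pullback.fst (v ≫ E.hom ≫ s) (U₀.ι ≫ G.hom)) sec₀ (pullback.lift_fst _ _ _)
  let gam : V ⟶ G.left := τ ≫ pullback.snd _ _ ≫ U₀.ι
  have hgam : gam ≫ G.hom = (v ≫ E.hom) ≫ s := by
    simp only [gam, Category.assoc]
    rw [← pullback.condition, ← Category.assoc τ, hτ1, Category.id_comp]
  let gam1 : (Over.map s).obj TV ⟶ G := Over.homMk gam (by simpa [TV] using hgam)
  let ht : TV ⟶ Red.bc s G := adj.homEquiv TV G gam1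
  refine ⟨(lift ht v' ≫ a.act).left, ?_, ?_⟩
  · exact Over.w (lift ht v' ≫ a.act)
  · have h3 : (Over.map s).map j1 ≫ gam1 = h₀ := by
      ext
      change j0 ≫ τ ≫ pullback.snd _ _ ≫ U₀.ι = h₀.left
      rw [← Category.assoc, hτ2, ← hh₁, ← Category.assoc]
      congr 1
      exact pullback.lift_snd _ _ _
    have h1 : j1 ≫ ht = h := by
      calc j1 ≫ ht = adj.homEquiv TF G ((Over.map s).map j1 ≫ gam1) :=
            (adj.homEquiv_naturality_left j1 gam1).symm
        _ = adj.homEquiv TF G h₀ := by rw [h3]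
        _ = h := Equiv.apply_symm_apply _ _
    have h2 : j1 ≫ (lift ht v' ≫ a.act) = y' := by
      rw [← Category.assoc, comp_lift, h1, hh]
    exact congrArg CommaMorphism.left h2

end Extension

end Groth.Agent.Lib.Lead.EtTorsor
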