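import Mathlib

/-!
# A morphism with a section over the generic residue field is birational at that point
-/

set_option autoImplicit false
universe u
open CategoryTheory CategoryTheory.Limits AlgebraicGeometry IsLocalRing

namespace Groth.Agent.Lib.Lead.EtTorsor

section

variable {S W : Scheme.{u}} (K : Type u) [Field K]

/-- the residue field map attached to `Spec φ ≫ fromSpecResidueField η` is `φ` up to a
congruence isomorphism, hence bijective when `φ` is -/
theorem bijective_desc_of_eq (η : S) (φ : S.residueField η ⟶ .of K)
    (hφ : Function.Bijective φ.hom) (g : Spec (.of K) ⟶ S)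
    (hg : g = Spec.map φ ≫ S.fromSpecResidueField η) :
    Function.Bijective (Scheme.descResidueField (Scheme.stalkClosedPointTo g)).hom := by
  subst hg
  have h1 := (Scheme.SpecToEquivOfField K S).right_inv ⟨η, φ⟩
  obtain ⟨e, he⟩ := Scheme.SpecToEquivOfField_eq_iff.mp h1
  have he' : Scheme.descResidueField (Scheme.stalkClosedPointTo
      (Spec.map φ ≫ S.fromSpecResidueField η)) = (S.residueFieldCongr e).hom ≫ φ := he
  rw [he']
  have h2 : Function.Bijective (S.residueFieldCongr e).hom.hom :=
    (ConcreteCategory.isIso_iff_bijective _).mp inferInstance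
  exact hφ.comp h2

theorem bijective_residueFieldMap_of_section (f : W ⟶ S) (x : Spec (.of K) ⟶ W)
    (hbij : Function.Bijective
      (Scheme.descResidueField (Scheme.stalkClosedPointTo (x ≫ f))).hom) :
    Function.Bijective (f.residueFieldMap (x (closedPoint K))).hom := by
  have h1 := Scheme.descResidueField_stalkClosedPointTo_comp (f := f) x
  have h1' : Scheme.descResidueField (Scheme.stalkClosedPointTo (x ≫ f)) =
      f.residueFieldMap (x (closedPoint K)) ≫
        Scheme.descResidueField (Scheme.stalkClosedPointTo x) := h1
  rw [h1'] at hbij
  set θ := Scheme.descResidueField (Scheme.stalkClosedPointTo x) with hθ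
  set ρ := f.residueFieldMap (x (closedPoint K)) with hρ
  have hbij' : Function.Bijective (θ.hom ∘ ρ.hom) := hbij
  have hθinj : Function.Injective θ.hom := θ.hom.injective
  have hθsurj : Function.Surjective θ.hom := Function.Surjective.of_comp hbij'.2
  have hθ' : Function.Bijective θ.hom := ⟨hθinj, hθsurj⟩
  exact (Function.Bijective.of_comp_iff' hθ' ρ.hom).mp hbij'

theorem bijective_residue_of_isField (w : W) (hw : IsField (W.presheaf.stalk w)) :
    Function.Bijective (W.residue w).hom := by
  refine ⟨?_, W.residue_surjective w⟩
  have h1 : maximalIdeal (W.presheaf.stalk w) = ⊥ := (isField_iff_maximalIdeal_eq.mp hw)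
  change Function.Injective (IsLocalRing.residue (W.presheaf.stalk w))
  rw [injective_iff_map_eq_zero]
  intro a ha
  have : a ∈ maximalIdeal (W.presheaf.stalk w) := (residue_eq_zero_iff a).mp ha
  rw [h1] at this
  exact this

theorem isIso_stalkMap_of_bijective_residueFieldMap (f : W ⟶ S) (w : W)
    (hw : IsField (W.presheaf.stalk w)) (hs : IsField (S.presheaf.stalk (f w)))
    (h : Function.Bijective (f.residueFieldMap w).hom) : IsIso (f.stalkMap w) := by
  rw [ConcreteCategory.isIso_iff_bijective]
  have h1 := Scheme.residue_residueFieldMap (f := f) w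
  have hW := bijective_residue_of_isField w hw
  have hS := bijective_residue_of_isField (f w) hs
  have h2 : Function.Bijective ((W.residue w).hom ∘ (f.stalkMap w).hom) := by
    have h3 : (W.residue w).hom ∘ (f.stalkMap w).hom =
        (f.residueFieldMap w).hom ∘ (S.residue (f w)).hom := by
      funext a
      have := congrArg (fun t => t.hom a) h1
      exact this.symm
    rw [h3]
    exact h.comp hS
  exact (Function.Bijective.of_comp_iff' hW _).mp h2

end

end Groth.Agent.Lib.Lead.EtTorsor
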