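import Mathlib
import Groth.Agent.Lib.Lead.EtTorsor2
import Groth.Agent.Lib.Lead.EtTorsor3
import Groth.Agent.S0089
import Groth.Agent.S4809
import Groth.Agent.S0288
import Groth.Agent.Lib.Helper87.LocIrredScheme
import Groth.Agent.Lib.Helper69.FEtNormal

/-!
# Torsors under an étale group scheme over a normal integral base: generic sections extend
-/

set_option autoImplicit false
universe u
open CategoryTheory CategoryTheory.Limits AlgebraicGeometry MonoidalCategory CartesianMonoidalCategory
open MonObj

namespace Groth.Agent.Lib.Lead.EtTorsor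

/-- no specialisations inside a fibre of a locally quasi-finite morphism -/
theorem eq_of_specializes_of_fibre' {X Y : Scheme.{u}} (f : Y ⟶ X) [LocallyQuasiFinite f]
    {ζ ξ : Y} (h : ζ ⤳ ξ) (hf : f ζ = f ξ) : ζ = ξ := by
  have hd := f.isDiscrete_preimage_singleton (f ξ)
  have hζm : ζ ∈ f ⁻¹' {f ξ} := hf
  have hξm : ξ ∈ f ⁻¹' {f ξ} := rfl
  have h1 : (⟨ζ, hζm⟩ : f ⁻¹' {f ξ}) ⤳ ⟨ξ, hξm⟩ :=
    (Topology.IsInducing.subtypeVal.specializes_iff).mp h
  haveI : DiscreteTopology (f ⁻¹' {f ξ}) := hd.to_subtype
  have := h1.eq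
  exact congrArg Subtype.val this

/-- a morphism from the spectrum of a field factors through the residue field of the image
point -/
theorem exists_factor_residueField {S : Scheme.{u}} (K : Type u) [Field K]
    (m : Spec (.of K) ⟶ S) (z : S) (h : m (IsLocalRing.closedPoint K) = z) :
    ∃ j : Spec (.of K) ⟶ Spec (S.residueField z), j ≫ S.fromSpecResidueField z = m := by
  subst h
  exact ⟨Spec.map (Scheme.descResidueField (Scheme.stalkClosedPointTo m)),
    Scheme.descResidueField_stalkClosedPointTo_fromSpecResidueField K S m⟩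


section Main

variable {k : Type u} [Field k] {G : Over (Spec (CommRingCat.of k))} [GrpObj G] [Etale G.hom]
  {S : Scheme.{u}} [IsIntegral S] (hS : Pi1.IsNormalScheme S) (s : S ⟶ Spec (CommRingCat.of k))
  {E : Over S} (a : AlgGrp.Action (Red.bc s G) E)
  (ha : NonAbH1.IsTorsorFor Scheme.fppfPrecoverage a)

include ha

omit [IsIntegral S] in
theorem etale_hom : Etale E.hom := by
  haveI : Etale (Red.bc s G).hom := by
    change Etale (pullback.snd G.hom s)
    infer_instance
  exact etale_of_torsor a ha

omit [IsIntegral S] in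
theorem isSeparated_hom : IsSeparated E.hom := by
  haveI : LocallyQuasiFinite G.hom := Groth.Agent.S4997.locallyQuasiFinite_of_etale G.hom
  haveI : IsSeparated G.hom := isSeparated_of_lqf G.hom
  haveI : IsSeparated (Red.bc s G).hom := by
    change IsSeparated (pullback.snd G.hom s)
    infer_instance
  exact isSeparated_of_torsor a ha

/-- uniqueness: two sections which agree at the generic point are equal -/
theorem section_unique (σ₁ σ₂ : S ⟶ E.left) (h₁ : σ₁ ≫ E.hom = 𝟙 S) (h₂ : σ₂ ≫ E.hom = 𝟙 S)
    (h : S.fromSpecResidueField (genericPoint S) ≫ σ₁ =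
      S.fromSpecResidueField (genericPoint S) ≫ σ₂) : σ₁ = σ₂ := by
  haveI := isSeparated_hom s a ha
  refine ext_of_fromSpecResidueField_eq σ₁ σ₂ E.hom {genericPoint S} ?_ ?_ (h₁.trans h₂.symm)
  · rw [dense_iff_closure_eq]
    exact (genericPoint_spec S).def
  · rintro x (rfl : x = genericPoint S)
    exact h


include hS in
/-- existence: a point of the torsor over the generic point extends to a section -/
theorem section_exists (x : Spec (S.residueField (genericPoint S)) ⟶ E.left)
    (hx : x ≫ E.hom = S.fromSpecResidueField (genericPoint S)) :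
    ∃ σ : S ⟶ E.left, σ ≫ E.hom = 𝟙 S ∧ S.fromSpecResidueField (genericPoint S) ≫ σ = x := by
  classical
  haveI hEt := etale_hom s a ha
  haveI hSep := isSeparated_hom s a ha
  have hSurj : Surjective E.hom := surjective_of_torsor a ha
  have hE : Pi1.IsNormalScheme E.left :=
    Groth.Agent.Lib.Helper69.FEtNormal.isNormalScheme_of_etale E.hom hS
  haveI : ∀ y : E.left, _root_.IsReduced (E.left.presheaf.stalk y) := fun y => by
    haveI := (hE y).1
    infer_instance
  haveI : IsReduced E.left := isReduced_of_isReduced_stalk E.left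
  have hloc : ∀ y : E.left, ∃ W : Set E.left, IsOpen W ∧ IsIrreducible W ∧ y ∈ W := fun y =>
    Groth.Agent.Lib.Helper87.LocIrred.exists_irreducible_nhd_of_etale E.hom
      (fun z => by
        haveI := (hS z).1
        haveI := (hS z).2
        exact Groth.Agent.S0288.isGeomUnibranch_of_normal _) y
  obtain ⟨W, hW, hcov, hdisj⟩ := Groth.Agent.S0089.exists_decomposition hloc
  have hint : ∀ i, IsIntegral (W i).toScheme := fun i => by
    haveI : IrreducibleSpace (W i).toScheme := by
      have : IsIrreducible ((W i : E.left.Opens) : Set E.left) := by rw [hW i]; exact i.2.1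
      exact Subtype.irreducibleSpace this
    exact isIntegral_of_irreducibleSpace_of_isReduced _
  have hnorm : ∀ i, Pi1.IsNormalScheme (W i).toScheme := fun i =>
    Groth.Agent.Lib.Helper69.FEtNormal.isNormalScheme_of_etale (W i).ι hE
  have hclosed : ∀ i, IsClosed ((W i : E.left.Opens) : Set E.left) := fun i => by
    rw [hW i]
    exact isClosed_of_mem_irreducibleComponents i.1 i.2
  have hmem : ∀ y : E.left, ∃ i, y ∈ W i := fun y => by
    have : y ∈ (⨆ i, W i : E.left.Opens) := by rw [hcov]; trivial
    exact TopologicalSpace.Opens.mem_iSup.mp this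
  -- the component of the given point
  let cp : Spec (S.residueField (genericPoint S)) := default
  obtain ⟨i₀, hi₀⟩ := hmem (x cp)
  haveI := hint i₀
  have hrange : Set.range x ⊆ ((W i₀ : E.left.Opens) : Set E.left) := by
    rintro _ ⟨z, rfl⟩
    rw [Subsingleton.elim z cp]
    exact hi₀
  let x₀ : Spec (S.residueField (genericPoint S)) ⟶ (W i₀).toScheme :=
    IsOpenImmersion.lift (W i₀).ι x (by simpa using hrange)
  have hx₀ : x₀ ≫ (W i₀).ι = x := IsOpenImmersion.lift_fac _ _ _
  let f₀ : (W i₀).toScheme ⟶ S := (W i₀).ι ≫ E.hom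
  have hx₀f : x₀ ≫ f₀ = S.fromSpecResidueField (genericPoint S) := by
    rw [← Category.assoc, hx₀, hx]
  haveI : LocallyQuasiFinite f₀ := Groth.Agent.S4997.locallyQuasiFinite_of_etale f₀
  have hgen : f₀ (genericPoint (W i₀).toScheme) = genericPoint S :=
    Groth.Agent.S0089.map_genericPoint' f₀
  have hf₀cp : f₀ (x₀ cp) = genericPoint S := by
    rw [← Scheme.Hom.comp_apply, hx₀f, Scheme.fromSpecResidueField_apply]
  have hx₀cp : x₀ cp = genericPoint (W i₀).toScheme :=
    (eq_of_specializes_of_fibre' f₀ (genericPoint_specializes (x₀ cp))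
      (hgen.trans hf₀cp.symm)).symm
  have hbir : IsIso (f₀.stalkMap (genericPoint (W i₀).toScheme)) := by
    have hb1 : Function.Bijective
        (Scheme.descResidueField (K := S.residueField (genericPoint S))
          (Scheme.stalkClosedPointTo (x₀ ≫ f₀))).hom :=
      bijective_desc_of_eq (S.residueField (genericPoint S)) (genericPoint S) (𝟙 _)
        Function.bijective_id (x₀ ≫ f₀) (by rw [hx₀f]; erw [Spec.map_id, Category.id_comp])
    have hb2 := bijective_residueFieldMap_of_section (S.residueField (genericPoint S)) f₀ x₀ hb1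
    have hcp : IsLocalRing.closedPoint (S.residueField (genericPoint S)) = cp :=
      Subsingleton.elim _ _
    rw [hcp] at hb2
    have hw : IsField ((W i₀).toScheme.presheaf.stalk (x₀ cp)) := by
      rw [hx₀cp]
      exact Field.toIsField (W i₀).toScheme.functionField
    have hs' : IsField (S.presheaf.stalk (f₀ (x₀ cp))) := by
      rw [hf₀cp]
      exact Field.toIsField S.functionField
    have h3 : IsIso (f₀.stalkMap (x₀ cp)) :=
      isIso_stalkMap_of_bijective_residueFieldMap f₀ (x₀ cp) hw hs' hb2
    exact hx₀cp ▸ h3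
  have hoi : IsOpenImmersion f₀ :=
    (Groth.Agent.S4809.result (fun y => (hS y).2) f₀ hgen hbir).2 inferInstance
  have hsurj₀ : Surjective f₀ := by
    refine ⟨fun s₁ => ?_⟩
    obtain ⟨e, he⟩ := hSurj.surj s₁
    obtain ⟨i₁, hi₁⟩ := hmem e
    haveI := hint i₁
    let m : Spec (CommRingCat.of (W i₁).toScheme.functionField) ⟶ S :=
      (W i₁).toScheme.fromSpecStalk (genericPoint (W i₁).toScheme) ≫ (W i₁).ι ≫ E.hom
    have hm : m (IsLocalRing.closedPoint (W i₁).toScheme.functionField) = genericPoint S := by
      have h1 : ((W i₁).toScheme.fromSpecStalk (genericPoint (W i₁).toScheme))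
          (IsLocalRing.closedPoint ((W i₁).toScheme.presheaf.stalk
            (genericPoint (W i₁).toScheme))) = genericPoint (W i₁).toScheme :=
        Scheme.fromSpecStalk_closedPoint
      change ((W i₁).ι ≫ E.hom) (((W i₁).toScheme.fromSpecStalk (genericPoint (W i₁).toScheme))
          (IsLocalRing.closedPoint ((W i₁).toScheme.presheaf.stalk
            (genericPoint (W i₁).toScheme)))) = _
      rw [h1]
      exact Groth.Agent.S0089.map_genericPoint' ((W i₁).ι ≫ E.hom)
    obtain ⟨jV, hjV⟩ := exists_factor_residueField (W i₁).toScheme.functionField m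
      (genericPoint S) hm
    obtain ⟨σV, hσ1, hσ2⟩ := exists_extension s a ha.1 (hnorm i₁) (W i₁).ι (jV ≫ x)
      (by rw [Category.assoc, hx, hjV])
    have hσgen : σV (genericPoint (W i₁).toScheme) ∈ W i₀ := by
      have h2 : σV (genericPoint (W i₁).toScheme) = x cp := by
        have h1 : ((W i₁).toScheme.fromSpecStalk (genericPoint (W i₁).toScheme))
            (IsLocalRing.closedPoint ((W i₁).toScheme.presheaf.stalk
              (genericPoint (W i₁).toScheme))) = genericPoint (W i₁).toScheme :=
          Scheme.fromSpecStalk_closedPoint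
        have h3 := congrArg (fun t : Spec ((W i₁).toScheme.presheaf.stalk
            (genericPoint (W i₁).toScheme)) ⟶ E.left =>
              t (IsLocalRing.closedPoint ((W i₁).toScheme.presheaf.stalk
              (genericPoint (W i₁).toScheme)))) hσ2
        simp only [Scheme.Hom.comp_apply] at h3
        rw [h1] at h3
        rw [h3]
        congr 1
        exact Subsingleton.elim _ _
      rw [h2]
      exact hi₀
    have hclopen : IsClopen (σV ⁻¹' ((W i₀ : E.left.Opens) : Set E.left)) :=
      ⟨(hclosed i₀).preimage σV.continuous, (W i₀).isOpen.preimage σV.continuous⟩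
    have huniv := hclopen.eq_univ ⟨genericPoint (W i₁).toScheme, hσgen⟩
    have hmem' : σV ⟨e, hi₁⟩ ∈ W i₀ := by
      have : (⟨e, hi₁⟩ : (W i₁).toScheme) ∈ σV ⁻¹' ((W i₀ : E.left.Opens) : Set E.left) := by
        rw [huniv]; trivial
      exact this
    refine ⟨⟨σV ⟨e, hi₁⟩, hmem'⟩, ?_⟩
    change E.hom ((W i₀).ι ⟨σV ⟨e, hi₁⟩, hmem'⟩) = s₁
    have h4 : (W i₀).ι ⟨σV ⟨e, hi₁⟩, hmem'⟩ = σV ⟨e, hi₁⟩ := rfl
    rw [h4, ← Scheme.Hom.comp_apply, hσ1, Scheme.Hom.comp_apply]
    exact he
  haveI : Epi f₀.base := (TopCat.epi_iff_surjective _).mpr hsurj₀.surj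
  haveI : IsIso f₀ := IsOpenImmersion.isIso f₀
  refine ⟨inv f₀ ≫ (W i₀).ι, ?_, ?_⟩
  · rw [Category.assoc]
    exact IsIso.inv_hom_id f₀
  · have h5 : S.fromSpecResidueField (genericPoint S) ≫ inv f₀ = x₀ := by
      rw [IsIso.comp_inv_eq, hx₀f]
    rw [← Category.assoc, h5, hx₀]

end Main

end Groth.Agent.Lib.Lead.EtTorsor
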