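import Mathlib
import Groth.Prelude.Def_NonAbH2
import Groth.Prelude.Def_ActBC
import Groth.Agent.Lib.Lead.TorsorPush

/-!
# A pseudo-torsor with a section is trivial; sections and classes in `H1Sch`
-/

set_option autoImplicit false
universe u
open CategoryTheory CategoryTheory.Limits AlgebraicGeometry MonoidalCategory CartesianMonoidalCategory
open MonObj

namespace Groth.Agent.Lib.Lead.EtTorsor

section General

variable {C : Type*} [Category C] [CartesianMonoidalCategory C] {G X : C}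

theorem comp_orbit (act : G ⊗ X ⟶ X) (σ : 𝟙_ C ⟶ X) {T : C} (k : T ⟶ G) :
    k ≫ lift (𝟙 G) (toUnit G ≫ σ) ≫ act = lift k (toUnit T ≫ σ) ≫ act := by
  rw [← Category.assoc]
  congr 1
  apply CartesianMonoidalCategory.hom_ext <;> simp

theorem isIso_orbit (act : G ⊗ X ⟶ X) (h : IsIso (lift act (snd G X))) (σ : 𝟙_ C ⟶ X) :
    IsIso (lift (𝟙 G) (toUnit G ≫ σ) ≫ act) := by
  obtain ⟨k, hk⟩ := TorsorPush.exists_act_eq act h (toUnit X ≫ σ) (𝟙 X)
  obtain ⟨φ, hφ⟩ : ∃ φ : G ⟶ X, φ = lift (𝟙 G) (toUnit G ≫ σ) ≫ act := ⟨_, rfl⟩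
  have hpt : ∀ {T : C} (k' : T ⟶ G), k' ≫ φ = lift k' (toUnit T ≫ σ) ≫ act := by
    intro T k'
    rw [hφ]
    exact comp_orbit act σ k'
  have hk' : k ≫ φ = 𝟙 X := by rw [hpt, hk]
  rw [← hφ]
  refine ⟨k, ?_, hk'⟩
  apply TorsorPush.act_injective act h (toUnit G ≫ σ)
  rw [← hpt, ← hpt, Category.assoc, hk', Category.comp_id, Category.id_comp]

end General


section OverS

variable {S : Scheme.{u}} {G : Over S} [GrpObj G]

/-- a torsor with a section has the trivial class -/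
theorem cl_eq_one_of_section (K : Precoverage Scheme.{u}) [K.HasIsos]
    (P : NonAbH1.TorsorSch G K) (σ : S ⟶ P.X.left) (hσ : σ ≫ P.X.hom = 𝟙 S) : P.cl = 1 := by
  let σ' : 𝟙_ (Over S) ⟶ P.X := Over.homMk σ (by simpa using hσ)
  haveI hiso := isIso_orbit P.act.act P.isTorsor.1 σ'
  symm
  refine Quot.sound ⟨⟨asIso (lift (𝟙 G) (toUnit G ≫ σ') ≫ P.act.act), ?_⟩⟩
  change μ[G] ≫ lift (𝟙 G) (toUnit G ≫ σ') ≫ P.act.act =
    (G ◁ (lift (𝟙 G) (toUnit G ≫ σ') ≫ P.act.act)) ≫ P.act.act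
  rw [comp_orbit]
  have h1 : lift μ[G] (toUnit (G ⊗ G) ≫ σ') =
      lift (𝟙 (G ⊗ G)) (toUnit (G ⊗ G) ≫ σ') ≫ (μ[G] ▷ P.X) := by
    apply CartesianMonoidalCategory.hom_ext <;> simp
  have h2 : lift (𝟙 (G ⊗ G)) (toUnit (G ⊗ G) ≫ σ') ≫ (α_ G G P.X).hom =
      G ◁ lift (𝟙 G) (toUnit G ≫ σ') := by
    apply CartesianMonoidalCategory.hom_ext
    · simp
    · apply CartesianMonoidalCategory.hom_ext <;> simp
  rw [h1, Category.assoc, P.act.mul_act, ← Category.assoc, h2, MonoidalCategory.whiskerLeft_comp,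
    Category.assoc]

/-- the property of having a section, on classes of torsors -/
def hasSec (K : Precoverage Scheme.{u}) : NonAbH1.H1Sch G K → Prop :=
  Quot.lift (fun P => NonAbH1.HasSectionOver P.X (𝟙 S)) (by
    rintro P Q ⟨e⟩
    apply propext
    constructor
    · rintro ⟨t, ht⟩
      exact ⟨t ≫ e.iso.hom.left, by rw [Category.assoc, Over.w e.iso.hom, ht]⟩
    · rintro ⟨t, ht⟩
      exact ⟨t ≫ e.iso.inv.left, by rw [Category.assoc, Over.w e.iso.inv, ht]⟩)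

theorem hasSec_one (K : Precoverage Scheme.{u}) [K.HasIsos] : hasSec K (1 : NonAbH1.H1Sch G K) :=
  ⟨(η[G]).left, Over.w η[G]⟩

theorem hasSec_cl (K : Precoverage Scheme.{u}) (P : NonAbH1.TorsorSch G K) :
    hasSec K P.cl ↔ NonAbH1.HasSectionOver P.X (𝟙 S) := Iff.rfl

end OverS

end Groth.Agent.Lib.Lead.EtTorsor
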