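import Mathlib.RingTheory.Ideal.AssociatedPrime.Finiteness
import Mathlib.RingTheory.Nakayama
import Mathlib.Tactic

/-! Restored lemma (originally in helper54's version of S5752, lost in an overwrite) used by S5753. -/

set_option autoImplicit false
universe u

namespace Groth.Agent.Lib.Lead.Fix5753

theorem maximalIdeal_mem_ass_iff (A : Type u) [CommRing A] [IsLocalRing A]
    [IsNoetherianRing A] (M : Type u) [AddCommGroup M] [Module A M] [Module.Finite A M] :
    IsLocalRing.maximalIdeal A ∈ associatedPrimes A M ↔
      ∀ x ∈ IsLocalRing.maximalIdeal A, ¬ IsSMulRegular M x := by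
  classical
  constructor
  · intro h x hx hreg
    obtain ⟨hprime, y, hy⟩ := isAssociatedPrime_iff.mp h
    have hy0 : y ≠ 0 := by
      intro h0
      have : (1 : A) ∈ IsLocalRing.maximalIdeal A := by
        rw [hy, Submodule.mem_colon_singleton, h0, smul_zero]
        exact Submodule.zero_mem _
      exact (Ideal.ne_top_iff_one _).mp hprime.ne_top this
    have hxy : x • y = 0 := by
      have : x ∈ (⊥ : Submodule A M).colon {y} := hy ▸ hx
      rw [Submodule.mem_colon_singleton, Submodule.mem_bot] at this
      exact this
    exact hy0 (isSMulRegular_iff_right_eq_zero_of_smul.mp hreg y hxy)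
  · intro h
    have hsub : (IsLocalRing.maximalIdeal A : Set A) ⊆ ⋃ p ∈ associatedPrimes A M, (p : Set A) := by
      rw [biUnion_associatedPrimes_eq_zero_divisors]
      intro x hx
      have hx' := h x hx
      rw [isSMulRegular_iff_right_eq_zero_of_smul] at hx'
      push Not at hx'
      obtain ⟨y, hy1, hy2⟩ := hx'
      exact ⟨y, hy2, hy1⟩
    have hfin := associatedPrimes.finite A M
    have hsub' : (IsLocalRing.maximalIdeal A : Set A) ⊆
        ⋃ p ∈ (↑hfin.toFinset : Set (Ideal A)), ((fun q : Ideal A => q) p : Set A) := by
      simpa using hsub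
    obtain ⟨p, hp, hle⟩ := (Ideal.subset_union_prime (f := fun q : Ideal A => q)
      (IsLocalRing.maximalIdeal A) (IsLocalRing.maximalIdeal A)
      (fun q hq _ _ => (hfin.mem_toFinset.mp hq).isPrime)).mp hsub'
    have hp' : p ∈ associatedPrimes A M := hfin.mem_toFinset.mp hp
    have hpprime : p.IsPrime := hp'.isPrime
    have : p = IsLocalRing.maximalIdeal A :=
      le_antisymm (IsLocalRing.le_maximalIdeal hpprime.ne_top) hle
    rw [← this]
    exact hp'

end Groth.Agent.Lib.Lead.Fix5753
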