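import Groth.Agent.Lib.Helper40.AffBC3
import Groth.Agent.Lib.Helper48.Nbhd5

/-!
# Flat base change for sections of quasi-coherent modules: the comparison map (lead seat library)

For a commutative square `g' ≫ f = f' ≫ g`, opens `V ⊆ S`, `V' ⊆ S'` with `V' ≤ g⁻¹V`,
`U ⊆ X` with `U ≤ f⁻¹V` and `U' ⊆ X'` with `U' ≤ g'⁻¹U`, `U' ≤ f'⁻¹V'`, and `M : X.Modules`:
the comparison map `Ψ : Γ(S',V') ⊗[Γ(S,V)] Γ(M,U) → Γ(g'^*M, U')`,
`a ⊗ m ↦ f'^♯(a) • (g'^* m)|_{U'}`.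
-/

set_option autoImplicit false
universe u

open AlgebraicGeometry CategoryTheory Opposite TopologicalSpace TensorProduct

namespace Groth.Agent.Lib.Lead.FlatBC

open Scheme.Modules Groth.Agent.Lib.Helper48.OmegaAff Groth.Agent.Lib.Lead.QCohAff

section PullRes

variable {X Y : Scheme.{u}} (f : X ⟶ Y) (G : Y.Modules)

/-- `pullRes` is compatible with restriction on the target. -/
theorem pullRes_res {V₁ V₂ : Y.Opens} (h : V₂ ≤ V₁) {U : X.Opens} (e : U ≤ f ⁻¹ᵁ V₂)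
    (m : Γ(G, V₁)) :
    pullRes f G e (G.presheaf.map (homOfLE h).op m) =
      pullRes f G (e.trans (f.preimage_mono h)) m := by
  rw [pullRes_apply, pullRes_apply]
  have nat := congr($(((pullbackPushforwardAdjunction f).unit.app G).mapPresheaf.naturality
    (homOfLE h).op) m)
  change ((pullbackPushforwardAdjunction f).unit.app G).app V₂ (G.presheaf.map (homOfLE h).op m) =
    ((pullback f).obj G).presheaf.map (homOfLE (f.preimage_mono h)).op
      (((pullbackPushforwardAdjunction f).unit.app G).app V₁ m) at nat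
  rw [nat]
  exact res_res ((pullback f).obj G) (f.preimage_mono h) e _

end PullRes

variable {X S X' S' : Scheme.{u}} (f : X ⟶ S) (g : S' ⟶ S) (g' : X' ⟶ X) (f' : X' ⟶ S')
  (w : g' ≫ f = f' ≫ g) (M : X.Modules) {V : S.Opens} {V' : S'.Opens} (e : V' ≤ g ⁻¹ᵁ V)

/-- `Γ(M, U)` as a module over `Γ(S, V)`, for `U ≤ f⁻¹V`. -/
def SecA {U : X.Opens} (_hU : U ≤ f ⁻¹ᵁ V) : Type u := Γ(M, U)

noncomputable instance {U : X.Opens} (hU : U ≤ f ⁻¹ᵁ V) : AddCommGroup (SecA f M hU) :=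
  inferInstanceAs (AddCommGroup Γ(M, U))

noncomputable instance {U : X.Opens} (hU : U ≤ f ⁻¹ᵁ V) : Module Γ(S, V) (SecA f M hU) :=
  Module.compHom Γ(M, U) (f.appLE V U hU).hom

theorem secA_smul {U : X.Opens} (hU : U ≤ f ⁻¹ᵁ V) (a : Γ(S, V)) (m : SecA f M hU) :
    a • m = ((f.appLE V U hU a : Γ(X, U)) • (show Γ(M, U) from m) : Γ(M, U)) := rfl

/-- restriction `Γ(M, U₁) → Γ(M, U₂)` as a `Γ(S, V)`-linear map -/
noncomputable def resA {U₁ U₂ : X.Opens} (hU₁ : U₁ ≤ f ⁻¹ᵁ V) (h : U₂ ≤ U₁) :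
    SecA f M hU₁ →ₗ[Γ(S, V)] SecA f M (h.trans hU₁) where
  toFun m := M.presheaf.map (homOfLE h).op (show Γ(M, U₁) from m)
  map_add' a b := map_add _ _ _
  map_smul' a m := by
    change M.presheaf.map (homOfLE h).op ((f.appLE V U₁ hU₁ a : Γ(X, U₁)) • (show Γ(M, U₁) from m)) =
      (f.appLE V U₂ (h.trans hU₁) a : Γ(X, U₂)) • M.presheaf.map (homOfLE h).op (show Γ(M, U₁) from m)
    rw [res_smul]
    congr 1
    exact congr($(Scheme.Hom.appLE_map f hU₁ (homOfLE h).op) a)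

/-- `Γ(S', V')` as an algebra over `Γ(S, V)`, for `V' ≤ g⁻¹V`. -/
def Ap (_e : V' ≤ g ⁻¹ᵁ V) : Type u := Γ(S', V')

noncomputable instance : CommRing (Ap g e) := inferInstanceAs (CommRing Γ(S', V'))

noncomputable instance : Algebra Γ(S, V) (Ap g e) := (g.appLE V V' e).hom.toAlgebra

theorem algebraMap_Ap (a : Γ(S, V)) : algebraMap Γ(S, V) (Ap g e) a = g.appLE V V' e a := rfl

theorem flat_Ap [Flat g] (hV : IsAffineOpen V) (hV' : IsAffineOpen V') :
    Module.Flat Γ(S, V) (Ap g e) :=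
  g.flat_appLE hV hV' e

/-- `Γ(g'^*M, U')` as a module over `Γ(S', V')`, for `U' ≤ f'⁻¹V'`. -/
def SecA' {U' : X'.Opens} (_e : V' ≤ g ⁻¹ᵁ V) (_hU' : U' ≤ f' ⁻¹ᵁ V') : Type u :=
  Γ((pullback g').obj M, U')

noncomputable instance {U' : X'.Opens} (hU' : U' ≤ f' ⁻¹ᵁ V') :
    AddCommGroup (SecA' g g' f' M e hU') :=
  inferInstanceAs (AddCommGroup Γ((pullback g').obj M, U'))

noncomputable instance {U' : X'.Opens} (hU' : U' ≤ f' ⁻¹ᵁ V') :
    Module (Ap g e) (SecA' g g' f' M e hU') :=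
  Module.compHom Γ((pullback g').obj M, U') (f'.appLE V' U' hU').hom

noncomputable instance {U' : X'.Opens} (hU' : U' ≤ f' ⁻¹ᵁ V') :
    Module Γ(S, V) (SecA' g g' f' M e hU') :=
  Module.compHom (SecA' g g' f' M e hU') (algebraMap Γ(S, V) (Ap g e))

instance {U' : X'.Opens} (hU' : U' ≤ f' ⁻¹ᵁ V') :
    IsScalarTower Γ(S, V) (Ap g e) (SecA' g g' f' M e hU') :=
  IsScalarTower.of_algebraMap_smul fun _ _ => rfl

theorem secA'_smul {U' : X'.Opens} (hU' : U' ≤ f' ⁻¹ᵁ V') (a : Ap g e)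
    (m : SecA' g g' f' M e hU') :
    a • m = ((f'.appLE V' U' hU' (show Γ(S', V') from a) : Γ(X', U')) •
      (show Γ((pullback g').obj M, U') from m) : Γ((pullback g').obj M, U')) := rfl

/-- restriction `Γ(g'^*M, U'₁) → Γ(g'^*M, U'₂)` as an `A'`-linear map -/
noncomputable def resA' {U₁ U₂ : X'.Opens} (hU₁ : U₁ ≤ f' ⁻¹ᵁ V') (h : U₂ ≤ U₁) :
    SecA' g g' f' M e hU₁ →ₗ[Ap g e] SecA' g g' f' M e (h.trans hU₁) where
  toFun m := ((pullback g').obj M).presheaf.map (homOfLE h).op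
    (show Γ((pullback g').obj M, U₁) from m)
  map_add' a b := map_add _ _ _
  map_smul' a m := by
    change ((pullback g').obj M).presheaf.map (homOfLE h).op
      ((f'.appLE V' U₁ hU₁ (show Γ(S', V') from a) : Γ(X', U₁)) •
        (show Γ((pullback g').obj M, U₁) from m)) =
      (f'.appLE V' U₂ (h.trans hU₁) (show Γ(S', V') from a) : Γ(X', U₂)) •
        ((pullback g').obj M).presheaf.map (homOfLE h).op
          (show Γ((pullback g').obj M, U₁) from m)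
    rw [res_smul]
    congr 1
    exact congr($(Scheme.Hom.appLE_map f' hU₁ (homOfLE h).op) (show Γ(S', V') from a))

include w in
/-- pulling back sections, as a `Γ(S, V)`-linear map -/
noncomputable def pullA {U : X.Opens} {U' : X'.Opens} (hU : U ≤ f ⁻¹ᵁ V) (hU' : U' ≤ f' ⁻¹ᵁ V')
    (eU : U' ≤ g' ⁻¹ᵁ U) : SecA f M hU →ₗ[Γ(S, V)] SecA' g g' f' M e hU' where
  toFun m := pullRes g' M eU (show Γ(M, U) from m)
  map_add' a b := map_add _ _ _
  map_smul' a m := by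
    change pullRes g' M eU ((f.appLE V U hU a : Γ(X, U)) • (show Γ(M, U) from m)) =
      (f'.appLE V' U' hU' (g.appLE V V' e a) : Γ(X', U')) • pullRes g' M eU (show Γ(M, U) from m)
    rw [pullRes_smul]
    congr 1
    have h1 : f.appLE V U hU ≫ g'.appLE U U' eU = g.appLE V V' e ≫ f'.appLE V' U' hU' := by
      rw [Scheme.Hom.appLE_comp_appLE, Scheme.Hom.appLE_comp_appLE]
      exact Groth.Agent.Lib.Helper40.AffBC.appLE_congr_hom w _ _ _ _
    exact congr($h1 a)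

/-- **The comparison map** `Γ(S',V') ⊗[Γ(S,V)] Γ(M,U) → Γ(g'^*M, U')`. -/
noncomputable def Psi {U : X.Opens} {U' : X'.Opens} (hU : U ≤ f ⁻¹ᵁ V) (hU' : U' ≤ f' ⁻¹ᵁ V')
    (eU : U' ≤ g' ⁻¹ᵁ U) : Ap g e ⊗[Γ(S, V)] SecA f M hU →ₗ[Ap g e] SecA' g g' f' M e hU' :=
  LinearMap.liftBaseChange (Ap g e) (pullA f g g' f' w M e hU hU' eU)

theorem Psi_tmul {U : X.Opens} {U' : X'.Opens} (hU : U ≤ f ⁻¹ᵁ V) (hU' : U' ≤ f' ⁻¹ᵁ V')
    (eU : U' ≤ g' ⁻¹ᵁ U) (a : Ap g e) (m : SecA f M hU) :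
    Psi f g g' f' w M e hU hU' eU (a ⊗ₜ m) = a • pullA f g g' f' w M e hU hU' eU m :=
  LinearMap.liftBaseChange_tmul _ _ _ _

/-- naturality of the comparison map with respect to restriction -/
theorem Psi_res {U₁ U₂ : X.Opens} {U₁' U₂' : X'.Opens} (hU₁ : U₁ ≤ f ⁻¹ᵁ V)
    (hU₁' : U₁' ≤ f' ⁻¹ᵁ V') (eU₁ : U₁' ≤ g' ⁻¹ᵁ U₁) (h : U₂ ≤ U₁) (h' : U₂' ≤ U₁')
    (eU₂ : U₂' ≤ g' ⁻¹ᵁ U₂) (x : Ap g e ⊗[Γ(S, V)] SecA f M hU₁) :
    resA' g g' f' M e hU₁' h' (Psi f g g' f' w M e hU₁ hU₁' eU₁ x) =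
      Psi f g g' f' w M e (h.trans hU₁) (h'.trans hU₁') eU₂
        ((resA f M hU₁ h).baseChange (Ap g e) x) := by
  induction x using TensorProduct.induction_on with
  | zero => simp only [map_zero]
  | tmul a m =>
    rw [Psi_tmul, LinearMap.baseChange_tmul, Psi_tmul,
      (resA' g g' f' M e hU₁' h').map_smul a]
    congr 1
    change ((pullback g').obj M).presheaf.map (homOfLE h').op
        (pullRes g' M eU₁ (show Γ(M, U₁) from m)) =
      pullRes g' M eU₂ (M.presheaf.map (homOfLE h).op (show Γ(M, U₁) from m))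
    rw [Groth.Agent.Lib.Helper48.Nbhd.pullRes_map_left, pullRes_res]
  | add x y hx hy => simp only [map_add, hx, hy]

end Groth.Agent.Lib.Lead.FlatBC
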