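import Groth.Agent.Lib.Lead.FlatBC1

/-!
# Flat base change: the comparison map is bijective over affine opens (lead seat library)
-/

set_option autoImplicit false
universe u

open AlgebraicGeometry CategoryTheory Opposite TopologicalSpace TensorProduct

namespace Groth.Agent.Lib.Lead.FlatBC

open Scheme.Modules Groth.Agent.Lib.Helper48.OmegaAff Groth.Agent.Lib.Lead.QCohAff
  Groth.Agent.Lib.Helper40.AffBC

variable {X S X' S' : Scheme.{u}} {f : X ⟶ S} {g : S' ⟶ S} {g' : X' ⟶ X} {f' : X' ⟶ S'}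
  (h : IsPullback g' f' f g) (M : X.Modules) {V : S.Opens} {V' : S'.Opens} (e : V' ≤ g ⁻¹ᵁ V)

include h e in
theorem isAffineOpen_inf_of_isPullback (hV : IsAffineOpen V) (hV' : IsAffineOpen V')
    {U : X.Opens} {U' : X'.Opens} (hU : U ≤ f ⁻¹ᵁ V) (hUa : IsAffineOpen U)
    (hU'eq : U' = g' ⁻¹ᵁ U ⊓ f' ⁻¹ᵁ V') : IsAffineOpen U' := by
  have : IsAffine _ := hV
  have : IsAffine _ := hV'
  have : IsAffine _ := hUa
  exact .of_isIso (Scheme.Hom.isPullback_resLE h e hU hU'eq).isoPullback.hom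

/-- Over an affine open `U ≤ f⁻¹V` (with `V`, `V'` affine) the comparison map is bijective. -/
theorem Psi_bijective_of_isAffineOpen [M.IsQuasicoherent]
    (hV : IsAffineOpen V) (hV' : IsAffineOpen V') {U : X.Opens} {U' : X'.Opens}
    (hU : U ≤ f ⁻¹ᵁ V) (hUa : IsAffineOpen U) (hU'eq : U' = g' ⁻¹ᵁ U ⊓ f' ⁻¹ᵁ V') :
    Function.Bijective (Psi f g g' f' h.w M e hU (hU'eq.le.trans inf_le_right)
      (hU'eq.le.trans inf_le_left)) := by
  have hU' : U' ≤ f' ⁻¹ᵁ V' := hU'eq.le.trans inf_le_right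
  have eU : U' ≤ g' ⁻¹ᵁ U := hU'eq.le.trans inf_le_left
  have hU'a : IsAffineOpen U' := isAffineOpen_inf_of_isPullback h e hV hV' hU hUa hU'eq
  have hpo : IsPushout (f.appLE V U hU) (g.appLE V V' e) (g'.appLE U U' eU)
      (f'.appLE V' U' hU') :=
    (isIso_pushoutSection_iff h e hU hU'eq).1
      (isIso_pushoutSection_of_isAffineOpen h e hU hU'eq hV hV' hUa)
  -- algebra structures
  letI algBB' : Algebra Γ(X, U) Γ(X', U') := (g'.appLE U U' eU).hom.toAlgebra
  letI algAB : Algebra Γ(S, V) Γ(X, U) := (f.appLE V U hU).hom.toAlgebra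
  letI algA'B' : Algebra (Ap g e) Γ(X', U') := (f'.appLE V' U' hU').hom.toAlgebra
  letI algAB' : Algebra Γ(S, V) Γ(X', U') :=
    (f.appLE V U hU ≫ g'.appLE U U' eU).hom.toAlgebra
  haveI t1 : IsScalarTower Γ(S, V) Γ(X, U) Γ(X', U') :=
    .of_algebraMap_eq fun _ => rfl
  haveI t2 : IsScalarTower Γ(S, V) (Ap g e) Γ(X', U') :=
    .of_algebraMap_eq fun a => congr($(hpo.w) a)
  haveI hP : Algebra.IsPushout Γ(S, V) (Ap g e) Γ(X, U) Γ(X', U') := by
    have h2 : Algebra.IsPushout Γ(S, V) Γ(X, U) (Ap g e) Γ(X', U') :=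
      CommRingCat.isPushout_iff_isPushout.1 hpo
    exact h2.symm
  letI modBN : Module Γ(X, U) (SecA f M hU) := inferInstanceAs (Module Γ(X, U) Γ(M, U))
  haveI t3 : IsScalarTower Γ(S, V) Γ(X, U) (SecA f M hU) :=
    .of_algebraMap_smul fun _ _ => rfl
  let c := Algebra.IsPushout.cancelBaseChange Γ(S, V) (Ap g e) Γ(X, U) Γ(X', U') (SecA f M hU)
  let τ2 : Γ(X', U') ⊗[Γ(X, U)] (SecA f M hU) →ₗ[Γ(X', U')]
      Γ((pullback g').obj M, U') := pullTensorHom g' M eU
  have hτ2 : Function.Bijective τ2 := pullTensorHom_bijective g' M hU'a hUa eU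
  have key : ∀ x : (Ap g e) ⊗[Γ(S, V)] (SecA f M hU),
      Psi f g g' f' h.w M e hU hU' eU x = τ2 (c.symm x) := by
    intro x
    induction x using TensorProduct.induction_on with
    | zero =>
      rw [map_zero, map_zero, map_zero]
      rfl
    | tmul a n =>
      have e2 : c.symm (a ⊗ₜ n) = (f'.appLE V' U' hU' a) ⊗ₜ n :=
        Algebra.IsPushout.cancelBaseChange_symm_tmul _ _ _ _ _ a n
      have e3 : τ2 ((f'.appLE V' U' hU' a) ⊗ₜ n) = (f'.appLE V' U' hU' a) • pullRes g' M eU n :=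
        pullTensorHom_tmul g' M eU _ n
      rw [Psi_tmul, e2, e3]
      rfl
    | add x y hx hy =>
      rw [map_add, hx, hy, map_add, map_add]
      rfl
  constructor
  · intro p q hpq
    rw [key, key] at hpq
    exact c.symm.injective (hτ2.1 hpq)
  · intro t
    obtain ⟨z, rfl⟩ := hτ2.2 t
    obtain ⟨x, rfl⟩ := c.symm.surjective z
    exact ⟨x, key x⟩

end Groth.Agent.Lib.Lead.FlatBC
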