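import Mathlib

/-!
# Flat base change, the algebra: tensoring a finite equalizer diagram with a flat algebra
(lead seat library)

`A → A'` flat. A module `N` with maps `ρ i : N → Ni i` (finite family), comparison maps
`ψ : A' ⊗ N → P`, `ψi i : A' ⊗ Ni i → Pi i` compatible with "restrictions" `r i : P → Pi i`.

* `injective_of_cover`: if the `ρ i` are jointly injective and each `ψi i` is injective then
  `ψ` is injective.
* `surjective_of_cover`: if moreover `N` is the equalizer of `Ni ⇉ Nij`, the `ψi` are bijective,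
  the `ψij` injective and the `r i` jointly injective, then `ψ` is surjective.
-/

set_option autoImplicit false
universe u v

open TensorProduct

namespace Groth.Agent.Lib.Lead.FlatBC

section Alg

variable {A A' : Type u} [CommRing A] [CommRing A'] [Algebra A A'] [Module.Flat A A']
  {ι : Type v} [Fintype ι] [DecidableEq ι]
  {N : Type u} [AddCommGroup N] [Module A N]
  {Ni : ι → Type u} [∀ i, AddCommGroup (Ni i)] [∀ i, Module A (Ni i)]
  (ρ : ∀ i, N →ₗ[A] Ni i)

omit [Module.Flat A A'] in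
theorem piRight_pi_baseChange (x : A' ⊗[A] N) (i : ι) :
    TensorProduct.piRight A A' A' Ni ((LinearMap.pi ρ).baseChange A' x) i =
      (ρ i).baseChange A' x := by
  induction x using TensorProduct.induction_on with
  | zero => simp only [map_zero, Pi.zero_apply]
  | tmul a n =>
    rw [LinearMap.baseChange_tmul, LinearMap.baseChange_tmul, TensorProduct.piRight_apply,
      TensorProduct.piRightHom_tmul]
    rfl
  | add x y hx hy => simp only [map_add, Pi.add_apply, hx, hy]

/-- Joint injectivity of the `ρ i` survives flat base change. -/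
theorem baseChange_jointly_injective (hρ : ∀ n, (∀ i, ρ i n = 0) → n = 0) (x : A' ⊗[A] N)
    (hx : ∀ i, (ρ i).baseChange A' x = 0) : x = 0 := by
  have hinj : Function.Injective (LinearMap.pi ρ) := by
    rw [injective_iff_map_eq_zero]
    intro n hn
    exact hρ n fun i => congr($hn i)
  have hinj' : Function.Injective ((LinearMap.pi ρ).baseChange A') := by
    have := Module.Flat.lTensor_preserves_injective_linearMap (M := A') (LinearMap.pi ρ) hinj
    rwa [← LinearMap.baseChange_eq_ltensor] at this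
  apply hinj'
  apply (TensorProduct.piRight A A' A' Ni).injective
  funext i
  rw [piRight_pi_baseChange, hx i, map_zero, map_zero]
  rfl

variable {P : Type u} [AddCommGroup P] [Module A' P]
  {Pi : ι → Type u} [∀ i, AddCommGroup (Pi i)] [∀ i, Module A' (Pi i)]
  (r : ∀ i, P →ₗ[A'] Pi i)
  (ψ : A' ⊗[A] N →ₗ[A'] P) (ψi : ∀ i, A' ⊗[A] Ni i →ₗ[A'] Pi i)
  (comm : ∀ i x, r i (ψ x) = ψi i ((ρ i).baseChange A' x))

include comm in
theorem injective_of_cover (hρ : ∀ n, (∀ i, ρ i n = 0) → n = 0)
    (hψi : ∀ i, Function.Injective (ψi i)) : Function.Injective ψ := by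
  rw [injective_iff_map_eq_zero]
  intro x hx
  apply baseChange_jointly_injective ρ hρ x
  intro i
  apply hψi i
  rw [← comm, hx, map_zero, map_zero]

variable {Nij : ι → ι → Type u} [∀ i j, AddCommGroup (Nij i j)] [∀ i j, Module A (Nij i j)]
  (ρ1 : ∀ i j, Ni i →ₗ[A] Nij i j) (ρ2 : ∀ i j, Ni j →ₗ[A] Nij i j)

/-- the difference map `Π Ni → Π Nij` -/
noncomputable def dMap : (∀ i, Ni i) →ₗ[A] (∀ p : ι × ι, Nij p.1 p.2) :=
  LinearMap.pi fun p => ρ1 p.1 p.2 ∘ₗ LinearMap.proj p.1 - ρ2 p.1 p.2 ∘ₗ LinearMap.proj p.2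

omit [Module.Flat A A'] [Fintype ι] in
theorem piRight_dMap_baseChange (y : A' ⊗[A] (∀ i, Ni i)) (p : ι × ι) :
    TensorProduct.piRightHom A A' A' (fun p : ι × ι => Nij p.1 p.2)
      ((dMap ρ1 ρ2).baseChange A' y) p =
      (ρ1 p.1 p.2).baseChange A' (TensorProduct.piRightHom A A' A' Ni y p.1) -
        (ρ2 p.1 p.2).baseChange A' (TensorProduct.piRightHom A A' A' Ni y p.2) := by
  induction y using TensorProduct.induction_on with
  | zero => simp only [map_zero, Pi.zero_apply, sub_zero]
  | tmul a n =>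
    rw [LinearMap.baseChange_tmul, TensorProduct.piRightHom_tmul, TensorProduct.piRightHom_tmul]
    change a ⊗ₜ[A] (ρ1 p.1 p.2 (n p.1) - ρ2 p.1 p.2 (n p.2)) = _
    rw [TensorProduct.tmul_sub, LinearMap.baseChange_tmul, LinearMap.baseChange_tmul]
  | add x y hx hy =>
    simp only [map_add, Pi.add_apply, hx, hy]
    abel

/-- Finite equalizers survive flat base change. -/
theorem exists_baseChange_eq_of_compatible
    (hcomp : ∀ i j n, ρ1 i j (ρ i n) = ρ2 i j (ρ j n))
    (hglue : ∀ n : ∀ i, Ni i, (∀ i j, ρ1 i j (n i) = ρ2 i j (n j)) → ∃ m, ∀ i, ρ i m = n i)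
    (x : ∀ i, A' ⊗[A] Ni i)
    (hx : ∀ i j, (ρ1 i j).baseChange A' (x i) = (ρ2 i j).baseChange A' (x j)) :
    ∃ z : A' ⊗[A] N, ∀ i, (ρ i).baseChange A' z = x i := by
  have hex : Function.Exact (LinearMap.pi ρ) (dMap ρ1 ρ2) := by
    intro n
    constructor
    · intro hn
      obtain ⟨m, hm⟩ := hglue n (fun i j => by
        have := congr($hn (i, j))
        simp only [dMap, LinearMap.pi_apply, LinearMap.sub_apply, LinearMap.comp_apply,
          LinearMap.proj_apply, Pi.zero_apply] at this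
        exact sub_eq_zero.1 this)
      exact ⟨m, funext hm⟩
    · rintro ⟨m, rfl⟩
      funext p
      simp only [dMap, LinearMap.pi_apply, LinearMap.sub_apply, LinearMap.comp_apply,
        LinearMap.proj_apply, Pi.zero_apply]
      exact sub_eq_zero.2 (hcomp p.1 p.2 m)
  have hex' := Module.Flat.lTensor_exact A' hex
  let y : A' ⊗[A] (∀ i, Ni i) := (TensorProduct.piRight A A' A' Ni).symm x
  have hy : ∀ i, TensorProduct.piRightHom A A' A' Ni y i = x i := by
    intro i
    have := (TensorProduct.piRight A A' A' Ni).apply_symm_apply x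
    exact congr($this i)
  have hdy : (dMap ρ1 ρ2).lTensor A' y = 0 := by
    apply (TensorProduct.piRight A A' A' (fun p : ι × ι => Nij p.1 p.2)).injective
    funext p
    rw [TensorProduct.piRight_apply, ← LinearMap.baseChange_eq_ltensor,
      piRight_dMap_baseChange, hy, hy, hx, sub_self, map_zero]
    rfl
  obtain ⟨z, hz⟩ := (hex' y).1 hdy
  refine ⟨z, fun i => ?_⟩
  rw [← piRight_pi_baseChange ρ z i, LinearMap.baseChange_eq_ltensor, hz]
  exact hy i

variable {Pij : ι → ι → Type u} [∀ i j, AddCommGroup (Pij i j)] [∀ i j, Module A' (Pij i j)]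
  (r1 : ∀ i j, Pi i →ₗ[A'] Pij i j) (r2 : ∀ i j, Pi j →ₗ[A'] Pij i j)
  (ψij : ∀ i j, A' ⊗[A] Nij i j →ₗ[A'] Pij i j)
  (comm1 : ∀ i j x, r1 i j (ψi i x) = ψij i j ((ρ1 i j).baseChange A' x))
  (comm2 : ∀ i j x, r2 i j (ψi j x) = ψij i j ((ρ2 i j).baseChange A' x))

include comm comm1 comm2 in
theorem surjective_of_cover
    (hcomp : ∀ i j n, ρ1 i j (ρ i n) = ρ2 i j (ρ j n))
    (hglue : ∀ n : ∀ i, Ni i, (∀ i j, ρ1 i j (n i) = ρ2 i j (n j)) → ∃ m, ∀ i, ρ i m = n i)
    (hr : ∀ p, (∀ i, r i p = 0) → p = 0)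
    (hrr : ∀ i j p, r1 i j (r i p) = r2 i j (r j p))
    (hψi : ∀ i, Function.Bijective (ψi i)) (hψij : ∀ i j, Function.Injective (ψij i j)) :
    Function.Surjective ψ := by
  intro p
  choose x hx using fun i => (hψi i).2 (r i p)
  obtain ⟨z, hz⟩ := exists_baseChange_eq_of_compatible ρ ρ1 ρ2 hcomp hglue x (fun i j => by
    apply hψij i j
    rw [← comm1, ← comm2, hx, hx, hrr])
  refine ⟨z, ?_⟩
  rw [← sub_eq_zero]
  apply hr
  intro i
  rw [map_sub, comm, hz, hx, sub_self]

end Alg

end Groth.Agent.Lib.Lead.FlatBC
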