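import Groth.Agent.Lib.Lead.FlatBC2
import Groth.Agent.Lib.Lead.FlatBC3
import Groth.Agent.Lib.Helper74.ModSec

/-!
# Flat base change: the comparison map over compact / qcqs opens (lead seat library)
-/

set_option autoImplicit false
universe u

open AlgebraicGeometry CategoryTheory Opposite TopologicalSpace TensorProduct

namespace Groth.Agent.Lib.Lead.FlatBC

open Scheme.Modules Groth.Agent.Lib.Helper48.OmegaAff Groth.Agent.Lib.Lead.QCohAff
  Groth.Agent.Lib.Helper40.AffBC Groth.Agent.Lib.Helper74.ModSec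

variable {X S X' S' : Scheme.{u}} {f : X ⟶ S} {g : S' ⟶ S} {g' : X' ⟶ X} {f' : X' ⟶ S'}
  (h : IsPullback g' f' f g) (M : X.Modules) {V : S.Opens} {V' : S'.Opens} (e : V' ≤ g ⁻¹ᵁ V)

/-- the open `g'⁻¹W ∩ f'⁻¹V'` of `X'` -/
def UU (g' : X' ⟶ X) (f' : X' ⟶ S') (V' : S'.Opens) (W : X.Opens) : X'.Opens :=
  g' ⁻¹ᵁ W ⊓ f' ⁻¹ᵁ V'

theorem UU_le_right (W : X.Opens) : UU g' f' V' W ≤ f' ⁻¹ᵁ V' := inf_le_right
theorem UU_le_left (W : X.Opens) : UU g' f' V' W ≤ g' ⁻¹ᵁ W := inf_le_left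
theorem UU_mono {W₁ W₂ : X.Opens} (hW : W₂ ≤ W₁) : UU g' f' V' W₂ ≤ UU g' f' V' W₁ :=
  inf_le_inf_right _ (g'.preimage_mono hW)

/-- the comparison map over `W ≤ f⁻¹V`, with target `Γ(g'^*M, g'⁻¹W ∩ f'⁻¹V')` -/
noncomputable abbrev PsiW {W : X.Opens} (hW : W ≤ f ⁻¹ᵁ V) :=
  Psi f g g' f' h.w M e hW (UU_le_right W) (UU_le_left W)

theorem PsiW_res {W₁ W₂ : X.Opens} (hW₁ : W₁ ≤ f ⁻¹ᵁ V) (hW : W₂ ≤ W₁)
    (x : Ap g e ⊗[Γ(S, V)] SecA f M hW₁) :
    resA' g g' f' M e (UU_le_right W₁) (UU_mono hW) (PsiW h M e hW₁ x) =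
      PsiW h M e (hW.trans hW₁) ((resA f M hW₁ hW).baseChange (Ap g e) x) :=
  Psi_res f g g' f' h.w M e hW₁ (UU_le_right W₁) (UU_le_left W₁) hW (UU_mono hW) (UU_le_left W₂) x

theorem PsiW_bijective_of_isAffineOpen [M.IsQuasicoherent]
    (hV : IsAffineOpen V) (hV' : IsAffineOpen V') {W : X.Opens}
    (hW : W ≤ f ⁻¹ᵁ V) (hWa : IsAffineOpen W) : Function.Bijective (PsiW h M e hW) :=
  Psi_bijective_of_isAffineOpen h M e hV hV' hW hWa rfl

/-- Over a compact open the comparison map is injective (for `g` flat). -/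
theorem PsiW_injective_of_isCompact [Flat g] [M.IsQuasicoherent]
    (hV : IsAffineOpen V) (hV' : IsAffineOpen V') {W : X.Opens}
    (hW : W ≤ f ⁻¹ᵁ V) (hWc : IsCompact (W : Set X)) : Function.Injective (PsiW h M e hW) := by
  classical
  obtain ⟨s, hs, hWs⟩ := isCompact_iff_finite_and_eq_biUnion_affineOpens.mp hWc
  haveI : Fintype s := hs.fintype
  haveI : Module.Flat Γ(S, V) (Ap g e) := flat_Ap g e hV hV'
  have hle : ∀ i : s, (i.1 : X.Opens) ≤ W := fun i => by
    rw [hWs]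
    exact le_iSup₂ (f := fun (j : X.affineOpens) (_ : j ∈ s) => (j : X.Opens)) i.1 i.2
  refine injective_of_cover (ι := s) (A := Γ(S, V)) (A' := Ap g e)
    (Ni := fun i => SecA f M ((hle i).trans hW))
    (Pi := fun i => SecA' g g' f' M e (UU_le_right (g' := g') (i.1 : X.Opens)))
    (fun i => resA f M hW (hle i))
    (fun i => resA' g g' f' M e (UU_le_right W) (UU_mono (hle i)))
    (PsiW h M e hW) (fun i => PsiW h M e ((hle i).trans hW))
    (fun i x => PsiW_res h M e hW (hle i) x) ?_ ?_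
  · intro n hn
    refine sec_ext_of_locally M (show Γ(M, W) from n) 0 fun x hx => ?_
    rw [hWs] at hx
    simp only [Opens.mem_iSup] at hx
    obtain ⟨i, hi, hxi⟩ := hx
    refine ⟨(i : X.Opens), hle ⟨i, hi⟩, hxi, ?_⟩
    rw [rs_zero]
    exact hn ⟨i, hi⟩
  · intro i
    exact (PsiW_bijective_of_isAffineOpen h M e hV hV' _ i.1.2).1

/-- Over a quasi-compact quasi-separated open the comparison map is bijective (for `g` flat). -/
theorem PsiW_bijective_of_qcqs [Flat g] [M.IsQuasicoherent]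
    (hV : IsAffineOpen V) (hV' : IsAffineOpen V') {W : X.Opens}
    (hW : W ≤ f ⁻¹ᵁ V) (hWc : IsCompact (W : Set X)) (hWqs : IsQuasiSeparated (W : Set X)) :
    Function.Bijective (PsiW h M e hW) := by
  refine ⟨PsiW_injective_of_isCompact h M e hV hV' hW hWc, ?_⟩
  classical
  obtain ⟨s, hs, hWs⟩ := isCompact_iff_finite_and_eq_biUnion_affineOpens.mp hWc
  haveI : Fintype s := hs.fintype
  haveI : Module.Flat Γ(S, V) (Ap g e) := flat_Ap g e hV hV'
  have hle : ∀ i : s, (i.1 : X.Opens) ≤ W := fun i => by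
    rw [hWs]
    exact le_iSup₂ (f := fun (j : X.affineOpens) (_ : j ∈ s) => (j : X.Opens)) i.1 i.2
  have hcov : ∀ x ∈ W, ∃ i : s, x ∈ (i.1 : X.Opens) := by
    intro x hx
    rw [hWs] at hx
    simp only [Opens.mem_iSup] at hx
    obtain ⟨i, hi, hxi⟩ := hx
    exact ⟨⟨i, hi⟩, hxi⟩
  have hij : ∀ i j : s, (i.1 : X.Opens) ⊓ (j.1 : X.Opens) ≤ f ⁻¹ᵁ V := fun i j =>
    inf_le_left.trans ((hle i).trans hW)
  have hijc : ∀ i j : s, IsCompact (((i.1 : X.Opens) ⊓ (j.1 : X.Opens) : X.Opens) : Set X) :=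
    fun i j => hWqs _ _ (hle i) (i.1 : X.Opens).2 i.1.2.isCompact (hle j) (j.1 : X.Opens).2
      j.1.2.isCompact
  refine surjective_of_cover (ι := s) (A := Γ(S, V)) (A' := Ap g e)
    (Ni := fun i => SecA f M ((hle i).trans hW))
    (Pi := fun i => SecA' g g' f' M e (UU_le_right (g' := g') (i.1 : X.Opens)))
    (Nij := fun i j => SecA f M (hij i j))
    (Pij := fun i j => SecA' g g' f' M e
      (UU_le_right (g' := g') ((i.1 : X.Opens) ⊓ (j.1 : X.Opens))))
    (fun i => resA f M hW (hle i))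
    (fun i => resA' g g' f' M e (UU_le_right W) (UU_mono (hle i)))
    (PsiW h M e hW) (fun i => PsiW h M e ((hle i).trans hW))
    (fun i x => PsiW_res h M e hW (hle i) x)
    (fun i j => resA f M ((hle i).trans hW) inf_le_left)
    (fun i j => resA f M ((hle j).trans hW) inf_le_right)
    (fun i j => resA' g g' f' M e (UU_le_right (i.1 : X.Opens)) (UU_mono inf_le_left))
    (fun i j => resA' g g' f' M e (UU_le_right (j.1 : X.Opens)) (UU_mono inf_le_right))
    (fun i j => PsiW h M e (hij i j))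
    (fun i j x => PsiW_res h M e ((hle i).trans hW) inf_le_left x)
    (fun i j x => PsiW_res h M e ((hle j).trans hW) inf_le_right x) ?_ ?_ ?_ ?_ ?_ ?_
  · intro i j n
    exact (rs_rs M (hle i) inf_le_left (show Γ(M, W) from n)).trans
      (rs_rs M (hle j) inf_le_right (show Γ(M, W) from n)).symm
  · intro n hn
    obtain ⟨t, ht, -⟩ := existsUnique_glue M (fun i : s => (i.1 : X.Opens)) hle hcov
      (fun i => (show Γ(M, (i.1 : X.Opens)) from n i)) (fun i j => hn i j)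
    exact ⟨t, ht⟩
  · intro p hp
    refine sec_ext_of_locally ((pullback g').obj M)
      (show Γ((pullback g').obj M, UU g' f' V' W) from p) 0 fun x hx => ?_
    obtain ⟨i, hxi⟩ := hcov (g' x) hx.1
    refine ⟨UU g' f' V' (i.1 : X.Opens), UU_mono (hle i), ⟨hxi, hx.2⟩, ?_⟩
    rw [rs_zero]
    exact hp i
  · intro i j p
    exact (rs_rs ((pullback g').obj M) (UU_mono (hle i)) (UU_mono inf_le_left)
      (show Γ((pullback g').obj M, UU g' f' V' W) from p)).trans
      (rs_rs ((pullback g').obj M) (UU_mono (hle j)) (UU_mono inf_le_right)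
        (show Γ((pullback g').obj M, UU g' f' V' W) from p)).symm
  · intro i
    exact PsiW_bijective_of_isAffineOpen h M e hV hV' _ i.1.2
  · intro i j
    exact PsiW_injective_of_isCompact h M e hV hV' (hij i j) (hijc i j)

end Groth.Agent.Lib.Lead.FlatBC
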