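import Groth.Agent.Lib.Lead.FlatBC4

/-!
# Flat base change `g^* f_* M ≅ f'_* g'^* M` for `f` qcqs, `g` flat, `M` quasi-coherent
(lead seat library)
-/

set_option autoImplicit false
universe u

open AlgebraicGeometry CategoryTheory Opposite TopologicalSpace TensorProduct

namespace Groth.Agent.Lib.Lead.FlatBC

noncomputable section

open Scheme.Modules Groth.Agent.Lib.Helper48.OmegaAff Groth.Agent.Lib.Lead.QCohAff
  Groth.Agent.Lib.Helper40.AffBC Groth.Agent.Lib.Helper74.ModSec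

variable {X S X' S' : Scheme.{u}} {f : X ⟶ S} {g : S' ⟶ S} {g' : X' ⟶ X} {f' : X' ⟶ S'}
  (h : IsPullback g' f' f g) (M : X.Modules) {V : S.Opens} {V' : S'.Opens} (e : V' ≤ g ⁻¹ᵁ V)

/-- the comparison map over `f⁻¹V` with target `Γ(g'^*M, f'⁻¹V')` is bijective -/
theorem Psi_preimage_bijective [QuasiCompact f] [QuasiSeparated f] [Flat g] [M.IsQuasicoherent]
    (hV : IsAffineOpen V) (hV' : IsAffineOpen V') :
    Function.Bijective (Psi f g g' f' h.w M e (le_refl (f ⁻¹ᵁ V)) (le_refl (f' ⁻¹ᵁ V'))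
      (preimage_le_of_le h.w e)) := by
  have hc : IsCompact ((f ⁻¹ᵁ V : X.Opens) : Set X) :=
    QuasiCompact.isCompact_preimage (f := f) _ V.2 hV.isCompact
  have hqs : IsQuasiSeparated ((f ⁻¹ᵁ V : X.Opens) : Set X) :=
    f.isQuasiSeparated_preimage hV.isQuasiSeparated
  have hb := PsiW_bijective_of_qcqs h M e hV hV' (le_refl (f ⁻¹ᵁ V)) hc hqs
  have heq : UU g' f' V' (f ⁻¹ᵁ V) = f' ⁻¹ᵁ V' :=
    inf_eq_right.2 (preimage_le_of_le h.w e)
  have hres : ∀ x, resA' g g' f' M e (le_refl (f' ⁻¹ᵁ V')) heq.le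
      (Psi f g g' f' h.w M e (le_refl (f ⁻¹ᵁ V)) (le_refl (f' ⁻¹ᵁ V'))
        (preimage_le_of_le h.w e) x) = PsiW h M e (le_refl (f ⁻¹ᵁ V)) x := by
    intro x
    rw [Psi_res f g g' f' h.w M e (le_refl (f ⁻¹ᵁ V)) (le_refl (f' ⁻¹ᵁ V'))
      (preimage_le_of_le h.w e) (le_refl _) heq.le (UU_le_left _) x]
    congr 1
    have : resA f M (le_refl (f ⁻¹ᵁ V)) (le_refl (f ⁻¹ᵁ V)) = LinearMap.id := by
      ext m
      exact rs_self M _ _
    rw [this, LinearMap.baseChange_id]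
    rfl
  have hrb : Function.Bijective (resA' g g' f' M e (le_refl (f' ⁻¹ᵁ V')) heq.le) :=
    rs_bijective_of_eq ((pullback g').obj M) heq
  have : (PsiW h M e (le_refl (f ⁻¹ᵁ V)) : _ → _) =
      (resA' g g' f' M e (le_refl (f' ⁻¹ᵁ V')) heq.le) ∘
        (Psi f g g' f' h.w M e (le_refl (f ⁻¹ᵁ V)) (le_refl (f' ⁻¹ᵁ V'))
          (preimage_le_of_le h.w e)) := funext fun x => (hres x).symm
  rw [this] at hb
  exact (Function.Bijective.of_comp_iff' hrb _).1 hb

include e in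
/-- The base change map is bijective on sections over an affine open `V'` of `S'` mapping into an
affine open `V` of `S`. -/
theorem baseChangeMap_app_bijective_of_flat [QuasiCompact f] [QuasiSeparated f] [Flat g]
    [M.IsQuasicoherent] (hV : IsAffineOpen V) (hV' : IsAffineOpen V') :
    Function.Bijective ((baseChangeMap f g g' f' h.w M).app V') := by
  haveI : ((pushforward f).obj M).IsQuasicoherent :=
    Groth.Agent.S2249.isQuasicoherent_pushforward_of_qcqs f M
  letI algAA' : Algebra Γ(S, V) Γ(S', V') := (g.appLE V V' e).hom.toAlgebra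
  letI modAN : Module Γ(S, V) Γ(M, f ⁻¹ᵁ V) :=
    inferInstanceAs (Module Γ(S, V) Γ((pushforward f).obj M, V))
  let τ1 : Γ(S', V') ⊗[Γ(S, V)] Γ(M, f ⁻¹ᵁ V) →ₗ[Γ(S', V')]
      Γ((pullback g).obj ((pushforward f).obj M), V') := pullTensorHom g ((pushforward f).obj M) e
  have hτ1 : Function.Bijective τ1 :=
    pullTensorHom_bijective g ((pushforward f).obj M) hV' hV e
  have hΨ := Psi_preimage_bijective h M e hV hV'
  let idE : SecA f M (le_refl (f ⁻¹ᵁ V)) ≃ₗ[Γ(S, V)] Γ(M, f ⁻¹ᵁ V) :=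
    { toFun := fun m => m
      invFun := fun m => m
      map_add' := fun _ _ => rfl
      map_smul' := fun a m => by
        change (f.appLE V (f ⁻¹ᵁ V) (le_refl _) a : Γ(X, f ⁻¹ᵁ V)) • (show Γ(M, f ⁻¹ᵁ V) from m) =
          (f.app V a : Γ(X, f ⁻¹ᵁ V)) • (show Γ(M, f ⁻¹ᵁ V) from m)
        rw [Scheme.Hom.app_eq_appLE]
      left_inv := fun _ => rfl
      right_inv := fun _ => rfl }
  let cE : Ap g e ⊗[Γ(S, V)] SecA f M (le_refl (f ⁻¹ᵁ V)) ≃ₗ[Γ(S, V)]
      Γ(S', V') ⊗[Γ(S, V)] Γ(M, f ⁻¹ᵁ V) :=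
    TensorProduct.congr (LinearEquiv.refl Γ(S, V) Γ(S', V')) idE
  have key : ∀ x : Ap g e ⊗[Γ(S, V)] SecA f M (le_refl (f ⁻¹ᵁ V)),
      (baseChangeMap f g g' f' h.w M).app V' (τ1 (cE x)) =
        Psi f g g' f' h.w M e (le_refl (f ⁻¹ᵁ V)) (le_refl (f' ⁻¹ᵁ V'))
          (preimage_le_of_le h.w e) x := by
    intro x
    induction x using TensorProduct.induction_on with
    | zero =>
      rw [map_zero, map_zero, map_zero]
      exact (map_zero _).symm
    | tmul a n =>
      have e0 : cE (a ⊗ₜ n) = (show Γ(S', V') from a) ⊗ₜ (show Γ(M, f ⁻¹ᵁ V) from n) :=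
        TensorProduct.congr_tmul _ _ _ _
      have e1 : τ1 ((show Γ(S', V') from a) ⊗ₜ (show Γ(M, f ⁻¹ᵁ V) from n)) =
          (show Γ(S', V') from a) • pullRes g ((pushforward f).obj M) e n :=
        pullTensorHom_tmul g ((pushforward f).obj M) e a n
      rw [e0, e1, Hom.app_smul, baseChangeMap_pullRes h.w M e n, Psi_tmul]
      change (f'.app V' a : Γ(X', f' ⁻¹ᵁ V')) • pullRes g' M (preimage_le_of_le h.w e) n =
        (f'.appLE V' (f' ⁻¹ᵁ V') (le_refl _) a : Γ(X', f' ⁻¹ᵁ V')) •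
          pullRes g' M (preimage_le_of_le h.w e) n
      rw [Scheme.Hom.app_eq_appLE]
    | add x y hx hy =>
      rw [map_add, map_add, map_add, hx, hy]
      exact (map_add _ _ _).symm
  constructor
  · intro p q hpq
    obtain ⟨x, rfl⟩ := hτ1.2 p
    obtain ⟨y, rfl⟩ := hτ1.2 q
    obtain ⟨x, rfl⟩ := cE.surjective x
    obtain ⟨y, rfl⟩ := cE.surjective y
    rw [key, key] at hpq
    rw [hΨ.1 hpq]
  · intro t
    obtain ⟨x, rfl⟩ := hΨ.2 t
    exact ⟨τ1 (cE x), key x⟩

/-- **Flat base change**: the base change map is an isomorphism for `f` quasi-compact and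
quasi-separated, `g` flat and `M` quasi-coherent. -/
theorem isIso_baseChangeMap_of_flat [QuasiCompact f] [QuasiSeparated f] [Flat g]
    [M.IsQuasicoherent] : IsIso (baseChangeMap f g g' f' h.w M) := by
  let B : Set S'.Opens := {V' | IsAffineOpen V' ∧ ∃ V : S.Opens, IsAffineOpen V ∧ V' ≤ g ⁻¹ᵁ V}
  have hB : Opens.IsBasis B := by
    rw [Opens.isBasis_iff_nbhd]
    intro U x hxU
    obtain ⟨_, ⟨V, hV : IsAffineOpen V, rfl⟩, hxV, -⟩ :=
      (S.isBasis_affineOpens).exists_subset_of_mem_open (Set.mem_univ (g x)) isOpen_univ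
    obtain ⟨_, ⟨V', hV' : IsAffineOpen V', rfl⟩, hxV', hV'U⟩ :=
      (S'.isBasis_affineOpens).exists_subset_of_mem_open
        (show x ∈ U ⊓ g ⁻¹ᵁ V from ⟨hxU, hxV⟩) (U ⊓ g ⁻¹ᵁ V).2
    exact ⟨V', ⟨hV', V, hV, fun y hy => (hV'U hy).2⟩, hxV', fun y hy => (hV'U hy).1⟩
  refine isIso_of_app_bijective_of_basis B hB _ ?_
  rintro V' ⟨hV', V, hV, e⟩
  exact baseChangeMap_app_bijective_of_flat h M e hV hV'

/-- the base change map as the composite of unit, identification of direct images and counit -/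
theorem baseChangeMap_eq (w : g' ≫ f = f' ≫ g) :
    baseChangeMap f g g' f' w M =
      (pullback g).map ((pushforward f).map ((pullbackPushforwardAdjunction g').unit.app M)) ≫
      (pullback g).map ((pushforwardComp g' f ≪≫ pushforwardCongr w ≪≫
        (pushforwardComp f' g).symm).hom.app ((pullback g').obj M)) ≫
      (pullbackPushforwardAdjunction g).counit.app
        ((pushforward f').obj ((pullback g').obj M)) := by
  unfold baseChangeMap pushSquareIso
  rw [Adjunction.homEquiv_counit, Functor.map_comp, Category.assoc]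

end

end Groth.Agent.Lib.Lead.FlatBC
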