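import Mathlib
import Groth.Prelude.Def_FrameBundle
import Groth.Prelude.Def_NonAbH2
import Groth.Agent.Lib.Lead.GaTorsor
import Groth.Agent.Lib.Lead.Hilbert90
import Groth.Agent.Lib.Lead.EtaleCoverSection
import Groth.Agent.Lib.Lead.TorsorPush
import Groth.Agent.Lib.Helper16.Hilbert90Mat
import Groth.Agent.Lib.Helper45.GLnOv

/-!
# Torsors under `GL_n` (absolute form) have sections over local rings (lead)
-/

set_option autoImplicit false
universe u
open CategoryTheory CategoryTheory.Limits MonoidalCategory CartesianMonoidalCategory MonObj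
  AlgebraicGeometry
open scoped TensorProduct

namespace Groth.Agent.Lib.Lead.GLnTorsor

open Groth.Agent.Lib.Lead.GaTorsor Groth.Agent.Lib.Lead.Hilbert90

section General

variable {S : Scheme.{u}} {G X Y : Over S} [GrpObj G] (a : AlgGrp.Action G X) (φ : X ⟶ Y)
  (hcart : IsPullback a.act (snd G X) φ φ)

include hcart in
theorem exists_act_eq' {T : Over S} (x y : T ⟶ X) (h : x ≫ φ = y ≫ φ) :
    ∃ c : T ⟶ G, lift c x ≫ a.act = y := by
  refine ⟨hcart.lift y x h.symm ≫ fst G X, ?_⟩
  have e : lift (hcart.lift y x h.symm ≫ fst G X) x = hcart.lift y x h.symm := by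
    apply CartesianMonoidalCategory.hom_ext
    · rw [lift_fst]
    · rw [lift_snd, hcart.lift_snd]
  rw [e, hcart.lift_fst]

include hcart in
theorem act_injective' {T : Over S} (x : T ⟶ X) (c₁ c₂ : T ⟶ G)
    (e : lift c₁ x ≫ a.act = lift c₂ x ≫ a.act) : c₁ = c₂ := by
  have h : lift c₁ x = lift c₂ x := by
    apply hcart.hom_ext
    · exact e
    · rw [lift_snd, lift_snd]
  have := congrArg (· ≫ fst G X) h
  simpa using this

include hcart in
theorem act_comp_phi {T : Over S} (c : T ⟶ G) (x : T ⟶ X) :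
    (lift c x ≫ a.act) ≫ φ = x ≫ φ := by
  rw [Category.assoc, hcart.w, ← Category.assoc, lift_snd]

end General


section Main

open Groth.Agent.Lib.Helper16.Hilbert90Mat Groth.Agent.Lib.Helper45.GLnOv

variable {S : Scheme.{u}} (n : ℕ) {X Y : Over S}
  (a : AlgGrp.Action (FrB.GLn n S) X) (φ : X ⟶ Y)
  (hcart : IsPullback a.act (snd (FrB.GLn n S) X) φ φ)

include hcart in
/-- A `GL_n`-torsor `φ : X ⟶ Y` (absolute form) which is smooth and surjective has a section over
every local affine scheme mapping to `Y`. -/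
theorem exists_section_local [Smooth φ.left] [Surjective φ.left]
    (R : CommRingCat.{u}) [IsLocalRing R] (jY : Spec R ⟶ Y.left) :
    ∃ s : Spec R ⟶ X.left, s ≫ φ.left = jY := by
  obtain ⟨R', iR', iA', hEt, hFF, t₀, ht₀⟩ :=
    Groth.Agent.Lib.Lead.EtaleCoverSection.exists_etale_faithfullyFlat_section R
      (pullback.snd φ.left jY)
  obtain ⟨q, hq⟩ := PrimeSpectrum.comap_surjective_of_faithfullyFlat (A := R) (B := R')
    (IsLocalRing.closedPoint R)
  let A := Localization.AtPrime q.asIdeal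
  haveI : Module.Flat R R' := inferInstance
  haveI : Module.Flat R A := Module.Flat.trans R R' A
  haveI : IsLocalHom (algebraMap R A) := by
    constructor
    intro r hr
    rw [IsScalarTower.algebraMap_apply R R' A, IsLocalization.AtPrime.isUnit_to_map_iff A q.asIdeal]
      at hr
    by_contra hnu
    apply hr
    have h1 : r ∈ IsLocalRing.maximalIdeal R := (IsLocalRing.mem_maximalIdeal r).mpr hnu
    have h2 : (IsLocalRing.closedPoint R).asIdeal = Ideal.comap (algebraMap R R') q.asIdeal := by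
      rw [← hq]; rfl
    change r ∈ (IsLocalRing.closedPoint R).asIdeal at h1
    rw [h2] at h1
    exact h1
  haveI hFFA : Module.FaithfullyFlat R A := Module.FaithfullyFlat.of_flat_of_isLocalHom
  let j : Spec R ⟶ S := jY ≫ Y.hom
  let f : Spec (CommRingCat.of A) ⟶ Spec R := Spec.map (CommRingCat.ofHom (algebraMap R A))
  let x : Spec (CommRingCat.of A) ⟶ X.left :=
    Spec.map (CommRingCat.ofHom (algebraMap R' A)) ≫ t₀ ≫ pullback.fst φ.left jY
  have hx : x ≫ φ.left = f ≫ jY := by
    change (Spec.map _ ≫ t₀ ≫ pullback.fst φ.left jY) ≫ φ.left = _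
    rw [Category.assoc, Category.assoc, pullback.condition, ← Category.assoc t₀, ht₀,
      ← Category.assoc, ← Spec.map_comp]
    congr 2
  let xO : ov R j A ⟶ X := Over.homMk x (by
    change x ≫ X.hom = Spec.map _ ≫ jY ≫ Y.hom
    rw [← Over.w φ, ← Category.assoc, hx, Category.assoc])
  -- algebra maps
  let e₁ : A →ₐ[R] A ⊗[R] A := Algebra.TensorProduct.includeLeft
  let e₂ : A →ₐ[R] A ⊗[R] A := Algebra.TensorProduct.includeRight
  have h121 : (J12 R A).comp e₁ = (J13 R A).comp e₁ := by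
    ext r
    simp [J12, J13, e₁]
  have h122 : (J12 R A).comp e₂ = (J23 R A).comp e₁ := by
    ext r
    simp [J12, J23, e₁, e₂]
  have h132 : (J13 R A).comp e₂ = (J23 R A).comp e₂ := by
    ext r
    simp [J13, J23, e₂]
  have hφ12 : (ovMap R j e₁ ≫ xO) ≫ φ = (ovMap R j e₂ ≫ xO) ≫ φ := by
    apply Over.OverMorphism.ext
    have hef : Spec.map (CommRingCat.ofHom e₁.toRingHom) ≫ f =
        Spec.map (CommRingCat.ofHom e₂.toRingHom) ≫ f := by
      change Spec.map _ ≫ Spec.map _ = Spec.map _ ≫ Spec.map _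
      rw [← Spec.map_comp, ← Spec.map_comp]
      congr 1
      ext r
      change e₁ (algebraMap R A r) = e₂ (algebraMap R A r)
      rw [e₁.commutes, e₂.commutes]
    have key : ∀ (g : Spec (CommRingCat.of (A ⊗[R] A)) ⟶ Spec (CommRingCat.of A)),
        (g ≫ x) ≫ φ.left = (g ≫ f) ≫ jY := by
      intro g
      rw [Category.assoc, hx, ← Category.assoc]
    exact (key _).trans ((congrArg (· ≫ jY) hef).trans (key _).symm)
  obtain ⟨c, hc⟩ := exists_act_eq' a φ hcart (ovMap R j e₁ ≫ xO) (ovMap R j e₂ ≫ xO) hφ12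
  have hc' : smul a c (ovMap R j e₁ ≫ xO) = ovMap R j e₂ ≫ xO := hc
  -- the cocycle condition
  have s1 : smul a (ovMap R j (J12 R A) ≫ c) (ovMap R j ((J12 R A).comp e₁) ≫ xO) =
      ovMap R j ((J12 R A).comp e₂) ≫ xO := by
    rw [ovMap_comp, Category.assoc, ← comp_smul, hc', ← Category.assoc, ← ovMap_comp]
  have s2 : smul a (ovMap R j (J23 R A) ≫ c) (ovMap R j ((J12 R A).comp e₂) ≫ xO) =
      ovMap R j ((J23 R A).comp e₂) ≫ xO := by
    rw [h122, ovMap_comp, Category.assoc, ← comp_smul, hc', ← Category.assoc, ← ovMap_comp]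
  have s3 : smul a (ovMap R j (J13 R A) ≫ c) (ovMap R j ((J12 R A).comp e₁) ≫ xO) =
      ovMap R j ((J23 R A).comp e₂) ≫ xO := by
    rw [h121, ovMap_comp, Category.assoc, ← comp_smul, hc', ← Category.assoc, ← ovMap_comp, h132]
  have hcoc : (ovMap R j (J23 R A) ≫ c) * (ovMap R j (J12 R A) ≫ c) = ovMap R j (J13 R A) ≫ c := by
    apply act_injective' a φ hcart (ovMap R j ((J12 R A).comp e₁) ≫ xO)
    change smul a _ _ = smul a _ _
    rw [GaTorsor.mul_smul, s1, s2, s3]
  have hcoc' : (J23 R A).toRingHom.mapMatrix (fnM R j n c) *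
      (J12 R A).toRingHom.mapMatrix (fnM R j n c) =
      (J13 R A).toRingHom.mapMatrix (fnM R j n c) := by
    have := congrArg (fnM R j n) hcoc
    rwa [fnM_mul, fnM_comp, fnM_comp, fnM_comp] at this
  have hinv : fnM R j n c * fnM R j n c⁻¹ = 1 := by
    rw [← fnM_mul, mul_inv_cancel, fnM_one]
  obtain ⟨h, h', hh1, hh2, hh⟩ := exists_matrix n (fnM R j n c) (fnM R j n c⁻¹) hinv hcoc'
  obtain ⟨b, hb⟩ := exists_pt R j n h' h hh2
  -- modify the point
  have hx' : ovMap R j e₁ ≫ smul a b xO = ovMap R j e₂ ≫ smul a b xO := by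
    rw [comp_smul, comp_smul, ← hc', ← GaTorsor.mul_smul]
    congr 1
    apply fnM_injective
    rw [fnM_mul, fnM_comp, fnM_comp, hb]
    have k1 : e₁.toRingHom.mapMatrix h * e₁.toRingHom.mapMatrix h' = 1 := by
      rw [← map_mul, hh1, map_one]
    have k2 : e₂.toRingHom.mapMatrix h' * e₂.toRingHom.mapMatrix h = 1 := by
      rw [← map_mul, hh2, map_one]
    have hh' : e₂.toRingHom.mapMatrix h = fnM R j n c * e₁.toRingHom.mapMatrix h := hh
    calc e₁.toRingHom.mapMatrix h'
        = (e₂.toRingHom.mapMatrix h' * e₂.toRingHom.mapMatrix h) * e₁.toRingHom.mapMatrix h' := by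
          rw [k2, _root_.one_mul]
      _ = (e₂.toRingHom.mapMatrix h' * (fnM R j n c * e₁.toRingHom.mapMatrix h)) *
            e₁.toRingHom.mapMatrix h' := by rw [hh']
      _ = (e₂.toRingHom.mapMatrix h' * fnM R j n c) *
            (e₁.toRingHom.mapMatrix h * e₁.toRingHom.mapMatrix h') := by
          simp only [Matrix.mul_assoc]
      _ = e₂.toRingHom.mapMatrix h' * fnM R j n c := by rw [k1, _root_.mul_one]
  -- descent along `f`
  have hff : (CommRingCat.ofHom (algebraMap R A)).hom.FaithfullyFlat :=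
    RingHom.faithfullyFlat_algebraMap_iff.mpr hFFA
  obtain ⟨hfl, hsu⟩ := (flat_and_surjective_SpecMap_iff (CommRingCat.ofHom (algebraMap R A))).mpr hff
  haveI : Flat f := hfl
  haveI : Surjective f := hsu
  haveI : EffectiveEpi f := inferInstance
  have hpb : IsPullback (Spec.map (CommRingCat.ofHom e₁.toRingHom))
      (Spec.map (CommRingCat.ofHom e₂.toRingHom)) f f :=
    isPullback_SpecMap_of_isPushout _ _ _ _ (CommRingCat.isPushout_tensorProduct R A A)
  let xl : Spec (CommRingCat.of A) ⟶ X.left := (smul a b xO).left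
  have hxl : Spec.map (CommRingCat.ofHom e₁.toRingHom) ≫ xl =
      Spec.map (CommRingCat.ofHom e₂.toRingHom) ≫ xl := congrArg CommaMorphism.left hx'
  have hdesc : ∀ {Z : Scheme.{u}} (g₁ g₂ : Z ⟶ Spec (CommRingCat.of A)), g₁ ≫ f = g₂ ≫ f →
      g₁ ≫ xl = g₂ ≫ xl := by
    intro Z g₁ g₂ h
    obtain ⟨l, hl1, hl2⟩ : ∃ l : Z ⟶ Spec (CommRingCat.of (A ⊗[R] A)),
        l ≫ Spec.map (CommRingCat.ofHom e₁.toRingHom) = g₁ ∧
        l ≫ Spec.map (CommRingCat.ofHom e₂.toRingHom) = g₂ :=
      ⟨hpb.lift g₁ g₂ h, hpb.lift_fst g₁ g₂ h, hpb.lift_snd g₁ g₂ h⟩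
    rw [← hl1, ← hl2, Category.assoc, Category.assoc, hxl]
  refine ⟨EffectiveEpi.desc f xl hdesc, ?_⟩
  rw [← cancel_epi f, ← Category.assoc, EffectiveEpi.fac]
  have h9 : smul a b xO ≫ φ = xO ≫ φ := act_comp_phi a φ hcart b xO
  have h10 := congrArg CommaMorphism.left h9
  exact h10.trans hx

end Main

end Groth.Agent.Lib.Lead.GLnTorsor
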