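import Groth.Prelude.Def_GrMod2
import Mathlib.Tactic

/-!
# Basic facts on `GrTilde.tilde` (the module `M(n)~` on `Proj`), lead seat library

* `exists_pos_homogeneous_notMem`: every point of `Proj` misses a homogeneous element of positive
  degree.
* `isZero_tilde_of_subsingleton`: `M(n)~` is zero if all its section modules are subsingletons.
* `mk_eq_zero_of_smul_eq_zero`, `tildeAt_eq_bot`: fibres vanish when generators do.
* `isZero_tilde_of_tildeAt_eq_bot`.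
* `section_eq_zero_of_isZero`: sections of a zero module vanish.
-/

set_option autoImplicit false
universe u
open CategoryTheory CategoryTheory.Limits AlgebraicGeometry TopologicalSpace Opposite

namespace Groth.Agent.Lib.Lead.GrT

variable {R A : Type u} [CommRing R] [CommRing A] [Algebra R A] (𝒜 : ℕ → Submodule R A)
  [GradedAlgebra 𝒜]

theorem exists_pos_homogeneous_notMem (x : ProjectiveSpectrum 𝒜) :
    ∃ (f : A) (m : ℕ), f ∈ 𝒜 m ∧ 0 < m ∧ f ∉ x.asHomogeneousIdeal := by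
  classical
  by_contra! H
  refine x.not_irrelevant_le fun z hz ↦ ?_
  rw [← DirectSum.sum_support_decompose 𝒜 z]
  refine x.1.toIdeal.sum_mem fun k hk ↦ H _ k (SetLike.coe_mem _) ?_
  by_contra hk0
  have hk0' : k = 0 := by omega
  subst hk0'
  have h0 : (DirectSum.decompose 𝒜 z 0 : A) = 0 := by
    have := (HomogeneousIdeal.mem_irrelevant_iff 𝒜 z).1 hz
    rwa [GradedRing.proj_apply] at this
  rw [DFinsupp.mem_support_toFun] at hk
  exact hk (Subtype.ext h0)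

variable {M : Type u} [AddCommGroup M] [Module R M] [Module A M] (ℳ : ℕ → Submodule R M)

theorem mk_eq_zero_of_smul_eq_zero (x : ProjectiveSpectrum 𝒜) (m : M)
    (s c : x.asHomogeneousIdeal.toIdeal.primeCompl) (h : (c : A) • m = 0) :
    (LocalizedModule.mk m s : GrTilde.LocMod 𝒜 (M := M) x) = 0 := by
  rw [← LocalizedModule.zero_mk s, LocalizedModule.mk_eq]
  refine ⟨c, ?_⟩
  rw [smul_zero, smul_zero, Submonoid.smul_def, Submonoid.smul_def, smul_comm, h, smul_zero]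

theorem tildeAt_eq_bot (n : ℤ) (x : ProjectiveSpectrum 𝒜)
    (h : ∀ (i : ℕ) (m : ℳ i), ∃ c : x.asHomogeneousIdeal.toIdeal.primeCompl, (c : A) • m.1 = 0) :
    GrTilde.tildeAt 𝒜 ℳ n x = ⊥ := by
  rw [GrTilde.tildeAt, Submodule.span_eq_bot]
  rintro q ⟨i, j, m, s, hs, -, rfl⟩
  obtain ⟨c, hc⟩ := h i m
  exact mk_eq_zero_of_smul_eq_zero 𝒜 x m.1 ⟨s.1, hs⟩ c hc

variable [SetLike.GradedSMul 𝒜 ℳ]

theorem isZero_tilde_of_subsingleton (n : ℤ)
    (h : ∀ U : (Opens (ProjectiveSpectrum.top 𝒜))ᵒᵖ, Subsingleton (GrTilde.sect 𝒜 ℳ n U)) :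
    IsZero (GrTilde.tilde 𝒜 ℳ n) := by
  rw [IsZero.iff_id_eq_zero]
  apply Scheme.Modules.hom_ext
  intro U
  ext s
  have := h (op U)
  exact Subsingleton.elim (α := GrTilde.sect 𝒜 ℳ n (op U)) _ _

theorem isZero_tilde_of_tildeAt_eq_bot (n : ℤ) (h : ∀ x, GrTilde.tildeAt 𝒜 ℳ n x = ⊥) :
    IsZero (GrTilde.tilde 𝒜 ℳ n) := by
  apply isZero_tilde_of_subsingleton
  intro U
  refine ⟨fun s t => ?_⟩
  apply Subtype.ext
  funext y
  apply Subtype.ext
  have h1 : ((s.1 y : GrTilde.tildeAt 𝒜 ℳ n y.1) : GrTilde.LocMod 𝒜 (M := M) y.1) ∈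
      (⊥ : Submodule (Twist.A0 𝒜 y.1) _) := (h y.1) ▸ (s.1 y).2
  have h2 : ((t.1 y : GrTilde.tildeAt 𝒜 ℳ n y.1) : GrTilde.LocMod 𝒜 (M := M) y.1) ∈
      (⊥ : Submodule (Twist.A0 𝒜 y.1) _) := (h y.1) ▸ (t.1 y).2
  rw [Submodule.mem_bot] at h1 h2
  rw [h1, h2]

/-- Sections of a zero module vanish. -/
theorem section_eq_zero_of_isZero (n : ℤ) (h : IsZero (GrTilde.tilde 𝒜 ℳ n))
    (U : (Opens (ProjectiveSpectrum.top 𝒜))ᵒᵖ) (s : GrTilde.sect 𝒜 ℳ n U) : s = 0 := by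
  have h1 : 𝟙 (GrTilde.tilde 𝒜 ℳ n) = 0 := h.eq_of_src _ _
  have h2 := congrArg (fun φ : GrTilde.tilde 𝒜 ℳ n ⟶ GrTilde.tilde 𝒜 ℳ n =>
    (Scheme.Modules.Hom.app φ U.unop).hom s) h1
  exact h2

end Groth.Agent.Lib.Lead.GrT
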