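import Groth.Agent.Lib.Lead.GrT
import Groth.Agent.Lib.Helper53.Graded4
import Mathlib.RingTheory.GradedAlgebra.Radical

/-!
# `GrTilde.tilde`: homogeneous annihilators, sections given by one fraction (lead seat library)
-/

set_option autoImplicit false
universe u
open CategoryTheory CategoryTheory.Limits AlgebraicGeometry TopologicalSpace Opposite

namespace Groth.Agent.Lib.Lead.GrT

variable {R A : Type u} [CommRing R] [CommRing A] [Algebra R A] (𝒜 : ℕ → Submodule R A)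
  [GradedAlgebra 𝒜]
variable {M : Type u} [AddCommGroup M] [Module R M] [Module A M] [IsScalarTower R A M]
  (ℳ : ℕ → Submodule R M) [DirectSum.Decomposition ℳ] [SetLike.GradedSMul 𝒜 ℳ]

/-- The annihilator of an element, as an ideal. -/
def annIdeal (z : M) : Ideal A := LinearMap.ker (LinearMap.toSpanSingleton A M z)

omit [Algebra R A] [Module R M] [IsScalarTower R A M] in
theorem mem_annIdeal (z : M) (a : A) : a ∈ annIdeal (A := A) z ↔ a • z = 0 := by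
  rw [annIdeal, LinearMap.mem_ker, LinearMap.toSpanSingleton_apply]

theorem annIdeal_isHomogeneous {z : M} {i : ℕ} (hz : z ∈ ℳ i) :
    (annIdeal (A := A) z).IsHomogeneous 𝒜 := by
  intro j a ha
  rw [mem_annIdeal] at ha ⊢
  have h := Groth.Agent.Lib.Helper53.coe_decompose_smul_of_mem 𝒜 ℳ a hz (j + i)
  rw [ha, DirectSum.decompose_zero, if_pos (Nat.le_add_left i j), Nat.add_sub_cancel] at h
  exact h.symm

/-- A point of `Proj` misses some element of degree one, when the irrelevant ideal is generated in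
degree one. -/
theorem exists_degree_one_notMem
    (hgen : (HomogeneousIdeal.irrelevant 𝒜).toIdeal = Ideal.span (𝒜 1 : Set A))
    (x : ProjectiveSpectrum 𝒜) : ∃ g ∈ 𝒜 1, g ∉ x.asHomogeneousIdeal := by
  by_contra! H
  apply x.not_irrelevant_le
  intro a ha
  have ha' : a ∈ (HomogeneousIdeal.irrelevant 𝒜).toIdeal := ha
  rw [hgen] at ha'
  have hle : Ideal.span (𝒜 1 : Set A) ≤ x.asHomogeneousIdeal.toIdeal := by
    rw [Ideal.span_le]
    intro g hg
    exact H g hg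
  exact hle ha'

/-- The section of `M(n)~` over `U` given by a single fraction. -/
def fracSection {n : ℤ} {i j : ℕ} (m : ℳ i) (s : 𝒜 j) (hij : (i : ℤ) = j + n)
    (U : Opens (ProjectiveSpectrum.top 𝒜)) (hs : ∀ x : U, s.1 ∉ x.1.asHomogeneousIdeal) :
    GrTilde.sect 𝒜 ℳ n (op U) :=
  ⟨fun x => ⟨LocalizedModule.mk m.1 ⟨s.1, hs x⟩,
      Submodule.subset_span ⟨i, j, m, s, hs x, hij, rfl⟩⟩,
    fun x => ⟨U, x.2, 𝟙 _, i, j, m, s, hs, Or.inl hij, fun _ => rfl⟩⟩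

omit [IsScalarTower R A M] [DirectSum.Decomposition ℳ] in
theorem fracSection_apply {n : ℤ} {i j : ℕ} (m : ℳ i) (s : 𝒜 j) (hij : (i : ℤ) = j + n)
    (U : Opens (ProjectiveSpectrum.top 𝒜)) (hs : ∀ x : U, s.1 ∉ x.1.asHomogeneousIdeal) (x : U) :
    (((fracSection 𝒜 ℳ m s hij U hs).1 x : GrTilde.tildeAt 𝒜 ℳ n x.1) :
      GrTilde.LocMod 𝒜 (M := M) x.1) = LocalizedModule.mk m.1 ⟨s.1, hs x⟩ := rfl

/-- If `M~ = 0` and `S₊` is generated in degree one, every homogeneous element is killed at every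
point of `Proj` by something outside the point. -/
theorem exists_notMem_smul_eq_zero_of_isZero
    (hgen : (HomogeneousIdeal.irrelevant 𝒜).toIdeal = Ideal.span (𝒜 1 : Set A))
    (h : IsZero (GrTilde.tilde 𝒜 ℳ 0)) {z : M} {i : ℕ} (hz : z ∈ ℳ i)
    (x : ProjectiveSpectrum 𝒜) : ∃ c : A, c ∉ x.asHomogeneousIdeal ∧ c • z = 0 := by
  obtain ⟨g, hg1, hgx⟩ := exists_degree_one_notMem 𝒜 hgen x
  have hgi : g ^ i ∈ 𝒜 i := by
    have := SetLike.pow_mem_graded i hg1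
    rwa [smul_eq_mul, mul_one] at this
  let U : Opens (ProjectiveSpectrum.top 𝒜) := ProjectiveSpectrum.basicOpen 𝒜 g
  have hs : ∀ y : U, (g ^ i) ∉ y.1.asHomogeneousIdeal := fun y hmem =>
    y.2 (y.1.isPrime.mem_of_pow_mem i hmem)
  have hσ := section_eq_zero_of_isZero 𝒜 ℳ 0 h (op U)
    (fracSection 𝒜 ℳ (n := 0) ⟨z, hz⟩ ⟨g ^ i, hgi⟩ (by simp) U hs)
  have hx : x ∈ U := hgx
  have h1 := fracSection_apply 𝒜 ℳ (n := 0) ⟨z, hz⟩ ⟨g ^ i, hgi⟩ (by simp) U hs ⟨x, hx⟩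
  rw [hσ] at h1
  have h2 : (LocalizedModule.mk z ⟨g ^ i, hs ⟨x, hx⟩⟩ : GrTilde.LocMod 𝒜 (M := M) x) = 0 :=
    h1.symm
  rw [← LocalizedModule.zero_mk ⟨g ^ i, hs ⟨x, hx⟩⟩, LocalizedModule.mk_eq] at h2
  obtain ⟨u, hu⟩ := h2
  refine ⟨u.1 * g ^ i, ?_, ?_⟩
  · intro hmem
    rcases x.isPrime.mem_or_mem hmem with h' | h'
    · exact u.2 h'
    · exact hs ⟨x, hx⟩ h'
  · rw [smul_zero, smul_zero] at hu
    rw [mul_smul]
    exact hu

/-- `M~ = 0` forces every homogeneous element to be killed by a power of every homogeneous element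
of positive degree (irrelevant ideal generated in degree one). -/
theorem exists_pow_smul_eq_zero_of_isZero_of_mem
    (hgen : (HomogeneousIdeal.irrelevant 𝒜).toIdeal = Ideal.span (𝒜 1 : Set A))
    (h : IsZero (GrTilde.tilde 𝒜 ℳ 0)) {z : M} {i : ℕ} (hz : z ∈ ℳ i)
    {d : ℕ} {f : A} (hd : 0 < d) (hf : f ∈ 𝒜 d) : ∃ k : ℕ, f ^ k • z = 0 := by
  have hhom := annIdeal_isHomogeneous 𝒜 ℳ hz
  have hrad : f ∈ (annIdeal (A := A) z).radical := by
    rw [hhom.radical_eq, Ideal.mem_sInf]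
    rintro J ⟨hJhom, hJle, hJprime⟩
    by_cases hirr : HomogeneousIdeal.irrelevant 𝒜 ≤ (⟨J, hJhom⟩ : HomogeneousIdeal 𝒜)
    · apply hirr
      rw [HomogeneousIdeal.mem_irrelevant_iff, GradedRing.proj_apply,
        DirectSum.decompose_of_mem_ne 𝒜 hf (by omega)]
    · exfalso
      let x : ProjectiveSpectrum 𝒜 := ⟨⟨J, hJhom⟩, hJprime, hirr⟩
      obtain ⟨c, hcx, hcz⟩ := exists_notMem_smul_eq_zero_of_isZero 𝒜 ℳ hgen h hz x
      exact hcx (hJle ((mem_annIdeal z c).2 hcz))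
  obtain ⟨k, hk⟩ := hrad
  exact ⟨k, (mem_annIdeal z _).1 hk⟩

theorem exists_pow_smul_eq_zero_of_isZero
    (hgen : (HomogeneousIdeal.irrelevant 𝒜).toIdeal = Ideal.span (𝒜 1 : Set A))
    (h : IsZero (GrTilde.tilde 𝒜 ℳ 0)) (z : M)
    {d : ℕ} {f : A} (hd : 0 < d) (hf : f ∈ 𝒜 d) : ∃ k : ℕ, f ^ k • z = 0 := by
  classical
  have hcomp : ∀ i : ℕ, ∃ k : ℕ, f ^ k • (DirectSum.decompose ℳ z i : M) = 0 := fun i =>
    exists_pow_smul_eq_zero_of_isZero_of_mem 𝒜 ℳ hgen h (SetLike.coe_mem _) hd hf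
  choose k hk using hcomp
  obtain ⟨K, hK⟩ : ∃ K : ℕ, ∀ i ∈ (DirectSum.decompose ℳ z).support, k i ≤ K :=
    ⟨(DirectSum.decompose ℳ z).support.sup k, fun i hi => Finset.le_sup hi⟩
  refine ⟨K, ?_⟩
  conv_lhs => rw [← DirectSum.sum_support_decompose ℳ z, Finset.smul_sum]
  apply Finset.sum_eq_zero
  intro i hi
  have hle : k i ≤ K := hK i hi
  obtain ⟨e, he⟩ := Nat.exists_eq_add_of_le hle
  rw [he, pow_add, mul_comm, mul_smul, hk i, smul_zero]

end Groth.Agent.Lib.Lead.GrT
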