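import Groth.Agent.Lib.Lead.GrT2
import Groth.Agent.S3548

/-!
# `M~ = 0 ↔ (TN)` under (TF) (lead seat library)
-/

set_option autoImplicit false
universe u
open CategoryTheory CategoryTheory.Limits AlgebraicGeometry TopologicalSpace Opposite

namespace Groth.Agent.Lib.Lead.GrT

variable {R A : Type u} [CommRing R] [CommRing A] [Algebra R A] (𝒜 : ℕ → Submodule R A)
  [GradedAlgebra 𝒜]

/-- If `S₊` is generated in degree one then `S_t ⊆ (S₊)^t`. -/
theorem mem_irrelevant_pow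
    (hgen : (HomogeneousIdeal.irrelevant 𝒜).toIdeal = Ideal.span (𝒜 1 : Set A)) :
    ∀ (t : ℕ) (b : A), b ∈ 𝒜 t → b ∈ (HomogeneousIdeal.irrelevant 𝒜).toIdeal ^ t := by
  classical
  intro t
  induction t with
  | zero => intro b _; simp
  | succ t ih =>
    intro a ha
    have hairr : a ∈ (HomogeneousIdeal.irrelevant 𝒜).toIdeal := by
      change a ∈ HomogeneousIdeal.irrelevant 𝒜
      rw [HomogeneousIdeal.mem_irrelevant_iff, GradedRing.proj_apply,
        DirectSum.decompose_of_mem_ne 𝒜 ha (by omega)]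
    rw [hgen] at hairr
    obtain ⟨n, f, g, hsum⟩ := Submodule.mem_span_set'.1 hairr
    have h1 : (DirectSum.decompose 𝒜 a (t + 1) : A) = a := DirectSum.decompose_of_mem_same 𝒜 ha
    rw [← h1, ← hsum, DirectSum.decompose_sum, DFinsupp.finsetSum_apply,
      AddSubmonoidClass.coe_finsetSum]
    apply Ideal.sum_mem
    intro i _
    rw [smul_eq_mul, DirectSum.coe_decompose_mul_add_of_right_mem 𝒜 (g i).2, pow_succ]
    apply Ideal.mul_mem_mul (ih _ (SetLike.coe_mem _))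
    rw [hgen]
    exact Ideal.subset_span (g i).2

variable {M : Type u} [AddCommGroup M] [Module R M] [Module A M] [IsScalarTower R A M]
  (ℳ : ℕ → Submodule R M) [DirectSum.Decomposition ℳ] [SetLike.GradedSMul 𝒜 ℳ]

theorem isZero_of_TN (h : ∃ n : ℕ, ∀ k : ℕ, n ≤ k → ℳ k = ⊥) :
    IsZero (GrTilde.tilde 𝒜 ℳ 0) := by
  classical
  obtain ⟨n, hn⟩ := h
  apply Groth.Agent.S3548.result 𝒜 ℳ
  intro z d f hd hf
  refine ⟨n, ?_⟩
  rw [← DirectSum.sum_support_decompose ℳ z, Finset.smul_sum]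
  apply Finset.sum_eq_zero
  intro i _
  have h1 : f ^ n ∈ 𝒜 (n • d) := SetLike.pow_mem_graded n hf
  have h2 : f ^ n • (DirectSum.decompose ℳ z i : M) ∈ ℳ (n • d +ᵥ i) :=
    SetLike.GradedSMul.smul_mem h1 (SetLike.coe_mem _)
  have h3 : n ≤ n • d +ᵥ i := by
    rw [smul_eq_mul, vadd_eq_add]
    nlinarith
  rw [hn _ h3] at h2
  exact (Submodule.mem_bot R).1 h2

theorem TN_of_isZero (hfg : (HomogeneousIdeal.irrelevant 𝒜).toIdeal.FG)
    (hgen : (HomogeneousIdeal.irrelevant 𝒜).toIdeal = Ideal.span (𝒜 1 : Set A))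
    (hTF : ∃ n : ℕ, (Submodule.span A (⋃ k ∈ Set.Ici n, (ℳ k : Set M))).FG)
    (h : IsZero (GrTilde.tilde 𝒜 ℳ 0)) : ∃ n : ℕ, ∀ k : ℕ, n ≤ k → ℳ k = ⊥ := by
  classical
  obtain ⟨n, hn⟩ := hTF
  obtain ⟨T, hTsub, hTspan⟩ := (Submodule.fg_span_iff_fg_span_finset_subset _).1 hn
  -- degrees of the generators
  have hdeg : ∀ z ∈ T, ∃ e : ℕ, z ∈ ℳ e := by
    intro z hz
    have := hTsub hz
    simp only [Set.mem_iUnion, Set.mem_Ici, SetLike.mem_coe] at this
    obtain ⟨e, -, he⟩ := this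
    exact ⟨e, he⟩
  -- annihilation by a power of the irrelevant ideal
  have hann : ∀ z ∈ T, ∃ N : ℕ, (HomogeneousIdeal.irrelevant 𝒜).toIdeal ^ N ≤ annIdeal (A := A) z := by
    intro z hz
    obtain ⟨e, he⟩ := hdeg z hz
    apply Ideal.exists_pow_le_of_le_radical_of_fg _ hfg
    rw [hgen, Ideal.span_le]
    intro g hg
    obtain ⟨k, hk⟩ := exists_pow_smul_eq_zero_of_isZero_of_mem 𝒜 ℳ hgen h he
      (d := 1) Nat.one_pos hg
    exact ⟨k, (mem_annIdeal z _).2 hk⟩
  choose! e he using hdeg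
  choose! N hN using hann
  refine ⟨max n (T.sup e + T.sup N), ?_⟩
  intro k hk
  rw [eq_bot_iff]
  intro w hw
  rw [Submodule.mem_bot]
  have hkn : n ≤ k := le_trans (le_max_left _ _) hk
  have hkE : T.sup e + T.sup N ≤ k := le_trans (le_max_right _ _) hk
  have hwspan : w ∈ Submodule.span A (T : Set M) := by
    rw [← hTspan]
    apply Submodule.subset_span
    simp only [Set.mem_iUnion, Set.mem_Ici, SetLike.mem_coe]
    exact ⟨k, hkn, hw⟩
  obtain ⟨c, -, hc⟩ := Submodule.mem_span_finset.1 hwspan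
  have hwk : (DirectSum.decompose ℳ w k : M) = w := DirectSum.decompose_of_mem_same ℳ hw
  rw [← hwk, ← hc, DirectSum.decompose_sum, DFinsupp.finsetSum_apply,
    AddSubmonoidClass.coe_finsetSum]
  apply Finset.sum_eq_zero
  intro z hz
  rw [Groth.Agent.Lib.Helper53.coe_decompose_smul_of_mem 𝒜 ℳ (c z) (he z hz) k]
  have hez : e z ≤ T.sup e := Finset.le_sup hz
  have hNz : N z ≤ T.sup N := Finset.le_sup hz
  rw [if_pos (by omega)]
  have h1 : (DirectSum.decompose 𝒜 (c z) (k - e z) : A) ∈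
      (HomogeneousIdeal.irrelevant 𝒜).toIdeal ^ (k - e z) :=
    mem_irrelevant_pow 𝒜 hgen _ _ (SetLike.coe_mem _)
  have h2 : (HomogeneousIdeal.irrelevant 𝒜).toIdeal ^ (k - e z) ≤
      (HomogeneousIdeal.irrelevant 𝒜).toIdeal ^ (N z) := Ideal.pow_le_pow_right (by omega)
  exact (mem_annIdeal z _).1 (hN z hz (h2 h1))

end Groth.Agent.Lib.Lead.GrT
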