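import Groth.Agent.Lib.Lead.GrT2

/-!
# `GrTilde.tilde`: fraction normal form in the fibres, equality of fractions, stalks
(lead seat library)
-/

set_option autoImplicit false
universe u
open CategoryTheory CategoryTheory.Limits AlgebraicGeometry TopologicalSpace Opposite

namespace Groth.Agent.Lib.Lead.GrT

variable {R A : Type u} [CommRing R] [CommRing A] [Algebra R A] (𝒜 : ℕ → Submodule R A)
  [GradedAlgebra 𝒜]
variable {M : Type u} [AddCommGroup M] [Module R M] [Module A M]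
  (ℳ : ℕ → Submodule R M) [SetLike.GradedSMul 𝒜 ℳ]

/-- `q` is a single fraction of degree `n` (or has zero numerator). -/
def IsFracAt (n : ℤ) (x : ProjectiveSpectrum 𝒜) (q : GrTilde.LocMod 𝒜 (M := M) x) : Prop :=
  ∃ (i j : ℕ) (m : ℳ i) (s : 𝒜 j) (hs : s.1 ∉ x.asHomogeneousIdeal),
    ((i : ℤ) = j + n ∨ m.1 = 0) ∧ q = LocalizedModule.mk m.1 ⟨s.1, hs⟩

theorem one_notMem (x : ProjectiveSpectrum 𝒜) : (1 : A) ∉ x.asHomogeneousIdeal := fun h =>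
  x.isPrime.ne_top ((Ideal.eq_top_iff_one _).mpr h)

theorem isFracAt_zero (n : ℤ) (x : ProjectiveSpectrum 𝒜) : IsFracAt 𝒜 ℳ n x 0 :=
  ⟨0, 0, 0, ⟨1, SetLike.GradedOne.one_mem⟩, one_notMem 𝒜 x, Or.inr rfl,
    (LocalizedModule.zero_mk _).symm⟩

theorem isFracAt_add (n : ℤ) (x : ProjectiveSpectrum 𝒜) {q q' : GrTilde.LocMod 𝒜 (M := M) x}
    (hq : IsFracAt 𝒜 ℳ n x q) (hq' : IsFracAt 𝒜 ℳ n x q') : IsFracAt 𝒜 ℳ n x (q + q') := by
  obtain ⟨i, j, ⟨m, hm⟩, ⟨s, hsj⟩, hs, c, rfl⟩ := hq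
  obtain ⟨i', j', ⟨m', hm'⟩, ⟨s', hsj'⟩, hs', c', rfl⟩ := hq'
  replace c : (i : ℤ) = j + n ∨ m = 0 := c
  replace c' : (i' : ℤ) = j' + n ∨ m' = 0 := c'
  rcases c with c | c
  · rcases c' with c' | c'
    · have e : j' + i = j + i' := by omega
      have h1 : s' • m ∈ ℳ (j + i') := by
        have := SetLike.GradedSMul.smul_mem (A := 𝒜) (B := ℳ) hsj' hm
        rw [vadd_eq_add, e] at this
        exact this
      have h2 : s • m' ∈ ℳ (j + i') := by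
        have := SetLike.GradedSMul.smul_mem (A := 𝒜) (B := ℳ) hsj hm'
        rwa [vadd_eq_add] at this
      refine ⟨j + i', j + j', ⟨s' • m + s • m', add_mem h1 h2⟩,
        ⟨s * s', SetLike.mul_mem_graded hsj hsj'⟩,
        fun h => (x.isPrime.mem_or_mem h).elim hs hs', Or.inl (by push_cast; omega), ?_⟩
      rw [LocalizedModule.mk_add_mk]
      rfl
    · subst c'
      rw [LocalizedModule.zero_mk, add_zero]
      exact ⟨i, j, ⟨m, hm⟩, ⟨s, hsj⟩, hs, Or.inl c, rfl⟩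
  · subst c
    rw [LocalizedModule.zero_mk, zero_add]
    exact ⟨i', j', ⟨m', hm'⟩, ⟨s', hsj'⟩, hs', c', rfl⟩

theorem isFracAt_smul (n : ℤ) (x : ProjectiveSpectrum 𝒜) (c : Twist.A0 𝒜 x)
    {q : GrTilde.LocMod 𝒜 (M := M) x}
    (hq : IsFracAt 𝒜 ℳ n x q) : IsFracAt 𝒜 ℳ n x (c • q) := by
  obtain ⟨i, j, ⟨m, hm⟩, ⟨s, hsj⟩, hs, h, rfl⟩ := hq
  replace h : (i : ℤ) = j + n ∨ m = 0 := h
  have hnum : c.num • m ∈ ℳ (c.deg + i) := by
    have := SetLike.GradedSMul.smul_mem (A := 𝒜) (B := ℳ) c.num_mem_deg hm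
    rwa [vadd_eq_add] at this
  refine ⟨c.deg + i, c.deg + j, ⟨c.num • m, hnum⟩,
    ⟨c.den * s, SetLike.mul_mem_graded c.den_mem_deg hsj⟩,
    fun h' => (x.isPrime.mem_or_mem h').elim c.den_mem hs, ?_, ?_⟩
  · rcases h with h | h
    · exact Or.inl (by push_cast; omega)
    · exact Or.inr (show c.num • m = 0 by rw [h, smul_zero])
  · rw [GrTilde.a0_smul_def, c.eq_num_div_den, LocalizedModule.mk_smul_mk]
    rfl

theorem isFracAt_of_mem_tildeAt (n : ℤ) (x : ProjectiveSpectrum 𝒜)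
    {q : GrTilde.LocMod 𝒜 (M := M) x} (hq : q ∈ GrTilde.tildeAt 𝒜 ℳ n x) :
    IsFracAt 𝒜 ℳ n x q := by
  induction hq using Submodule.span_induction with
  | mem q hq =>
    obtain ⟨i, j, m, s, hs, hij, rfl⟩ := hq
    exact ⟨i, j, m, s, hs, Or.inl hij, rfl⟩
  | zero => exact isFracAt_zero 𝒜 ℳ n x
  | add q q' _ _ ih ih' => exact isFracAt_add 𝒜 ℳ n x ih ih'
  | smul c q _ ih => exact isFracAt_smul 𝒜 ℳ n x c ih

omit [SetLike.GradedSMul 𝒜 ℳ] in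
theorem mk_mem_tildeAt (n : ℤ) (x : ProjectiveSpectrum 𝒜) {i j : ℕ} (m : ℳ i) (s : 𝒜 j)
    (hs : s.1 ∉ x.asHomogeneousIdeal) (h : (i : ℤ) = j + n ∨ m.1 = 0) :
    (LocalizedModule.mk m.1 ⟨s.1, hs⟩ : GrTilde.LocMod 𝒜 (M := M) x) ∈
      GrTilde.tildeAt 𝒜 ℳ n x := by
  rcases h with h | h
  · exact Submodule.subset_span ⟨i, j, m, s, hs, h, rfl⟩
  · rw [h, LocalizedModule.zero_mk]
    exact Submodule.zero_mem _

/-- The section of `M(n)~` over `U` given by a single fraction, allowing a zero numerator. -/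
def fracSection' {n : ℤ} {i j : ℕ} (m : ℳ i) (s : 𝒜 j) (hij : (i : ℤ) = j + n ∨ m.1 = 0)
    (U : Opens (ProjectiveSpectrum.top 𝒜)) (hs : ∀ x : U, s.1 ∉ x.1.asHomogeneousIdeal) :
    GrTilde.sect 𝒜 ℳ n (op U) :=
  ⟨fun x => ⟨LocalizedModule.mk m.1 ⟨s.1, hs x⟩, mk_mem_tildeAt 𝒜 ℳ n x.1 m s (hs x) hij⟩,
    fun x => ⟨U, x.2, 𝟙 _, i, j, m, s, hs, hij, fun _ => rfl⟩⟩

end Groth.Agent.Lib.Lead.GrT
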