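import Groth.Agent.Lib.Lead.GrT4

/-!
# `GrTilde.tilde`: equality of fractions spreads out; the stalks (lead seat library)
-/

set_option autoImplicit false
universe u
open CategoryTheory CategoryTheory.Limits AlgebraicGeometry TopologicalSpace Opposite

namespace Groth.Agent.Lib.Lead.GrT

variable {R A : Type u} [CommRing R] [CommRing A] [Algebra R A] (𝒜 : ℕ → Submodule R A)
  [GradedAlgebra 𝒜]
variable {M : Type u} [AddCommGroup M] [Module R M] [Module A M] [IsScalarTower R A M]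
  (ℳ : ℕ → Submodule R M) [DirectSum.Decomposition ℳ] [SetLike.GradedSMul 𝒜 ℳ]

/-- A homogeneous element killed by something outside a homogeneous prime is killed by a
homogeneous element outside it. -/
theorem exists_homogeneous_notMem_smul_eq_zero (x : ProjectiveSpectrum 𝒜) {z : M} {e : ℕ}
    (hz : z ∈ ℳ e) {u : A} (hu : u ∉ x.asHomogeneousIdeal) (huz : u • z = 0) :
    ∃ (l : ℕ) (c : A), c ∈ 𝒜 l ∧ c ∉ x.asHomogeneousIdeal ∧ c • z = 0 := by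
  classical
  by_contra! H
  apply hu
  have hx : u ∈ x.asHomogeneousIdeal.toIdeal := by
    rw [← DirectSum.sum_support_decompose 𝒜 u]
    apply Ideal.sum_mem
    intro l _
    by_contra hl
    exact H l _ (SetLike.coe_mem _) hl
      ((mem_annIdeal z _).1 (annIdeal_isHomogeneous 𝒜 ℳ hz l ((mem_annIdeal z u).2 huz)))
  exact hx

/-- If two fractions of degree `n` agree at `x` then a homogeneous element outside `x` kills the
cross difference. -/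
theorem exists_homogeneous_of_mk_eq_mk (n : ℤ) (x : ProjectiveSpectrum 𝒜) {i j i' j' : ℕ}
    (m : ℳ i) (s : 𝒜 j) (m' : ℳ i') (s' : 𝒜 j')
    (hs : s.1 ∉ x.asHomogeneousIdeal) (hs' : s'.1 ∉ x.asHomogeneousIdeal)
    (h : (i : ℤ) = j + n ∨ m.1 = 0) (h' : (i' : ℤ) = j' + n ∨ m'.1 = 0)
    (heq : (LocalizedModule.mk m.1 ⟨s.1, hs⟩ : GrTilde.LocMod 𝒜 (M := M) x) =
      LocalizedModule.mk m'.1 ⟨s'.1, hs'⟩) :
    ∃ (l : ℕ) (c : A), c ∈ 𝒜 l ∧ c ∉ x.asHomogeneousIdeal ∧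
      c • (s'.1 • m.1 - s.1 • m'.1) = 0 := by
  obtain ⟨m, hm⟩ := m
  obtain ⟨s, hsj⟩ := s
  obtain ⟨m', hm'⟩ := m'
  obtain ⟨s', hsj'⟩ := s'
  replace h : (i : ℤ) = j + n ∨ m = 0 := h
  replace h' : (i' : ℤ) = j' + n ∨ m' = 0 := h'
  rw [LocalizedModule.mk_eq] at heq
  obtain ⟨u, hu⟩ := heq
  have huz : (u : A) • (s' • m - s • m') = 0 := by
    rw [smul_sub, sub_eq_zero]
    exact hu
  have h1 : s' • m ∈ ℳ (j' + i) := by
    have := SetLike.GradedSMul.smul_mem (A := 𝒜) (B := ℳ) hsj' hm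
    rwa [vadd_eq_add] at this
  have h2 : s • m' ∈ ℳ (j + i') := by
    have := SetLike.GradedSMul.smul_mem (A := 𝒜) (B := ℳ) hsj hm'
    rwa [vadd_eq_add] at this
  have hz : ∃ e : ℕ, s' • m - s • m' ∈ ℳ e := by
    rcases h with h | h
    · rcases h' with h' | h'
      · have e : j' + i = j + i' := by omega
        rw [e] at h1
        exact ⟨_, sub_mem h1 h2⟩
      · subst h'
        rw [smul_zero, sub_zero]
        exact ⟨_, h1⟩
    · subst h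
      rw [smul_zero, zero_sub]
      exact ⟨_, neg_mem h2⟩
  obtain ⟨e, hz⟩ := hz
  exact exists_homogeneous_notMem_smul_eq_zero 𝒜 ℳ x hz u.2 huz

omit [IsScalarTower R A M] [DirectSum.Decomposition ℳ] [SetLike.GradedSMul 𝒜 ℳ] in
/-- Conversely a common multiplier outside `y` makes the two fractions equal at `y`. -/
theorem mk_eq_mk_of_smul_eq_zero (y : ProjectiveSpectrum 𝒜) (m m' : M) (s s' c : A)
    (hs : s ∉ y.asHomogeneousIdeal) (hs' : s' ∉ y.asHomogeneousIdeal)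
    (hc : c ∉ y.asHomogeneousIdeal) (h : c • (s' • m - s • m') = 0) :
    (LocalizedModule.mk m ⟨s, hs⟩ : GrTilde.LocMod 𝒜 (M := M) y) =
      LocalizedModule.mk m' ⟨s', hs'⟩ := by
  rw [LocalizedModule.mk_eq]
  refine ⟨⟨c, hc⟩, ?_⟩
  rw [smul_sub, sub_eq_zero] at h
  exact h

theorem stalkToFiber_injective (n : ℤ) (p : ProjectiveSpectrum 𝒜) :
    Function.Injective (TopCat.stalkToFiber (GrTilde.isLocFrac 𝒜 ℳ n) p) := by
  apply TopCat.stalkToFiber_injective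
  intro U V fU hU fV hV hp
  obtain ⟨Wa, hpa, ia, i, j, m, s, nin, c, wa⟩ := hU ⟨p, U.2⟩
  obtain ⟨Wb, hpb, ib, i', j', m', s', nin', c', wb⟩ := hV ⟨p, V.2⟩
  have heq : (LocalizedModule.mk m.1 ⟨s.1, nin ⟨p, hpa⟩⟩ : GrTilde.LocMod 𝒜 (M := M) p) =
      LocalizedModule.mk m'.1 ⟨s'.1, nin' ⟨p, hpb⟩⟩ := by
    rw [← wa ⟨p, hpa⟩, ← wb ⟨p, hpb⟩]
    exact congrArg Subtype.val hp
  obtain ⟨l, g, -, hgp, hg⟩ := exists_homogeneous_of_mk_eq_mk 𝒜 ℳ n p m s m' s'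
    (nin ⟨p, hpa⟩) (nin' ⟨p, hpb⟩) c c' heq
  let W₀ : Opens (ProjectiveSpectrum.top 𝒜) := Wa ⊓ Wb ⊓ ProjectiveSpectrum.basicOpen 𝒜 g
  have hpW : p ∈ W₀ := ⟨⟨hpa, hpb⟩, hgp⟩
  let W : OpenNhds p := ⟨W₀, hpW⟩
  have hWU : W₀ ≤ U.1 := fun y hy => (ia ⟨y, hy.1.1⟩).2
  have hWV : W₀ ≤ V.1 := fun y hy => (ib ⟨y, hy.1.2⟩).2
  refine ⟨W, homOfLE hWU, homOfLE hWV, fun w => ?_⟩
  apply Subtype.ext
  have e1 := wa ⟨w.1, w.2.1.1⟩
  have e2 := wb ⟨w.1, w.2.1.2⟩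
  refine (e1.trans ?_).trans e2.symm
  exact mk_eq_mk_of_smul_eq_zero 𝒜 w.1 m.1 m'.1 s.1 s'.1 g _ _ w.2.2 hg

omit [IsScalarTower R A M] [DirectSum.Decomposition ℳ] in
theorem stalkToFiber_surjective (n : ℤ) (p : ProjectiveSpectrum 𝒜) :
    Function.Surjective (TopCat.stalkToFiber (GrTilde.isLocFrac 𝒜 ℳ n) p) := by
  apply TopCat.stalkToFiber_surjective
  rintro ⟨q, hq⟩
  obtain ⟨i, j, m, s, hs, c, rfl⟩ := isFracAt_of_mem_tildeAt 𝒜 ℳ n p hq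
  let U₀ : Opens (ProjectiveSpectrum.top 𝒜) := ProjectiveSpectrum.basicOpen 𝒜 s.1
  have hpU : p ∈ U₀ := hs
  refine ⟨⟨U₀, hpU⟩, (fracSection' 𝒜 ℳ m s c U₀ (fun y => y.2)).1,
    (fracSection' 𝒜 ℳ m s c U₀ (fun y => y.2)).2, ?_⟩
  exact Subtype.ext rfl

end Groth.Agent.Lib.Lead.GrT
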