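import Mathlib
import Groth.Agent.Lib.Helper9.HenselSplit

/-!
# Étale algebras over a henselian local ring split off a finite étale factor (lead)
-/

set_option autoImplicit false
universe u
open IsLocalRing

namespace Groth.Agent.Lib.Lead.HensEtaleSplit

/-- Let `A` be a henselian local ring, `B` an étale `A`-algebra and `q` a prime of `B` over the
maximal ideal. Then there is a finite étale `A`-algebra `B'` with `Spec B' → Spec A` surjective and
an `A`-algebra map `B → B'`. -/
theorem exists_finite_etale_factor (A : Type u) [CommRing A] [HenselianLocalRing A]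
    (B : Type u) [CommRing B] [Algebra A B] [Algebra.Etale A B]
    (q : Ideal B) [q.IsPrime] [q.LiesOver (maximalIdeal A)] :
    ∃ (B' : Type u) (_ : CommRing B') (_ : Algebra A B') (_ : B →ₐ[A] B'),
      Module.Finite A B' ∧ Algebra.Etale A B' ∧
      Function.Surjective (PrimeSpectrum.comap (algebraMap A B')) := by
  haveI : Algebra.QuasiFiniteAt A q := inferInstance
  obtain ⟨e, he, heq, hfin, -⟩ :=
    Groth.Agent.Lib.Helper9.exists_idempotent_of_quasiFiniteAt (R := A) q
  haveI : Algebra.Etale B (Localization.Away e) := Algebra.Etale.of_isLocalizationAway e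
  haveI : Algebra.Etale A (Localization.Away e) := Algebra.Etale.comp A B (Localization.Away e)
  refine ⟨Localization.Away e, inferInstance, inferInstance,
    IsScalarTower.toAlgHom A B (Localization.Away e), hfin, inferInstance, ?_⟩
  -- a prime of the localization over the maximal ideal
  have hdisj : Disjoint (Submonoid.powers e : Set B) (q : Set B) := by
    rw [Set.disjoint_left]
    rintro x ⟨n, rfl⟩ hx
    exact heq (Ideal.IsPrime.mem_of_pow_mem inferInstance n hx)
  let Q : Ideal (Localization.Away e) := q.map (algebraMap B (Localization.Away e))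
  haveI hQ : Q.IsPrime :=
    IsLocalization.isPrime_of_isPrime_disjoint (Submonoid.powers e) _ q inferInstance hdisj
  have hQc : Q.comap (algebraMap B (Localization.Away e)) = q :=
    IsLocalization.comap_map_of_isPrime_disjoint (Submonoid.powers e) _ inferInstance hdisj
  haveI : Q.LiesOver (maximalIdeal A) := by
    constructor
    rw [Ideal.under_def, IsScalarTower.algebraMap_eq A B (Localization.Away e), ← Ideal.comap_comap,
      hQc]
    exact (Ideal.over_def q (maximalIdeal A))
  haveI : Module.Flat A (Localization.Away e) := inferInstance
  intro p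
  obtain ⟨P, -, hP, hPp⟩ := Ideal.exists_ideal_le_liesOver_of_le (p := p.asIdeal)
    (q := maximalIdeal A) Q (IsLocalRing.le_maximalIdeal p.2.ne_top)
  refine ⟨⟨P, hP⟩, ?_⟩
  ext1
  exact (hPp.over).symm

end Groth.Agent.Lib.Lead.HensEtaleSplit
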