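import Groth.Agent.Lib.Lead.EpiFree
import Groth.Agent.Lib.Helper22.IdealModAff
import Mathlib.AlgebraicGeometry.QuasiAffine

/-!
# Ideal sheaves generated by global sections (lead seat library)
-/

set_option autoImplicit false
universe u

open AlgebraicGeometry CategoryTheory Opposite TopologicalSpace MonoidalCategory Limits

namespace Groth.Agent.Lib.Lead.Inv

open Groth.Agent.Lib.Lead.QCohAff Groth.Agent.Lib.Helper22.IdealModAff

variable {X : Scheme.{u}} (I : X.IdealSheafData)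

theorem incl_res {U V : X.Opens} (h : V ≤ U) (t : Γ(ClSub.idealMod I, U)) :
    incl I V ((ClSub.idealMod I).presheaf.map (homOfLE h).op t) =
      X.presheaf.map (homOfLE h).op (incl I U t) :=
  (hom_app_res (kernel.ι (ClSub.toSubscheme I)) h t).symm

/-- A global section of the ideal sheaf vanishes on the support. -/
theorem basicOpen_incl_disjoint_support (σ : Γ(ClSub.idealMod I, ⊤)) (y : X)
    (hy : y ∈ I.support) : y ∉ X.basicOpen (incl I ⊤ σ) := by
  obtain ⟨_, ⟨V, hV, rfl⟩, hyV, -⟩ :=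
    X.isBasis_affineOpens.exists_subset_of_mem_open (Set.mem_univ y) isOpen_univ
  have h1 := (Scheme.IdealSheafData.mem_support_iff_of_mem (I := I) (U := ⟨V, hV⟩) hyV).mp hy
  rw [Scheme.mem_zeroLocus_iff] at h1
  have h2 : X.presheaf.map (homOfLE (le_top : V ≤ ⊤)).op (incl I ⊤ σ) ∈ I.ideal ⟨V, hV⟩ := by
    rw [← incl_res]
    exact (mem_ideal_iff I ⟨V, hV⟩ _).mpr ⟨_, rfl⟩
  have h3 := h1 _ h2
  rw [Scheme.basicOpen_res] at h3
  intro h4
  exact h3 ⟨hyV, h4⟩

/-- If the ideal sheaf is generated by its global sections, every point off the support lies in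
`D(f)` for some global section `f` of the ideal. -/
theorem exists_incl_mem_basicOpen (hGG : GG (ClSub.idealMod I)) (x : X) (hx : x ∉ I.support) :
    ∃ σ : Γ(ClSub.idealMod I, ⊤), x ∈ X.basicOpen (incl I ⊤ σ) := by
  obtain ⟨_, ⟨U, hU, rfl⟩, hxU, -⟩ :=
    X.isBasis_affineOpens.exists_subset_of_mem_open (Set.mem_univ x) isOpen_univ
  have h1 : x ∉ X.zeroLocus (U := U) (I.ideal ⟨U, hU⟩ : Set Γ(X, U)) := fun h =>
    hx ((Scheme.IdealSheafData.mem_support_iff_of_mem (I := I) (U := ⟨U, hU⟩) hxU).mpr h)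
  rw [Scheme.mem_zeroLocus_iff] at h1
  push Not at h1
  obtain ⟨a, haI, hxa⟩ := h1
  obtain ⟨t, rfl⟩ := (mem_ideal_iff I ⟨U, hU⟩ a).mp haI
  obtain ⟨W, hW, hxW, hmem⟩ := hGG U t x hxU
  by_contra hcon
  simp only [not_exists] at hcon
  let J : Ideal Γ(X, W) := Ideal.comap (X.presheaf.germ W x hxW).hom
    (IsLocalRing.maximalIdeal (X.presheaf.stalk x))
  have hJ : ∀ b : Γ(X, W), b ∈ J ↔ x ∉ X.basicOpen b := by
    intro b
    rw [Scheme.mem_basicOpen X b x hxW]
    exact Iff.rfl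
  let N : Submodule Γ(X, W) Γ(ClSub.idealMod I, W) := Submodule.comap (incl I W) J
  have hle : Submodule.span Γ(X, W) (Set.range fun σ : Γ(ClSub.idealMod I, ⊤) =>
      (ClSub.idealMod I).presheaf.map (homOfLE (le_top : W ≤ ⊤)).op σ) ≤ N := by
    rw [Submodule.span_le]
    rintro _ ⟨σ, rfl⟩
    change incl I W _ ∈ J
    rw [incl_res, hJ, Scheme.basicOpen_res]
    exact fun h => hcon σ h.2
  have h2 : incl I W ((ClSub.idealMod I).presheaf.map (homOfLE hW).op t) ∈ J := hle hmem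
  rw [incl_res, hJ, Scheme.basicOpen_res] at h2
  exact h2 ⟨hxW, hxa⟩

end Groth.Agent.Lib.Lead.Inv
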