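import Mathlib
import Groth.Prelude.Def_NonAbH2
import Groth.Agent.Lib.Lead.TorsorPush

/-!
# Points of an infinitesimal group scheme with values in a reduced scheme are trivial, and descent
of points of torsors under such groups along separable field extensions.
-/

set_option autoImplicit false
universe u
open CategoryTheory CategoryTheory.Limits AlgebraicGeometry MonoidalCategory CartesianMonoidalCategory
open MonObj

namespace Groth.Agent.Lib.Lead.Infinitesimal

open Groth.Agent.Lib.Lead

/-- In a commutative ring with one-point spectrum, the kernel of a ring map onto a nontrivial ring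
consists of nilpotents. -/
theorem isNilpotent_of_mem_ker {B C : Type*} [CommRing B] [CommRing C] [Nontrivial C]
    [Subsingleton (PrimeSpectrum B)] (ε : B →+* C) (b : B) (hb : ε b = 0) : IsNilpotent b := by
  rw [← mem_nilradical, nilradical_eq_sInf, Ideal.mem_sInf]
  intro J hJ
  have hker : RingHom.ker ε ≠ ⊤ := RingHom.ker_ne_top ε
  obtain ⟨M, hM, hle⟩ := Ideal.exists_le_maximal _ hker
  have h1 : (⟨M, hM.isPrime⟩ : PrimeSpectrum B) = ⟨J, hJ⟩ := Subsingleton.elim _ _
  have h2 : M = J := congrArg PrimeSpectrum.asIdeal h1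
  rw [← h2]
  exact hle hb

/-- A morphism from a reduced scheme to a one-point affine scheme `Y` over `S` with a section `e`
factors through the section. -/
theorem eq_comp_section_of_isReduced {S Y Z : Scheme.{u}} [IsAffine Y] [Subsingleton ↥Y]
    [Nonempty ↥S] [IsReduced Z] (p : Y ⟶ S) (e : S ⟶ Y) (he : e ≫ p = 𝟙 S) (g : Z ⟶ Y) :
    g = (g ≫ p) ≫ e := by
  apply ext_of_isAffine
  rw [Scheme.Hom.comp_appTop, Scheme.Hom.comp_appTop]
  ext b
  haveI : Subsingleton (PrimeSpectrum Γ(Y, ⊤)) := by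
    have e1 := (Scheme.isoSpec Y).hom.homeomorph.toEquiv
    exact e1.symm.subsingleton
  haveI : Nontrivial Γ(S, ⊤) := by
    obtain ⟨x⟩ := ‹Nonempty ↥S›
    exact @Scheme.component_nontrivial S ⊤ ⟨⟨x, trivial⟩⟩
  have hsec : ∀ c : Γ(S, ⊤), e.appTop.hom (p.appTop.hom c) = c := by
    intro c
    have h1 : (e ≫ p).appTop = (𝟙 S : S ⟶ S).appTop := by rw [he]
    rw [Scheme.Hom.comp_appTop] at h1
    have h2 := congrArg (fun φ => φ.hom c) h1
    simpa using h2
  have hnil : IsNilpotent (b - p.appTop.hom (e.appTop.hom b)) := by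
    apply isNilpotent_of_mem_ker e.appTop.hom
    rw [map_sub, hsec, sub_self]
  have h0 : g.appTop.hom (b - p.appTop.hom (e.appTop.hom b)) = 0 :=
    (hnil.map g.appTop.hom).eq_zero
  rw [map_sub, sub_eq_zero] at h0
  simpa using h0

/-- Descent of a point of a pseudo-torsor under a one-point affine group along an effective
epimorphism `π` with reduced `S' ×_S S'`. -/
theorem exists_section_descent {S : Scheme.{u}} [Nonempty ↥S] {I E : Over S} [GrpObj I]
    [IsAffine I.left] [Subsingleton ↥I.left] (a : AlgGrp.Action I E)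
    (ha : NonAbH1.IsPseudoTorsorSch a) {S' : Scheme.{u}} (π : S' ⟶ S) [EffectiveEpi π]
    [IsReduced (pullback π π)] (x : S' ⟶ E.left) (hx : x ≫ E.hom = π) :
    ∃ s : S ⟶ E.left, s ≫ E.hom = 𝟙 S := by
  let T : Over S := Over.mk (pullback.fst π π ≫ π)
  let y₁ : T ⟶ E := Over.homMk (pullback.fst π π ≫ x) (by simp [T, hx])
  let y₂ : T ⟶ E := Over.homMk (pullback.snd π π ≫ x) (by simp [T, hx, pullback.condition])
  obtain ⟨kk, hk⟩ := TorsorPush.exists_act_eq a.act ha y₂ y₁
  have hη : (η[I] : 𝟙_ (Over S) ⟶ I).left ≫ I.hom = 𝟙 S := by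
    have := Over.w (η[I] : 𝟙_ (Over S) ⟶ I)
    simpa using this
  have hkk : kk = toUnit T ≫ η[I] := by
    apply Over.OverMorphism.ext
    have h1 := eq_comp_section_of_isReduced (Z := pullback π π) I.hom
      (η[I] : 𝟙_ (Over S) ⟶ I).left hη kk.left
    rw [h1, Over.comp_left]
    congr 1
    exact Over.w kk
  have h12 : y₁ = y₂ := by rw [← hk, hkk, TorsorPush.one_act']
  have h12' : pullback.fst π π ≫ x = pullback.snd π π ≫ x := congrArg CommaMorphism.left h12
  have hdesc : ∀ {Z : Scheme.{u}} (g₁ g₂ : Z ⟶ S'), g₁ ≫ π = g₂ ≫ π → g₁ ≫ x = g₂ ≫ x := by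
    intro Z g₁ g₂ h
    have e1 : g₁ = pullback.lift g₁ g₂ h ≫ pullback.fst π π := (pullback.lift_fst _ _ _).symm
    have e2 : g₂ = pullback.lift g₁ g₂ h ≫ pullback.snd π π := (pullback.lift_snd _ _ _).symm
    rw [e1, Category.assoc, h12', ← Category.assoc, ← e2]
  refine ⟨EffectiveEpi.desc π x hdesc, ?_⟩
  rw [← cancel_epi π, ← Category.assoc, EffectiveEpi.fac, hx, Category.comp_id]

end Groth.Agent.Lib.Lead.Infinitesimal
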