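import Groth.Agent.Lib.Lead.QCohAff
import Groth.Agent.Lib.Helper35.GenLocus
import Groth.Agent.Lib.Helper35.GlobGen
import Groth.Agent.Lib.Helper60.TensorMod
import Groth.Prelude.Def_Pic

/-!
# Invertible modules via local generators (lead seat library)

`IsGen M U e`: the section `e ∈ Γ(M, U)` freely generates `M` over every open `W ≤ U`.
Invertible modules (`PicF.IsInvertible`) are exactly the modules with local generators, and the
generating locus (`CohB1.genLocus`) of a section is computed on a trivialising open by the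
basic open of its coefficient.
-/

set_option autoImplicit false
universe u

open AlgebraicGeometry CategoryTheory Opposite TopologicalSpace

namespace Groth.Agent.Lib.Lead.Inv

open Groth.Agent.Lib.Lead.QCohAff

variable {X : Scheme.{u}} (M : X.Modules)

/-- `e ∈ Γ(M, U)` freely generates `M` over every open `W ≤ U`. -/
def IsGen (U : X.Opens) (e : Γ(M, U)) : Prop :=
  ∀ (W : X.Opens) (h : W ≤ U),
    Function.Bijective (fun r : Γ(X, W) => r • M.presheaf.map (homOfLE h).op e)

variable {M}

theorem IsGen.res {U V : X.Opens} {e : Γ(M, U)} (he : IsGen M U e) (h : V ≤ U) :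
    IsGen M V (M.presheaf.map (homOfLE h).op e) := by
  intro W hW
  have := he W (hW.trans h)
  convert this using 2
  rw [res_res]

/-- The coefficient of a section with respect to a generator. -/
noncomputable def IsGen.coeff {U : X.Opens} {e : Γ(M, U)} (he : IsGen M U e) {W : X.Opens}
    (h : W ≤ U) (m : Γ(M, W)) : Γ(X, W) :=
  ((he W h).2 m).choose

theorem IsGen.coeff_smul {U : X.Opens} {e : Γ(M, U)} (he : IsGen M U e) {W : X.Opens}
    (h : W ≤ U) (m : Γ(M, W)) : he.coeff h m • M.presheaf.map (homOfLE h).op e = m :=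
  ((he W h).2 m).choose_spec

theorem IsGen.eq_coeff {U : X.Opens} {e : Γ(M, U)} (he : IsGen M U e) {W : X.Opens}
    (h : W ≤ U) (m : Γ(M, W)) (r : Γ(X, W)) (hr : r • M.presheaf.map (homOfLE h).op e = m) :
    r = he.coeff h m :=
  (he W h).1 (hr.trans (he.coeff_smul h m).symm)

theorem IsGen.coeff_res {U : X.Opens} {e : Γ(M, U)} (he : IsGen M U e) {W W' : X.Opens}
    (h : W ≤ U) (h' : W' ≤ W) (m : Γ(M, W)) :
    X.presheaf.map (homOfLE h').op (he.coeff h m) =
      he.coeff (h'.trans h) (M.presheaf.map (homOfLE h').op m) := by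
  apply he.eq_coeff
  have := congrArg (M.presheaf.map (homOfLE h').op) (he.coeff_smul h m)
  rw [res_smul, res_res] at this
  exact this

theorem IsGen.coeff_smul' {U : X.Opens} {e : Γ(M, U)} (he : IsGen M U e) {W : X.Opens}
    (h : W ≤ U) (r : Γ(X, W)) (m : Γ(M, W)) : he.coeff h (r • m) = r * he.coeff h m := by
  symm
  apply he.eq_coeff
  rw [mul_smul, he.coeff_smul]

theorem IsGen.coeff_add {U : X.Opens} {e : Γ(M, U)} (he : IsGen M U e) {W : X.Opens}
    (h : W ≤ U) (m m' : Γ(M, W)) : he.coeff h (m + m') = he.coeff h m + he.coeff h m' := by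
  symm
  apply he.eq_coeff
  rw [add_smul, he.coeff_smul, he.coeff_smul]

theorem IsGen.coeff_self {U : X.Opens} {e : Γ(M, U)} (he : IsGen M U e) {W : X.Opens}
    (h : W ≤ U) : he.coeff h (M.presheaf.map (homOfLE h).op e) = 1 := by
  symm
  apply he.eq_coeff
  rw [one_smul]

/-- `a • e` is again a generator over `W ≤ U` iff `W ≤ D(a)`. -/
theorem IsGen.isGen_smul_iff {U : X.Opens} {e : Γ(M, U)} (he : IsGen M U e) (a : Γ(X, U))
    {W : X.Opens} (h : W ≤ U) :
    IsGen M W (M.presheaf.map (homOfLE h).op (a • e)) ↔ W ≤ X.basicOpen a := by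
  have key : ∀ (W' : X.Opens) (h' : W' ≤ W),
      Function.Bijective (fun r : Γ(X, W') =>
        r • M.presheaf.map (homOfLE h').op (M.presheaf.map (homOfLE h).op (a • e))) ↔
      IsUnit (X.presheaf.map (homOfLE (h'.trans h)).op a) := by
    intro W' h'
    have e1 : ∀ r : Γ(X, W'),
        r • M.presheaf.map (homOfLE h').op (M.presheaf.map (homOfLE h).op (a • e)) =
          (r * X.presheaf.map (homOfLE (h'.trans h)).op a) •
            M.presheaf.map (homOfLE (h'.trans h)).op e := by
      intro r
      rw [res_res, res_smul, mul_smul]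
    constructor
    · intro hb
      obtain ⟨r, hr⟩ := hb.2 (M.presheaf.map (homOfLE (h'.trans h)).op e)
      have hr' : (r * X.presheaf.map (homOfLE (h'.trans h)).op a) •
          M.presheaf.map (homOfLE (h'.trans h)).op e =
            (1 : Γ(X, W')) • M.presheaf.map (homOfLE (h'.trans h)).op e := by
        rw [← e1, one_smul]; exact hr
      have := (he W' (h'.trans h)).1 hr'
      exact IsUnit.of_mul_eq_one_right _ this
    · intro hu
      have hbij : Function.Bijective
          (fun r : Γ(X, W') => r * X.presheaf.map (homOfLE (h'.trans h)).op a) :=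
        ⟨fun r r' hrr' => hu.mul_left_injective hrr', fun y => by
          obtain ⟨b, hb⟩ := hu
          exact ⟨y * ↑b⁻¹, by simp only [← hb, mul_assoc, Units.inv_mul, mul_one]⟩⟩
      have : (fun r : Γ(X, W') =>
          r • M.presheaf.map (homOfLE h').op (M.presheaf.map (homOfLE h).op (a • e))) =
          (fun r : Γ(X, W') => r • M.presheaf.map (homOfLE (h'.trans h)).op e) ∘
            (fun r : Γ(X, W') => r * X.presheaf.map (homOfLE (h'.trans h)).op a) := by
        funext r; exact e1 r
      rw [this]
      exact (he W' (h'.trans h)).comp hbij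
  constructor
  · intro hg
    have hu := (key W le_rfl).mp (hg W le_rfl)
    have h2 := X.basicOpen_of_isUnit hu
    rw [Scheme.basicOpen_res] at h2
    exact (inf_eq_left.mp h2).trans' le_rfl |>.trans (le_of_eq rfl) |> fun h3 => by
      exact h3
  · intro hW W' h'
    refine (key W' h').mpr ?_
    have hle : W' ≤ X.basicOpen a := h'.trans hW
    have h1 : IsUnit (X.presheaf.map (homOfLE (X.basicOpen_le a)).op a) :=
      RingedSpace.isUnit_res_basicOpen X.toRingedSpace a
    have h2 := h1.map (X.presheaf.map (homOfLE hle).op).hom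
    have h3 : (X.presheaf.map (homOfLE hle).op).hom
        (X.presheaf.map (homOfLE (X.basicOpen_le a)).op a) =
          X.presheaf.map (homOfLE (h'.trans h)).op a := res_resX _ _ a
    rw [h3] at h2
    exact h2

end Groth.Agent.Lib.Lead.Inv
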