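import Mathlib
import Groth.Prelude.Def_NonAbH2
import Groth.Agent.Lib.Helper51.SmoothSection
import Groth.Agent.Lib.Lead.GaTorsor
import Groth.Agent.Lib.Lead.TorsorPush

/-!
# Extension properties for a group and for a pseudo-torsor under it (lead)
-/

set_option autoImplicit false
universe u
open CategoryTheory CategoryTheory.Limits MonoidalCategory CartesianMonoidalCategory MonObj
  AlgebraicGeometry

namespace Groth.Agent.Lib.Lead.NeronTorsor

open Groth.Agent.Lib.Lead.GaTorsor

/-- A smooth surjective morphism has a section over an étale surjective cover. -/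
theorem exists_etale_surjective_section {P S : Scheme.{u}} (π : P ⟶ S) [Smooth π]
    [Surjective π] :
    ∃ (S' : Scheme.{u}) (e : S' ⟶ S) (t : S' ⟶ P), Etale e ∧ Surjective e ∧ t ≫ π = e := by
  have hsurj : ∀ x : S, ∃ p : P, π p = x := fun x => π.surjective x
  choose p hp using hsurj
  have hE := fun x : S => Groth.Agent.Lib.Helper51.SmoothSection.exists_etale_section π (p x)
  choose S' g s' hg hgs l hl using hE
  refine ⟨∐ S', Sigma.desc g, Sigma.desc l, ?_, ?_, ?_⟩
  · exact IsZariskiLocalAtSource.sigmaDesc (P := @Etale) hg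
  · refine ⟨fun x => ⟨(Sigma.ι S' x) (s' x), ?_⟩⟩
    rw [← Scheme.Hom.comp_apply, Sigma.ι_desc, hgs, hp]
  · apply Sigma.hom_ext
    intro x
    rw [Sigma.ι_desc_assoc, Sigma.ι_desc, hl]

section Calc

variable {S : Scheme.{u}} {G P : Over S} [GrpObj G] (a : AlgGrp.Action G P)

theorem one_smul {T : Over S} (x : T ⟶ P) : smul a (1 : T ⟶ G) x = x := by
  unfold smul
  rw [Hom.one_def]
  exact TorsorPush.one_act' a x

end Calc

section Res

variable {S S₀ : Scheme.{u}} (i₀ : S₀ ⟶ S)

/-- Restriction to `S₀`, viewed over `S`. -/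
noncomputable abbrev W : Over S ⥤ Over S := Over.pullback i₀ ⋙ Over.map i₀

/-- The inclusion of the restriction. -/
noncomputable def res (Z : Over S) : (W i₀).obj Z ⟶ Z := (Over.mapPullbackAdj i₀).counit.app Z

theorem res_naturality {Z' Z : Over S} (e : Z' ⟶ Z) : (W i₀).map e ≫ res i₀ Z = res i₀ Z' ≫ e :=
  (Over.mapPullbackAdj i₀).counit.naturality e

theorem bijective_iff (Z N : Over S) :
    Function.Bijective (fun g : Z ⟶ N => (Over.pullback i₀).map g) ↔
      Function.Bijective (fun g : Z ⟶ N => res i₀ Z ≫ g) := by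
  let adj := Over.mapPullbackAdj i₀
  have h : (fun g : Z ⟶ N => (Over.pullback i₀).map g) =
      (adj.homEquiv ((Over.pullback i₀).obj Z) N) ∘ (fun g : Z ⟶ N => res i₀ Z ≫ g) := by
    funext g
    change _ = adj.homEquiv _ _ (adj.counit.app Z ≫ g)
    rw [adj.homEquiv_naturality_right]
    have : adj.homEquiv ((Over.pullback i₀).obj Z) Z (adj.counit.app Z) = 𝟙 _ := by
      rw [← Equiv.eq_symm_apply, adj.homEquiv_symm_id]
    exact (by rw [this, Category.id_comp] :
      (Over.pullback i₀).map g =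
        adj.homEquiv ((Over.pullback i₀).obj Z) Z (adj.counit.app Z) ≫ (Over.pullback i₀).map g)
  rw [h]
  exact (adj.homEquiv ((Over.pullback i₀).obj Z) N).bijective.of_comp_iff' _

end Res

section Cover

variable {S : Scheme.{u}}

/-- Étale covers of `Z` over which a smooth surjective `N` has a point. -/
theorem exists_cover (N : Over S) [Smooth N.hom] [Surjective N.hom] (Z : Over S) :
    ∃ (Z' : Over S) (e : Z' ⟶ Z) (_ : Z' ⟶ N), Etale e.left ∧ Surjective e.left := by
  obtain ⟨S', e', t, he, hs, ht⟩ := exists_etale_surjective_section (pullback.snd N.hom Z.hom)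
  refine ⟨Over.mk (e' ≫ Z.hom), Over.homMk e' rfl,
    Over.homMk (t ≫ pullback.fst N.hom Z.hom) ?_, he, hs⟩
  change (t ≫ pullback.fst N.hom Z.hom) ≫ N.hom = e' ≫ Z.hom
  rw [Category.assoc, pullback.condition, ← Category.assoc, ht]

/-- The first projection of the kernel pair of `e`. -/
noncomputable def kp₁ {Z' Z : Over S} (e : Z' ⟶ Z) :
    Over.mk (pullback.fst e.left e.left ≫ Z'.hom) ⟶ Z' := Over.homMk (pullback.fst e.left e.left) rfl

/-- The second projection of the kernel pair of `e`. -/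
noncomputable def kp₂ {Z' Z : Over S} (e : Z' ⟶ Z) :
    Over.mk (pullback.fst e.left e.left ≫ Z'.hom) ⟶ Z' :=
  Over.homMk (pullback.snd e.left e.left) (by
    change pullback.snd e.left e.left ≫ Z'.hom = pullback.fst e.left e.left ≫ Z'.hom
    rw [← Over.w e, ← Category.assoc, ← pullback.condition, Category.assoc])

theorem kp_condition {Z' Z : Over S} (e : Z' ⟶ Z) : kp₁ e ≫ e = kp₂ e ≫ e := by
  apply Over.OverMorphism.ext
  exact pullback.condition

theorem smooth_kp {Z' Z : Over S} (e : Z' ⟶ Z) [Etale e.left] [Smooth Z'.hom] :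
    Smooth (Over.mk (pullback.fst e.left e.left ≫ Z'.hom)).hom := by
  change Smooth (pullback.fst e.left e.left ≫ Z'.hom)
  infer_instance

/-- Descent of morphisms along an étale surjective morphism. -/
theorem exists_desc {Z' Z X : Over S} (e : Z' ⟶ Z) [Etale e.left] [Surjective e.left]
    (ψ' : Z' ⟶ X) (h : kp₁ e ≫ ψ' = kp₂ e ≫ ψ') : ∃ ψ : Z ⟶ X, e ≫ ψ = ψ' := by
  haveI : EffectiveEpi e.left := inferInstance
  have h' : pullback.fst e.left e.left ≫ ψ'.left = pullback.snd e.left e.left ≫ ψ'.left :=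
    congrArg CommaMorphism.left h
  have hdesc : ∀ {Y : Scheme.{u}} (g₁ g₂ : Y ⟶ Z'.left), g₁ ≫ e.left = g₂ ≫ e.left →
      g₁ ≫ ψ'.left = g₂ ≫ ψ'.left := by
    intro Y g₁ g₂ hg
    have e1 : g₁ = pullback.lift g₁ g₂ hg ≫ pullback.fst e.left e.left :=
      (pullback.lift_fst _ _ _).symm
    have e2 : g₂ = pullback.lift g₁ g₂ hg ≫ pullback.snd e.left e.left :=
      (pullback.lift_snd _ _ _).symm
    rw [e1, Category.assoc, h', ← Category.assoc, ← e2]
  have hfac : e.left ≫ EffectiveEpi.desc e.left ψ'.left hdesc = ψ'.left := EffectiveEpi.fac _ _ _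
  refine ⟨Over.homMk (EffectiveEpi.desc e.left ψ'.left hdesc) ?_, ?_⟩
  · rw [← cancel_epi e.left, ← Category.assoc, hfac, Over.w ψ', Over.w e]
  · apply Over.OverMorphism.ext
    exact hfac

theorem epi_of_etale_surjective {Z' Z : Over S} (e : Z' ⟶ Z) [Etale e.left] [Surjective e.left] :
    Epi e := by
  haveI : EffectiveEpi e.left := inferInstance
  haveI : Epi e.left := inferInstance
  exact Over.epi_of_epi_left e

variable {S₀ : Scheme.{u}} (i₀ : S₀ ⟶ S)

theorem epi_W_map {Z' Z : Over S} (e : Z' ⟶ Z) [Etale e.left] [Surjective e.left] :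
    Epi ((W i₀).map e) := by
  have big : IsPullback (pullback.fst Z'.hom i₀) (pullback.snd Z'.hom i₀) Z'.hom i₀ :=
    IsPullback.of_hasPullback _ _
  have right : IsPullback (pullback.fst Z.hom i₀) (pullback.snd Z.hom i₀) Z.hom i₀ :=
    IsPullback.of_hasPullback _ _
  have hw : Z'.hom = e.left ≫ Z.hom := (Over.w e).symm
  have left : IsPullback ((W i₀).map e).left (pullback.fst Z'.hom i₀) (pullback.fst Z.hom i₀)
      e.left := by
    refine IsPullback.of_right ?_ ?_ right.flip
    · have : ((W i₀).map e).left ≫ pullback.snd Z.hom i₀ = pullback.snd Z'.hom i₀ := by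
        simp only [W, Functor.comp_map, Over.map_map_left, Over.pullback_map_left]
        exact pullback.lift_snd _ _ _
      rw [this, ← hw]
      exact big.flip
    · simp only [W, Functor.comp_map, Over.map_map_left, Over.pullback_map_left]
      exact pullback.lift_fst _ _ _
  haveI : Etale ((W i₀).map e).left :=
    MorphismProperty.of_isPullback (P := @Etale) left.flip inferInstance
  haveI : Surjective ((W i₀).map e).left :=
    MorphismProperty.of_isPullback (P := @Surjective) left.flip inferInstance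
  exact epi_of_etale_surjective _

end Cover

section Main

variable {S S₀ : Scheme.{u}} (i₀ : S₀ ⟶ S) {G N : Over S} [GrpObj G] (a : AlgGrp.Action G N)

theorem res_smul {Z : Over S} (g : Z ⟶ G) (x : Z ⟶ N) :
    res i₀ Z ≫ smul a g x = smul a (res i₀ Z ≫ g) (res i₀ Z ≫ x) := comp_smul a _ g x

/-- Injectivity of restriction for `G` implies injectivity of restriction for `N`. -/
theorem injective_N (ha : NonAbH1.IsPseudoTorsorSch a) (Z : Over S)
    (hG : Function.Injective (fun g : Z ⟶ G => res i₀ Z ≫ g)) :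
    Function.Injective (fun g : Z ⟶ N => res i₀ Z ≫ g) := by
  intro f g (hfg : res i₀ Z ≫ f = res i₀ Z ≫ g)
  obtain ⟨k, hk⟩ := TorsorPush.exists_act_eq a.act ha f g
  have hk' : smul a k f = g := hk
  have h1 : res i₀ Z ≫ k = res i₀ Z ≫ (1 : Z ⟶ G) := by
    apply TorsorPush.act_injective a.act ha (res i₀ Z ≫ f)
    change smul a _ _ = smul a _ _
    rw [← comp_smul, hk', ← comp_smul, one_smul, hfg]
  have h2 : k = 1 := hG h1
  rw [← hk', h2, one_smul]

/-- Injectivity of restriction for `N` (on étale covers) implies injectivity for `G`. -/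
theorem injective_G [Smooth N.hom] [Surjective N.hom] (ha : NonAbH1.IsPseudoTorsorSch a)
    (hN : ∀ Z : Over S, Smooth Z.hom → Function.Injective (fun g : Z ⟶ N => res i₀ Z ≫ g))
    (Z : Over S) (hZ : Smooth Z.hom) :
    Function.Injective (fun g : Z ⟶ G => res i₀ Z ≫ g) := by
  intro k k' (hkk : res i₀ Z ≫ k = res i₀ Z ≫ k')
  obtain ⟨Z', e, n, he, hs⟩ := exists_cover N Z
  haveI := he
  haveI := hs
  haveI := hZ
  have hZ' : Smooth Z'.hom := by
    rw [← Over.w e]
    infer_instance
  have h1 : smul a (e ≫ k) n = smul a (e ≫ k') n := by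
    apply hN Z' hZ'
    change res i₀ Z' ≫ smul a (e ≫ k) n = res i₀ Z' ≫ smul a (e ≫ k') n
    rw [comp_smul, comp_smul, ← Category.assoc, ← Category.assoc, ← res_naturality,
      Category.assoc, Category.assoc, hkk]
  have h2 : e ≫ k = e ≫ k' := TorsorPush.act_injective a.act ha n _ _ h1
  haveI := epi_of_etale_surjective e
  exact (cancel_epi e).mp h2

/-- The extension property for `G` implies that for `N`. -/
theorem surjective_N [Smooth N.hom] [Surjective N.hom] (ha : NonAbH1.IsPseudoTorsorSch a)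
    (hG : ∀ Z : Over S, Smooth Z.hom → Function.Bijective (fun g : Z ⟶ G => res i₀ Z ≫ g))
    (Z : Over S) (hZ : Smooth Z.hom) :
    Function.Surjective (fun g : Z ⟶ N => res i₀ Z ≫ g) := by
  intro φ
  obtain ⟨Z', e, n, he, hs⟩ := exists_cover N Z
  haveI := he
  haveI := hs
  haveI := hZ
  have hZ' : Smooth Z'.hom := by
    rw [← Over.w e]
    infer_instance
  obtain ⟨k₀, hk₀⟩ := TorsorPush.exists_act_eq a.act ha (res i₀ Z' ≫ n) ((W i₀).map e ≫ φ)
  have hk₀' : smul a k₀ (res i₀ Z' ≫ n) = (W i₀).map e ≫ φ := hk₀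
  obtain ⟨k', hk'⟩ := (hG Z' hZ').2 k₀
  have hk'' : res i₀ Z' ≫ k' = k₀ := hk'
  have hψ' : res i₀ Z' ≫ smul a k' n = (W i₀).map e ≫ φ := by
    rw [comp_smul, hk'', hk₀']
  -- the kernel pair
  haveI := hZ'
  have hZ'' := smooth_kp e
  have hkp : kp₁ e ≫ smul a k' n = kp₂ e ≫ smul a k' n := by
    apply injective_N i₀ a ha _ (hG _ hZ'').1
    change res i₀ _ ≫ kp₁ e ≫ smul a k' n = res i₀ _ ≫ kp₂ e ≫ smul a k' n
    rw [← Category.assoc, ← Category.assoc, ← res_naturality, ← res_naturality,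
      Category.assoc, Category.assoc, hψ', ← Category.assoc, ← Category.assoc,
      ← Functor.map_comp, ← Functor.map_comp, kp_condition]
  obtain ⟨ψ, hψ⟩ := exists_desc e (smul a k' n) hkp
  refine ⟨ψ, ?_⟩
  haveI := epi_W_map i₀ e
  change res i₀ Z ≫ ψ = φ
  rw [← cancel_epi ((W i₀).map e), ← Category.assoc, res_naturality, Category.assoc, hψ, hψ']

/-- The extension property for `N` implies that for `G`. -/
theorem surjective_G [Smooth N.hom] [Surjective N.hom] (ha : NonAbH1.IsPseudoTorsorSch a)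
    (hN : ∀ Z : Over S, Smooth Z.hom → Function.Bijective (fun g : Z ⟶ N => res i₀ Z ≫ g))
    (Z : Over S) (hZ : Smooth Z.hom) :
    Function.Surjective (fun g : Z ⟶ G => res i₀ Z ≫ g) := by
  intro k₀
  obtain ⟨Z', e, n, he, hs⟩ := exists_cover N Z
  haveI := he
  haveI := hs
  haveI := hZ
  have hZ' : Smooth Z'.hom := by
    rw [← Over.w e]
    infer_instance
  obtain ⟨ψ', hψ'⟩ := (hN Z' hZ').2 (smul a ((W i₀).map e ≫ k₀) (res i₀ Z' ≫ n))
  have hψ'' : res i₀ Z' ≫ ψ' = smul a ((W i₀).map e ≫ k₀) (res i₀ Z' ≫ n) := hψ'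
  obtain ⟨k', hk'⟩ := TorsorPush.exists_act_eq a.act ha n ψ'
  have hk'' : smul a k' n = ψ' := hk'
  have hres : res i₀ Z' ≫ k' = (W i₀).map e ≫ k₀ := by
    apply TorsorPush.act_injective a.act ha (res i₀ Z' ≫ n)
    change smul a _ _ = smul a _ _
    rw [← comp_smul, hk'', hψ'']
  haveI := hZ'
  have hZ'' := smooth_kp e
  have hkp : kp₁ e ≫ k' = kp₂ e ≫ k' := by
    apply injective_G i₀ a ha (fun Z hZ => (hN Z hZ).1) _ hZ''
    change res i₀ _ ≫ kp₁ e ≫ k' = res i₀ _ ≫ kp₂ e ≫ k'
    rw [← Category.assoc, ← Category.assoc, ← res_naturality, ← res_naturality,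
      Category.assoc, Category.assoc, hres, ← Category.assoc, ← Category.assoc,
      ← Functor.map_comp, ← Functor.map_comp, kp_condition]
  obtain ⟨k, hk⟩ := exists_desc e k' hkp
  refine ⟨k, ?_⟩
  haveI := epi_W_map i₀ e
  change res i₀ Z ≫ k = k₀
  rw [← cancel_epi ((W i₀).map e), ← Category.assoc, res_naturality, Category.assoc, hk, hres]

/-- The extension property holds for `G` if and only if it holds for the pseudo-torsor `N`. -/
theorem extension_iff [Smooth N.hom] [Surjective N.hom] (ha : NonAbH1.IsPseudoTorsorSch a) :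
    (∀ Z : Over S, Smooth Z.hom → Function.Bijective (fun g : Z ⟶ G => res i₀ Z ≫ g)) ↔
    (∀ Z : Over S, Smooth Z.hom → Function.Bijective (fun g : Z ⟶ N => res i₀ Z ≫ g)) := by
  constructor
  · intro hG Z hZ
    exact ⟨injective_N i₀ a ha Z (hG Z hZ).1, surjective_N i₀ a ha hG Z hZ⟩
  · intro hN Z hZ
    exact ⟨injective_G i₀ a ha (fun Z hZ => (hN Z hZ).1) Z hZ, surjective_G i₀ a ha hN Z hZ⟩

end Main

end Groth.Agent.Lib.Lead.NeronTorsor
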