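import Mathlib
import Groth.Agent.Lib.Helper57.EtRes6
import Groth.Agent.Lib.Helper57.EtRes2

/-!
# Étale quasi-sections of a smooth morphism through a prescribed point (lead)

EGA IV 17.16.3: a smooth morphism `f : X ⟶ S` has, étale locally on `S`, a section passing
through any prescribed point `x` whose residue field is finite separable over `κ(f x)`.
-/

set_option autoImplicit false
universe u
open CategoryTheory CategoryTheory.Limits AlgebraicGeometry TensorProduct MvPolynomial

namespace Groth.Agent.Lib.Lead.NeronUnqQS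

/-- Ring-level data, with the prime `P` of `A` prescribed. -/
theorem exists_etale_section_data_through {R A : Type u} [CommRing R] [CommRing A] [Algebra R A]
    (n : ℕ) (g : MvPolynomial (Fin n) R →ₐ[R] A)
    (p : Ideal R) [p.IsPrime] (P : Ideal A) [P.IsPrime] (hpP : p = P.comap (algebraMap R A))
    (hfin : (Ideal.ResidueField.map p P (algebraMap R A) hpP).Finite)
    (hsep : letI := (Ideal.ResidueField.map p P (algebraMap R A) hpP).toAlgebra
      Algebra.IsSeparable p.ResidueField P.ResidueField) :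
    ∃ (R₂ : Type u) (_ : CommRing R₂) (_ : Algebra R R₂) (_ : Algebra.Etale R R₂)
      (𝔮₂ : Ideal R₂) (_ : 𝔮₂.IsPrime) (σ : MvPolynomial (Fin n) R →ₐ[R] R₂),
      𝔮₂.comap (algebraMap R R₂) = p ∧ P.comap g.toRingHom = 𝔮₂.comap σ.toRingHom := by
  classical
  let k := p.ResidueField
  let L := P.ResidueField
  letI : Algebra k L := (Ideal.ResidueField.map p P (algebraMap R A) hpP).toAlgebra
  haveI : FiniteDimensional k L := hfin
  haveI : Algebra.IsSeparable k L := hsep
  obtain ⟨R₁, _, _, _, 𝔮, _, h, ψ, hψ⟩ :=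
    Groth.Agent.Lib.Helper57.EtRes.exists_etale_residueField_equiv p L
  -- the maps to `L`
  let θA : A →+* L := algebraMap A L
  let θ : MvPolynomial (Fin n) R →+* L := θA.comp g.toRingHom
  let y : Fin n → 𝔮.ResidueField := fun i => ψ.symm (θ (X i))
  -- common denominator
  obtain ⟨⟨gb, hgb⟩, hint⟩ := IsLocalization.exist_integer_multiples_of_finset
    (nonZeroDivisors (R₁ ⧸ 𝔮)) (Finset.univ.image y)
  obtain ⟨g₁, rfl⟩ := Ideal.Quotient.mk_surjective gb
  have hg₁ : g₁ ∉ 𝔮 := by
    intro hmem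
    exact nonZeroDivisors.ne_zero hgb (Ideal.Quotient.eq_zero_iff_mem.mpr hmem)
  have hg₁' : algebraMap R₁ 𝔮.ResidueField g₁ ≠ 0 := by
    rwa [Ne, Ideal.algebraMap_residueField_eq_zero]
  have hb : ∀ i, ∃ b : R₁, algebraMap R₁ 𝔮.ResidueField g₁ * y i =
      algebraMap R₁ 𝔮.ResidueField b := by
    intro i
    obtain ⟨bb, hbb⟩ := hint (y i) (Finset.mem_image_of_mem _ (Finset.mem_univ i))
    obtain ⟨b, rfl⟩ := Ideal.Quotient.mk_surjective bb
    refine ⟨b, ?_⟩
    rw [Ideal.algebraMap_quotient_residueField_mk] at hbb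
    rw [hbb]
    change _ = (Ideal.Quotient.mk 𝔮 g₁) • y i
    rw [Algebra.smul_def, Ideal.algebraMap_quotient_residueField_mk]
  choose b hb using hb
  -- the localisation `R₂ = R₁[1/g₁]`
  let R₂ := Localization.Away g₁
  have hE₂ : Algebra.Etale R₁ R₂ := Algebra.Etale.of_isLocalizationAway g₁
  have hE : Algebra.Etale R R₂ := Algebra.Etale.comp R R₁ R₂
  let ι₂ : R₂ →+* 𝔮.ResidueField :=
    IsLocalization.Away.lift g₁ (g := algebraMap R₁ 𝔮.ResidueField) (isUnit_iff_ne_zero.mpr hg₁')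
  have hι₂ : ∀ r : R₁, ι₂ (algebraMap R₁ R₂ r) = algebraMap R₁ 𝔮.ResidueField r := fun r =>
    IsLocalization.Away.lift_eq g₁ _ r
  let c : Fin n → R₂ := fun i =>
    IsLocalization.mk' R₂ (b i) (⟨g₁, Submonoid.mem_powers g₁⟩ : Submonoid.powers g₁)
  have hc : ∀ i, ι₂ (c i) = y i := by
    intro i
    have h1 : algebraMap R₁ R₂ g₁ * c i = algebraMap R₁ R₂ (b i) := by
      rw [mul_comm]
      exact IsLocalization.mk'_spec R₂ (b i) (⟨g₁, Submonoid.mem_powers g₁⟩ : Submonoid.powers g₁)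
    have h2 := congrArg ι₂ h1
    rw [map_mul, hι₂, hι₂, ← hb i] at h2
    exact mul_left_cancel₀ hg₁' h2
  let σ : MvPolynomial (Fin n) R →ₐ[R] R₂ := MvPolynomial.aeval c
  let 𝔮₂ : Ideal R₂ := RingHom.ker ι₂
  have h𝔮₂ : 𝔮₂.IsPrime := RingHom.ker_isPrime ι₂
  -- compatibility on `R`
  have hR : ∀ r : R, (ψ : 𝔮.ResidueField →+* L) (algebraMap R₁ 𝔮.ResidueField (algebraMap R R₁ r)) =
      algebraMap A L (algebraMap R A r) := by
    intro r
    have := congr($hψ (algebraMap R p.ResidueField r))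
    rw [RingHom.comp_apply, Ideal.ResidueField.map_algebraMap] at this
    rw [this, RingHom.algebraMap_toAlgebra, Ideal.ResidueField.map_algebraMap]
  have hcomp : (ψ : 𝔮.ResidueField →+* L).comp (ι₂.comp σ.toRingHom) = θ := by
    apply MvPolynomial.ringHom_ext
    · intro r
      simp only [RingHom.comp_apply, AlgHom.toRingHom_eq_coe, RingHom.coe_coe, θ, θA]
      rw [← MvPolynomial.algebraMap_eq, AlgHom.commutes, AlgHom.commutes,
        IsScalarTower.algebraMap_apply R R₁ R₂, hι₂]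
      exact hR r
    · intro i
      simp only [RingHom.comp_apply, AlgHom.toRingHom_eq_coe, RingHom.coe_coe]
      rw [show σ (X i) = c i from MvPolynomial.aeval_X c i, hc]
      exact ψ.apply_symm_apply _
  refine ⟨R₂, inferInstance, inferInstance, hE, 𝔮₂, h𝔮₂, σ, ?_, ?_⟩
  · ext r
    rw [Ideal.mem_comap, RingHom.mem_ker, IsScalarTower.algebraMap_apply R R₁ R₂, hι₂,
      Ideal.algebraMap_residueField_eq_zero, h, Ideal.mem_comap]
  · ext f
    rw [Ideal.mem_comap, Ideal.mem_comap, RingHom.mem_ker]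
    have h1 : θ f = algebraMap A L (g.toRingHom f) := rfl
    rw [← Ideal.algebraMap_residueField_eq_zero (I := P), ← h1, ← hcomp, RingHom.comp_apply,
      RingHom.comp_apply]
    exact (map_eq_zero_iff _ (ψ : 𝔮.ResidueField →+* L).injective)

open Groth.Agent.Lib.Helper57.EtRes in
theorem resMap_congr {U' U : Scheme.{u}} {g g' : U' ⟶ U} (e : g = g') {u' : U'} {u : U}
    (h : g u' = u) : resMap g h = resMap g' (e ▸ h) := by
  subst e; rfl

open Groth.Agent.Lib.Helper57.EtRes in
set_option backward.isDefEq.respectTransparency false in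
/-- **Étale quasi-section through a prescribed point** (EGA IV 17.16.3). -/
theorem exists_etale_section_through {X S : Scheme.{u}} (f : X ⟶ S) [Smooth f] (x : X)
    (hfin : (f.residueFieldMap x).hom.Finite)
    (hsep : letI := (f.residueFieldMap x).hom.toAlgebra
      Algebra.IsSeparable (S.residueField (f x)) (X.residueField x)) :
    ∃ (S' : Scheme.{u}) (g : S' ⟶ S) (s' : S'), Etale g ∧ ∃ h : S' ⟶ X, h ≫ f = g ∧ h s' = x := by
  obtain ⟨U, hU, V, hV, hxV, e, hf⟩ := Smooth.exists_isStandardSmooth f x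
  obtain ⟨n, g, hgC, hg⟩ := hf.exists_etale_mvPolynomial
  algebraize [(f.appLE U V e).hom]
  let gA : MvPolynomial (Fin n) Γ(S, U) →ₐ[Γ(S, U)] Γ(X, V) :=
    { g with commutes' := fun r => congr($hgC r) }
  let p : PrimeSpectrum Γ(S, U) := hU.primeIdealOf ⟨f x, e hxV⟩
  let P : PrimeSpectrum Γ(X, V) := hV.primeIdealOf ⟨x, hxV⟩
  have hcomap : PrimeSpectrum.comap (algebraMap Γ(S, U) Γ(X, V)) P = p :=
    IsAffineOpen.comap_primeIdealOf_appLE U hU V hV e hxV
  have hpP : p.asIdeal = P.asIdeal.comap (algebraMap Γ(S, U) Γ(X, V)) := congr($(hcomap).1).symm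
  have hPx : hV.fromSpec P = x := hV.fromSpec_primeIdealOf ⟨x, hxV⟩
  have hps : hU.fromSpec p = f x := hU.fromSpec_primeIdealOf ⟨f x, e hxV⟩
  have hpt : Spec.map (f.appLE U V e) P = p := hcomap
  let εX : X.residueField x ≅ .of P.asIdeal.ResidueField :=
    asIso (resMap hV.fromSpec hPx) ≪≫ Scheme.Spec.residueFieldIso Γ(X, V) P
  let εS : S.residueField (f x) ≅ .of p.asIdeal.ResidueField :=
    asIso (resMap hU.fromSpec hps) ≪≫ Scheme.Spec.residueFieldIso Γ(S, U) p
  let φ' : p.asIdeal.ResidueField →+* P.asIdeal.ResidueField :=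
    Ideal.ResidueField.map p.asIdeal P.asIdeal (algebraMap Γ(S, U) Γ(X, V)) hpP
  have hsq : f.residueFieldMap x ≫ εX.hom = εS.hom ≫ CommRingCat.ofHom φ' := by
    have h1 : (hV.fromSpec ≫ f) P = f x := by
      rw [Scheme.Hom.comp_apply, hPx]
    have e1 : resMap (hV.fromSpec ≫ f) h1 = f.residueFieldMap x ≫ resMap hV.fromSpec hPx := by
      rw [resMap_comp hV.fromSpec f hPx rfl h1, resMap_rfl]
    have h2 : (Spec.map (f.appLE U V e) ≫ hU.fromSpec) P = f x := by
      rw [Scheme.Hom.comp_apply, hpt, hps]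
    have e2 : resMap (Spec.map (f.appLE U V e) ≫ hU.fromSpec) h2 =
        resMap hU.fromSpec hps ≫ resMap (Spec.map (f.appLE U V e)) hpt :=
      resMap_comp _ _ hpt hps h2
    have e3 : resMap (Spec.map (f.appLE U V e) ≫ hU.fromSpec) h2 = resMap (hV.fromSpec ≫ f) h1 :=
      resMap_congr (IsAffineOpen.SpecMap_appLE_fromSpec f hU hV e) h2
    have e4 := resMap_SpecMap (f.appLE U V e) P p hpt hpP
    change f.residueFieldMap x ≫ (resMap hV.fromSpec hPx ≫ _) = (resMap hU.fromSpec hps ≫ _) ≫ _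
    rw [← Category.assoc, ← e1, ← e3, e2, Category.assoc, e4, Category.assoc]
    rfl
  -- the ring-level hypotheses
  have hφ' : φ' = (εX.hom.hom).comp ((f.residueFieldMap x).hom.comp εS.inv.hom) := by
    have h3 : CommRingCat.ofHom φ' = εS.inv ≫ f.residueFieldMap x ≫ εX.hom := by
      rw [hsq, Iso.inv_hom_id_assoc]
    have := congr($(h3).hom)
    simpa [RingHom.comp_assoc] using this
  have hfin' : φ'.Finite := by
    rw [hφ']
    refine (RingHom.Finite.of_surjective _ ?_).comp (hfin.comp (RingHom.Finite.of_surjective _ ?_))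
    · exact (εX.commRingCatIsoToRingEquiv).surjective
    · exact (εS.symm.commRingCatIsoToRingEquiv).surjective
  have hsep' : letI := φ'.toAlgebra
      Algebra.IsSeparable p.asIdeal.ResidueField P.asIdeal.ResidueField := by
    letI := φ'.toAlgebra
    letI := (f.residueFieldMap x).hom.toAlgebra
    haveI := hsep
    refine Algebra.IsSeparable.of_equiv_equiv (εS.commRingCatIsoToRingEquiv)
      (εX.commRingCatIsoToRingEquiv) ?_
    ext c
    exact congr($(hsq).hom c).symm
  obtain ⟨R₂, _, _, hE, 𝔮₂, _, σ, h1, h2⟩ :=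
    exists_etale_section_data_through n gA p.asIdeal P.asIdeal hpP hfin' hsep'
  -- the schemes
  let a : Spec Γ(X, V) ⟶ Spec (.of (MvPolynomial (Fin n) Γ(S, U))) :=
    Spec.map (CommRingCat.ofHom g)
  let bσ : Spec (.of R₂) ⟶ Spec (.of (MvPolynomial (Fin n) Γ(S, U))) :=
    Spec.map (CommRingCat.ofHom σ.toRingHom)
  let c : Spec (.of R₂) ⟶ Spec Γ(S, U) := Spec.map (CommRingCat.ofHom (algebraMap Γ(S, U) R₂))
  have ha : Etale a := HasRingHomProperty.Spec_iff.mpr hg
  have hc : Etale c := HasRingHomProperty.Spec_iff.mpr (RingHom.etale_algebraMap.mpr hE)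
  let gfin : pullback a bσ ⟶ S := pullback.snd a bσ ≫ c ≫ hU.fromSpec
  let hfin₂ : pullback a bσ ⟶ X := pullback.fst a bσ ≫ hV.fromSpec
  have hpt₂ : a P = bσ ⟨𝔮₂, inferInstance⟩ := PrimeSpectrum.ext h2
  obtain ⟨z, hz1, hz2⟩ := Scheme.Pullback.exists_preimage_pullback (f := a) (g := bσ)
    P ⟨𝔮₂, inferInstance⟩ hpt₂
  refine ⟨pullback a bσ, gfin, z, inferInstance, hfin₂, ?_, ?_⟩
  · change (pullback.fst a bσ ≫ hV.fromSpec) ≫ f = pullback.snd a bσ ≫ c ≫ hU.fromSpec
    rw [Category.assoc, ← IsAffineOpen.SpecMap_appLE_fromSpec f hU hV e]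
    have hfac : Spec.map (f.appLE U V e) =
        a ≫ Spec.map (CommRingCat.ofHom (MvPolynomial.C : Γ(S, U) →+* _)) := by
      rw [← Spec.map_comp]
      congr 1
      ext r
      exact congr($hgC r).symm
    have hfac2 : c = bσ ≫ Spec.map (CommRingCat.ofHom (MvPolynomial.C : Γ(S, U) →+* _)) := by
      change Spec.map _ = Spec.map _ ≫ Spec.map _
      rw [← Spec.map_comp]
      congr 1
      ext r
      exact (σ.commutes r).symm
    rw [hfac, hfac2, Category.assoc, Category.assoc, pullback.condition_assoc]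
  · change hV.fromSpec (pullback.fst a bσ z) = x
    rw [hz1]
    exact hPx

end Groth.Agent.Lib.Lead.NeronUnqQS
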