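import Mathlib
import Groth.Agent.Lib.Helper61.MvPSComplete

/-!
# Lifting maps out of formally smooth algebras to power series rings (lead)
-/

set_option autoImplicit false
universe u
open PowerSeries

namespace Groth.Agent.Lib.Lead.PowSerLift

theorem span_X_eq (R' : Type*) [CommRing R'] :
    Ideal.span (Set.range (MvPowerSeries.X : Unit → MvPowerSeries Unit R')) =
      Ideal.span {(PowerSeries.X : R'⟦X⟧)} := by
  congr 1
  ext f
  simp only [Set.mem_range, Set.mem_singleton_iff, PowerSeries.X]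
  constructor
  · rintro ⟨⟨⟩, rfl⟩
    rfl
  · rintro rfl
    exact ⟨(), rfl⟩

instance isAdicComplete_span_X (R' : Type*) [CommRing R'] :
    IsAdicComplete (Ideal.span {(PowerSeries.X : R'⟦X⟧)}) R'⟦X⟧ := by
  rw [← span_X_eq]
  exact Groth.Agent.Lib.Helper61.MvPSComplete.isAdicComplete_span_X

/-- Let `B` be a formally smooth `R⟦X⟧`-algebra and `f₀ : B → R'` a ring map lying over
`R⟦X⟧ → R → R'`. Then there is a ring map `B → R'⟦X⟧` lying over `R⟦X⟧ → R'⟦X⟧`. -/
theorem exists_lift {R R' B : Type*} [CommRing R] [CommRing R'] [CommRing B]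
    [Algebra R⟦X⟧ B] [Algebra.FormallySmooth R⟦X⟧ B] (φ : R →+* R') (f₀ : B →+* R')
    (h : f₀.comp (algebraMap R⟦X⟧ B) = φ.comp PowerSeries.constantCoeff) :
    ∃ g : B →+* R'⟦X⟧, g.comp (algebraMap R⟦X⟧ B) = PowerSeries.map φ := by
  letI : Algebra R⟦X⟧ R'⟦X⟧ := (PowerSeries.map φ).toAlgebra
  let I : Ideal R'⟦X⟧ := Ideal.span {(PowerSeries.X : R'⟦X⟧)}
  let f : B →ₐ[R⟦X⟧] R'⟦X⟧ ⧸ I :=
    { toRingHom := (Ideal.Quotient.mk I).comp ((PowerSeries.C).comp f₀)
      commutes' := by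
        intro a
        have h1 : f₀ (algebraMap R⟦X⟧ B a) = φ (PowerSeries.constantCoeff a) := congr($h a)
        change Ideal.Quotient.mk I (PowerSeries.C (f₀ (algebraMap R⟦X⟧ B a))) =
          Ideal.Quotient.mk I (PowerSeries.map φ a)
        rw [h1, Ideal.Quotient.eq, Ideal.mem_span_singleton, PowerSeries.X_dvd_iff]
        rw [map_sub, PowerSeries.constantCoeff_C, ← PowerSeries.coeff_zero_eq_constantCoeff_apply,
          ← PowerSeries.coeff_zero_eq_constantCoeff_apply, PowerSeries.coeff_map, sub_self] }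
  obtain ⟨g, -⟩ := Algebra.FormallySmooth.exists_mkₐ_comp_eq_of_isAdicComplete f
  refine ⟨g.toRingHom, ?_⟩
  ext a : 1
  exact g.commutes a

end Groth.Agent.Lib.Lead.PowSerLift
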