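import Groth.Agent.Lib.Lead.QCohAff6

/-!
# Flatness over the base of a pushforward along an affine morphism (lead seat library)
-/

set_option autoImplicit false
universe u

open AlgebraicGeometry CategoryTheory Opposite TopologicalSpace

namespace Groth.Agent.Lib.Lead.QCohAff

variable {X Y S : Scheme.{u}} (f : X ⟶ Y) (q : Y ⟶ S) (F : X.Modules)

/-- Flatness of the sections of `f_* F` over `W` and of `F` over `f⁻¹ W` over `Γ(S, V)` agree. -/
theorem flat_sections_pushforward_iff {W : Y.Opens} {V : S.Opens} (hWV : W ≤ q ⁻¹ᵁ V) :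
    @Module.Flat Γ(S, V) Γ((Scheme.Modules.pushforward f).obj F, W) _ _
        (Module.compHom _ (q.appLE V W hWV).hom) ↔
      @Module.Flat Γ(S, V) Γ(F, f ⁻¹ᵁ W) _ _
        (Module.compHom _ ((f ≫ q).appLE V (f ⁻¹ᵁ W) (fun _ hx => hWV hx)).hom) := by
  letI m1 : Module Γ(S, V) Γ((Scheme.Modules.pushforward f).obj F, W) :=
    Module.compHom _ (q.appLE V W hWV).hom
  letI m2 : Module Γ(S, V) Γ(F, f ⁻¹ᵁ W) :=
    Module.compHom _ ((f ≫ q).appLE V (f ⁻¹ᵁ W) (fun _ hx => hWV hx)).hom
  let e : Γ((Scheme.Modules.pushforward f).obj F, W) ≃ₗ[Γ(S, V)] Γ(F, f ⁻¹ᵁ W) :=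
    { toFun := pfSec f F
      invFun := pfSec' f F
      left_inv := fun _ => rfl
      right_inv := fun _ => rfl
      map_add' := fun _ _ => rfl
      map_smul' := fun b s => by
        change pfSec f F (q.appLE V W hWV b • s) =
          (f ≫ q).appLE V (f ⁻¹ᵁ W) (fun _ hx => hWV hx) b • pfSec f F s
        rw [pushforward_smul]
        congr 1
        have h := Scheme.Hom.appLE_comp_appLE f q V W (f ⁻¹ᵁ W) hWV le_rfl
        rw [Scheme.Hom.appLE_eq_app] at h
        exact congr($h b) }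
  exact Module.Flat.equiv_iff e

end Groth.Agent.Lib.Lead.QCohAff
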