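import Groth.Agent.Lib.Lead.AmpleDescent2
import Groth.Agent.Lib.Helper35.PbBase
import Groth.Agent.Lib.Helper35.ModRestrict
import Groth.Agent.Lib.Helper63.DescendSurj
import Groth.Agent.S4381

/-!
# Descent of relative ampleness along a quasi-compact flat surjective base change
(lead seat library)
-/

set_option autoImplicit false
universe u

open AlgebraicGeometry CategoryTheory CategoryTheory.Limits Opposite TopologicalSpace

namespace Groth.Agent.Lib.Lead.RelAmpleDescent

variable {X S S' : Scheme.{u}}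

/-- **Descent of relative ampleness** along a quasi-compact flat surjective base change
(EGA IV 2.7.2). -/
theorem isRelAmple_of_baseChange (f : X ⟶ S) (L : X.Modules) (hL : PicF.IsInvertible L)
    (g : S' ⟶ S) [QuasiCompact g] [Flat g] [Surjective g]
    (h : RelAmple.IsRelAmple (pullback.snd f g)
      ((Scheme.Modules.pullback (pullback.fst f g)).obj L)) :
    RelAmple.IsRelAmple f L := by
  haveI := h.1
  haveI : Surjective (pullback.fst f g) := inferInstance
  haveI : QuasiCompact (pullback.fst f g ≫ f) := by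
    rw [pullback.condition]
    infer_instance
  haveI hqc : QuasiCompact f :=
    Groth.Agent.Lib.Helper63.DescendSurj.quasiCompact_of_comp_surjective (pullback.fst f g) f
  refine ⟨hqc, fun V => ?_⟩
  haveI : IsAffine (V.1 : Scheme.{u}) := V.2
  -- an affine scheme flat and surjective over `g⁻¹V`
  haveI : CompactSpace ((g ⁻¹ᵁ V.1 : S'.Opens) : Scheme.{u}) :=
    isCompact_iff_compactSpace.mp
      (QuasiCompact.isCompact_preimage (f := g) _ V.1.2 V.2.isCompact)
  obtain ⟨T, p, hp1, hp2, hT⟩ :=
    Scheme.exists_hom_isAffine_of_isZariskiLocalAtSource @Flat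
      ((g ⁻¹ᵁ V.1 : S'.Opens) : Scheme.{u})
  haveI := hp1
  haveI : Flat p := hp2
  haveI := hT
  let q' : T ⟶ S' := p ≫ (g ⁻¹ᵁ V.1).ι
  let r : T ⟶ (V.1 : Scheme.{u}) := p ≫ (g ∣_ V.1)
  haveI : Flat (g ∣_ V.1) := IsZariskiLocalAtTarget.restrict (P := @Flat) inferInstance _
  haveI : Surjective (g ∣_ V.1) :=
    IsZariskiLocalAtTarget.restrict (P := @Surjective) inferInstance _
  haveI : Flat r := inferInstanceAs (Flat (p ≫ (g ∣_ V.1)))
  haveI : Surjective r := inferInstanceAs (Surjective (p ≫ (g ∣_ V.1)))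
  have hr : q' ≫ g = r ≫ V.1.ι := by
    simp only [q', r, Category.assoc, morphismRestrict_ι]
  -- base change of the relatively ample module to `T`
  have h1 := Groth.Agent.Lib.Helper35.PbInv.isRelAmple_baseChange (pullback.snd f g) q' _ h
  haveI := h1.1
  have h2 : CohB1.IsAmple ((Scheme.Modules.pullback (pullback.fst (pullback.snd f g) q')).obj
      ((Scheme.Modules.pullback (pullback.fst f g)).obj L)) :=
    (Groth.Agent.S4381.result _ _).mp h1
  -- the pullback square over `V`
  have hbig : IsPullback (pullback.fst (pullback.snd f g) q' ≫ pullback.fst f g)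
      (pullback.snd (pullback.snd f g) q') f (q' ≫ g) :=
    (IsPullback.of_hasPullback (pullback.snd f g) q').paste_horiz (IsPullback.of_hasPullback f g)
  have hres : IsPullback (f ⁻¹ᵁ V.1).ι (f ∣_ V.1) f V.1.ι := (isPullback_morphismRestrict f V.1).flip
  let g'' : pullback (pullback.snd f g) q' ⟶ ((f ⁻¹ᵁ V.1 : X.Opens) : Scheme.{u}) :=
    hres.lift (pullback.fst (pullback.snd f g) q' ≫ pullback.fst f g)
      (pullback.snd (pullback.snd f g) q' ≫ r) (by
        have := hbig.w
        rw [hr] at this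
        simpa only [Category.assoc] using this)
  have hg1 : g'' ≫ (f ⁻¹ᵁ V.1).ι = pullback.fst (pullback.snd f g) q' ≫ pullback.fst f g :=
    hres.lift_fst _ _ _
  have hg2 : g'' ≫ (f ∣_ V.1) = pullback.snd (pullback.snd f g) q' ≫ r := hres.lift_snd _ _ _
  have hsq : IsPullback g'' (pullback.snd (pullback.snd f g) q') (f ∣_ V.1) r := by
    refine IsPullback.of_right ?_ hg2 hres
    rw [hg1, ← hr]
    exact hbig
  -- the modules
  have hLV : PicF.IsInvertible (L.restrict (f ⁻¹ᵁ V.1).ι) :=
    Groth.Agent.Lib.Helper35.ModRestrict.isInvertible_restrict (f ⁻¹ᵁ V.1).ι L hL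
  let e : (Scheme.Modules.pullback g'').obj (L.restrict (f ⁻¹ᵁ V.1).ι) ≅
      (Scheme.Modules.pullback (pullback.fst (pullback.snd f g) q')).obj
        ((Scheme.Modules.pullback (pullback.fst f g)).obj L) :=
    (Scheme.Modules.pullback g'').mapIso
        ((Scheme.Modules.restrictFunctorIsoPullback (f ⁻¹ᵁ V.1).ι).app L) ≪≫
      (Scheme.Modules.pullbackComp g'' (f ⁻¹ᵁ V.1).ι).app L ≪≫
      (Scheme.Modules.pullbackCongr hg1).app L ≪≫
      ((Scheme.Modules.pullbackComp (pullback.fst (pullback.snd f g) q')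
        (pullback.fst f g)).app L).symm
  have h3 : CohB1.IsAmple ((Scheme.Modules.pullback g'').obj (L.restrict (f ⁻¹ᵁ V.1).ι)) :=
    Groth.Agent.Lib.Helper35.Ample.isAmple_of_iso e.symm h2
  haveI : QuasiCompact (f ∣_ V.1) := IsZariskiLocalAtTarget.restrict (P := @QuasiCompact) hqc _
  exact Groth.Agent.Lib.Lead.AmpleDescent.isAmple_of_isAmple_pullback hsq _ hLV h3

end Groth.Agent.Lib.Lead.RelAmpleDescent
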