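import Mathlib
import Groth.Prelude.Def_SekSuwa2

/-!
# Algebra homomorphisms out of the coordinate ring of `G_{λ,N}` when `λ` is invertible

If `λ` is invertible in the `R`-algebra `C`, composition with `alphaNHom : R[ℤ/N] → AK` is a
bijection from `R`-algebra maps `AK → C` to `R`-algebra maps `R[ℤ/N] → C`.
-/

set_option autoImplicit false
universe u
open SekSuwa

namespace Groth.Agent.Lib.Lead.SekSuwaAlg

variable {R : Type u} [CommRing R] {lam : R} {N : ℕ} (h : SekSuwa.DivCond lam N)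
  {C : Type u} [CommRing C] [Algebra R C]

lemma AK_u_mul_inv :
    (1 + lam • (SekSuwa.AK.t : SekSuwa.AK R lam N h)) * SekSuwa.AK.inv = 1 := by
  have := congrArg (SekSuwa.AK.mkHom R lam N h) (SekSuwa.A.u_mul_inv (R := R) (lam := lam))
  rw [map_mul, map_one, SekSuwa.A.u, map_add, map_one, map_smul] at this
  exact this

theorem algHom_inj (hu : IsUnit (algebraMap R C lam)) (θ₁ θ₂ : SekSuwa.AK R lam N h →ₐ[R] C)
    (he : θ₁ (1 + lam • SekSuwa.AK.t) = θ₂ (1 + lam • SekSuwa.AK.t)) : θ₁ = θ₂ := by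
  have ht : θ₁ SekSuwa.AK.t = θ₂ SekSuwa.AK.t := by
    have h1 := he
    rw [map_add, map_add, map_one, map_one, map_smul, map_smul, add_right_inj,
      Algebra.smul_def, Algebra.smul_def] at h1
    exact hu.mul_left_cancel h1
  apply SekSuwa.AK.algHom_ext ht
  have e1 : θ₁ (1 + lam • SekSuwa.AK.t) * θ₁ SekSuwa.AK.inv = 1 := by
    rw [← map_mul, AK_u_mul_inv, map_one]
  have e2 : θ₂ (1 + lam • SekSuwa.AK.t) * θ₂ SekSuwa.AK.inv = 1 := by
    rw [← map_mul, AK_u_mul_inv, map_one]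
  calc θ₁ SekSuwa.AK.inv = θ₁ SekSuwa.AK.inv * (θ₂ (1 + lam • SekSuwa.AK.t) * θ₂ SekSuwa.AK.inv) := by
        rw [e2, mul_one]
    _ = (θ₁ (1 + lam • SekSuwa.AK.t) * θ₁ SekSuwa.AK.inv) * θ₂ SekSuwa.AK.inv := by
        rw [← he]; ring
    _ = θ₂ SekSuwa.AK.inv := by rw [e1, one_mul]

theorem algHom_surj [NeZero N] (hu : IsUnit (algebraMap R C lam))
    (χ : MonoidAlgebra R (Multiplicative (ZMod N)) →ₐ[R] C) :
    ∃ θ : SekSuwa.AK R lam N h →ₐ[R] C, ∀ x, θ (SekSuwa.alphaNHom R lam N h x) = χ x := by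
  obtain ⟨w, hw⟩ : ∃ w : C, w = χ (MonoidAlgebra.single (Multiplicative.ofAdd (1 : ZMod N)) 1) :=
    ⟨_, rfl⟩
  obtain ⟨c, hc⟩ : ∃ c : C, c = χ (MonoidAlgebra.single (Multiplicative.ofAdd (-1 : ZMod N)) 1) :=
    ⟨_, rfl⟩
  have hwc : w * c = 1 := by
    rw [hw, hc, ← map_mul, MonoidAlgebra.single_mul_single, ← ofAdd_add, add_neg_cancel, ofAdd_zero,
      mul_one]
    exact map_one χ
  have hwN : w ^ N = 1 := by
    rw [hw, ← map_pow, MonoidAlgebra.single_pow, ← ofAdd_nsmul, nsmul_one, ZMod.natCast_self,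
      ofAdd_zero, one_pow]
    exact map_one χ
  obtain ⟨li, hli⟩ := hu.exists_left_inv
  obtain ⟨b, hb⟩ : ∃ b : C, b = li * (w - 1) := ⟨_, rfl⟩
  have hlb : 1 + lam • b = w := by
    rw [Algebra.smul_def, hb, ← mul_assoc, mul_comm _ li, hli, one_mul]
    ring
  have hrel : (1 + lam • b) * c = 1 := by rw [hlb, hwc]
  let θ₀ : SekSuwa.A R lam →ₐ[R] C := SekSuwa.A.lift R lam b c hrel
  have hker : θ₀ (SekSuwa.kerGen lam N h) = 0 := by
    rw [SekSuwa.kerGen, ← Polynomial.aeval_algHom_apply, SekSuwa.A.lift_t]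
    have e := SekSuwa.aeval_psiPoly h b
    rw [← Algebra.smul_def lam b, hlb, hwN, sub_self, map_pow] at e
    have hu' : IsUnit (algebraMap R C lam ^ N) := hu.pow N
    exact (hu'.mul_right_eq_zero).mp e
  let θ : SekSuwa.AK R lam N h →ₐ[R] C :=
    Ideal.Quotient.liftₐ (SekSuwa.kerIdeal lam N h) θ₀ (by
      intro a ha
      obtain ⟨d, rfl⟩ := Ideal.mem_span_singleton'.mp ha
      rw [map_mul, hker, mul_zero])
  have hθt : θ SekSuwa.AK.t = b := by
    change θ₀ SekSuwa.A.t = _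
    exact SekSuwa.A.lift_t b c hrel
  refine ⟨θ, ?_⟩
  have key : θ.comp (SekSuwa.alphaNHom R lam N h : MonoidAlgebra R (Multiplicative (ZMod N)) →ₐ[R]
      SekSuwa.AK R lam N h) = χ := by
    refine MonoidAlgebra.algHom_ext ?_ (Subsingleton.elim _ _)
    intro g
    have hg : g = (Multiplicative.ofAdd (1 : ZMod N)) ^ (Multiplicative.toAdd g).val := by
      rw [← ofAdd_nsmul, nsmul_one, ZMod.natCast_zmod_val]
      rfl
    have h1 : (MonoidAlgebra.single g (1 : R) : MonoidAlgebra R (Multiplicative (ZMod N))) =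
        (MonoidAlgebra.single (Multiplicative.ofAdd (1 : ZMod N)) 1) ^ (Multiplicative.toAdd g).val := by
      rw [MonoidAlgebra.single_pow, one_pow, ← hg]
    rw [h1, map_pow, map_pow, AlgHom.comp_apply]
    congr 1
    change θ (SekSuwa.alphaNHom R lam N h _) = _
    rw [SekSuwa.alphaNHom_single_one, map_add, map_one, map_smul, hθt, hlb, hw]
  intro x
  exact congrArg (fun φ => φ x) key

end Groth.Agent.Lib.Lead.SekSuwaAlg
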