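import Mathlib
import Groth.Prelude.Def_SekSuwa2
import Groth.Prelude.Def_NonAbH2
import Groth.Prelude.Def_ActBC
import Groth.Agent.Lib.Lead.SpecPts
import Groth.Agent.Lib.Lead.SekSuwaAlg

/-!
# `α^{λ,N} : G_{λ,N} ⟶ μ_N` is bijective on `T`-points when `λ` is invertible on `T`
-/

set_option autoImplicit false
universe u
open CategoryTheory CategoryTheory.Limits AlgebraicGeometry

namespace Groth.Agent.Lib.Lead.SekSuwaGeneric

open Groth.Agent.Lib.Lead

/-- A function on `Spec R` not vanishing at any point of the image of `T` is invertible on `T`. -/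
theorem isUnit_pt {R : CommRingCat.{u}} (T : Over (Spec R)) (lam : R)
    (hz : ∀ z : T.left, lam ∉ (T.hom z).asIdeal) : IsUnit ((SpecPts.pt T.hom).hom lam) := by
  have key : ∀ z : T.left,
      z ∈ T.left.basicOpen (T.hom.appTop.hom ((Scheme.ΓSpecIso R).inv.hom lam)) := by
    intro z
    rw [← Scheme.preimage_basicOpen_top, basicOpen_eq_of_affine]
    exact hz z
  exact T.left.toRingedSpace.isUnit_of_isUnit_germ ⊤ _
    (fun z _ => (Scheme.mem_basicOpen_top _ _ z).mp (key z))

/-- Bijectivity transfers along the base-change adjunction. -/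
theorem bijective_bc {S S' : Scheme.{u}} (f : S' ⟶ S) {G G' : Over S} (g : G ⟶ G') (T : Over S')
    (h : Function.Bijective (fun k₀ : (Over.map f).obj T ⟶ G => k₀ ≫ g)) :
    Function.Bijective (fun k : T ⟶ (Over.pullback f).obj G => k ≫ (Over.pullback f).map g) := by
  constructor
  · intro k₁ k₂ (e : k₁ ≫ (Over.pullback f).map g = k₂ ≫ (Over.pullback f).map g)
    apply ((Over.mapPullbackAdj f).homEquiv T G).symm.injective
    apply h.1
    change ((Over.mapPullbackAdj f).homEquiv T G).symm k₁ ≫ g =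
      ((Over.mapPullbackAdj f).homEquiv T G).symm k₂ ≫ g
    rw [← Adjunction.homEquiv_naturality_right_symm, ← Adjunction.homEquiv_naturality_right_symm, e]
  · intro k'
    obtain ⟨k₀, hk₀⟩ := h.2 (((Over.mapPullbackAdj f).homEquiv T G').symm k')
    replace hk₀ : k₀ ≫ g = ((Over.mapPullbackAdj f).homEquiv T G').symm k' := hk₀
    refine ⟨(Over.mapPullbackAdj f).homEquiv T G k₀, ?_⟩
    change (Over.mapPullbackAdj f).homEquiv T G k₀ ≫ (Over.pullback f).map g = k'
    rw [← Adjunction.homEquiv_naturality_right]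
    change (Over.mapPullbackAdj f).homEquiv T G' (k₀ ≫ g) = k'
    rw [hk₀, Equiv.apply_symm_apply]

/-- `α^{λ,N}` is bijective on `T`-points when `λ` is invertible on `T`. -/
theorem alphaN_comp_bijective {R : Type u} [CommRing R] (lam : R) (N : ℕ) [NeZero N]
    (h : SekSuwa.DivCond lam N) (T : Over (Spec (CommRingCat.of R)))
    (hu : IsUnit ((SpecPts.pt T.hom).hom lam)) :
    Function.Bijective (fun k : T ⟶ SekSuwa.GK R lam N h => k ≫ SekSuwa.alphaN R lam N h) := by
  letI : Algebra R Γ(T.left, ⊤) := (SpecPts.pt T.hom).hom.toAlgebra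
  have hu' : IsUnit (algebraMap R Γ(T.left, ⊤) lam) := hu
  refine SpecPts.comp_bijective (R := CommRingCat.of R)
    (B := CommRingCat.of (MonoidAlgebra R (Multiplicative (ZMod N))))
    (B' := CommRingCat.of (SekSuwa.AK R lam N h))
    (CommRingCat.ofHom (algebraMap R (MonoidAlgebra R (Multiplicative (ZMod N)))))
    (CommRingCat.ofHom (algebraMap R (SekSuwa.AK R lam N h)))
    (CommRingCat.ofHom ((SekSuwa.alphaNHom R lam N h :
      MonoidAlgebra R (Multiplicative (ZMod N)) →ₐc[R] SekSuwa.AK R lam N h) :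
      MonoidAlgebra R (Multiplicative (ZMod N)) →+* SekSuwa.AK R lam N h))
    (SekSuwa.alphaN R lam N h) rfl T ?_ ?_
  · intro θ₁ θ₂ h₁ h₂ he
    let θ₁A : SekSuwa.AK R lam N h →ₐ[R] Γ(T.left, ⊤) :=
      { θ₁.hom with commutes' := fun r => congrArg (fun φ => φ.hom r) h₁ }
    let θ₂A : SekSuwa.AK R lam N h →ₐ[R] Γ(T.left, ⊤) :=
      { θ₂.hom with commutes' := fun r => congrArg (fun φ => φ.hom r) h₂ }
    have he' : θ₁A (1 + lam • SekSuwa.AK.t) = θ₂A (1 + lam • SekSuwa.AK.t) := by
      have h3 := congrArg (fun φ => φ.hom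
        (MonoidAlgebra.single (Multiplicative.ofAdd (1 : ZMod N)) (1 : R))) he
      rw [← SekSuwa.alphaNHom_single_one]
      exact h3
    have h4 := SekSuwaAlg.algHom_inj h hu' θ₁A θ₂A he'
    refine CommRingCat.hom_ext (RingHom.ext fun x => ?_)
    exact congrArg (fun φ => φ x) h4
  · intro θ' ha
    let χ : MonoidAlgebra R (Multiplicative (ZMod N)) →ₐ[R] Γ(T.left, ⊤) :=
      { θ'.hom with commutes' := fun r => congrArg (fun φ => φ.hom r) ha }
    obtain ⟨θ, hθ⟩ := SekSuwaAlg.algHom_surj h hu' χ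
    refine ⟨CommRingCat.ofHom (θ : SekSuwa.AK R lam N h →+* Γ(T.left, ⊤)), ?_, ?_⟩
    · refine CommRingCat.hom_ext (RingHom.ext fun x => ?_)
      exact hθ x
    · refine CommRingCat.hom_ext (RingHom.ext fun r => ?_)
      exact θ.commutes r

end Groth.Agent.Lib.Lead.SekSuwaGeneric
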