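import Mathlib
import Groth.Agent.Lib.Lead.SekGeom
import Groth.Agent.Lib.Lead.TorsorPush
import Groth.Agent.Lib.Lead.GaTorsor
import Groth.Agent.Lib.Helper5.TorsTwist7
import Groth.Agent.Lib.Helper5.TorsorExact
import Groth.Agent.S6004

/-!
# Torsors under `G^(λ)`: the torsor argument for triviality (lead)
-/

set_option autoImplicit false
universe u
open CategoryTheory CategoryTheory.Limits AlgebraicGeometry MonoidalCategory CartesianMonoidalCategory
  MonObj

namespace Groth.Agent.Lib.Lead.SekTors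

open Groth.Agent.Lib.Lead Groth.Agent.Lib.Lead.GaTorsor Groth.Agent.Lib.Helper5.TorsorExact

section general

variable {S : Scheme.{u}}

/-- Descent of a morphism along an effective epimorphism, checked on the kernel pair only. -/
theorem exists_desc_kp {A B Z : Over S} (π : A ⟶ B) [EffectiveEpi π.left] (g : A ⟶ Z)
    (hg : pullback.fst π.left π.left ≫ g.left = pullback.snd π.left π.left ≫ g.left) :
    ∃ r : B ⟶ Z, π ≫ r = g := by
  have hcompat : ∀ {W : Scheme.{u}} (g₁ g₂ : W ⟶ A.left),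
      g₁ ≫ π.left = g₂ ≫ π.left → g₁ ≫ g.left = g₂ ≫ g.left := by
    intro W g₁ g₂ h
    have e : pullback.lift g₁ g₂ h ≫ pullback.fst π.left π.left ≫ g.left =
        pullback.lift g₁ g₂ h ≫ pullback.snd π.left π.left ≫ g.left := by rw [hg]
    rwa [pullback.lift_fst_assoc, pullback.lift_snd_assoc] at e
  refine ⟨Over.homMk (EffectiveEpi.desc π.left g.left hcompat) ?_, ?_⟩
  · rw [← cancel_epi π.left, ← Category.assoc,
      EffectiveEpi.fac π.left g.left hcompat, Over.w, Over.w]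
  · ext
    exact EffectiveEpi.fac π.left g.left hcompat

/-- The projection `P ⊗ B ⟶ B` is covering for the fpqc topology when `P` is locally trivial. -/
theorem secSieve_snd (P B : Over S)
    (hloc : NonAbH1.IsLocallyTrivialFor Scheme.fpqcPrecoverage P) :
    secSieve (Over.mk (snd P B).left : Over B.left) ∈ Scheme.fpqcTopology B.left := by
  have h1 := Scheme.fpqcTopology.pullback_stable B.hom ((isLocallyTrivialFor_iff P).1 hloc)
  refine Scheme.fpqcTopology.superset_covering ?_ h1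
  rintro W g ⟨s, hs⟩
  change s ≫ P.hom = g ≫ B.hom at hs
  let W' : Over S := Over.mk (g ≫ B.hom)
  let s' : W' ⟶ P := Over.homMk s hs
  let g' : W' ⟶ B := Over.homMk g rfl
  refine ⟨(lift s' g').left, ?_⟩
  change (lift s' g').left ≫ (snd P B).left = g
  rw [← Over.comp_left, lift_snd]
  rfl

theorem effectiveEpi_snd (P B : Over S)
    (hloc : NonAbH1.IsLocallyTrivialFor Scheme.fpqcPrecoverage P) :
    EffectiveEpi (snd P B).left :=
  effectiveEpi_left_of_secSieve (snd P B) (secSieve_snd P B hloc)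

variable {J J' P P' : Over S} [GrpObj J] [GrpObj J']
  (a : AlgGrp.Action J P) (a' : AlgGrp.Action J' P') (u : J ⟶ J')
  (k : P ⟶ P') (hk : a.act ≫ k = lift (fst J P ≫ u) (snd J P ≫ k) ≫ a'.act)

include hk in
theorem smul_comp_k {T : Over S} (g : T ⟶ J) (x : T ⟶ P) :
    smul a g x ≫ k = smul a' (g ≫ u) (x ≫ k) := by
  unfold smul
  rw [Category.assoc, hk, ← Category.assoc]
  congr 1
  apply CartesianMonoidalCategory.hom_ext <;> simp

include hk in
theorem k_injective (hps : NonAbH1.IsPseudoTorsorSch a) (hps' : NonAbH1.IsPseudoTorsorSch a')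
    {T : Over S} (hinj : ∀ g : T ⟶ J, g ≫ u = toUnit T ≫ η[J'] → g = toUnit T ≫ η[J])
    (x₁ x₂ : T ⟶ P) (h : x₁ ≫ k = x₂ ≫ k) : x₁ = x₂ := by
  obtain ⟨g, hg⟩ := TorsorPush.exists_act_eq a.act hps x₁ x₂
  have h1 : smul a' (g ≫ u) (x₁ ≫ k) = x₂ ≫ k := by
    rw [← smul_comp_k a a' u k hk]
    unfold smul
    rw [hg]
  have h2 : lift (g ≫ u) (x₁ ≫ k) ≫ a'.act = lift (toUnit T ≫ η[J']) (x₁ ≫ k) ≫ a'.act := by
    rw [TorsorPush.one_act']
    exact h1.trans h.symm
  have h3 := TorsorPush.act_injective a'.act hps' (x₁ ≫ k) _ _ h2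
  have h4 := hinj g h3
  rw [← hg, h4, TorsorPush.one_act']

end general

section sek

open Groth.Agent.Lib.Lead.SekPts Groth.Agent.Lib.Lead.SekGeom

variable {X : Scheme.{u}} (R : Type u) [CommRing R] (lam : R) (f : X ⟶ Spec (CommRingCat.of R))

/-- The homomorphism `α^λ` over `X`. -/
noncomputable abbrev uu : Red.bc f (SekSuwa.G R lam) ⟶ Red.bc f (Red.diag R ℤ) :=
  (Over.pullback f).map (SekSuwa.alpha R lam)

theorem one_comp_uu (T : Over X) :
    (toUnit T ≫ η[Red.bc f (SekSuwa.G R lam)]) ≫ uu R lam f = toUnit T ≫ η[Red.bc f (Red.diag R ℤ)] := by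
  rw [Category.assoc, IsMonHom.one_hom]

theorem eps_one_of_zero (T : Over X) (h0 : strMap R f T lam = 0) :
    eps R f T (toUnit T ≫ η[Red.bc f (Red.diag R ℤ)]) = 1 := by
  rw [← one_comp_uu R lam f T]
  have h := eps_alpha R lam f T (toUnit T ≫ η[Red.bc f (SekSuwa.G R lam)])
  rw [h0, zero_mul, add_zero] at h
  exact h

theorem uu_injective (T : Over X) (hreg : ∀ b : Γ(T.left, ⊤), strMap R f T lam * b = 0 → b = 0)
    (g : T ⟶ Red.bc f (SekSuwa.G R lam))
    (hg : g ≫ uu R lam f = toUnit T ≫ η[Red.bc f (Red.diag R ℤ)]) :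
    g = toUnit T ≫ η[Red.bc f (SekSuwa.G R lam)] := by
  apply alpha_injective R lam f T hreg
  rw [← one_comp_uu R lam f T] at hg
  exact hg

theorem hasSection [IsDomain R] (hlam : lam ≠ 0) [Flat f]
    [IsAffineHom (Red.bc f (Red.diag R ℤ)).hom]
    [IsAffineHom (Red.bc f (SekSuwa.G R lam)).hom] [Flat (Red.bc f (SekSuwa.G R lam)).hom]
    (hL : ∀ (T : Over X) [IsAffine T.left] (h : T ⟶ Red.bc f (Red.diag R ℤ)),
      (∀ (T' : Over X) (q : T' ⟶ T), strMap R f T' lam = 0 → eps R f T' (q ≫ h) = 1) →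
      ∃ b : Γ(T.left, ⊤), eps R f T h = 1 + strMap R f T lam * b)
    (hunit : Function.Surjective (Units.map
      (Limits.pullback.fst f (Spec.map (CommRingCat.ofHom
        (Ideal.Quotient.mk (Ideal.span ({lam} : Set R)))))).appTop.hom.toMonoidHom))
    (hpic : ∀ (Q : Over X) (b : AlgGrp.Action (Red.bc f (Red.diag R ℤ)) Q),
      NonAbH1.IsTorsorFor Scheme.fppfPrecoverage b → NonAbH1.HasSectionOver Q (𝟙 X))
    (P : Over X) (a : AlgGrp.Action (Red.bc f (SekSuwa.G R lam)) P)
    (hP : NonAbH1.IsTorsorFor Scheme.fppfPrecoverage a) :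
    NonAbH1.HasSectionOver P (𝟙 X) := by
  obtain ⟨hps, Rc, hRc, hsec⟩ := hP
  have hlocq : NonAbH1.IsLocallyTrivialFor Scheme.fpqcPrecoverage P :=
    ⟨Rc, Scheme.fppfPrecoverage_le_fpqcPrecoverage _ hRc, hsec⟩
  obtain ⟨P', k, hk⟩ := Groth.Agent.Lib.Helper5.TorsTwist.exists_pushforward_torsorSch
    (uu R lam f) ⟨P, a, hps, hlocq⟩
  change P ⟶ P'.X at k
  change a.act ≫ k = lift (fst _ P ≫ uu R lam f) (snd _ P ≫ k) ≫ P'.act.act at hk
  have hps' : NonAbH1.IsPseudoTorsorSch P'.act := P'.isTorsor.1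
  have hP'fppf : NonAbH1.IsTorsorFor Scheme.fppfPrecoverage P'.act :=
    ⟨hps', Rc, hRc, fun S' g hg => by
      obtain ⟨s, hs⟩ := hsec g hg
      exact ⟨s ≫ k.left, by rw [Category.assoc, Over.w k]; exact hs⟩⟩
  obtain ⟨s0, hs0⟩ := hpic P'.X P'.act hP'fppf
  let σ' : 𝟙_ (Over X) ⟶ P'.X := Over.homMk s0 (by simpa using hs0)
  obtain ⟨δ₀, hδ₀⟩ := TorsorPush.exists_act_eq P'.act.act hps' (toUnit P ≫ σ') k
  have hδpt : ∀ {T : Over X} (x : T ⟶ P),
      lift (x ≫ δ₀) (toUnit T ≫ σ') ≫ P'.act.act = x ≫ k := by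
    intro T x
    rw [← hδ₀, ← Category.assoc, comp_lift, ← Category.assoc, toUnit_unique (x ≫ toUnit P) (toUnit T)]
  -- descent of `δ₀` to the locus `λ = 0`
  haveI hee : EffectiveEpi (snd P (Xl R lam f)).left := effectiveEpi_snd P (Xl R lam f) hlocq
  have hconst : ∀ {T : Over X} (x₁ x₂ : T ⟶ P), strMap R f T lam = 0 → x₁ ≫ k = x₂ ≫ k := by
    intro T x₁ x₂ h0
    obtain ⟨g, hg⟩ := TorsorPush.exists_act_eq a.act hps x₁ x₂
    have h1 : smul a g x₁ ≫ k = smul P'.act (g ≫ uu R lam f) (x₁ ≫ k) :=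
      smul_comp_k a P'.act (uu R lam f) k hk g x₁
    have h2 : g ≫ uu R lam f = toUnit T ≫ η[Red.bc f (Red.diag R ℤ)] := by
      rw [← one_comp_uu R lam f T]
      exact alpha_eq_of_zero R lam f T h0 _ _
    rw [h2] at h1
    unfold smul at h1
    rw [hg] at h1
    exact (h1.trans (TorsorPush.one_act' P'.act (x₁ ≫ k))).symm
  obtain ⟨hbar, hhbar⟩ := exists_desc_of_effectiveEpi (snd P (Xl R lam f)) (fst P (Xl R lam f) ≫ δ₀)
    (by
      intro T a₁ a₂ h12
      have h0 : strMap R f T lam = 0 := strMap_eq_zero_of_hom R lam f T (a₁ ≫ snd P (Xl R lam f))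
      have h3 := hconst (a₁ ≫ fst P (Xl R lam f)) (a₂ ≫ fst P (Xl R lam f)) h0
      have h4 := hδpt (a₁ ≫ fst P (Xl R lam f))
      have h5 := hδpt (a₂ ≫ fst P (Xl R lam f))
      rw [h3, ← h5] at h4
      have h6 := TorsorPush.act_injective P'.act.act hps' (toUnit T ≫ σ') _ _ h4
      simpa only [Category.assoc] using h6)
  -- the unit of `X` lifting the function of `hbar`
  obtain ⟨w₀, hw₀⟩ := hunit (isUnit_eps R f (Xl R lam f) hbar).unit
  obtain ⟨w, hw⟩ := exists_eps R f (𝟙_ (Over X)) w₀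
  have hwbar : toUnit (Xl R lam f) ≫ w = hbar := by
    apply eps_injective R f (Xl R lam f)
    have h1 := congrArg Units.val hw₀
    have h2 := eps_comp R f (toUnit (Xl R lam f)) w
    rw [hw] at h2
    rw [h2]
    exact h1
  -- the corrected section of `P'`
  let s'' : 𝟙_ (Over X) ⟶ P'.X := smul P'.act w σ'
  have hs'' : ∀ {T : Over X} (x : T ⟶ P), strMap R f T lam = 0 → x ≫ k = toUnit T ≫ s'' := by
    intro T x h0
    obtain ⟨c⟩ := exists_hom_of_strMap_eq_zero R lam f T h0
    have h1 : x ≫ δ₀ = toUnit T ≫ w := by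
      have e1 : lift x c ≫ (fst P (Xl R lam f) ≫ δ₀) = x ≫ δ₀ := by
        rw [lift_fst_assoc]
      have e2 : lift x c ≫ (snd P (Xl R lam f) ≫ hbar) = c ≫ hbar := by
        rw [lift_snd_assoc]
      rw [← e1, ← hhbar, e2, ← hwbar, ← Category.assoc, toUnit_unique (c ≫ toUnit _) (toUnit T)]
    have h2 := hδpt x
    rw [h1] at h2
    rw [← h2]
    exact (comp_smul P'.act (toUnit T) w σ').symm
  -- existence of lifts of `s''` over affine schemes with a point of `P`
  have hexist : ∀ (T : Over X) [IsAffine T.left] (x : T ⟶ P),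
      ∃ xt : T ⟶ P, xt ≫ k = toUnit T ≫ s'' := by
    intro T _ x
    obtain ⟨d, hd⟩ := TorsorPush.exists_act_eq P'.act.act hps' (x ≫ k) (toUnit T ≫ s'')
    have hres : ∀ (T' : Over X) (q : T' ⟶ T), strMap R f T' lam = 0 →
        eps R f T' (q ≫ d) = 1 := by
      intro T' q h0
      have h1 : (q ≫ x) ≫ k = toUnit T' ≫ s'' := hs'' (q ≫ x) h0
      have h2 : lift (q ≫ d) (toUnit T' ≫ s'') ≫ P'.act.act = toUnit T' ≫ s'' := by
        have e : q ≫ lift d (x ≫ k) ≫ P'.act.act = q ≫ toUnit T ≫ s'' := by rw [hd]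
        rw [← Category.assoc, comp_lift, ← Category.assoc q x k, h1, ← Category.assoc q,
          toUnit_unique (q ≫ toUnit T) (toUnit T')] at e
        exact e
      have h3 : q ≫ d = toUnit T' ≫ η[Red.bc f (Red.diag R ℤ)] := by
        apply TorsorPush.act_injective P'.act.act hps' (toUnit T' ≫ s'')
        rw [h2]
        exact (TorsorPush.one_act' P'.act _).symm
      rw [h3]
      exact eps_one_of_zero R lam f T' h0
    obtain ⟨b, hb⟩ := hL T d hres
    obtain ⟨g, hg⟩ := exists_alpha_eq R lam f T d b hb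
    refine ⟨smul a g x, ?_⟩
    rw [smul_comp_k a P'.act (uu R lam f) k hk g x]
    unfold smul
    rw [show g ≫ uu R lam f = d from hg]
    exact hd
  -- uniqueness of lifts over schemes flat over `R`
  have huniq : ∀ (T : Over X) [Flat (T.hom ≫ f)] (x₁ x₂ : T ⟶ P), x₁ ≫ k = x₂ ≫ k → x₁ = x₂ := by
    intro T _ x₁ x₂ h
    exact k_injective a P'.act (uu R lam f) k hk hps hps'
      (fun g hg => uu_injective R lam f T (fun b hb => regular_of_flat R lam f hlam T b hb) g hg)
      x₁ x₂ h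
  obtain ⟨hPaff, hPflat⟩ := Groth.Agent.S6004.result _ P a ⟨hps, hlocq⟩
  -- local sections over the members of an affine cover
  have hloc : ∀ i : X.affineCover.I₀, ∃ σ : Over.mk (X.affineCover.f i) ⟶ P,
      σ ≫ k = toUnit _ ≫ s'' := by
    intro i
    let Vo : Over X := Over.mk (X.affineCover.f i)
    haveI : IsAffine (P ⊗ Vo).left := by
      change IsAffine (pullback P.hom (X.affineCover.f i))
      exact isAffine_of_isAffineHom (pullback.snd P.hom (X.affineCover.f i))
    obtain ⟨xt, hxt⟩ := hexist (P ⊗ Vo) (fst P Vo)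
    haveI : EffectiveEpi (snd P Vo).left := effectiveEpi_snd P Vo hlocq
    obtain ⟨σ, hσ⟩ := exists_desc_kp (snd P Vo) xt (by
      let T₂ : Over X := Over.mk (pullback.fst (snd P Vo).left (snd P Vo).left ≫ (P ⊗ Vo).hom)
      let a₁ : T₂ ⟶ P ⊗ Vo := Over.homMk (pullback.fst _ _) rfl
      let a₂ : T₂ ⟶ P ⊗ Vo := Over.homMk (pullback.snd _ _) (by
        show pullback.snd _ _ ≫ (P ⊗ Vo).hom = pullback.fst _ _ ≫ (P ⊗ Vo).hom
        rw [← Over.w (snd P Vo), ← Category.assoc, ← Category.assoc, pullback.condition])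
      haveI : Flat (snd P Vo).left := by
        change Flat (pullback.snd P.hom (X.affineCover.f i))
        infer_instance
      haveI : Flat (P ⊗ Vo).hom := by
        change Flat (pullback.fst P.hom (X.affineCover.f i) ≫ P.hom)
        infer_instance
      haveI : Flat (T₂.hom ≫ f) := by
        change Flat ((pullback.fst (snd P Vo).left (snd P Vo).left ≫ (P ⊗ Vo).hom) ≫ f)
        infer_instance
      have h12 := huniq T₂ (a₁ ≫ xt) (a₂ ≫ xt) (by
        rw [Category.assoc, Category.assoc, hxt, ← Category.assoc, ← Category.assoc,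
          toUnit_unique (a₁ ≫ toUnit _) (a₂ ≫ toUnit _)])
      exact congrArg Over.Hom.left h12)
    refine ⟨σ, ?_⟩
    haveI := epi_of_effectiveEpi_left (snd P Vo)
    rw [← cancel_epi (snd P Vo), ← Category.assoc, hσ, hxt, ← Category.assoc,
      toUnit_unique (snd P Vo ≫ toUnit Vo) (toUnit _)]
  choose σ hσ using hloc
  have hcompat : ∀ i j : X.affineCover.I₀,
      pullback.fst (X.affineCover.f i) (X.affineCover.f j) ≫ (σ i).left =
        pullback.snd (X.affineCover.f i) (X.affineCover.f j) ≫ (σ j).left := by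
    intro i j
    let Wo : Over X :=
      Over.mk (pullback.fst (X.affineCover.f i) (X.affineCover.f j) ≫ X.affineCover.f i)
    let q₁ : Wo ⟶ Over.mk (X.affineCover.f i) := Over.homMk (pullback.fst _ _) rfl
    let q₂ : Wo ⟶ Over.mk (X.affineCover.f j) := Over.homMk (pullback.snd _ _) (by
      show pullback.snd _ _ ≫ X.affineCover.f j = pullback.fst _ _ ≫ X.affineCover.f i
      exact pullback.condition.symm)
    haveI : Flat (Wo.hom ≫ f) := by
      change Flat ((pullback.fst (X.affineCover.f i) (X.affineCover.f j) ≫ X.affineCover.f i) ≫ f)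
      infer_instance
    have h12 := huniq Wo (q₁ ≫ σ i) (q₂ ≫ σ j) (by
      rw [Category.assoc, Category.assoc, hσ, hσ, ← Category.assoc, ← Category.assoc,
        toUnit_unique (q₁ ≫ toUnit _) (q₂ ≫ toUnit _)])
    exact congrArg Over.Hom.left h12
  refine ⟨X.affineCover.glueMorphisms (fun i => (σ i).left) hcompat, ?_⟩
  apply Scheme.Cover.hom_ext X.affineCover
  intro i
  rw [← Category.assoc, Scheme.Cover.ι_glueMorphisms, Category.comp_id]
  exact Over.w (σ i)

end sek

end Groth.Agent.Lib.Lead.SekTors
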