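import Mathlib
import Groth.Agent.Lib.Lead.SekTors

/-!
# Torsors under `G^(λ)`: the torsor argument over an affine scheme flat over the base (lead)
-/

set_option autoImplicit false
universe u
open CategoryTheory CategoryTheory.Limits AlgebraicGeometry MonoidalCategory CartesianMonoidalCategory
  MonObj

namespace Groth.Agent.Lib.Lead.SekTors

open Groth.Agent.Lib.Lead Groth.Agent.Lib.Lead.GaTorsor Groth.Agent.Lib.Helper5.TorsorExact
open Groth.Agent.Lib.Lead.SekPts Groth.Agent.Lib.Lead.SekGeom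

variable {X : Scheme.{u}} (R : Type u) [CommRing R] (lam : R) (f : X ⟶ Spec (CommRingCat.of R))

/-- The torsor argument relative to an affine `X`-scheme `Uo` flat over `R`: if the push-forward
`P'` of the `G^(λ)`-torsor `P` to the multiplicative group has a section over `Uo` and units of
the locus `λ = 0` of `Uo` lift, then `P` has a section over `Uo`. -/
theorem hasSection_rel [IsDomain R] (hlam : lam ≠ 0)
    [IsAffineHom (Red.bc f (SekSuwa.G R lam)).hom] [Flat (Red.bc f (SekSuwa.G R lam)).hom]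
    (hL : ∀ (T : Over X) [IsAffine T.left] (h : T ⟶ Red.bc f (Red.diag R ℤ)),
      (∀ (T' : Over X) (q : T' ⟶ T), strMap R f T' lam = 0 → eps R f T' (q ≫ h) = 1) →
      ∃ b : Γ(T.left, ⊤), eps R f T h = 1 + strMap R f T lam * b)
    (P : Over X) (a : AlgGrp.Action (Red.bc f (SekSuwa.G R lam)) P)
    (hps : NonAbH1.IsPseudoTorsorSch a)
    (hlocq : NonAbH1.IsLocallyTrivialFor Scheme.fpqcPrecoverage P)
    (P' : Over X) (a' : AlgGrp.Action (Red.bc f (Red.diag R ℤ)) P')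
    (hps' : NonAbH1.IsPseudoTorsorSch a')
    (k : P ⟶ P')
    (hk : a.act ≫ k = lift (fst _ P ≫ uu R lam f) (snd _ P ≫ k) ≫ a'.act)
    (Uo : Over X) [IsAffine Uo.left] [Flat (Uo.hom ≫ f)]
    (σ' : Uo ⟶ P')
    (hlift : ∀ hbar : Uo ⊗ Xl R lam f ⟶ Red.bc f (Red.diag R ℤ),
      ∃ w : Uo ⟶ Red.bc f (Red.diag R ℤ), fst Uo (Xl R lam f) ≫ w = hbar) :
    NonAbH1.HasSectionOver P Uo.hom := by
  obtain ⟨δ₀, hδ₀⟩ := TorsorPush.exists_act_eq a'.act hps' (snd P Uo ≫ σ') (fst P Uo ≫ k)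
  have hδpt : ∀ {T : Over X} (x : T ⟶ P) (v : T ⟶ Uo),
      lift (lift x v ≫ δ₀) (v ≫ σ') ≫ a'.act = x ≫ k := by
    intro T x v
    have e : lift x v ≫ lift δ₀ (snd P Uo ≫ σ') ≫ a'.act = lift x v ≫ fst P Uo ≫ k := by
      rw [hδ₀]
    rw [← Category.assoc, comp_lift, lift_snd_assoc, lift_fst_assoc] at e
    exact e
  have hconst : ∀ {T : Over X} (x₁ x₂ : T ⟶ P), strMap R f T lam = 0 → x₁ ≫ k = x₂ ≫ k := by
    intro T x₁ x₂ h0
    obtain ⟨g, hg⟩ := TorsorPush.exists_act_eq a.act hps x₁ x₂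
    have h1 : smul a g x₁ ≫ k = smul a' (g ≫ uu R lam f) (x₁ ≫ k) :=
      smul_comp_k a a' (uu R lam f) k hk g x₁
    have h2 : g ≫ uu R lam f = toUnit T ≫ η[Red.bc f (Red.diag R ℤ)] := by
      rw [← one_comp_uu R lam f T]
      exact alpha_eq_of_zero R lam f T h0 _ _
    rw [h2] at h1
    unfold smul at h1
    rw [hg] at h1
    exact (h1.trans (TorsorPush.one_act' a' (x₁ ≫ k))).symm
  -- descent of `δ₀` to the locus `λ = 0` of `Uo`
  haveI hee : EffectiveEpi (snd P (Uo ⊗ Xl R lam f)).left :=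
    effectiveEpi_snd P (Uo ⊗ Xl R lam f) hlocq
  obtain ⟨hbar, hhbar⟩ := exists_desc_of_effectiveEpi (snd P (Uo ⊗ Xl R lam f))
    (lift (fst P (Uo ⊗ Xl R lam f)) (snd P (Uo ⊗ Xl R lam f) ≫ fst Uo (Xl R lam f)) ≫ δ₀)
    (by
      intro T a₁ a₂ h12
      have h0 : strMap R f T lam = 0 := strMap_eq_zero_of_hom R lam f T
        (a₁ ≫ snd P (Uo ⊗ Xl R lam f) ≫ snd Uo (Xl R lam f))
      have hv : a₂ ≫ snd P (Uo ⊗ Xl R lam f) ≫ fst Uo (Xl R lam f) =
          a₁ ≫ snd P (Uo ⊗ Xl R lam f) ≫ fst Uo (Xl R lam f) := by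
        rw [← Category.assoc, ← h12, Category.assoc]
      have h3 := hconst (a₁ ≫ fst P (Uo ⊗ Xl R lam f)) (a₂ ≫ fst P (Uo ⊗ Xl R lam f)) h0
      have h4 := hδpt (a₁ ≫ fst P (Uo ⊗ Xl R lam f))
        (a₁ ≫ snd P (Uo ⊗ Xl R lam f) ≫ fst Uo (Xl R lam f))
      have h5 := hδpt (a₂ ≫ fst P (Uo ⊗ Xl R lam f))
        (a₁ ≫ snd P (Uo ⊗ Xl R lam f) ≫ fst Uo (Xl R lam f))
      rw [h3, ← h5] at h4
      have h6 := TorsorPush.act_injective a'.act hps' _ _ _ h4
      have e1 : a₁ ≫ lift (fst P (Uo ⊗ Xl R lam f))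
          (snd P (Uo ⊗ Xl R lam f) ≫ fst Uo (Xl R lam f)) =
          lift (a₁ ≫ fst P (Uo ⊗ Xl R lam f))
            (a₁ ≫ snd P (Uo ⊗ Xl R lam f) ≫ fst Uo (Xl R lam f)) := by
        rw [comp_lift]
      have e2 : a₂ ≫ lift (fst P (Uo ⊗ Xl R lam f))
          (snd P (Uo ⊗ Xl R lam f) ≫ fst Uo (Xl R lam f)) =
          lift (a₂ ≫ fst P (Uo ⊗ Xl R lam f))
            (a₁ ≫ snd P (Uo ⊗ Xl R lam f) ≫ fst Uo (Xl R lam f)) := by
        rw [comp_lift, hv]
      rw [← Category.assoc a₁ _ δ₀, ← Category.assoc a₂ _ δ₀, e1, e2]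
      exact h6)
  obtain ⟨w, hw⟩ := hlift hbar
  let s'' : Uo ⟶ P' := smul a' w σ'
  have hs'' : ∀ {T : Over X} (x : T ⟶ P) (v : T ⟶ Uo), strMap R f T lam = 0 →
      x ≫ k = v ≫ s'' := by
    intro T x v h0
    obtain ⟨c⟩ := exists_hom_of_strMap_eq_zero R lam f T h0
    have h1 : lift x v ≫ δ₀ = v ≫ w := by
      have e1 : lift x (lift v c) ≫ (lift (fst P (Uo ⊗ Xl R lam f))
          (snd P (Uo ⊗ Xl R lam f) ≫ fst Uo (Xl R lam f)) ≫ δ₀) = lift x v ≫ δ₀ := by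
        rw [← Category.assoc, comp_lift, lift_fst, lift_snd_assoc, lift_fst]
      have e2 : lift x (lift v c) ≫ (snd P (Uo ⊗ Xl R lam f) ≫ hbar) = lift v c ≫ hbar := by
        rw [lift_snd_assoc]
      rw [← e1, ← hhbar, e2, ← hw, lift_fst_assoc]
    have h2 := hδpt x v
    rw [h1] at h2
    rw [← h2]
    exact (comp_smul a' v w σ').symm
  -- uniqueness of lifts over schemes flat over `R`
  have huniq : ∀ (T : Over X) [Flat (T.hom ≫ f)] (x₁ x₂ : T ⟶ P), x₁ ≫ k = x₂ ≫ k → x₁ = x₂ := by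
    intro T _ x₁ x₂ h
    exact k_injective a a' (uu R lam f) k hk hps hps'
      (fun g hg => uu_injective R lam f T (fun b hb => regular_of_flat R lam f hlam T b hb) g hg)
      x₁ x₂ h
  obtain ⟨hPaff, hPflat⟩ := Groth.Agent.S6004.result _ P a ⟨hps, hlocq⟩
  haveI : IsAffine (P ⊗ Uo).left := by
    change IsAffine (pullback P.hom Uo.hom)
    exact isAffine_of_isAffineHom (pullback.snd P.hom Uo.hom)
  -- the lift over `P ⊗ Uo`
  obtain ⟨d, hd⟩ := TorsorPush.exists_act_eq a'.act hps' (fst P Uo ≫ k) (snd P Uo ≫ s'')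
  have hres : ∀ (T' : Over X) (q : T' ⟶ P ⊗ Uo), strMap R f T' lam = 0 →
      eps R f T' (q ≫ d) = 1 := by
    intro T' q h0
    have h1 : (q ≫ fst P Uo) ≫ k = (q ≫ snd P Uo) ≫ s'' := hs'' _ _ h0
    have h2 : lift (q ≫ d) ((q ≫ snd P Uo) ≫ s'') ≫ a'.act = (q ≫ snd P Uo) ≫ s'' := by
      have e : q ≫ lift d (fst P Uo ≫ k) ≫ a'.act = q ≫ snd P Uo ≫ s'' := by rw [hd]
      rw [← Category.assoc, comp_lift, ← Category.assoc q (fst P Uo) k, h1,
        ← Category.assoc q (snd P Uo) s''] at e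
      exact e
    have h3 : q ≫ d = toUnit T' ≫ η[Red.bc f (Red.diag R ℤ)] := by
      apply TorsorPush.act_injective a'.act hps' ((q ≫ snd P Uo) ≫ s'')
      rw [h2]
      exact (TorsorPush.one_act' a' _).symm
    rw [h3]
    exact eps_one_of_zero R lam f T' h0
  obtain ⟨b, hb⟩ := hL (P ⊗ Uo) d hres
  obtain ⟨g, hg⟩ := exists_alpha_eq R lam f (P ⊗ Uo) d b hb
  have hxt : smul a g (fst P Uo) ≫ k = snd P Uo ≫ s'' := by
    rw [smul_comp_k a a' (uu R lam f) k hk g (fst P Uo)]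
    unfold smul
    rw [show g ≫ uu R lam f = d from hg]
    exact hd
  -- descent along `P ⊗ Uo ⟶ Uo`
  haveI : EffectiveEpi (snd P Uo).left := effectiveEpi_snd P Uo hlocq
  obtain ⟨σ, hσ⟩ := exists_desc_kp (snd P Uo) (smul a g (fst P Uo)) (by
    let T₂ : Over X := Over.mk (pullback.fst (snd P Uo).left (snd P Uo).left ≫ (P ⊗ Uo).hom)
    let a₁ : T₂ ⟶ P ⊗ Uo := Over.homMk (pullback.fst _ _) rfl
    let a₂ : T₂ ⟶ P ⊗ Uo := Over.homMk (pullback.snd _ _) (by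
      show pullback.snd _ _ ≫ (P ⊗ Uo).hom = pullback.fst _ _ ≫ (P ⊗ Uo).hom
      rw [← Over.w (snd P Uo), ← Category.assoc, ← Category.assoc, pullback.condition])
    haveI : Flat (snd P Uo).left := by
      change Flat (pullback.snd P.hom Uo.hom)
      infer_instance
    haveI : Flat (T₂.hom ≫ f) := by
      have e : T₂.hom ≫ f = pullback.fst (snd P Uo).left (snd P Uo).left ≫
          (snd P Uo).left ≫ (Uo.hom ≫ f) := by
        change (pullback.fst (snd P Uo).left (snd P Uo).left ≫ (P ⊗ Uo).hom) ≫ f = _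
        rw [← Over.w (snd P Uo)]
        simp only [Category.assoc]
      rw [e]
      infer_instance
    have h12 := huniq T₂ (a₁ ≫ smul a g (fst P Uo)) (a₂ ≫ smul a g (fst P Uo)) (by
      have ha : a₁ ≫ snd P Uo = a₂ ≫ snd P Uo := by
        ext
        exact pullback.condition
      rw [Category.assoc, Category.assoc, hxt, ← Category.assoc, ← Category.assoc, ha])
    exact congrArg Over.Hom.left h12)
  exact ⟨σ.left, Over.w σ⟩

end Groth.Agent.Lib.Lead.SekTors
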