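import Mathlib
import Groth.Prelude.Def_NonAbH2
import Groth.Agent.Lib.Helper69.EtSplit

/-!
# Spreading out sections over local rings to Zariski-local sections (lead)
-/

set_option autoImplicit false
universe u
open CategoryTheory CategoryTheory.Limits AlgebraicGeometry

namespace Groth.Agent.Lib.Lead.ZariskiSpread

/-- A scheme locally of finite presentation over `S` which has a section over every local affine
scheme mapping to `S` is locally trivial for the Zariski topology. -/
theorem isLocallyTrivialFor_zariski_of_local {S : Scheme.{u}} (P : Over S)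
    [LocallyOfFinitePresentation P.hom]
    (h : ∀ (R : CommRingCat.{u}) [IsLocalRing R] (j : Spec R ⟶ S),
      ∃ s : Spec R ⟶ P.left, s ≫ P.hom = j) :
    NonAbH1.IsLocallyTrivialFor Scheme.zariskiPrecoverage P := by
  have key : ∀ s : S, ∃ (U : Scheme.{u}) (i : U ⟶ S), IsOpenImmersion i ∧ s ∈ Set.range i ∧
      ∃ σ : U ⟶ P.left, σ ≫ P.hom = i := by
    intro s
    let 𝒲 := S.affineOpenCover
    obtain ⟨w, hw⟩ := 𝒲.covers s
    let X : Scheme.{u} := Spec (𝒲.X (𝒲.idx s))
    let ι : X ⟶ S := 𝒲.f (𝒲.idx s)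
    haveI : IsOpenImmersion ι := 𝒲.map_prop (𝒲.idx s)
    let g : pullback P.hom ι ⟶ X := pullback.snd P.hom ι
    obtain ⟨σ₀, hσ₀⟩ := h (X.presheaf.stalk w) (X.fromSpecStalk w ≫ ι)
    let hh : Spec (X.presheaf.stalk w) ⟶ pullback P.hom ι :=
      pullback.lift σ₀ (X.fromSpecStalk w) hσ₀
    obtain ⟨U, hwU, hU, hUg⟩ := Groth.Agent.Lib.Helper69.EtSplit.exists_lift_nhds g w hh
      (pullback.lift_snd _ _ _)
    refine ⟨U.toScheme, U.ι ≫ ι, inferInstance, ⟨⟨w, hwU⟩, ?_⟩,
      hU ≫ pullback.fst P.hom ι, ?_⟩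
    · rw [Scheme.Hom.comp_apply]
      exact hw
    · rw [Category.assoc, pullback.condition, ← Category.assoc, hUg]
  choose U i hi hs σ hσ using key
  refine ⟨Presieve.ofArrows U i, ?_, ?_⟩
  · change Presieve.ofArrows U i ∈ Scheme.precoverage @IsOpenImmersion S
    rw [Scheme.ofArrows_mem_precoverage_iff]
    exact ⟨fun s => ⟨s, hs s⟩, hi⟩
  · rintro _ _ ⟨s⟩
    exact ⟨σ s, hσ s⟩

end Groth.Agent.Lib.Lead.ZariskiSpread
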