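import Mathlib
import Groth.Agent.Lib.Lead.SekTorsRel
import Groth.Agent.Lib.Lead.ZariskiSpread
import Groth.Agent.Lib.Helper9.TorsorSch

/-!
# Torsors under `G^(λ)` are locally trivial for the Zariski topology: assembly (lead)
-/

set_option autoImplicit false
universe u
open CategoryTheory CategoryTheory.Limits AlgebraicGeometry MonoidalCategory CartesianMonoidalCategory
  MonObj

namespace Groth.Agent.Lib.Lead.SekZar

open Groth.Agent.Lib.Lead Groth.Agent.Lib.Lead.SekPts Groth.Agent.Lib.Lead.SekGeom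
  Groth.Agent.Lib.Lead.SekTors

/-- `Spec 𝒪_{Y,y} ⟶ Y` is flat. -/
theorem flat_fromSpecStalk (Y : Scheme.{u}) (y : Y) : Flat (Y.fromSpecStalk y) := by
  obtain ⟨_, ⟨U : Y.Opens, hU : IsAffineOpen U, rfl⟩, hyU, -⟩ :=
    Y.isBasis_affineOpens.exists_subset_of_mem_open (Set.mem_univ y) isOpen_univ
  rw [← hU.fromSpecStalk_eq_fromSpecStalk hyU, IsAffineOpen.fromSpecStalk]
  have : Flat (Spec.map (Y.presheaf.germ U y hyU)) := by
    rw [Flat.SpecMap_iff]
    let _ : Algebra Γ(Y, U) (Y.presheaf.stalk y) :=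
      TopCat.Presheaf.algebra_section_stalk Y.presheaf ⟨y, hyU⟩
    have := hU.isLocalization_stalk ⟨y, hyU⟩
    have hfl : Module.Flat Γ(Y, U) (Y.presheaf.stalk y) :=
      IsLocalization.flat _ (hU.primeIdealOf ⟨y, hyU⟩).asIdeal.primeCompl
    exact hfl
  infer_instance

/-- A scheme locally of finite presentation over `S` which has a section over every local affine
scheme mapping flatly to `S` is locally trivial for the Zariski topology. -/
theorem isLocallyTrivialFor_zariski_of_local_flat {S : Scheme.{u}} (P : Over S)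
    [LocallyOfFinitePresentation P.hom]
    (h : ∀ (R : CommRingCat.{u}) [IsLocalRing R] (j : Spec R ⟶ S), Flat j →
      ∃ s : Spec R ⟶ P.left, s ≫ P.hom = j) :
    NonAbH1.IsLocallyTrivialFor Scheme.zariskiPrecoverage P := by
  have key : ∀ s : S, ∃ (U : Scheme.{u}) (i : U ⟶ S), IsOpenImmersion i ∧ s ∈ Set.range i ∧
      ∃ σ : U ⟶ P.left, σ ≫ P.hom = i := by
    intro s
    let 𝒲 := S.affineOpenCover
    obtain ⟨w, hw⟩ := 𝒲.covers s
    let X : Scheme.{u} := Spec (𝒲.X (𝒲.idx s))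
    let jX : X ⟶ S := 𝒲.f (𝒲.idx s)
    haveI : IsOpenImmersion jX := 𝒲.map_prop (𝒲.idx s)
    let g : pullback P.hom jX ⟶ X := pullback.snd P.hom jX
    haveI : Flat (X.fromSpecStalk w) := flat_fromSpecStalk X w
    obtain ⟨σ₀, hσ₀⟩ := h (X.presheaf.stalk w) (X.fromSpecStalk w ≫ jX) inferInstance
    let hh : Spec (X.presheaf.stalk w) ⟶ pullback P.hom jX :=
      pullback.lift σ₀ (X.fromSpecStalk w) hσ₀
    obtain ⟨U, hwU, hU, hUg⟩ := Groth.Agent.Lib.Helper69.EtSplit.exists_lift_nhds g w hh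
      (pullback.lift_snd _ _ _)
    refine ⟨U.toScheme, U.ι ≫ jX, inferInstance, ⟨⟨w, hwU⟩, ?_⟩,
      hU ≫ pullback.fst P.hom jX, ?_⟩
    · rw [Scheme.Hom.comp_apply]
      exact hw
    · rw [Category.assoc, pullback.condition, ← Category.assoc, hUg]
  choose U i hi hs σ hσ using key
  refine ⟨Presieve.ofArrows U i, ?_, ?_⟩
  · change Presieve.ofArrows U i ∈ Scheme.precoverage @IsOpenImmersion S
    rw [Scheme.ofArrows_mem_precoverage_iff]
    exact ⟨fun s => ⟨s, hs s⟩, hi⟩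
  · rintro _ _ ⟨s⟩
    exact ⟨σ s, hσ s⟩

variable {X : Scheme.{u}} (R : Type u) [CommRing R] (lam : R) (f : X ⟶ Spec (CommRingCat.of R))

/-- Assembly: fppf torsors under `G^(λ)` over a flat `R`-scheme are Zariski-locally trivial, given
Hilbert 90 over local rings for the split multiplicative group and the lifting of units. -/
theorem isTorsorFor_zariski [IsDomain R] (hlam : lam ≠ 0) [Flat f]
    [IsAffineHom (Red.bc f (Red.diag R ℤ)).hom] [Smooth (Red.bc f (Red.diag R ℤ)).hom]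
    [Surjective (Red.bc f (Red.diag R ℤ)).hom]
    [IsAffineHom (Red.bc f (SekSuwa.G R lam)).hom] [Flat (Red.bc f (SekSuwa.G R lam)).hom]
    [LocallyOfFinitePresentation (Red.bc f (SekSuwa.G R lam)).hom]
    (hL : ∀ (T : Over X) [IsAffine T.left] (h : T ⟶ Red.bc f (Red.diag R ℤ)),
      (∀ (T' : Over X) (q : T' ⟶ T), strMap R f T' lam = 0 → eps R f T' (q ≫ h) = 1) →
      ∃ b : Γ(T.left, ⊤), eps R f T h = 1 + strMap R f T lam * b)
    (hH90 : ∀ (Q : Over X) (b : AlgGrp.Action (Red.bc f (Red.diag R ℤ)) Q),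
      NonAbH1.IsPseudoTorsorSch b → Smooth Q.hom → Surjective Q.hom →
      ∀ (A : CommRingCat.{u}) [IsLocalRing A] (j : Spec A ⟶ X), ∃ s : Spec A ⟶ Q.left, s ≫ Q.hom = j)
    (hunitloc : ∀ (Uo : Over X) [IsAffine Uo.left] [IsLocalRing Γ(Uo.left, ⊤)]
      (hbar : Uo ⊗ Xl R lam f ⟶ Red.bc f (Red.diag R ℤ)),
      ∃ w : Uo ⟶ Red.bc f (Red.diag R ℤ), fst Uo (Xl R lam f) ≫ w = hbar)
    (P : Over X) (a : AlgGrp.Action (Red.bc f (SekSuwa.G R lam)) P)
    (hP : NonAbH1.IsTorsorFor Scheme.fppfPrecoverage a) :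
    NonAbH1.IsTorsorFor Scheme.zariskiPrecoverage a := by
  obtain ⟨hps, Rc, hRc, hsec⟩ := hP
  have hlocq : NonAbH1.IsLocallyTrivialFor Scheme.fpqcPrecoverage P :=
    ⟨Rc, Scheme.fppfPrecoverage_le_fpqcPrecoverage _ hRc, hsec⟩
  obtain ⟨P', k, hk⟩ := Groth.Agent.Lib.Helper5.TorsTwist.exists_pushforward_torsorSch
    (uu R lam f) ⟨P, a, hps, hlocq⟩
  change P ⟶ P'.X at k
  change a.act ≫ k = lift (fst _ P ≫ uu R lam f) (snd _ P ≫ k) ≫ P'.act.act at hk
  have hsm : Smooth P'.X.hom :=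
    Groth.Agent.Lib.Helper9.TorsorSch.prop_of_isTorsorFor_fpqc @Smooth inferInstance P'.act
      P'.isTorsor inferInstance
  have hsurj : Surjective P'.X.hom :=
    Groth.Agent.Lib.Helper9.TorsorSch.prop_of_isTorsorFor_fpqc @Surjective inferInstance P'.act
      P'.isTorsor inferInstance
  haveI hlfp : LocallyOfFinitePresentation P.hom :=
    Groth.Agent.Lib.Helper9.TorsorSch.prop_of_isTorsorFor_fpqc @LocallyOfFinitePresentation
      inferInstance a ⟨hps, hlocq⟩ inferInstance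
  refine ⟨hps, isLocallyTrivialFor_zariski_of_local_flat P ?_⟩
  intro A _ j hj
  obtain ⟨s0, hs0⟩ := hH90 P'.X P'.act P'.isTorsor.1 hsm hsurj A j
  let Uo : Over X := Over.mk j
  let σ' : Uo ⟶ P'.X := Over.homMk s0 hs0
  haveI : IsAffine Uo.left := by
    change IsAffine (Spec A)
    infer_instance
  haveI : Flat (Uo.hom ≫ f) := by
    change Flat (j ≫ f)
    infer_instance
  haveI : IsLocalRing Γ(Uo.left, ⊤) := by
    change IsLocalRing Γ(Spec A, ⊤)
    exact (Scheme.ΓSpecIso A).commRingCatIsoToRingEquiv.symm.isLocalRing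
  exact hasSection_rel R lam f hlam hL P a hps hlocq P'.X P'.act P'.isTorsor.1 k hk Uo σ'
    (hunitloc Uo)

end Groth.Agent.Lib.Lead.SekZar
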