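import Groth.Agent.Lib.Lead.IdealGG
import Groth.Agent.Lib.Lead.QCohPush
import Groth.Agent.Lib.Helper2.LocFreeAff

/-!
# Serre's criterion for affineness (lead seat library)
-/

set_option autoImplicit false
universe u

open AlgebraicGeometry CategoryTheory Opposite TopologicalSpace MonoidalCategory Limits

namespace Groth.Agent.Lib.Lead.Inv

open Groth.Agent.Lib.Lead.QCohAff Groth.Agent.Lib.Helper22.IdealModAff
  Groth.Agent.Lib.Helper35.GlobGen

variable {X : Scheme.{u}}

/-- A morphism of modules which is locally surjective on sections is an epimorphism. -/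
theorem epi_of_locSurj {F G : X.Modules} (p : F ⟶ G)
    (h : ∀ (U : X.Opens) (t : Γ(G, U)) (x : X), x ∈ U → ∃ (W : X.Opens) (hW : W ≤ U), x ∈ W ∧
      ∃ z : Γ(F, W), (p.app W).hom z = G.presheaf.map (homOfLE hW).op t) : Epi p := by
  have h1 : Epi ((SheafOfModules.toSheaf _).map p) := by
    refine (CategoryTheory.Sheaf.isLocallySurjective_iff_epi'
      (J := Opens.grothendieckTopology X) AddCommGrpCat _).mp ?_
    refine (TopCat.Presheaf.isLocallySurjective_iff (X := X.toTopCat) _).mpr ?_
    intro U t x hx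
    obtain ⟨W, hW, hxW, z, hz⟩ := h U t x hx
    exact ⟨W, hW, ⟨z, hz⟩, hxW⟩
  exact Functor.epi_of_epi_map (SheafOfModules.toSheaf _) h1

/-- Evaluation at a point, as a morphism of modules `O_X ⟶ i_* O_{κ(x)}`. -/
noncomputable def evPt (x : X) : Coh.structureModule X ⟶
    (Scheme.Modules.pushforward (X.fromSpecResidueField x)).obj
      (Coh.structureModule (Spec (X.residueField x))) :=
  ClSub.unitToPush (X.fromSpecResidueField x)

theorem evPt_app (x : X) (W : X.Opens) (a : Γ(X, W)) :
    ((evPt x).app W).hom a = ((X.fromSpecResidueField x).app W).hom a := rfl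

/-- The inclusion of an ideal sheaf, as a morphism of modules. -/
noncomputable def inclHom (I : X.IdealSheafData) : ClSub.idealMod I ⟶ Coh.structureModule X :=
  ClSub.idealModι I

instance (I : X.IdealSheafData) : Mono (inclHom I) := by
  unfold inclHom ClSub.idealModι
  exact equalizer.ι_mono

theorem inclHom_app (I : X.IdealSheafData) (W : X.Opens) (t : Γ(ClSub.idealMod I, W)) :
    ((inclHom I).app W).hom t = incl I W t := rfl

theorem epi_inclHom_evPt (I : X.IdealSheafData) (x : X) (hx : IsClosed ({x} : Set X))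
    (hxI : x ∉ I.support) : Epi (inclHom I ≫ evPt x) := by
  haveI : IsClosedImmersion (X.fromSpecResidueField x) :=
    isClosed_singleton_iff_isClosedImmersion.mp hx
  apply epi_of_locSurj
  intro V t y hy
  by_cases hyx : y = x
  · subst hyx
    obtain ⟨_, ⟨W, hW, rfl⟩, hyW, hWV⟩ :=
      X.isBasis_affineOpens.exists_subset_of_mem_open hy V.isOpen
    have h1 : y ∉ X.zeroLocus (U := W) (I.ideal ⟨W, hW⟩ : Set Γ(X, W)) := fun h =>
      hxI ((Scheme.IdealSheafData.mem_support_iff_of_mem (I := I) (U := ⟨W, hW⟩) hyW).mpr h)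
    rw [Scheme.mem_zeroLocus_iff] at h1
    push Not at h1
    obtain ⟨a, haI, hya⟩ := h1
    obtain ⟨a', rfl⟩ := (mem_ideal_iff I ⟨W, hW⟩ a).mp haI
    have hW'W : X.basicOpen (incl I W a') ≤ W := X.basicOpen_le _
    have hW'V : X.basicOpen (incl I W a') ≤ V := hW'W.trans hWV
    refine ⟨X.basicOpen (incl I W a'), hW'V, hya, ?_⟩
    have hu := isUnit_res_basicOpen (incl I W a')
    rw [← incl_res I hW'W] at hu
    obtain ⟨b, hb⟩ := (X.fromSpecResidueField y).app_surjective _ (hW.basicOpen (incl I W a'))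
      (((Scheme.Modules.pushforward (X.fromSpecResidueField y)).obj
        (Coh.structureModule (Spec (X.residueField y)))).presheaf.map (homOfLE hW'V).op t)
    refine ⟨(b * ↑hu.unit⁻¹) • (ClSub.idealMod I).presheaf.map (homOfLE hW'W).op a', ?_⟩
    rw [Scheme.Modules.Hom.comp_app]
    change ((evPt y).app _).hom (((inclHom I).app _).hom _) = _
    rw [inclHom_app, map_smul, smul_eq_mul, mul_assoc, IsUnit.val_inv_mul, mul_one, evPt_app]
    exact hb
  · have hWopen : IsOpen ((V : Set X) ∩ ({x} : Set X)ᶜ) := V.isOpen.inter hx.isOpen_compl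
    let W : X.Opens := ⟨_, hWopen⟩
    have hWV : W ≤ V := fun _ h => h.1
    have hxW : x ∉ W := fun h => h.2 rfl
    refine ⟨W, hWV, ⟨hy, hyx⟩, 0, ?_⟩
    have hbot : (X.fromSpecResidueField x) ⁻¹ᵁ W = ⊥ := by
      ext z
      simp only [Scheme.Hom.mem_preimage, Opens.coe_bot, Set.mem_empty_iff_false, iff_false]
      intro hz
      apply hxW
      have : (X.fromSpecResidueField x) z ∈ Set.range (X.fromSpecResidueField x) := ⟨z, rfl⟩
      rw [Scheme.range_fromSpecResidueField] at this
      rw [← (this : _ = x)]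
      exact hz
    have hss : Subsingleton Γ(Spec (X.residueField x), (X.fromSpecResidueField x) ⁻¹ᵁ W) := by
      rw [hbot]; infer_instance
    exact @Subsingleton.elim _ hss _ _

/-- Serre's criterion, step 1: a closed point has an affine neighbourhood of the form `X_f`. -/
theorem exists_affine_basicOpen_of_isClosed_singleton
    (H1 : ∀ (F F'' : X.Modules) (i : F ⟶ Coh.structureModule X) (p : F ⟶ F''), Mono i → Epi p →
      F.IsQuasicoherent → F''.IsQuasicoherent → Function.Surjective (p.app ⊤).hom)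
    (x : X) (hx : IsClosed ({x} : Set X)) :
    ∃ f : Γ(X, ⊤), IsAffineOpen (X.basicOpen f) ∧ x ∈ X.basicOpen f := by
  obtain ⟨_, ⟨U, hU, rfl⟩, hxU, -⟩ :=
    X.isBasis_affineOpens.exists_subset_of_mem_open (Set.mem_univ x) isOpen_univ
  let Z : TopologicalSpace.Closeds X := ⟨(U : Set X)ᶜ, U.isOpen.isClosed_compl⟩
  let I : X.IdealSheafData := Scheme.IdealSheafData.vanishingIdeal Z
  have hsupp : (I.support : Set X) = (U : Set X)ᶜ :=
    Scheme.IdealSheafData.coe_support_vanishingIdeal Z
  have hxI : x ∉ I.support := by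
    intro hx'
    have : x ∈ (I.support : Set X) := hx'
    rw [hsupp] at this
    exact this hxU
  haveI : IsClosedImmersion (X.fromSpecResidueField x) :=
    isClosed_singleton_iff_isClosedImmersion.mp hx
  haveI : (Coh.structureModule (Spec (X.residueField x))).IsQuasicoherent :=
    structureModule_isQuasicoherent _
  have hq : ((Scheme.Modules.pushforward (X.fromSpecResidueField x)).obj
      (Coh.structureModule (Spec (X.residueField x)))).IsQuasicoherent := inferInstance
  obtain ⟨g, hg⟩ := H1 _ _ (inclHom I) (inclHom I ≫ evPt x) inferInstance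
    (epi_inclHom_evPt I x hx hxI) (isQuasicoherent_idealMod I) hq
    (show Γ(Spec (X.residueField x), (X.fromSpecResidueField x) ⁻¹ᵁ ⊤) from 1)
  rw [Scheme.Modules.Hom.comp_app] at hg
  replace hg : ((X.fromSpecResidueField x).app ⊤).hom (incl I ⊤ g) = 1 := hg
  refine ⟨incl I ⊤ g, ?_, ?_⟩
  · have hle : X.basicOpen (incl I ⊤ g) ≤ U := by
      intro y hy
      by_contra hyU
      have : y ∈ (I.support : Set X) := by rw [hsupp]; exact hyU
      exact basicOpen_incl_disjoint_support I g y this hy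
    have heq : X.basicOpen (incl I ⊤ g) =
        X.basicOpen (X.presheaf.map (homOfLE (le_top : U ≤ ⊤)).op (incl I ⊤ g)) := by
      rw [Scheme.basicOpen_res]
      exact (inf_eq_right.mpr hle).symm
    rw [heq]
    exact hU.basicOpen _
  · have h1 : (X.fromSpecResidueField x) ⁻¹ᵁ X.basicOpen (incl I ⊤ g) = ⊤ := by
      rw [Scheme.preimage_basicOpen]
      have : ((X.fromSpecResidueField x).app ⊤) (incl I ⊤ g) = 1 := hg
      rw [this, Scheme.basicOpen_of_isUnit _ isUnit_one]
      rfl
    have h2 : (IsLocalRing.closedPoint (X.residueField x)) ∈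
        (X.fromSpecResidueField x) ⁻¹ᵁ X.basicOpen (incl I ⊤ g) := by
      rw [h1]; trivial
    have h3 := Scheme.fromSpecResidueField_apply x (IsLocalRing.closedPoint (X.residueField x))
    rw [← h3]
    exact h2

/-- evaluation of morphisms on a fixed section, as an additive map -/
noncomputable def evalAdd {F G : X.Modules} (U : X.Opens) (z : Γ(F, U)) : (F ⟶ G) →+ Γ(G, U) where
  toFun φ := (φ.app U).hom z
  map_zero' := rfl
  map_add' _ _ := rfl

section Free

variable {C : Type*} [Category C] [Preadditive C] {n : ℕ} (A : C)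
  [HasCoproduct (fun _ : Fin n => A)]

/-- the `j`-th coordinate projection of a finite copower -/
noncomputable def copowerπ (j : Fin n) : (∐ fun _ : Fin n => A) ⟶ A :=
  Sigma.desc (fun k => if k = j then 𝟙 A else 0)

theorem copower_total :
    ∑ j : Fin n, copowerπ A j ≫ Sigma.ι (fun _ : Fin n => A) j = 𝟙 (∐ fun _ : Fin n => A) := by
  apply Sigma.hom_ext
  intro k
  rw [Preadditive.comp_sum, Category.comp_id]
  rw [Finset.sum_eq_single k]
  · simp [copowerπ]
  · intro j _ hjk
    simp [copowerπ, Ne.symm hjk]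
  · intro h
    exact absurd (Finset.mem_univ k) h

end Free

/-- The morphism `O^n ⟶ O` given by `n` global functions. -/
noncomputable def freeDesc {n : ℕ} (f : Fin n → Γ(X, ⊤)) :
    FlatMod.freeMod X n ⟶ Coh.structureModule X :=
  Sigma.desc (fun i => secHom (Coh.structureModule X) (f i))

theorem epi_freeDesc {n : ℕ} (f : Fin n → Γ(X, ⊤)) (hcov : ∀ x : X, ∃ i, x ∈ X.basicOpen (f i)) :
    Epi (freeDesc f) := by
  apply epi_of_locSurj
  intro U t x hx
  obtain ⟨i, hi⟩ := hcov x
  refine ⟨U ⊓ X.basicOpen (f i), inf_le_left, ⟨hx, hi⟩, ?_⟩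
  have hu : IsUnit (X.presheaf.map (homOfLE (le_top : U ⊓ X.basicOpen (f i) ≤ ⊤)).op (f i)) := by
    have h1 := isUnit_res_basicOpen (f i)
    have h2 := h1.map (X.presheaf.map
      (homOfLE (inf_le_right : U ⊓ X.basicOpen (f i) ≤ X.basicOpen (f i))).op).hom
    rw [res_resX] at h2
    exact h2
  let c : Γ(X, U ⊓ X.basicOpen (f i)) :=
    X.presheaf.map (homOfLE (inf_le_left : U ⊓ X.basicOpen (f i) ≤ U)).op t * ↑hu.unit⁻¹
  refine ⟨((Sigma.ι (fun _ : Fin n => Coh.structureModule X) i).app _).hom c, ?_⟩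
  have e1 : Sigma.ι (fun _ : Fin n => Coh.structureModule X) i ≫ freeDesc f =
      secHom (Coh.structureModule X) (f i) := by
    rw [freeDesc, Sigma.ι_desc]
  have e2 := congrArg (fun φ : Coh.structureModule X ⟶ Coh.structureModule X =>
    (Scheme.Modules.Hom.app φ (U ⊓ X.basicOpen (f i))).hom c) e1
  refine e2.trans ((secHom_app (Coh.structureModule X) (f i) _ c).trans ?_)
  change c * X.presheaf.map (homOfLE (le_top : U ⊓ X.basicOpen (f i) ≤ ⊤)).op (f i) = _
  simp only [c]
  rw [mul_assoc, IsUnit.val_inv_mul, mul_one]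
  rfl

theorem span_eq_top_of_surjective {n : ℕ} (f : Fin n → Γ(X, ⊤))
    (hs : Function.Surjective ((freeDesc f).app ⊤).hom) :
    Ideal.span (Set.range f) = ⊤ := by
  rw [Ideal.eq_top_iff_one]
  obtain ⟨z, hz⟩ := hs (show Γ(Coh.structureModule X, ⊤) from (1 : Γ(X, ⊤)))
  have h1 : evalAdd ⊤ z (𝟙 (FlatMod.freeMod X n) ≫ freeDesc f) = (1 : Γ(X, ⊤)) := by
    rw [Category.id_comp]; exact hz
  rw [← copower_total (Coh.structureModule X), Preadditive.sum_comp, map_sum] at h1
  rw [← h1]
  apply Ideal.sum_mem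
  intro j _
  rw [Category.assoc]
  have e1 : Sigma.ι (fun _ : Fin n => Coh.structureModule X) j ≫ freeDesc f =
      secHom (Coh.structureModule X) (f j) := by
    rw [freeDesc, Sigma.ι_desc]
  rw [e1]
  change ((copowerπ (Coh.structureModule X) j ≫ secHom (Coh.structureModule X) (f j)).app ⊤).hom z
    ∈ _
  rw [Scheme.Modules.Hom.comp_app]
  change ((secHom (Coh.structureModule X) (f j)).app ⊤).hom
    (((copowerπ (Coh.structureModule X) j).app ⊤).hom z) ∈ _
  refine (congrArg (· ∈ Ideal.span (Set.range f))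
    (secHom_app (Coh.structureModule X) (f j) ⊤ _)).mpr ?_
  change _ * X.presheaf.map (homOfLE (le_refl _)).op (f j) ∈ _
  refine Ideal.mul_mem_left _ _ ?_
  apply Ideal.subset_span
  refine ⟨j, ?_⟩
  have : (homOfLE (le_refl (⊤ : X.Opens))).op = 𝟙 (op ⊤) := rfl
  rw [this, X.presheaf.map_id]
  rfl


/-- Serre's criterion, step 2: every point has an affine neighbourhood of the form `X_f`. -/
theorem exists_affine_basicOpen [CompactSpace X]
    (H1 : ∀ (F F'' : X.Modules) (i : F ⟶ Coh.structureModule X) (p : F ⟶ F''), Mono i → Epi p →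
      F.IsQuasicoherent → F''.IsQuasicoherent → Function.Surjective (p.app ⊤).hom)
    (y : X) : ∃ f : Γ(X, ⊤), IsAffineOpen (X.basicOpen f) ∧ y ∈ X.basicOpen f := by
  obtain ⟨x, hxy, hx⟩ := (isClosed_closure (s := ({y} : Set X))).exists_closed_singleton
    ⟨y, subset_closure rfl⟩
  obtain ⟨f, hf, hxf⟩ := exists_affine_basicOpen_of_isClosed_singleton H1 x hx
  refine ⟨f, hf, ?_⟩
  obtain ⟨z, hz, hzy⟩ := mem_closure_iff.mp hxy _ (X.basicOpen f).isOpen hxf
  rw [Set.mem_singleton_iff] at hzy
  exact hzy ▸ hz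

/-- Serre's criterion for affineness. -/
theorem isAffine_of_serre [CompactSpace X]
    (H1 : ∀ (F F'' : X.Modules) (i : F ⟶ Coh.structureModule X) (p : F ⟶ F''), Mono i → Epi p →
      F.IsQuasicoherent → F''.IsQuasicoherent → Function.Surjective (p.app ⊤).hom)
    (H2 : ∀ (n : ℕ) (p : FlatMod.freeMod X n ⟶ Coh.structureModule X), Epi p →
      Function.Surjective (p.app ⊤).hom) : IsAffine X := by
  choose f hf hyf using exists_affine_basicOpen H1
  obtain ⟨t, ht⟩ := isCompact_univ.elim_finite_subcover (fun y : X => (X.basicOpen (f y) : Set X))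
    (fun y => (X.basicOpen (f y)).isOpen) (fun y _ => Set.mem_iUnion.mpr ⟨y, hyf y⟩)
  let f' : Fin t.card → Γ(X, ⊤) := fun j => f (t.equivFin.symm j).1
  have hcov : ∀ x : X, ∃ j, x ∈ X.basicOpen (f' j) := by
    intro x
    obtain ⟨y, hy⟩ := Set.mem_iUnion.mp (ht (Set.mem_univ x))
    obtain ⟨hyt, hxy⟩ := Set.mem_iUnion.mp hy
    refine ⟨t.equivFin ⟨y, hyt⟩, ?_⟩
    simp only [f', Equiv.symm_apply_apply]
    exact hxy
  have hspan := span_eq_top_of_surjective f' (H2 _ (freeDesc f') (epi_freeDesc f' hcov))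
  exact isAffine_of_isAffineOpen_basicOpen (Set.range f') hspan (by rintro _ ⟨j, rfl⟩; exact hf _)

end Groth.Agent.Lib.Lead.Inv
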