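import Groth.Agent.Lib.Lead.QCohAff8
import Mathlib.Algebra.Module.LocalizedModule.Submodule

/-!
# Spans of sections and localization on basic opens (lead seat library)

For `F` quasi-coherent, `U` affine, `a ∈ Γ(X, U)`, and sections `t i ∈ Γ(F, U)`:
* `span_res_eq_top`: if the `t i` span `Γ(F, U)` then their restrictions span `Γ(F, D(a))`;
* `exists_pow_smul_mem_span`: if `m|_{D(a)}` is in the span of the restrictions `t i|_{D(a)}`
  then `a ^ k • m` is in the span of the `t i` for some `k`.
-/

set_option autoImplicit false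
universe u

open AlgebraicGeometry CategoryTheory Opposite TopologicalSpace

namespace Groth.Agent.Lib.Lead.SpanLoc

open Groth.Agent.Lib.Lead.QCohAff

variable {X : Scheme.{u}} (F : X.Modules) [F.IsQuasicoherent] {U : X.Opens}
  (hU : IsAffineOpen U) (a : Γ(X, U)) {ι : Type*} (t : ι → Γ(F, U))

include hU in
theorem span_res_eq_localized' :
    haveI := hU.isLocalization_basicOpen a
    haveI := isLocalizedModule_resL F hU a
    Submodule.span Γ(X, X.basicOpen a) (Set.range fun i => resL F U a (t i)) =
      (Submodule.span Γ(X, U) (Set.range t)).localized' Γ(X, X.basicOpen a)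
        (Submonoid.powers a) (resL F U a) := by
  haveI := hU.isLocalization_basicOpen a
  haveI := isLocalizedModule_resL F hU a
  rw [Submodule.localized'_span, ← Set.range_comp]
  rfl

include hU in
theorem span_res_eq_top (ht : Submodule.span Γ(X, U) (Set.range t) = ⊤) :
    Submodule.span Γ(X, X.basicOpen a) (Set.range fun i => resL F U a (t i)) = ⊤ := by
  haveI := hU.isLocalization_basicOpen a
  haveI := isLocalizedModule_resL F hU a
  rw [span_res_eq_localized' F hU a t, ht, Submodule.localized'_top]

include hU in
theorem exists_pow_smul_mem_span (m : Γ(F, U))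
    (hm : resL F U a m ∈
      Submodule.span Γ(X, X.basicOpen a) (Set.range fun i => resL F U a (t i))) :
    ∃ k : ℕ, a ^ k • m ∈ Submodule.span Γ(X, U) (Set.range t) := by
  haveI := hU.isLocalization_basicOpen a
  haveI := isLocalizedModule_resL F hU a
  rw [span_res_eq_localized' F hU a t, Submodule.mem_localized'] at hm
  obtain ⟨n', hn', s, hs⟩ := hm
  rw [IsLocalizedModule.mk'_eq_iff] at hs
  have hs' : resL F U a n' = resL F U a (s.1 • m) := by
    rw [map_smul]
    exact hs
  obtain ⟨c, hc⟩ := IsLocalizedModule.exists_of_eq (S := Submonoid.powers a) hs'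
  obtain ⟨_, k1, rfl⟩ := c
  obtain ⟨_, k2, rfl⟩ := s
  refine ⟨k1 + k2, ?_⟩
  have : a ^ (k1 + k2) • m = a ^ k1 • n' := by
    rw [pow_add, mul_smul]
    exact hc.symm
  rw [this]
  exact Submodule.smul_mem _ _ hn'

end Groth.Agent.Lib.Lead.SpanLoc
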