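import Mathlib
import Groth.Prelude.Def_NonAbH2
import Groth.Prelude.Def_ActBC
import Groth.Agent.Lib.Lead.TorsorPush

/-!
# Equivariant morphisms of pseudo-torsors, and sections of the associated bundle `P ×^G Q`

* `isIso_of_equivariant`: an equivariant morphism `P ⟶ Q` of pseudo-torsors is an isomorphism as soon
  as there is any morphism `Q ⟶ P`.
* `exists_equivariant_of_section`: a section of an associated bundle `W = P ×^G Q` (given by its
  invariant map `P ⊗ Q ⟶ W` and cartesian square) yields an equivariant morphism `P ⟶ Q`.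
* `exists_section_of_equivariant_bc`: an equivariant morphism between the base changes of `P`, `Q`
  along `j : E ⟶ X` yields an `E`-point of `W` (descent along the fpqc cover `P_E ⟶ E`).
-/

set_option autoImplicit false
universe u
open CategoryTheory CategoryTheory.Limits AlgebraicGeometry MonoidalCategory CartesianMonoidalCategory
open MonObj

namespace Groth.Agent.Lib.Lead.TorsorIsom

open Groth.Agent.Lib.Lead

variable {X : Scheme.{u}}

section A

variable {G P Q : Over X} [GrpObj G] (a : AlgGrp.Action G P) (b : AlgGrp.Action G Q)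

theorem equivariant_pt (m : P ⟶ Q) (hm : a.act ≫ m = (G ◁ m) ≫ b.act) {T : Over X} (k : T ⟶ G)
    (x : T ⟶ P) : (lift k x ≫ a.act) ≫ m = lift k (x ≫ m) ≫ b.act := by
  rw [Category.assoc, hm, ← Category.assoc]
  congr 1
  apply CartesianMonoidalCategory.hom_ext <;> simp

theorem mono_of_equivariant (ha : NonAbH1.IsPseudoTorsorSch a) (hb : NonAbH1.IsPseudoTorsorSch b)
    (m : P ⟶ Q) (hm : a.act ≫ m = (G ◁ m) ≫ b.act) {T : Over X} (x y : T ⟶ P)
    (e : x ≫ m = y ≫ m) : x = y := by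
  obtain ⟨k, hk⟩ := TorsorPush.exists_act_eq a.act ha x y
  have h1 : y ≫ m = lift k (x ≫ m) ≫ b.act := by rw [← hk, equivariant_pt a b m hm]
  have h2 : x ≫ m = lift (toUnit _ ≫ η[G]) (x ≫ m) ≫ b.act := (TorsorPush.one_act' b _).symm
  have h3 : k = toUnit _ ≫ η[G] := by
    apply TorsorPush.act_injective b.act hb (x ≫ m)
    rw [← h1, ← h2, e]
  rw [← hk, h3, TorsorPush.one_act']

theorem isIso_of_equivariant (ha : NonAbH1.IsPseudoTorsorSch a) (hb : NonAbH1.IsPseudoTorsorSch b)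
    (m : P ⟶ Q) (hm : a.act ≫ m = (G ◁ m) ≫ b.act) (m' : Q ⟶ P) : IsIso m := by
  obtain ⟨k, hk⟩ := TorsorPush.exists_act_eq b.act hb (m' ≫ m) (𝟙 Q)
  have hn : (lift k m' ≫ a.act) ≫ m = 𝟙 Q := by rw [equivariant_pt a b m hm, hk]
  refine ⟨lift k m' ≫ a.act, ?_, hn⟩
  apply mono_of_equivariant a b ha hb m hm
  rw [Category.assoc, hn, Category.comp_id, Category.id_comp]

theorem exists_equivariant_of_section {W : Over X}
    (φ : P ⊗ Q ⟶ W) (ψ : W ⟶ 𝟙_ (Over X))
    (hinv : lift ((G ◁ fst P Q) ≫ a.act) ((G ◁ snd P Q) ≫ b.act) ≫ φ = snd G (P ⊗ Q) ≫ φ)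
    (hpb : IsPullback (fst P Q).left φ.left (toUnit P).left ψ.left)
    (σ : 𝟙_ (Over X) ⟶ W) : ∃ m : P ⟶ Q, a.act ≫ m = (G ◁ m) ≫ b.act := by
  have hσψ : σ ≫ ψ = 𝟙 _ := (toUnit_unique _ _)
  have h0 : (𝟙 P : P ⟶ P).left ≫ (toUnit P).left = (toUnit P ≫ σ).left ≫ ψ.left := by
    rw [← Over.comp_left, ← Over.comp_left, Category.assoc, hσψ]
    simp
  obtain ⟨s0, hs0f, hs0φ⟩ : ∃ s0 : P.left ⟶ (P ⊗ Q).left,
      s0 ≫ (fst P Q).left = (𝟙 P : P ⟶ P).left ∧ s0 ≫ φ.left = (toUnit P ≫ σ).left :=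
    ⟨hpb.lift _ _ h0, hpb.lift_fst _ _ _, hpb.lift_snd _ _ _⟩
  have hs0 : s0 ≫ (P ⊗ Q).hom = P.hom := by
    rw [← Over.w (fst P Q), ← Category.assoc, hs0f]
    simp
  obtain ⟨s, hs⟩ : ∃ s : P ⟶ P ⊗ Q, s.left = s0 := ⟨Over.homMk s0 hs0, rfl⟩
  have hsf : s ≫ fst P Q = 𝟙 P := by
    ext
    rw [Over.comp_left, hs]
    exact hs0f
  have hsφ : s ≫ φ = toUnit P ≫ σ := by
    ext
    rw [Over.comp_left, hs]
    exact hs0φ
  refine ⟨s ≫ snd P Q, ?_⟩
  have key : (G ◁ s) ≫ lift ((G ◁ fst P Q) ≫ a.act) ((G ◁ snd P Q) ≫ b.act) = a.act ≫ s := by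
    apply Over.OverMorphism.ext
    apply hpb.hom_ext
    · rw [← Over.comp_left, ← Over.comp_left]
      congr 1
      rw [Category.assoc, lift_fst, ← MonoidalCategory.whiskerLeft_comp_assoc, hsf, Category.assoc,
        hsf]
      simp
    · rw [← Over.comp_left, ← Over.comp_left]
      congr 1
      rw [Category.assoc, hinv, Category.assoc, hsφ, ← Category.assoc, whiskerLeft_snd,
        Category.assoc, hsφ]
      rw [← Category.assoc, ← Category.assoc]
      congr 1
      exact toUnit_unique _ _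
  have h2 := congrArg (· ≫ snd P Q) key
  simp only [Category.assoc, lift_snd] at h2
  rw [MonoidalCategory.whiskerLeft_comp, Category.assoc, h2]

end A

section C

variable {G P Q : Over X} [GrpObj G] (a : AlgGrp.Action G P) (b : AlgGrp.Action G Q)

/-- An equivariant morphism between the base changes of `P` and `Q` along `j : E ⟶ X` gives an
`E`-point of any target `W` of a map `P ⊗ Q ⟶ W` invariant under the diagonal action (descent
along the fpqc cover `P ×_X E ⟶ E`). -/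
theorem exists_section_of_equivariant_bc (ha : NonAbH1.IsPseudoTorsorSch a)
    [Flat P.hom] [Surjective P.hom] [QuasiCompact P.hom] {W : Over X} (φ : P ⊗ Q ⟶ W)
    (hinv : lift ((G ◁ fst P Q) ≫ a.act) ((G ◁ snd P Q) ≫ b.act) ≫ φ = snd G (P ⊗ Q) ≫ φ)
    {E : Scheme.{u}} (j : E ⟶ X) (mE : Red.bc j P ⟶ Red.bc j Q)
    (hmE : (a.bc j).act ≫ mE = (Red.bc j G ◁ mE) ≫ (b.bc j).act) :
    ∃ t : E ⟶ W.left, t ≫ W.hom = j := by
  let T₀ : Over E := Red.bc j P
  let x₀ : (Over.map j).obj T₀ ⟶ P := ((Over.mapPullbackAdj j).homEquiv T₀ P).symm (𝟙 T₀)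
  let y₀ : (Over.map j).obj T₀ ⟶ Q := ((Over.mapPullbackAdj j).homEquiv T₀ Q).symm mE
  let γ0 : (Over.map j).obj T₀ ⟶ W := lift x₀ y₀ ≫ φ
  let π : pullback P.hom j ⟶ E := pullback.snd P.hom j
  have hpt : NonAbH1.IsPseudoTorsorSch (a.bc j) := NonAbH1.isPseudoTorsorSch_bc j ha
  have hdesc : ∀ {Z : Scheme.{u}} (g₁ g₂ : Z ⟶ pullback P.hom j), g₁ ≫ π = g₂ ≫ π →
      g₁ ≫ γ0.left = g₂ ≫ γ0.left := by
    intro Z g₁ g₂ h12
    let T2 : Over E := Over.mk (g₁ ≫ π)
    let G₁ : T2 ⟶ T₀ := Over.homMk g₁ rfl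
    let G₂ : T2 ⟶ T₀ := Over.homMk g₂ h12.symm
    obtain ⟨k, hk⟩ := TorsorPush.exists_act_eq (a.bc j).act hpt G₂ G₁
    let k₀ : (Over.map j).obj T2 ⟶ G := ((Over.mapPullbackAdj j).homEquiv T2 G).symm k
    let x₁ : (Over.map j).obj T2 ⟶ P := ((Over.mapPullbackAdj j).homEquiv T2 P).symm G₁
    let x₂ : (Over.map j).obj T2 ⟶ P := ((Over.mapPullbackAdj j).homEquiv T2 P).symm G₂
    let y₁ : (Over.map j).obj T2 ⟶ Q := ((Over.mapPullbackAdj j).homEquiv T2 Q).symm (G₁ ≫ mE)
    let y₂ : (Over.map j).obj T2 ⟶ Q := ((Over.mapPullbackAdj j).homEquiv T2 Q).symm (G₂ ≫ mE)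
    have c1 : x₁ = lift k₀ x₂ ≫ a.act := by
      apply ((Over.mapPullbackAdj j).homEquiv T2 P).injective
      rw [← AlgGrp.Action.lift_homEquiv_bc_act]
      simp only [k₀, x₁, x₂, Equiv.apply_symm_apply]
      exact hk.symm
    have c2 : y₁ = lift k₀ y₂ ≫ b.act := by
      apply ((Over.mapPullbackAdj j).homEquiv T2 Q).injective
      rw [← AlgGrp.Action.lift_homEquiv_bc_act]
      simp only [k₀, y₁, y₂, Equiv.apply_symm_apply]
      rw [← hk, Category.assoc, hmE, ← Category.assoc]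
      congr 1
      apply CartesianMonoidalCategory.hom_ext <;> simp
    have c3 : lift x₁ y₁ ≫ φ = lift x₂ y₂ ≫ φ := by
      have e1 : lift x₁ y₁ = lift k₀ (lift x₂ y₂) ≫
          lift ((G ◁ fst P Q) ≫ a.act) ((G ◁ snd P Q) ≫ b.act) := by
        rw [c1, c2]
        apply CartesianMonoidalCategory.hom_ext
        · rw [lift_fst, Category.assoc, lift_fst, ← Category.assoc]
          congr 1
          apply CartesianMonoidalCategory.hom_ext <;> simp
        · rw [lift_snd, Category.assoc, lift_snd, ← Category.assoc]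
          congr 1
          apply CartesianMonoidalCategory.hom_ext <;> simp
      rw [e1, Category.assoc, hinv, ← Category.assoc, lift_snd]
    have n1 : x₁ = (Over.map j).map G₁ ≫ x₀ := by
      simp only [x₁, x₀]
      rw [← Adjunction.homEquiv_naturality_left_symm, Category.comp_id]
    have n2 : x₂ = (Over.map j).map G₂ ≫ x₀ := by
      simp only [x₂, x₀]
      rw [← Adjunction.homEquiv_naturality_left_symm, Category.comp_id]
    have n3 : y₁ = (Over.map j).map G₁ ≫ y₀ := by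
      simp only [y₁, y₀]
      rw [← Adjunction.homEquiv_naturality_left_symm]
    have n4 : y₂ = (Over.map j).map G₂ ≫ y₀ := by
      simp only [y₂, y₀]
      rw [← Adjunction.homEquiv_naturality_left_symm]
    have d1 : lift x₁ y₁ ≫ φ = (Over.map j).map G₁ ≫ γ0 := by
      rw [n1, n3, ← comp_lift_assoc]
    have d2 : lift x₂ y₂ ≫ φ = (Over.map j).map G₂ ≫ γ0 := by
      rw [n2, n4, ← comp_lift_assoc]
    have d3 := congrArg CommaMorphism.left (d1.symm.trans (c3.trans d2))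
    exact d3
  refine ⟨EffectiveEpi.desc π γ0.left hdesc, ?_⟩
  rw [← cancel_epi π, ← Category.assoc, EffectiveEpi.fac]
  exact Over.w γ0

end C

end Groth.Agent.Lib.Lead.TorsorIsom
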