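import Mathlib
import Groth.Prelude.Def_NonAbH2
import Groth.Prelude.Def_ActBC
import Groth.Agent.S0084
import Groth.Agent.Lib.Helper5.PrincAssoc
import Groth.Agent.Lib.Helper5.TorsTwist7
import Groth.Agent.Lib.Helper14.QuotStGeom
import Groth.Agent.Lib.Lead.TorsorFinite
import Groth.Agent.Lib.Lead.NormalSection2
import Groth.Agent.Lib.Lead.TorsorIsom

/-!
# Torsors under a finite flat group over a normal integral scheme: isomorphisms over a dense open
extend
-/

set_option autoImplicit false
universe u
open CategoryTheory CategoryTheory.Limits AlgebraicGeometry MonoidalCategory CartesianMonoidalCategory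
open MonObj

namespace Groth.Agent.Lib.Lead.TorsorIsom

open Groth.Agent.Lib.Lead Groth.Agent.Lib.Helper5

variable {X : Scheme.{u}}

theorem genericPoint_mem_of_dense [IsIntegral X] (U : X.Opens) (hU : Dense (U : Set X)) :
    genericPoint X ∈ U := by
  have h := (genericPoint_spec X).mem_open_set_iff U.2
  exact h.mpr (by simpa using hU.nonempty)

/-- Over a normal integral scheme, with `Q` finite over `X`: an equivariant morphism between the
restrictions of `P` and `Q` to a dense open gives an equivariant morphism `P ⟶ Q`. -/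
theorem exists_equivariant_extension [IsIntegral X] (hX : Pi1.IsNormalScheme X)
    {G P Q : Over X} [GrpObj G] (a : AlgGrp.Action G P) (b : AlgGrp.Action G Q)
    (ha : NonAbH1.IsPseudoTorsorSch a) [Flat P.hom] [Surjective P.hom] [QuasiCompact P.hom]
    [IsFinite Q.hom] (U : X.Opens) (hU : Dense (U : Set X))
    (mE : Red.bc U.ι P ⟶ Red.bc U.ι Q)
    (hmE : (a.bc U.ι).act ≫ mE = (Red.bc U.ι G ◁ mE) ≫ (b.bc U.ι).act) :
    ∃ m : P ⟶ Q, a.act ≫ m = (G ◁ m) ≫ b.act := by
  have hcart := TorsTwist.isPullback_toUnit_of_isPseudoTorsorSch a ha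
  have hsq : IsPullback a.act.left (snd G P).left (toUnit P).left (toUnit P).left :=
    hcart.map (Over.forget X)
  have hφ : (toUnit P).left = P.hom := Over.toUnit_left
  haveI : Flat (toUnit P).left := by rw [hφ]; infer_instance
  haveI : Surjective (toUnit P).left := by rw [hφ]; infer_instance
  haveI : QuasiCompact (toUnit P).left := by rw [hφ]; infer_instance
  haveI : IsAffineHom Q.hom := inferInstance
  obtain ⟨W, φ, ψ, hprop, hinv, hpb⟩ :=
    PrincAssoc.exists_assoc (Y := 𝟙_ (Over X)) a (toUnit P) hsq b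
  haveI : MorphismProperty.DescendsAlong @IsFinite
      (@Surjective ⊓ @Flat ⊓ @QuasiCompact : MorphismProperty Scheme.{u}) :=
    Groth.Agent.S0084.result
  have hfst : IsFinite (fst P Q).left := by
    change IsFinite (pullback.fst P.hom Q.hom)
    infer_instance
  have hfin : IsFinite ψ.left := hprop @IsFinite hfst
  have hW : W.hom = ψ.left := by
    have := Over.w ψ
    rw [← this]
    simp
  haveI : IsFinite W.hom := hW ▸ hfin
  obtain ⟨t, ht⟩ := exists_section_of_equivariant_bc a b ha φ hinv U.ι mE hmE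
  have hη : genericPoint X ∈ U := genericPoint_mem_of_dense U hU
  have hs : (U.fromSpecStalkOfMem (genericPoint X) hη ≫ t) ≫ W.hom =
      X.fromSpecStalk (genericPoint X) := by
    rw [Category.assoc, ht]
    exact U.fromSpecStalkOfMem_ι _ hη
  obtain ⟨σ, hσ, -⟩ := NormalSection.exists_section_extending hX W.hom _ hs
  exact exists_equivariant_of_section a b φ ψ hinv hpb (Over.homMk σ (by simpa using hσ))

section EquivIsoOps

variable {S : Scheme.{u}} {G A B C : Over S} [GrpObj G] {a : AlgGrp.Action G A}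
  {b : AlgGrp.Action G B} {c : AlgGrp.Action G C}

/-- inverse of an equivariant isomorphism -/
def equivIsoSymm (e : NonAbH1.EquivIso a b) : NonAbH1.EquivIso b a where
  iso := e.iso.symm
  comm := by
    rw [Iso.symm_hom, ← cancel_mono e.iso.hom, Category.assoc, Iso.inv_hom_id, Category.comp_id,
      Category.assoc, e.comm, ← Category.assoc, ← MonoidalCategory.whiskerLeft_comp, Iso.inv_hom_id,
      MonoidalCategory.whiskerLeft_id, Category.id_comp]

/-- composite of equivariant isomorphisms -/
def equivIsoTrans (e : NonAbH1.EquivIso a b) (f : NonAbH1.EquivIso b c) : NonAbH1.EquivIso a c where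
  iso := e.iso ≪≫ f.iso
  comm := by
    rw [Iso.trans_hom, ← Category.assoc, e.comm, Category.assoc, f.comm, ← Category.assoc,
      ← MonoidalCategory.whiskerLeft_comp]

/-- Equal classes in `H1Sch` come from an equivariant isomorphism. -/
theorem nonempty_equivIso_of_cl_eq {K : Precoverage Scheme.{u}} (P Q : NonAbH1.TorsorSch G K)
    (h : P.cl = Q.cl) : Nonempty (NonAbH1.EquivIso P.act Q.act) := by
  let pred : NonAbH1.H1Sch G K → Prop :=
    Quot.lift (fun P' : NonAbH1.TorsorSch G K => Nonempty (NonAbH1.EquivIso P'.act Q.act)) (by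
      rintro A B ⟨e⟩
      apply propext
      exact ⟨fun ⟨f⟩ => ⟨equivIsoTrans (equivIsoSymm e) f⟩, fun ⟨f⟩ => ⟨equivIsoTrans e f⟩⟩)
  have h1 : pred Q.cl := ⟨⟨Iso.refl _, by simp⟩⟩
  rw [← h] at h1
  exact h1

end EquivIsoOps

/-- **Injectivity of restriction to a dense open** for torsors under a finite flat group scheme over
a normal integral scheme. -/
theorem nonempty_equivIso_of_bc_opens [IsIntegral X] (hX : Pi1.IsNormalScheme X)
    (G : Over X) [GrpObj G] [IsFinite G.hom] [Flat G.hom] (U : X.Opens) (hU : Dense (U : Set X))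
    (P Q : NonAbH1.TorsorSch G Scheme.fppfPrecoverage)
    (e : NonAbH1.EquivIso (P.act.bc U.ι) (Q.act.bc U.ι)) :
    Nonempty (NonAbH1.EquivIso P.act Q.act) := by
  haveI : MorphismProperty.DescendsAlong @Flat
      (@Surjective ⊓ @Flat ⊓ @LocallyOfFinitePresentation : MorphismProperty Scheme.{u}) :=
    Groth.Agent.Lib.Helper14.QuotStGeom.flat_descendsAlong_fppf
  haveI : MorphismProperty.IsLocalAtTarget (@Flat : MorphismProperty Scheme.{u})
      Scheme.fppfPrecoverage.{u} := Groth.Agent.Lib.Helper5.isLocalAtTarget_fppf _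
  haveI hGs : Surjective G.hom := by
    refine ⟨fun x => ⟨(η[G] : 𝟙_ (Over X) ⟶ G).left x, ?_⟩⟩
    have h1 : (η[G] : 𝟙_ (Over X) ⟶ G).left ≫ G.hom = 𝟙 X := by
      have := Over.w (η[G] : 𝟙_ (Over X) ⟶ G)
      simpa using this
    rw [← Scheme.Hom.comp_apply, h1]
    rfl
  haveI hPfin : IsFinite P.X.hom := TorsorFinite.isFinite_of_isTorsorFor P.act P.isTorsor
  haveI hQfin : IsFinite Q.X.hom := TorsorFinite.isFinite_of_isTorsorFor Q.act Q.isTorsor
  haveI hPflat : Flat P.X.hom :=
    TorsorFinite.prop_of_isTorsorFor @Flat Scheme.fppfPrecoverage P.act P.isTorsor inferInstance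
  haveI hQflat : Flat Q.X.hom :=
    TorsorFinite.prop_of_isTorsorFor @Flat Scheme.fppfPrecoverage Q.act Q.isTorsor inferInstance
  haveI hPsurj : Surjective P.X.hom :=
    TorsorFinite.prop_of_isTorsorFor @Surjective Scheme.fppfPrecoverage P.act P.isTorsor hGs
  haveI hQsurj : Surjective Q.X.hom :=
    TorsorFinite.prop_of_isTorsorFor @Surjective Scheme.fppfPrecoverage Q.act Q.isTorsor hGs
  obtain ⟨m, hm⟩ := exists_equivariant_extension hX P.act Q.act P.isTorsor.1 U hU e.iso.hom e.comm
  obtain ⟨m', -⟩ := exists_equivariant_extension hX Q.act P.act Q.isTorsor.1 U hU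
    (equivIsoSymm e).iso.hom (equivIsoSymm e).comm
  haveI := isIso_of_equivariant P.act Q.act P.isTorsor.1 Q.isTorsor.1 m hm m'
  exact ⟨⟨asIso m, hm⟩⟩

end Groth.Agent.Lib.Lead.TorsorIsom
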