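import Mathlib
import Groth.Prelude.Def_NonAbH2
import Groth.Agent.Lib.Lead.TorsorPush

/-!
# Variant of `TorsorPush` with the hypothesis on the homomorphism expressed on points

Instead of asking that the base change of `g : G ⟶ G'` along `j : E ⟶ X` be an isomorphism, we ask
that composition with `g` be bijective on `T`-points for every `T` over `E`.
-/

set_option autoImplicit false
universe u
open CategoryTheory CategoryTheory.Limits AlgebraicGeometry MonoidalCategory CartesianMonoidalCategory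
open MonObj

namespace Groth.Agent.Lib.Lead.TorsorPush

variable {X : Scheme.{u}}
variable {G G' P P' : Over X} [GrpObj G] [GrpObj G'] (g : G ⟶ G') [IsMonHom g]
  {E : Scheme.{u}} (j : E ⟶ X)

theorem unique_lift' (hg : ∀ T : Over E, Function.Bijective (fun k : (Over.map j).obj T ⟶ G => k ≫ g))
    (a : AlgGrp.Action G P) (a' : AlgGrp.Action G' P')
    (ha : NonAbH1.IsPseudoTorsorSch a) (ha' : NonAbH1.IsPseudoTorsorSch a') (f : P ⟶ P')
    (hf : a.act ≫ f = lift (fst G P ≫ g) (snd G P ≫ f) ≫ a'.act) (T : Over E)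
    (x y : (Over.map j).obj T ⟶ P) (e : x ≫ f = y ≫ f) : x = y := by
  obtain ⟨k, hk⟩ := exists_act_eq a.act ha x y
  have h1 : y ≫ f = lift (k ≫ g) (x ≫ f) ≫ a'.act := by
    rw [← hk, Category.assoc, hf, ← Category.assoc]
    congr 1
    apply CartesianMonoidalCategory.hom_ext <;> simp
  have h2 : x ≫ f = lift (toUnit _ ≫ η[G']) (x ≫ f) ≫ a'.act := (one_act' a' _).symm
  have h3 : k ≫ g = toUnit _ ≫ η[G'] := by
    apply act_injective a'.act ha' (x ≫ f)
    rw [← h1, ← h2, e]
  have h4 : k = toUnit _ ≫ η[G] := by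
    apply (hg T).1
    change k ≫ g = (toUnit _ ≫ η[G]) ≫ g
    rw [h3, Category.assoc, IsMonHom.one_hom]
  rw [← hk, h4, one_act']

theorem exists_lift' (hg : ∀ T : Over E, Function.Bijective (fun k : (Over.map j).obj T ⟶ G => k ≫ g))
    (a : AlgGrp.Action G P) (a' : AlgGrp.Action G' P')
    (ha' : NonAbH1.IsPseudoTorsorSch a') (f : P ⟶ P')
    (hf : a.act ≫ f = lift (fst G P ≫ g) (snd G P ≫ f) ≫ a'.act) (T : Over E)
    (x₀ : (Over.map j).obj T ⟶ P) (p' : (Over.map j).obj T ⟶ P') :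
    ∃ z : (Over.map j).obj T ⟶ P, z ≫ f = p' := by
  obtain ⟨k', hk'⟩ := exists_act_eq a'.act ha' (x₀ ≫ f) p'
  obtain ⟨k, hk⟩ := (hg T).2 k'
  refine ⟨lift k x₀ ≫ a.act, ?_⟩
  rw [Category.assoc, hf, ← hk', ← Category.assoc]
  congr 1
  apply CartesianMonoidalCategory.hom_ext <;> simp [← hk]


theorem hasSectionOver_generic' [IsIntegral X]
    (hg : ∀ T : Over (Spec (X.presheaf.stalk (genericPoint X))), Function.Bijective
      (fun k : (Over.map (X.fromSpecStalk (genericPoint X))).obj T ⟶ G => k ≫ g))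
    (a : AlgGrp.Action G P) (hP : NonAbH1.IsTorsorFor Scheme.fppfPrecoverage a)
    (a' : AlgGrp.Action G' P') (hpt' : NonAbH1.IsPseudoTorsorSch a')
    (hpush : NonAbH1.IsPushforwardAlongSch g a a') (htriv : NonAbH1.HasSectionOver P' (𝟙 X)) :
    NonAbH1.HasSectionOver P (X.fromSpecStalk (genericPoint X)) := by
  obtain ⟨f, hf⟩ := hpush
  obtain ⟨σ', hσ'⟩ := htriv
  obtain ⟨hpt, R, hR, hsec⟩ := hP
  obtain ⟨U, u, hu, ξ, hξ⟩ :=
    Scheme.JointlySurjective.exists_eq
      (K := Scheme.precoverage (@Flat ⊓ @LocallyOfFinitePresentation)) R hR (genericPoint X)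
  have hu' : (@Flat ⊓ @LocallyOfFinitePresentation : MorphismProperty Scheme.{u}) u := hR.2 hu
  haveI : Flat u := hu'.1
  haveI : LocallyOfFinitePresentation u := hu'.2
  obtain ⟨t, ht⟩ := hsec u hu
  set j := X.fromSpecStalk (genericPoint X) with hj
  let v : pullback u j ⟶ Spec (X.presheaf.stalk (genericPoint X)) := pullback.snd u j
  haveI : Nonempty ↥(pullback u j) := by
    obtain ⟨z, -⟩ := Scheme.Pullback.exists_preimage_pullback (f := u) (g := j) ξ
      (IsLocalRing.closedPoint (X.presheaf.stalk (genericPoint X)))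
      (by rw [hξ, hj, Scheme.fromSpecStalk_closedPoint])
    exact ⟨z⟩
  have hK : IsField (X.presheaf.stalk (genericPoint X)) := Field.toIsField X.functionField
  haveI : Surjective v := surjective_of_nonempty_of_field hK v
  let T : Over (Spec (X.presheaf.stalk (genericPoint X))) := Over.mk v
  let x₀ : (Over.map j).obj T ⟶ P := Over.homMk (pullback.fst u j ≫ t)
    (by simp [T, v, ht, pullback.condition])
  let p' : (Over.map j).obj T ⟶ P' := Over.homMk (v ≫ j ≫ σ') (by simp [T, hσ'])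
  obtain ⟨z, hz⟩ := exists_lift' g j hg a a' hpt' f hf T x₀ p'
  have hdesc : ∀ {Z : Scheme.{u}} (g₁ g₂ : Z ⟶ pullback u j), g₁ ≫ v = g₂ ≫ v →
      g₁ ≫ z.left = g₂ ≫ z.left := by
    intro Z g₁ g₂ h12
    let T2 : Over (Spec (X.presheaf.stalk (genericPoint X))) := Over.mk (g₁ ≫ v)
    have hzw : z.left ≫ P.hom = v ≫ j := Over.w z
    let x1 : (Over.map j).obj T2 ⟶ P := Over.homMk (g₁ ≫ z.left) (by simp [T2, hzw])
    let x2 : (Over.map j).obj T2 ⟶ P := Over.homMk (g₂ ≫ z.left)
      (by simp [T2, hzw, reassoc_of% h12])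
    have hzl : z.left ≫ f.left = v ≫ j ≫ σ' := congrArg CommaMorphism.left hz
    have h := unique_lift' g j hg a a' hpt hpt' f hf T2 x1 x2
      (by ext; simp [x1, x2, hzl, reassoc_of% h12])
    exact congrArg CommaMorphism.left h
  refine ⟨EffectiveEpi.desc v z.left hdesc, ?_⟩
  rw [← cancel_epi v, ← Category.assoc, EffectiveEpi.fac]
  exact Over.w z

end Groth.Agent.Lib.Lead.TorsorPush
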