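import Groth.Agent.Lib.Lead.Tw2
import Groth.Agent.Lib.Helper35.GlobGen

/-!
# Generation by global sections: a sectionwise criterion (lead seat library)
-/

set_option autoImplicit false
universe u

open AlgebraicGeometry CategoryTheory Opposite TopologicalSpace MonoidalCategory Limits

namespace Groth.Agent.Lib.Lead.Inv

open Groth.Agent.Lib.Lead.QCohAff Groth.Agent.Lib.Helper35.GlobGen

variable {X : Scheme.{u}}

/-- `F` is generated by the global sections `s i` in the sectionwise sense: every local section is,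
locally, a linear combination of restrictions of the `s i`. -/
def SpanGen (F : X.Modules) {ι : Type u} (s : ι → Γ(F, ⊤)) : Prop :=
  ∀ (U : X.Opens) (t : Γ(F, U)) (x : X), x ∈ U → ∃ (W : X.Opens) (hW : W ≤ U), x ∈ W ∧
    F.presheaf.map (homOfLE hW).op t ∈ Submodule.span Γ(X, W)
      (Set.range fun i => F.presheaf.map (homOfLE (le_top : W ≤ ⊤)).op (s i))

theorem epi_desc_of_spanGen (F : X.Modules) {ι : Type u} (s : ι → Γ(F, ⊤)) (h : SpanGen F s) :
    Epi (Sigma.desc (fun i => secHom F (s i)) : (∐ fun _ : ι => Coh.structureModule X) ⟶ F) := by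
  set p : (∐ fun _ : ι => Coh.structureModule X) ⟶ F := Sigma.desc (fun i => secHom F (s i)) with hp
  have h1 : Epi ((SheafOfModules.toSheaf _).map p) := by
    refine (CategoryTheory.Sheaf.isLocallySurjective_iff_epi'
      (J := Opens.grothendieckTopology X) AddCommGrpCat _).mp ?_
    refine (TopCat.Presheaf.isLocallySurjective_iff (X := X.toTopCat) _).mpr ?_
    intro U t x hx
    obtain ⟨W, hW, hxW, hmem⟩ := h U t x hx
    refine ⟨W, hW, ?_, hxW⟩
    -- the image of `p` over `W` is a submodule containing the restrictions of the `s i`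
    let S : Submodule Γ(X, W) Γ(F, W) :=
      { carrier := Set.range (p.app W).hom
        add_mem' := by
          rintro _ _ ⟨a, rfl⟩ ⟨b, rfl⟩
          exact ⟨a + b, map_add _ a b⟩
        zero_mem' := ⟨0, map_zero _⟩
        smul_mem' := by
          rintro r _ ⟨z, rfl⟩
          exact ⟨r • z, Scheme.Modules.Hom.app_smul p r z⟩ }
    have hle : Submodule.span Γ(X, W)
        (Set.range fun i => F.presheaf.map (homOfLE (le_top : W ≤ ⊤)).op (s i)) ≤ S := by
      rw [Submodule.span_le]
      rintro _ ⟨i, rfl⟩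
      refine ⟨((Sigma.ι (fun _ : ι => Coh.structureModule X) i).app W).hom (1 : Γ(X, W)), ?_⟩
      have e1 : Sigma.ι (fun _ : ι => Coh.structureModule X) i ≫ p = secHom F (s i) := by
        rw [hp, Sigma.ι_desc]
      have e2 := congrArg (fun φ : Coh.structureModule X ⟶ F =>
        (Scheme.Modules.Hom.app φ W).hom (show Γ(Coh.structureModule X, W) from (1 : Γ(X, W)))) e1
      exact e2.trans (secHom_app_one F (s i) W)
    obtain ⟨z, hz⟩ := hle hmem
    exact ⟨z, hz⟩
  exact Functor.epi_of_epi_map (SheafOfModules.toSheaf _) h1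

theorem isGloballyGenerated_of_spanGen (F : X.Modules) {ι : Type u} (s : ι → Γ(F, ⊤))
    (h : SpanGen F s) : Curv2.IsGloballyGenerated F :=
  ⟨ι, Sigma.desc (fun i => secHom F (s i)), epi_desc_of_spanGen F s h⟩

theorem isGloballyGenerated_of_iso {F G : X.Modules} (e : F ≅ G)
    (h : Curv2.IsGloballyGenerated F) : Curv2.IsGloballyGenerated G := by
  obtain ⟨ι, p, hp⟩ := h
  exact ⟨ι, p ≫ e.hom, @epi_comp _ _ _ _ _ p hp e.hom (IsIso.epi_of_iso e.hom)⟩

end Groth.Agent.Lib.Lead.Inv
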