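import Groth.Agent.Lib.Lead.QAffCounit
import Mathlib.AlgebraicGeometry.Morphisms.UniversallyClosed
import Mathlib.AlgebraicGeometry.Morphisms.Separated

/-!
# An affineness criterion for opens of a universally closed scheme (lead seat library)

`isAffineOpen_of_universallyClosed`: `f : X ⟶ S` universally closed, `U ⊆ S` affine,
`W ⊆ f⁻¹ U` a quasi-compact open covered by affine basic opens `D(h)`, `h ∈ Γ(X, W)`, such that
every point outside `W` has a neighbourhood `V` with `W ∩ V = D(h')` for some `h' ∈ Γ(X, V)`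
which is the inverse of a function on `W`.  Then `W` is affine.  (The graph of
`W ⟶ Spec Γ(X, W)` is closed in `X ×_S Spec Γ(X, W)`, so its image is closed.)
-/

set_option autoImplicit false
universe u

open AlgebraicGeometry CategoryTheory Opposite TopologicalSpace Limits

namespace Groth.Agent.Lib.Lead.Inv

variable {X S : Scheme.{u}}

/-- If `a` is not invertible at `p`, then `a * b - 1` is invertible at `p`. -/
theorem mem_basicOpen_mul_sub_one {P : Scheme.{u}} {V : P.Opens} (a b : Γ(P, V)) (p : P)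
    (hp : p ∈ V) (ha : p ∉ P.basicOpen a) : p ∈ P.basicOpen (a * b - 1) := by
  rw [Scheme.mem_basicOpen _ _ p hp] at ha ⊢
  rw [map_sub, map_mul, map_one]
  have h1 : P.presheaf.germ V p hp a * P.presheaf.germ V p hp b ∈ nonunits (P.presheaf.stalk p) := by
    intro hu
    exact ha (isUnit_of_mul_isUnit_left hu)
  have h2 := IsLocalRing.isUnit_one_sub_self_of_mem_nonunits _ h1
  have h3 : P.presheaf.germ V p hp a * P.presheaf.germ V p hp b - 1 =
      -(1 - P.presheaf.germ V p hp a * P.presheaf.germ V p hp b) := by ring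
  rw [h3]
  exact h2.neg

/-- If `a` is invertible at `p` and `b` is not, then `a - b` is invertible at `p`. -/
theorem mem_basicOpen_sub {P : Scheme.{u}} {V : P.Opens} (a b : Γ(P, V)) (p : P)
    (hp : p ∈ V) (ha : p ∈ P.basicOpen a) (hb : p ∉ P.basicOpen b) : p ∈ P.basicOpen (a - b) := by
  rw [Scheme.mem_basicOpen _ _ p hp] at ha hb ⊢
  rw [map_sub]
  by_contra hab
  apply (show P.presheaf.germ V p hp a ∈ nonunits (P.presheaf.stalk p) from ?_) ha
  have := IsLocalRing.nonunits_add (show _ ∈ nonunits (P.presheaf.stalk p) from hab)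
    (show _ ∈ nonunits (P.presheaf.stalk p) from hb)
  rwa [sub_add_cancel] at this

/-- For `r` with `D(r)` affine in a compact quasi-separated open `W`, the basic open `D(r)` of
`Spec Γ(X, W)` is in the range of `W ⟶ Spec Γ(X, W)`. -/
theorem basicOpen_subset_range_toSpecΓ (W : X.Opens) (hWc : IsCompact (W : Set X))
    (hWqs : IsQuasiSeparated (W : Set X)) (r : Γ(X, W)) (hr : IsAffineOpen (X.basicOpen r)) :
    ((PrimeSpectrum.basicOpen r : Opens (PrimeSpectrum Γ(X, W))) : Set (PrimeSpectrum Γ(X, W))) ⊆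
      Set.range W.toSpecΓ.base := by
  intro z hz
  haveI := isLocalization_basicOpen_of_qcqs hWc hWqs r
  have h1 := PrimeSpectrum.localization_away_comap_range (R := Γ(X, W)) Γ(X, X.basicOpen r) r
  rw [← h1] at hz
  obtain ⟨y, rfl⟩ := hz
  have h2 := Scheme.Opens.toSpecΓ_SpecMap_presheaf_map (X.basicOpen r) W (X.basicOpen_le r)
  haveI : IsIso (X.basicOpen r).toSpecΓ := by
    rw [← hr.isoSpec_hom]; infer_instance
  obtain ⟨d, rfl⟩ : ∃ d, (X.basicOpen r).toSpecΓ.base d = y :=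
    (X.basicOpen r).toSpecΓ.homeomorph.surjective y
  refine ⟨(X.homOfLE (X.basicOpen_le r)) d, ?_⟩
  have h3 := congrArg (fun φ : (↑(X.basicOpen r) : Scheme.{u}) ⟶ Spec Γ(X, W) => φ.base d) h2
  exact h3.symm

theorem appLE_of_eq_ι {W : X.Opens} (φ : (↑W : Scheme.{u}) ⟶ X) (hφ : φ = W.ι) (V : X.Opens)
    (V1 : (↑W : Scheme.{u}).Opens) (e : V1 ≤ φ ⁻¹ᵁ V) (a : Γ(X, V)) :
    φ.appLE V V1 e a =
      X.presheaf.map (homOfLE (show W.ι ''ᵁ V1 ≤ V from by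
        subst hφ; exact Set.image_subset_iff.mpr e)).op a := by
  subst hφ
  rw [Scheme.Opens.ι_appLE]
  rfl

theorem appLE_of_eq_toSpecΓ {W : X.Opens} (φ : (↑W : Scheme.{u}) ⟶ Spec Γ(X, W))
    (hφ : φ = W.toSpecΓ) (V1 : (↑W : Scheme.{u}).Opens) (e : V1 ≤ φ ⁻¹ᵁ ⊤) (r : Γ(X, W)) :
    φ.appLE ⊤ V1 e ((Scheme.ΓSpecIso Γ(X, W)).inv r) =
      X.presheaf.map (homOfLE (W.ι_image_le V1)).op r := by
  subst hφ
  have h1 : W.toSpecΓ.appLE ⊤ V1 e =
      W.toSpecΓ.appTop ≫ (↑W : Scheme.{u}).presheaf.map (homOfLE (le_top : V1 ≤ ⊤)).op := rfl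
  rw [h1, Scheme.Opens.toSpecΓ_appTop]
  simp only [CommRingCat.comp_apply, Category.assoc, Iso.inv_hom_id_apply]
  change (X.presheaf.map (W.ι.opensFunctor.map (homOfLE (le_top : V1 ≤ ⊤))).op).hom
    ((X.presheaf.map (eqToHom W.ι_image_top).op).hom r) = _
  rw [← CommRingCat.comp_apply, ← Functor.map_comp]
  exact Groth.Agent.Lib.Lead.SheafGlue.mapX_eq_of_le _ _ r

theorem key_claim_mem (f : X ⟶ S) (W : X.Opens) (hWc : IsCompact (W : Set X))
    (hWqs : IsQuasiSeparated (W : Set X))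
    (g : Spec Γ(X, W) ⟶ S) (γ : (↑W : Scheme.{u}) ⟶ pullback f g)
    (hγ1 : γ ≫ pullback.fst f g = W.ι) (hγ2 : γ ≫ pullback.snd f g = W.toSpecΓ)
    (r : Γ(X, W)) (hr : IsAffineOpen (X.basicOpen r))
    (p' : ↥(pullback f g)) (hp' : p' ∈ closure (Set.range γ.base))
    (hxr : (pullback.fst f g).base p' ∈ X.basicOpen r) :
    (pullback.snd f g).base p' ∈ Set.range W.toSpecΓ.base := by
  have hxW : (pullback.fst f g).base p' ∈ W := X.basicOpen_le r hxr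
  apply basicOpen_subset_range_toSpecΓ W hWc hWqs r hr
  by_contra hz
  have hV0t : pullback.fst f g ⁻¹ᵁ W ≤ pullback.snd f g ⁻¹ᵁ ⊤ := fun _ _ => trivial
  have ha : p' ∈ (pullback f g).basicOpen ((pullback.fst f g).app W r) := by
    rw [← Scheme.preimage_basicOpen]; exact hxr
  have hb : p' ∉ (pullback f g).basicOpen
      ((pullback.snd f g).appLE ⊤ (pullback.fst f g ⁻¹ᵁ W) hV0t
        ((Scheme.ΓSpecIso Γ(X, W)).inv r)) := by
    rw [Scheme.basicOpen_appLE]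
    rintro ⟨-, h⟩
    apply hz
    rw [← basicOpen_eq_of_affine]
    exact h
  obtain ⟨F, hF⟩ : ∃ F : Γ(pullback f g, pullback.fst f g ⁻¹ᵁ W), F =
      (pullback.fst f g).app W r - (pullback.snd f g).appLE ⊤ (pullback.fst f g ⁻¹ᵁ W) hV0t
          ((Scheme.ΓSpecIso Γ(X, W)).inv r) := ⟨_, rfl⟩
  have hab : p' ∈ (pullback f g).basicOpen F := by
    rw [hF]
    exact mem_basicOpen_sub _ _ p' hxW ha hb
  obtain ⟨_, hq, ⟨w, rfl⟩⟩ := mem_closure_iff.mp hp' _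
    ((pullback f g).basicOpen F).isOpen hab
  have hV0 : (⊤ : (↑W : Scheme.{u}).Opens) ≤ γ ⁻¹ᵁ (pullback.fst f g ⁻¹ᵁ W) := by
    intro y _
    show (pullback.fst f g).base (γ.base y) ∈ W
    have : (pullback.fst f g).base (γ.base y) = W.ι.base y := by
      rw [← hγ1]; rfl
    rw [this]
    exact y.2
  have h0 : γ.appLE (pullback.fst f g ⁻¹ᵁ W) ⊤ hV0 F = 0 := by
    rw [hF, map_sub, sub_eq_zero]
    have hV0' : (⊤ : (↑W : Scheme.{u}).Opens) ≤ (γ ≫ pullback.fst f g) ⁻¹ᵁ W := hV0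
    have hV2' : (⊤ : (↑W : Scheme.{u}).Opens) ≤ (γ ≫ pullback.snd f g) ⁻¹ᵁ ⊤ := fun _ _ => trivial
    have e1 : γ.appLE (pullback.fst f g ⁻¹ᵁ W) ⊤ hV0 ((pullback.fst f g).app W r) =
        (γ ≫ pullback.fst f g).appLE W ⊤ hV0' r := by
      rw [Scheme.Hom.app_eq_appLE, ← CommRingCat.comp_apply, Scheme.Hom.appLE_comp_appLE]
    have e2 : γ.appLE (pullback.fst f g ⁻¹ᵁ W) ⊤ hV0
        ((pullback.snd f g).appLE ⊤ (pullback.fst f g ⁻¹ᵁ W) hV0t
          ((Scheme.ΓSpecIso Γ(X, W)).inv r)) =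
        (γ ≫ pullback.snd f g).appLE ⊤ ⊤ hV2' ((Scheme.ΓSpecIso Γ(X, W)).inv r) := by
      rw [← CommRingCat.comp_apply, Scheme.Hom.appLE_comp_appLE]
    exact (e1.trans (appLE_of_eq_ι _ hγ1 W ⊤ hV0' r)).trans
      ((e2.trans (appLE_of_eq_toSpecΓ _ hγ2 ⊤ hV2' r)).symm)
  have h5 := Scheme.basicOpen_appLE γ ⊤ (pullback.fst f g ⁻¹ᵁ W) hV0 F
  rw [h0, Scheme.basicOpen_zero] at h5
  have hw : w ∈ ((⊤ : (↑W : Scheme.{u}).Opens) ⊓ γ ⁻¹ᵁ (pullback f g).basicOpen F) :=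
    ⟨trivial, hq⟩
  rw [← h5] at hw
  exact hw

theorem key_claim_notMem (f : X ⟶ S) (W : X.Opens)
    (g : Spec Γ(X, W) ⟶ S) (γ : (↑W : Scheme.{u}) ⟶ pullback f g)
    (hγ1 : γ ≫ pullback.fst f g = W.ι) (hγ2 : γ ≫ pullback.snd f g = W.toSpecΓ)
    (V : X.Opens) (h' : Γ(X, V)) (h : Γ(X, W)) (hbo : X.basicOpen h' = W ⊓ V)
    (hmul : X.presheaf.map (homOfLE (inf_le_right : W ⊓ V ≤ V)).op h' *
        X.presheaf.map (homOfLE (inf_le_left : W ⊓ V ≤ W)).op h = 1)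
    (p' : ↥(pullback f g)) (hp' : p' ∈ closure (Set.range γ.base))
    (hxV : (pullback.fst f g).base p' ∈ V) (hxW : (pullback.fst f g).base p' ∉ W) : False := by
  have hV0t : pullback.fst f g ⁻¹ᵁ V ≤ pullback.snd f g ⁻¹ᵁ ⊤ := fun _ _ => trivial
  have ha : p' ∉ (pullback f g).basicOpen ((pullback.fst f g).app V h') := by
    rw [← Scheme.preimage_basicOpen, hbo]
    intro hh
    exact hxW hh.1
  obtain ⟨F, hF⟩ : ∃ F : Γ(pullback f g, pullback.fst f g ⁻¹ᵁ V), F =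
      (pullback.fst f g).app V h' * (pullback.snd f g).appLE ⊤ (pullback.fst f g ⁻¹ᵁ V) hV0t
          ((Scheme.ΓSpecIso Γ(X, W)).inv h) - 1 := ⟨_, rfl⟩
  have hab : p' ∈ (pullback f g).basicOpen F := by
    rw [hF]
    exact mem_basicOpen_mul_sub_one _ _ p' hxV ha
  obtain ⟨_, hq, ⟨w, rfl⟩⟩ := mem_closure_iff.mp hp' _
    ((pullback f g).basicOpen F).isOpen hab
  have hwV0 : γ.base w ∈ pullback.fst f g ⁻¹ᵁ V := (pullback f g).basicOpen_le F hq
  have hV1 : γ ⁻¹ᵁ (pullback.fst f g ⁻¹ᵁ V) ≤ (γ ≫ pullback.fst f g) ⁻¹ᵁ V := le_rfl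
  have hV2 : γ ⁻¹ᵁ (pullback.fst f g ⁻¹ᵁ V) ≤ (γ ≫ pullback.snd f g) ⁻¹ᵁ ⊤ := fun _ _ => trivial
  have h0 : γ.appLE (pullback.fst f g ⁻¹ᵁ V) (γ ⁻¹ᵁ (pullback.fst f g ⁻¹ᵁ V)) le_rfl F = 0 := by
    rw [hF, map_sub, map_mul, map_one, sub_eq_zero]
    have e1 : γ.appLE (pullback.fst f g ⁻¹ᵁ V) (γ ⁻¹ᵁ (pullback.fst f g ⁻¹ᵁ V)) le_rfl
        ((pullback.fst f g).app V h') =
        (γ ≫ pullback.fst f g).appLE V (γ ⁻¹ᵁ (pullback.fst f g ⁻¹ᵁ V)) hV1 h' := by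
      rw [Scheme.Hom.app_eq_appLE, ← CommRingCat.comp_apply, Scheme.Hom.appLE_comp_appLE]
    have e2 : γ.appLE (pullback.fst f g ⁻¹ᵁ V) (γ ⁻¹ᵁ (pullback.fst f g ⁻¹ᵁ V)) le_rfl
        ((pullback.snd f g).appLE ⊤ (pullback.fst f g ⁻¹ᵁ V) hV0t
          ((Scheme.ΓSpecIso Γ(X, W)).inv h)) =
        (γ ≫ pullback.snd f g).appLE ⊤ (γ ⁻¹ᵁ (pullback.fst f g ⁻¹ᵁ V)) hV2
          ((Scheme.ΓSpecIso Γ(X, W)).inv h) := by
      rw [← CommRingCat.comp_apply, Scheme.Hom.appLE_comp_appLE]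
    rw [e1, e2, appLE_of_eq_ι _ hγ1 V _ hV1 h', appLE_of_eq_toSpecΓ _ hγ2 _ hV2 h]
    have hle : W.ι ''ᵁ (γ ⁻¹ᵁ (pullback.fst f g ⁻¹ᵁ V)) ≤ W ⊓ V := by
      refine le_inf (W.ι_image_le _) ?_
      rintro _ ⟨y, hy, rfl⟩
      have : (pullback.fst f g).base (γ.base y) = W.ι.base y := by
        rw [← hγ1]; rfl
      exact this ▸ hy
    have h3 := congrArg (X.presheaf.map (homOfLE hle).op) hmul
    rw [map_mul, map_one] at h3
    refine Eq.trans ?_ h3
    congr 1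
    · exact (Groth.Agent.Lib.Lead.QCohAff.res_resX _ _ h').symm
    · exact (Groth.Agent.Lib.Lead.QCohAff.res_resX _ _ h).symm
  have h5 := Scheme.basicOpen_appLE γ (γ ⁻¹ᵁ (pullback.fst f g ⁻¹ᵁ V))
    (pullback.fst f g ⁻¹ᵁ V) le_rfl F
  rw [h0, Scheme.basicOpen_zero] at h5
  have hw : w ∈ (γ ⁻¹ᵁ (pullback.fst f g ⁻¹ᵁ V) ⊓ γ ⁻¹ᵁ (pullback f g).basicOpen F) :=
    ⟨hwV0, hq⟩
  rw [← h5] at hw
  exact hw

/-- Abstract criterion. -/
theorem isAffineOpen_of_universallyClosed (f : X ⟶ S) [UniversallyClosed f] (U : S.Opens)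
    (hU : IsAffineOpen U) (W : X.Opens) (hWU : W ≤ f ⁻¹ᵁ U) (hWc : IsCompact (W : Set X))
    (H1 : ∀ x ∈ W, ∃ h : Γ(X, W), IsAffineOpen (X.basicOpen h) ∧ x ∈ X.basicOpen h)
    (H2 : ∀ x ∉ W, ∃ (V : X.Opens) (h' : Γ(X, V)) (h : Γ(X, W)), x ∈ V ∧
      X.basicOpen h' = W ⊓ V ∧
      X.presheaf.map (homOfLE (inf_le_right : W ⊓ V ≤ V)).op h' *
        X.presheaf.map (homOfLE (inf_le_left : W ⊓ V ≤ W)).op h = 1) :
    IsAffineOpen W := by
  haveI hqa : (↑W : Scheme.{u}).IsQuasiAffine := isQuasiAffine_of_forall_exists W hWc H1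
  haveI : IsOpenImmersion W.toSpecΓ := by
    unfold Scheme.Opens.toSpecΓ; infer_instance
  haveI : IsDominant W.toSpecΓ := by
    unfold Scheme.Opens.toSpecΓ; infer_instance
  haveI : QuasiSeparatedSpace (↑W : Scheme.{u}) := inferInstance
  have hWqs : IsQuasiSeparated (W : Set X) :=
    (isQuasiSeparated_iff_quasiSeparatedSpace _ W.isOpen).mpr ‹_›
  -- the morphism `Spec Γ(X, W) ⟶ S`
  set g : Spec Γ(X, W) ⟶ S := Spec.map (f.appLE U W hWU) ≫ hU.fromSpec with hg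
  have hcomm : W.ι ≫ f = W.toSpecΓ ≫ g := by
    rw [hg, ← Category.assoc, Scheme.Opens.toSpecΓ_SpecMap_appLE, Category.assoc,
      IsAffineOpen.toSpecΓ_fromSpec, Scheme.Hom.resLE_comp_ι]
  set γ : (↑W : Scheme.{u}) ⟶ pullback f g := pullback.lift W.ι W.toSpecΓ hcomm with hγ
  have hγ1 : γ ≫ pullback.fst f g = W.ι := pullback.lift_fst _ _ _
  have hγ2 : γ ≫ pullback.snd f g = W.toSpecΓ := pullback.lift_snd _ _ _
  have hclosed : IsClosedMap (pullback.snd f g).base := (pullback.snd f g).isClosedMap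
  have key : ∀ p' ∈ closure (Set.range γ.base),
      (pullback.snd f g).base p' ∈ Set.range W.toSpecΓ.base := by
    intro p' hp'
    by_cases hxW : (pullback.fst f g).base p' ∈ W
    · obtain ⟨r, hr, hxr⟩ := H1 _ hxW
      exact key_claim_mem f W hWc hWqs g γ hγ1 hγ2 r hr p' hp' hxr
    · obtain ⟨V, h', h, hxV, hbo, hmul⟩ := H2 _ hxW
      exact (key_claim_notMem f W g γ hγ1 hγ2 V h' h hbo hmul p' hp' hxV hxW).elim
  have hrange : IsClosed (Set.range W.toSpecΓ.base) := by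
    have : Set.range W.toSpecΓ.base = (pullback.snd f g).base '' closure (Set.range γ.base) := by
      apply subset_antisymm
      · rintro _ ⟨w, rfl⟩
        refine ⟨γ.base w, subset_closure ⟨w, rfl⟩, ?_⟩
        rw [← hγ2]
        rfl
      · rintro _ ⟨p', hp', rfl⟩
        exact key p' hp'
    rw [this]
    exact hclosed _ isClosed_closure
  have hsurj : Function.Surjective W.toSpecΓ.base :=
    (surjective_of_isDominant_of_isClosed_range W.toSpecΓ hrange).surj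
  haveI : Epi W.toSpecΓ.base := (TopCat.epi_iff_surjective _).mpr hsurj
  haveI : IsIso W.toSpecΓ := IsOpenImmersion.isIso W.toSpecΓ
  exact IsAffine.of_isIso W.toSpecΓ

end Groth.Agent.Lib.Lead.Inv
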