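import Groth.Agent.Lib.Lead.UCAffine
import Groth.Agent.Lib.Lead.Ample1
import Groth.Agent.Lib.Helper35.AmpleFamily

set_option autoImplicit false
universe u

open AlgebraicGeometry CategoryTheory Opposite TopologicalSpace Limits

namespace Groth.Agent.Lib.Lead.Inv

open Groth.Agent.Lib.Lead.QCohAff

variable {X S : Scheme.{u}}

/-- For two sections `σ, t` of an invertible module `M`, the two transition functions on
`X_σ` and `X_t`. -/
theorem exists_transition {M : X.Modules}
    (σ t : Coh.structureModule X ⟶ M) :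
    ∃ (h : Γ(X, CohB1.genLocus M σ)) (h' : Γ(X, CohB1.genLocus M t)),
      X.basicOpen h = CohB1.genLocus M σ ⊓ CohB1.genLocus M t ∧
      X.basicOpen h' = CohB1.genLocus M σ ⊓ CohB1.genLocus M t ∧
      X.presheaf.map (homOfLE (inf_le_right :
        CohB1.genLocus M σ ⊓ CohB1.genLocus M t ≤ CohB1.genLocus M t)).op h' *
      X.presheaf.map (homOfLE (inf_le_left :
        CohB1.genLocus M σ ⊓ CohB1.genLocus M t ≤ CohB1.genLocus M σ)).op h = 1 := by
  have heW : IsGen M (CohB1.genLocus M σ) (val σ _) := (le_genLocus_iff_isGen σ _).mp le_rfl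
  have heU : IsGen M (CohB1.genLocus M t) (val t _) := (le_genLocus_iff_isGen t _).mp le_rfl
  have h1 := heW.coeff_smul le_rfl (val t (CohB1.genLocus M σ))
  rw [res_self] at h1
  have h2 := heU.coeff_smul le_rfl (val σ (CohB1.genLocus M t))
  rw [res_self] at h2
  refine ⟨heW.coeff le_rfl (val t _), heU.coeff le_rfl (val σ _), ?_, ?_, ?_⟩
  · rw [← genLocus_inf_eq_basicOpen heW t _ h1, inf_comm]
  · rw [← genLocus_inf_eq_basicOpen heU σ _ h2]
  · have r1 := congrArg (M.presheaf.map (homOfLE (inf_le_left :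
        CohB1.genLocus M σ ⊓ CohB1.genLocus M t ≤ CohB1.genLocus M σ)).op) h1
    rw [res_smul, val_res, val_res] at r1
    have r2 := congrArg (M.presheaf.map (homOfLE (inf_le_right :
        CohB1.genLocus M σ ⊓ CohB1.genLocus M t ≤ CohB1.genLocus M t)).op) h2
    rw [res_smul, val_res, val_res] at r2
    have hinj := (heU _ (inf_le_right :
        CohB1.genLocus M σ ⊓ CohB1.genLocus M t ≤ CohB1.genLocus M t)).1
    rw [mul_comm]
    apply hinj
    show _ • M.presheaf.map _ _ = (1 : Γ(X, _)) • M.presheaf.map _ _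
    rw [val_res, one_smul, mul_smul, r2, r1]

/-- **Affineness of `X_s`.**  `f : X ⟶ S` universally closed with `S` affine, `L` ample on `X`:
for every global section `s` of `L`, the open `X_s` is affine. -/
theorem isAffineOpen_genLocus_of_universallyClosed [IsAffine S] (f : X ⟶ S) [UniversallyClosed f]
    {L : X.Modules} (hL : CohB1.IsAmple L) (s : Coh.structureModule X ⟶ L) :
    IsAffineOpen (CohB1.genLocus L s) := by
  obtain ⟨hinv, hcomp, hcover⟩ := hL
  haveI := hcomp
  have hσ : ∀ n : ℕ, ∃ σ : Coh.structureModule X ⟶ CohB1.tensorPow L (n + 1),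
      CohB1.genLocus _ σ = CohB1.genLocus L s := by
    intro n
    obtain ⟨s1, hs1⟩ := exists_section_of_iso
      (Groth.Agent.Lib.Helper35.AmpleFamily.nonempty_tensorPow_one L) s
    obtain ⟨s2, hs2⟩ := exists_pow_section hinv s1 n
    obtain ⟨s3, hs3⟩ := exists_cast_section L (Nat.one_mul (n + 1)) s2
    exact ⟨s3, hs3.trans (hs2.trans hs1)⟩
  have hWc : IsCompact ((CohB1.genLocus L s : X.Opens) : Set X) := by
    haveI := Groth.Agent.Lib.Helper35.GenLocus.isAffineHom_genLocus_ι L hinv s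
    haveI : CompactSpace (↑(CohB1.genLocus L s) : Scheme.{u}) :=
      QuasiCompact.compactSpace_of_compactSpace (CohB1.genLocus L s).ι
    exact isCompact_iff_compactSpace.mpr this
  -- the data at a point
  have hdata : ∀ x : X, ∃ (V : X.Opens), x ∈ V ∧ IsAffineOpen V ∧
      ∃ (h' : Γ(X, V)) (h : Γ(X, CohB1.genLocus L s)),
        X.basicOpen h = CohB1.genLocus L s ⊓ V ∧ X.basicOpen h' = CohB1.genLocus L s ⊓ V ∧
        X.presheaf.map (homOfLE (inf_le_right : CohB1.genLocus L s ⊓ V ≤ V)).op h' *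
          X.presheaf.map (homOfLE (inf_le_left :
            CohB1.genLocus L s ⊓ V ≤ CohB1.genLocus L s)).op h = 1 := by
    intro x
    obtain ⟨n, t, hxt, htaff⟩ := hcover x
    obtain ⟨σ, hσW⟩ := hσ n
    refine ⟨CohB1.genLocus _ t, hxt, htaff, ?_⟩
    have key := exists_transition σ t
    exact hσW ▸ (show ∃ (h' : Γ(X, CohB1.genLocus _ t)) (h : Γ(X, CohB1.genLocus _ σ)),
      X.basicOpen h = CohB1.genLocus _ σ ⊓ CohB1.genLocus _ t ∧
      X.basicOpen h' = CohB1.genLocus _ σ ⊓ CohB1.genLocus _ t ∧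
      X.presheaf.map (homOfLE (inf_le_right :
        CohB1.genLocus _ σ ⊓ CohB1.genLocus _ t ≤ CohB1.genLocus _ t)).op h' *
      X.presheaf.map (homOfLE (inf_le_left :
        CohB1.genLocus _ σ ⊓ CohB1.genLocus _ t ≤ CohB1.genLocus _ σ)).op h = 1 from by
      obtain ⟨h, h', e1, e2, e3⟩ := key
      exact ⟨h', h, e1, e2, e3⟩)
  apply isAffineOpen_of_universallyClosed f ⊤ (isAffineOpen_top S) (CohB1.genLocus L s) le_top hWc
  · intro x hx
    obtain ⟨V, hxV, hV, h', h, e1, e2, e3⟩ := hdata x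
    refine ⟨h, ?_, ?_⟩
    · rw [e1, inf_comm]
      exact isAffineOpen_inf_genLocus hinv s hV
    · rw [e1]; exact ⟨hx, hxV⟩
  · intro x hx
    obtain ⟨V, hxV, hV, h', h, e1, e2, e3⟩ := hdata x
    exact ⟨V, h', h, hxV, e2, e3⟩

end Groth.Agent.Lib.Lead.Inv
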