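import Groth.Agent.Lib.Lead.EpiFree
import Groth.Agent.Lib.Lead.BaseLocus
import Groth.Agent.S0020
import Mathlib.Topology.KrullDimension

set_option autoImplicit false
universe u

open AlgebraicGeometry CategoryTheory Opposite TopologicalSpace MonoidalCategory Limits

namespace Groth.Agent.Lib.Lead.Inv

open Groth.Agent.Lib.Lead.QCohAff Groth.Agent.Lib.Lead.SheafGlue

section Top

variable {T : Type*} [TopologicalSpace T]

/-- In a `T0` space of Krull dimension `≤ 0` all points are closed. -/
theorem isClosed_singleton_of_dim_le_zero [T0Space T] (h : topologicalKrullDim T ≤ 0) (x : T) :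
    IsClosed ({x} : Set T) := by
  have hmin := (Order.krullDim_nonpos_iff_forall_isMin (α := IrreducibleCloseds T)).mp h
  have key : ∀ y ∈ closure ({x} : Set T), x ∈ closure ({y} : Set T) := by
    intro y hy
    let a : IrreducibleCloseds T := ⟨closure {y}, isIrreducible_singleton.closure, isClosed_closure⟩
    let b : IrreducibleCloseds T := ⟨closure {x}, isIrreducible_singleton.closure, isClosed_closure⟩
    have hab : a ≤ b := by
      change closure {y} ⊆ closure {x}
      exact closure_minimal (Set.singleton_subset_iff.mpr hy) isClosed_closure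
    have hba : b ≤ a := hmin b hab
    exact hba (subset_closure rfl)
  have : closure ({x} : Set T) = {x} := by
    apply Set.Subset.antisymm _ subset_closure
    intro y hy
    have h1 : x ⤳ y ∨ True := Or.inr trivial
    have hxy : y ⤳ x := specializes_iff_mem_closure.mpr (key y hy)
    have hyx : x ⤳ y := specializes_iff_mem_closure.mpr hy
    exact (hxy.antisymm hyx).eq ▸ rfl
  rw [← this]
  exact isClosed_closure

/-- A Noetherian `T0` space of Krull dimension `≤ 0` is finite. -/
theorem finite_of_noetherianSpace_of_dim_le_zero [T0Space T] [NoetherianSpace T]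
    (h : topologicalKrullDim T ≤ 0) : Finite T := by
  have hmin := (Order.krullDim_nonpos_iff_forall_isMin (α := IrreducibleCloseds T)).mp h
  have hcomp : ∀ x : T, irreducibleComponent x = {x} := by
    intro x
    let a : IrreducibleCloseds T := ⟨closure {x}, isIrreducible_singleton.closure, isClosed_closure⟩
    let b : IrreducibleCloseds T :=
      ⟨irreducibleComponent x, isIrreducible_irreducibleComponent, isClosed_irreducibleComponent⟩
    have hab : a ≤ b := by
      change closure {x} ⊆ irreducibleComponent x
      exact closure_minimal (Set.singleton_subset_iff.mpr mem_irreducibleComponent)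
        isClosed_irreducibleComponent
    have hba : b ≤ a := hmin b hab
    have h1 : closure ({x} : Set T) = {x} := (isClosed_singleton_of_dim_le_zero h x).closure_eq
    apply Set.Subset.antisymm
    · intro y hy
      have := hba hy
      change y ∈ closure ({x} : Set T) at this
      rwa [h1] at this
    · exact Set.singleton_subset_iff.mpr mem_irreducibleComponent
  have hfin : (irreducibleComponents T).Finite := NoetherianSpace.finite_irreducibleComponents
  haveI : Finite (irreducibleComponents T) := hfin.to_subtype
  refine Finite.of_injective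
    (fun x : T => (⟨irreducibleComponent x, irreducibleComponent_mem_irreducibleComponents x⟩ :
      irreducibleComponents T)) ?_
  intro x y hxy
  have h1 : irreducibleComponent x = irreducibleComponent y := congrArg Subtype.val hxy
  rw [hcomp x, hcomp y] at h1
  exact Set.singleton_eq_singleton_iff.mp h1

end Top

end Groth.Agent.Lib.Lead.Inv

namespace Groth.Agent.Lib.Lead.Inv

open Groth.Agent.Lib.Lead.QCohAff Groth.Agent.Lib.Lead.SheafGlue

variable {X : Scheme.{u}} (F : X.Modules)

/-- A section with vanishing germ at `x` vanishes near `x`. -/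
theorem exists_res_eq_zero_of_subsingleton_stalk {W : X.Opens} (t : Γ(F, W)) (x : X) (hx : x ∈ W)
    (hs : Subsingleton (F.presheaf.stalk x)) :
    ∃ (W' : X.Opens) (hW' : W' ≤ W), x ∈ W' ∧ F.presheaf.map (homOfLE hW').op t = 0 := by
  have h0 : F.presheaf.germ W x hx t = F.presheaf.germ W x hx 0 := Subsingleton.elim _ _
  obtain ⟨W', hxW', iU, iV, h⟩ := F.presheaf.germ_eq x hx hx _ _ h0
  refine ⟨W', iU.le, hxW', ?_⟩
  have := h
  simp only [map_zero] at this
  exact this

/-- Sections over an open disjoint from the support vanish. -/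
theorem eq_zero_of_disjoint_support {W : X.Opens} (hW : ∀ x ∈ W, x ∉ CohB1.support F)
    (t : Γ(F, W)) : t = 0 := by
  apply eq_of_locally_eq_pts F t 0
  intro x hx
  obtain ⟨W', hW', hxW', h⟩ := exists_res_eq_zero_of_subsingleton_stalk F t x hx
    (not_not.mp (hW x hx))
  exact ⟨W', hW', hxW', h.trans (map_zero _).symm⟩

/-- A module whose support is a finite set of closed points is globally generated. -/
theorem GG_of_finite_support (hfin : (CohB1.support F).Finite)
    (hcl : ∀ x ∈ CohB1.support F, IsClosed ({x} : Set X)) : GG F := by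
  intro U t x hxU
  by_cases hx : x ∈ CohB1.support F
  · have hA : IsClosed (CohB1.support F \ {x}) := by
      have h1 : CohB1.support F \ {x} = ⋃ y ∈ CohB1.support F \ {x}, ({y} : Set X) := by
        ext z; simp
      rw [h1]
      exact (hfin.subset Set.sdiff_subset).isClosed_biUnion (fun y hy => hcl y hy.1)
    let U' : X.Opens := U ⊓ ⟨(CohB1.support F \ {x})ᶜ, hA.isOpen_compl⟩
    let V : X.Opens := ⟨({x} : Set X)ᶜ, (hcl x hx).isOpen_compl⟩
    have hxU' : x ∈ U' := ⟨hxU, fun h => h.2 rfl⟩
    have hUV : ∀ y ∈ U' ⊓ V, y ∉ CohB1.support F := by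
      rintro y ⟨⟨_, hyA⟩, hyx⟩ hyS
      exact hyA ⟨hyS, hyx⟩
    have hU'U : U' ≤ U := inf_le_left
    obtain ⟨s, hs1, hs2⟩ := exists_glue₂ F (F.presheaf.map (homOfLE hU'U).op t) (0 : Γ(F, V))
      ((eq_zero_of_disjoint_support F hUV _).trans (eq_zero_of_disjoint_support F hUV _).symm)
    have htop : U' ⊔ V = ⊤ := by
      ext y
      simp only [Opens.coe_sup, Opens.coe_top, Set.mem_univ, iff_true]
      by_cases hyx : y = x
      · exact Or.inl (hyx ▸ hxU')
      · exact Or.inr hyx
    refine ⟨U', hU'U, hxU', Submodule.subset_span ⟨F.presheaf.map (homOfLE htop.ge).op s, ?_⟩⟩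
    change F.presheaf.map (homOfLE (le_top : U' ≤ ⊤)).op (F.presheaf.map (homOfLE htop.ge).op s) = _
    rw [res_res]
    exact hs1
  · obtain ⟨W', hW', hxW', h⟩ := exists_res_eq_zero_of_subsingleton_stalk F t x hxU (not_not.mp hx)
    refine ⟨W', hW', hxW', ?_⟩
    rw [h]
    exact Submodule.zero_mem _

/-- **S1527.** -/
theorem isGloballyGenerated_of_dim_support_le_zero (k : Type u) [Field k]
    (f : X ⟶ Spec (CommRingCat.of k)) [IsProper f] (hF : Coh.IsCoh F)
    (hsupp : topologicalKrullDim (CohB1.support F) ≤ 0) : Curv2.IsGloballyGenerated F := by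
  haveI := noetherianSpace_of_proper_field k f
  have hclS : IsClosed (CohB1.support F) := Groth.Agent.S0020.result X F hF.2
  haveI : NoetherianSpace (CohB1.support F) := NoetherianSpace.set _
  haveI : Finite (CohB1.support F) := finite_of_noetherianSpace_of_dim_le_zero hsupp
  have hfin : (CohB1.support F).Finite := Set.toFinite _
  refine isGloballyGenerated_of_GG (GG_of_finite_support F hfin (fun x hx => ?_))
  have h1 := isClosed_singleton_of_dim_le_zero hsupp (⟨x, hx⟩ : CohB1.support F)
  have h2 := hclS.isClosedEmbedding_subtypeVal.isClosedMap _ h1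
  simpa using h2

end Groth.Agent.Lib.Lead.Inv
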